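import Mathlib

/-! Arithmetic for the Héthelyi–Külshammer bound. -/

set_option autoImplicit false

namespace CF.Fgs2.HK

/-- the inductive invariant -/
def J (p k o : ℕ) : Prop := p ^ 2 ≤ 1 + 6 * (k * o) ∧ 49 * p ≤ 60 * (k + o) ∧
  (o = 1 → p ≤ 23 ∨ 2401 * p ^ 2 ≤ 14400 * k)

variable {p k o N τ : ℕ}

theorem J.of_strong (h : 2401 * p ^ 2 ≤ 14400 * (k * o)) : J p k o :=
  ⟨by omega, (Nat.pow_le_pow_iff_left two_ne_zero).1 (by
    zify at h ⊢; nlinarith [sq_nonneg ((k : ℤ) - o)]), fun e => Or.inr (by simpa [e] using h)⟩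

theorem J.mono {k' : ℕ} (h : J p k o) (h1 : k ≤ k') : J p k' o :=
  ⟨h.1.trans (by gcongr), h.2.1.trans (by gcongr), fun e => (h.2.2 e).imp id fun h => h.trans (by gcongr)⟩

theorem J.of_le (h1 : N ≤ 1 + k * o * τ) (h2 : 25 ≤ N) (h : 60025 * p ^ 2 * τ ≤ 345600 * N) :
    J p k o := by
  rcases Nat.eq_zero_or_pos τ with rfl | h3
  · omega
  exact J.of_strong (Nat.le_of_mul_le_mul_right (by nlinarith) h3)

theorem poly_le (x y b e₀ : ℕ) (k1 : x * e₀ ^ 7 ≤ y * b ^ e₀) (k2 : (e₀ + 1) ^ 7 ≤ b * e₀ ^ 7)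
    {e : ℕ} (he : e₀ ≤ e) : x * e ^ 7 ≤ y * b ^ e := by
  induction e, he using Nat.le_induction with
  | base => exact k1
  | succ e he ih =>
    rcases Nat.eq_zero_or_pos e₀ with rfl | h0
    · simp at k2
    have k3 : (e + 1) ^ 7 ≤ b * e ^ 7 := Nat.le_of_mul_le_mul_right (c := e₀ ^ 7) (by
      calc _ = ((e + 1) * e₀) ^ 7 := by ring
        _ ≤ ((e₀ + 1) * e) ^ 7 := by gcongr ?_ ^ 7; nlinarith
        _ = (e₀ + 1) ^ 7 * e ^ 7 := by ring
        _ ≤ b * e₀ ^ 7 * e ^ 7 := by gcongr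
        _ = _ := by ring) (by positivity)
    calc _ ≤ x * (b * e ^ 7) := by gcongr
      _ = b * (x * e ^ 7) := by ring
      _ ≤ b * (y * b ^ e) := by gcongr
      _ = _ := by ring

theorem sq_mul_le {b e : ℕ} (hb : b ≤ p) (he : 2 ≤ e) : p ^ 2 * b ^ e ≤ b ^ 2 * p ^ e := by
  obtain ⟨e, rfl⟩ := Nat.exists_eq_add_of_le he
  rw [pow_add, pow_add, mul_left_comm]
  gcongr

/-- from `x ≤ y * b ^ e` to `x * p ^ 2 * b ^ 2 ≤ y * p ^ e` -/
theorem le_of_base {b e x y : ℕ} (hb : b ≤ p) (h0 : 0 < b) (he : 2 ≤ e) (h : x * b ^ 2 ≤ y * b ^ e)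
    (hN : p ^ e ≤ N) : x * p ^ 2 ≤ y * N := by
  refine Nat.le_of_mul_le_mul_right (c := b ^ 2) ?_ (by positivity)
  calc _ = x * b ^ 2 * p ^ 2 := by ring
    _ ≤ y * b ^ e * p ^ 2 := by gcongr
    _ = y * (p ^ 2 * b ^ e) := by ring
    _ ≤ y * (b ^ 2 * N) := Nat.mul_le_mul_left _ ((sq_mul_le hb he).trans (by gcongr))
    _ = _ := by ring

theorem sq_le_pow (g : ℕ) : (g + 2) ^ 2 ≤ 4 * 5 ^ g := by
  induction g with
  | zero => norm_num
  | succ g ih =>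
    have : (g + 1 + 2) ^ 2 ≤ 5 * (g + 2) ^ 2 := by ring_nf; omega
    omega

theorem num_mono {t : ℕ} (hp : p = 5 ∨ p = 7 ∨ 11 ≤ p) (ht : 2 ≤ t) (h1 : N ≤ 1 + k * o * (τ * τ))
    (hN : p ^ t ≤ N) (h2 : τ ≤ t.factorial) (h3 : 25 * τ ^ 2 ≤ t ^ 7) (hk : 3 ≤ k) (ho : t ≤ o) :
    J p k o := by
  have h5 : 25 ≤ N := (Nat.pow_le_pow_left (show 5 ≤ p by omega) 2).trans
    ((Nat.pow_le_pow_right (by omega) ht).trans hN)
  rcases ht.eq_or_lt with rfl | ht
  · exact J.of_le h1 h5 (by have : τ * τ ≤ 2 * 2 := Nat.mul_le_mul h2 h2; nlinarith)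
  have : 3 * 3 ≤ k * o := Nat.mul_le_mul hk (by omega)
  rcases hp with rfl | rfl | hp
  · exact J.of_strong (by omega)
  · exact J.of_strong (by omega)
  refine J.of_le h1 h5 ?_
  rw [mul_right_comm]
  refine le_of_base hp (by norm_num) ht.le ?_ hN
  rcases (Nat.succ_le_of_lt ht).eq_or_lt with rfl | ht
  · have : τ * τ ≤ 6 * 6 := Nat.mul_le_mul h2 h2
    omega
  · have := poly_le (2401 * 11 ^ 2) 345600 11 4 (by norm_num) (by norm_num) ht
    nlinarith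

theorem num_one {f : ℕ} (hp : 5 ≤ p) (h1 : N ≤ 1 + k * o * (f * f)) (h2 : p ^ 2 ≤ N)
    (hN : p ^ f ≤ N) : J p k o := by
  refine J.of_le h1 (by nlinarith) ?_
  rcases f with _ | _ | f
  · omega
  · omega
  rw [mul_right_comm]
  refine le_of_base hp (by norm_num) (by omega) ?_ hN
  have := sq_le_pow f
  rw [show f + 1 + 1 = f + 2 from rfl, pow_add 5 f, ← sq]
  omega

theorem num_big {f e c w : ℕ} (hp : 5 ≤ p) (he : 2 ≤ e) (h1 : N ≤ 1 + k * o * (f * (c * e ^ 2) * f))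
    (hc : 5 * c ≤ e ^ 5) (h2 : p ^ 2 ≤ w) (h3 : p ^ f ≤ w) (hN : w ^ e ≤ N) : J p k o := by
  obtain ⟨g, h4, h5⟩ : ∃ g, f ≤ g + 2 ∧ p ^ (g + 2) ≤ w := by
    rcases le_total f 2 with h | h
    · exact ⟨0, h, h2⟩
    · exact ⟨f - 2, by omega, by rwa [Nat.sub_add_cancel h]⟩
  have h6 : p ^ ((g + 2) * e) ≤ N := by rw [pow_mul]; exact (Nat.pow_le_pow_left h5 e).trans hN
  have h7 : 2 ≤ (g + 2) * e := by nlinarith
  refine J.of_le h1 (le_trans (by nlinarith) ((Nat.pow_le_pow_right (by omega) h7).trans h6)) ?_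
  rw [mul_right_comm]
  refine le_of_base hp (by norm_num) h7 ?_ h6
  calc _ = 300125 * (f * f) * (5 * c * e ^ 2) := by ring
    _ ≤ 300125 * (4 * 5 ^ g) * (e ^ 5 * e ^ 2) := by
      gcongr 300125 * ?_ * (?_ * _)
      exact (Nat.mul_le_mul h4 h4).trans ((sq _).ge.trans (sq_le_pow g))
    _ = 5 ^ g * (1200500 * e ^ 7) := by ring
    _ ≤ 5 ^ (g * e) * (345600 * 25 ^ e) := Nat.mul_le_mul (Nat.pow_le_pow_right (by norm_num)
      (Nat.le_mul_of_pos_right _ (by omega))) (poly_le _ _ _ 2 (by norm_num) (by norm_num) he)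
    _ = _ := by rw [add_mul, pow_add, pow_mul 5 2]; ring

theorem num_lin {e c a : ℕ} (hp : p = 5 ∨ p = 7 ∨ 11 ≤ p) (he : 2 ≤ e) (c0 : 0 < c)
    (h1 : N ≤ 1 + o * (c * e ^ 2 * a)) (h2 : a * (3 * (c * e ^ 2)) ≤ k * (c * e ^ 2) + 2 * a)
    (hN : p ^ e ≤ N) (ha : a ∣ p - 1) (hr : ∀ r, r.Prime → r ∣ e → r ∣ a) (hc : 5 * c ≤ e ^ 5)
    (h3 : e = 2 → c ≤ 4 ∨ c = 6 ∧ 4 * a ≤ k) (h4 : e = 3 → c ≤ 24) (h5 : e = 4 → c ≤ 72) :
    J p k o := by
  have a1 := Nat.le_of_dvd (by omega) ha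
  have a0 := Nat.pos_of_dvd_of_pos ha (by omega)
  have a2 : 2 ≤ a := (Nat.minFac_prime (by omega)).two_le.trans
    (Nat.le_of_dvd a0 (hr _ (Nat.minFac_prime (by omega)) e.minFac_dvd))
  have b1 : p ^ 2 ≤ N := (Nat.pow_le_pow_right (by omega) he).trans hN
  have b2 : 25 ≤ p ^ 2 := Nat.pow_le_pow_left (show 5 ≤ p by omega) 2
  have o0 : 0 < o := Nat.pos_of_ne_zero (by rintro rfl; omega)
  obtain ⟨M, rfl⟩ := Nat.exists_eq_add_of_le (show 1 ≤ N by omega)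
  have b3 : e ^ 2 ≤ c * e ^ 2 := Nat.le_mul_of_pos_left _ c0
  have b4 : 5 * (c * e ^ 2) ≤ e ^ 7 := by
    rw [← mul_assoc, show e ^ 7 = e ^ 5 * e ^ 2 by ring]; gcongr
  generalize hh : c * e ^ 2 = h at *
  have b5 : M * (3 * h) ≤ k * o * h ^ 2 + 2 * M := by
    obtain ⟨x, rfl⟩ := Nat.exists_eq_add_of_le (show 1 ≤ h by nlinarith)
    have := Nat.mul_le_mul (show M ≤ _ from Nat.le_of_add_le_add_left h1)
      (show a * (1 + 3 * x) ≤ k * (1 + x) by nlinarith)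
    refine le_trans ?_ (Nat.add_le_add_right (Nat.le_of_mul_le_mul_right (c := a)
      (a := M * (1 + 3 * x)) (by nlinarith) a0) _)
    nlinarith
  rcases he.eq_or_lt with rfl | he
  · rcases h3 rfl with h3 | ⟨rfl, h3⟩
    · refine J.of_strong ?_
      interval_cases c <;> subst hh <;> omega
    obtain ⟨j, hj⟩ := ha
    obtain rfl : p = a * j + 1 := by omega
    subst hh
    refine ⟨by nlinarith, ?_, fun e => Or.inl (by subst e; nlinarith)⟩
    have c1 : j * (a * j + 2) ≤ 24 * o := Nat.le_of_mul_le_mul_left (c := a) (by nlinarith) a0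
    rcases le_or_gt 10 j with c2 | c2
    · nlinarith [Nat.mul_le_mul_left a c2, Nat.mul_le_mul (Nat.mul_le_mul_left a c2) c2]
    · rcases a2.eq_or_lt with rfl | a2 <;> interval_cases j <;> omega
  have b6 : 9 ≤ h := by nlinarith
  have b7 : 25 * M ≤ 9 * (k * o) * h := Nat.le_of_mul_le_mul_right (by nlinarith) (by omega : 0 < h)
  have b8 : 21609 * h * p ^ 2 ≤ 360000 * M → J p k o := fun h =>
    J.of_strong (Nat.le_of_mul_le_mul_right (by nlinarith) (lt_of_lt_of_le (by norm_num) b6))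
  have b9 : ∀ j, j * h + 2 * a < a * (3 * h) → j + 1 ≤ k * o := fun j h3 =>
    le_trans (Nat.lt_of_mul_lt_mul_right (a := h) (by omega)) (Nat.le_mul_of_pos_right _ o0)
  have b10 : ∀ b, b ≤ p → 0 < b → 21609 * b ^ 2 * e ^ 7 ≤ 1728000 * b ^ e → J p k o :=
    fun b c1 c2 c3 => b8 (by
      have := le_of_base (x := 21609 * (5 * h)) c1 c2 he.le (le_trans (by nlinarith) c3) hN
      nlinarith)
  rcases hp with rfl | rfl | hp
  · exact J.of_strong (by have := b9 4 (by nlinarith); omega)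
  · rcases a2.eq_or_lt with rfl | a2
    swap
    · exact J.of_strong (by have := b9 8 (by nlinarith); omega)
    rcases le_or_gt 7 e with c1 | c1
    · exact b10 7 le_rfl (by norm_num) (poly_le _ _ _ 7 (by norm_num) (by norm_num) c1)
    interval_cases e
    · exact absurd (hr 3 (by norm_num) dvd_rfl) (by norm_num)
    · have := h5 rfl
      refine J.of_strong (le_trans (by norm_num) (Nat.mul_le_mul_left _ (Nat.mul_le_mul
        (show 6 ≤ k from Nat.lt_of_mul_lt_mul_right (a := h) (by omega)) (show 2 ≤ o by nlinarith))))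
    · exact absurd (hr 5 (by norm_num) dvd_rfl) (by norm_num)
    · exact absurd (hr 3 (by norm_num) (by norm_num)) (by norm_num)
  rcases le_or_gt 5 e with c1 | c1
  · exact b10 11 hp (by norm_num) (poly_le _ _ _ 5 (by norm_num) (by norm_num) c1)
  interval_cases e
  · have := h4 rfl
    have := (hr 3 (by norm_num) dvd_rfl).trans ha
    have c2 : 13 * p ^ 2 ≤ p ^ 3 := by rw [pow_succ' p 2]; gcongr; omega
    have := Nat.mul_le_mul_right (p ^ 2) (show h ≤ 216 by omega)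
    have := Nat.pow_le_pow_left hp 2
    exact b8 (by rw [mul_assoc]; omega)
  · have := h5 rfl
    have c2 : 121 * p ^ 2 ≤ p ^ 4 :=
      (Nat.mul_le_mul_right _ (Nat.pow_le_pow_left hp 2)).trans_eq (by ring)
    have := Nat.mul_le_mul_right (p ^ 2) (show h ≤ 1152 by omega)
    exact b8 (by rw [mul_assoc]; omega)

theorem choose_ge (o : ℕ) {t : ℕ} (ht : 2 ≤ t) :
    4 + t * ((o + 1) * (o + 4)) ≤ 4 * (o + 1 + t).choose t := by
  have h1 : ∀ n, 2 * (n + 1).choose 2 = (n + 1) * n := fun n => by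
    rw [Nat.choose_two_right, Nat.mul_div_cancel' (Nat.even_mul_pred_self _).two_dvd]; rfl
  induction t, ht using Nat.le_induction with
  | base => have := h1 (o + 2); nlinarith
  | succ t ht ih =>
    have h2 : (o + 3).choose 3 ≤ (o + 1 + t).choose (t + 1) := by
      rw [← Nat.choose_symm_add, add_assoc, add_comm 1, ← Nat.choose_symm_add (b := t + 1)]
      exact Nat.choose_le_choose _ (by omega)
    have h3 := Nat.add_one_mul_choose_eq (o + 2) 2
    have h4 := h1 (o + 1)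
    rw [← add_assoc, Nat.choose_succ_succ']
    nlinarith

theorem num_imp {k₁ o₁ t : ℕ} (hp : 5 ≤ p) (h : J p k₁ o₁) (h1 : k₁ ≤ t * k) (ht : 2 ≤ t)
    (h2 : (o₁ + t).choose t ≤ o + 1) (hk : 3 ≤ k) : J p k o := by
  obtain ⟨h3, -, h4⟩ := h
  rcases o₁ with _ | o₁
  · nlinarith
  have h5 := choose_ge o₁ ht
  have h6 : k₁ * (o₁ + 1) * (o₁ + 4) ≤ 4 * (k * o) := by
    calc _ ≤ t * k * (o₁ + 1) * (o₁ + 4) := by gcongr
      _ = k * (t * ((o₁ + 1) * (o₁ + 4))) := by ring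
      _ ≤ k * (4 * o) := Nat.mul_le_mul_left _ (by omega)
      _ = _ := by ring
  have h7 : 25 ≤ p ^ 2 := by nlinarith
  rcases o₁ with _ | o₁
  swap
  · exact J.of_strong (by nlinarith [Nat.zero_le (k₁ * (o₁ + 1 + 1) * o₁)])
  rcases h4 rfl with h4 | h4
  swap
  · exact J.of_strong (by omega)
  refine ⟨by omega, ?_, fun e => Or.inl h4⟩
  have h8 : 4 * (k * o) ≤ (k + o) ^ 2 := by zify; nlinarith [sq_nonneg ((k : ℤ) - o)]
  have h9 : 5 ≤ k + o := by omega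
  generalize k + o = s at *
  by_contra! h10
  have : s ≤ 18 := by omega
  interval_cases p <;> interval_cases s <;> omega

end CF.Fgs2.HK
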