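import Cfsg.Agent.Fgs2.HK1
import Cfsg.Agent.Fgs2.HK2
import Cfsg.Agent.Invol.Count

/-! The Héthelyi–Külshammer bound `k(G) ≥ 49 p / 60` for solvable groups with `p ^ 2 ∣ #G`. -/

set_option autoImplicit false

namespace CF.Fgs2.HK

open Subgroup CF.Fgs2.Base CF.Perm
open scoped Pointwise commutatorElement

universe u

section qp

variable {G V K Q : Type*} [Group G] [Finite G] [AddCommGroup V] [Finite V] [Nontrivial V]
  [DistribMulAction G V] [FaithfulSMul G V] [Field K] [Finite K] [Module K V] [CommGroup Q]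
  [Finite Q] {A M : Subgroup G} {σ : G →* RingAut K} {φ : G →* MulAut Q} {β : Q →* Q →* Kˣ}
  {π : M →* Q} (h : QP V A M σ φ β π)
include h

theorem four_mul_le_kc (hA : A ≤ center G) (hQ : Nat.card Q = 4) (hG : Nat.card G = 24 * Nat.card A) :
    4 * Nat.card A ≤ kc G := by
  classical
  have := Fintype.ofFinite G
  have hC : ∀ g, g ∈ centralizer (A : Set G) := fun g a ha => (mem_center_iff.1 (hA ha) g).symm
  have hx := h.sy.exp_two (k := 2) hQ
  have hM : Nat.card M = 4 * Nat.card A := by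
    rw [← hQ, h.card, ← Nat.card_congr (subgroupOfEquivOfLe h.am.le).toEquiv, relIndex, index_mul_card]
  have h1 : ∀ g ∈ M, g ∉ A → 4 * Nat.card A ≤ Nat.card (centralizer {g}) := fun g hg hg' => by
    have h2 : ∀ y : (ConjClasses.mk g).carrier, y.1 ∈ M ∧ y.1 ∉ A ∧ y.1 * y.1 = g * g := fun y => by
      obtain ⟨c, hc⟩ := isConj_iff.1 (ConjClasses.mk_eq_mk_iff_isConj.1
        (ConjClasses.mem_carrier_iff_mk_eq.1 y.2).symm)
      refine ⟨hc ▸ h.am.Mn.conj_mem g hg c, fun e => hg' (by
        simpa [mul_assoc] using h.am.An.conj_mem' (c * g * c⁻¹) (hc ▸ e) c), ?_⟩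
      have := mem_center_iff.1 (hA ((h.ker (⟨g, hg⟩ ^ 2)).1 (by rw [map_pow, hx]))) c
      rw [← hc, conj_mul, mul_inv_eq_iff_eq_mul, ← sq]
      exact this
    let q : (ConjClasses.mk g).carrier → {x : Q // x ≠ 1} := fun y =>
      ⟨π ⟨y, (h2 y).1⟩, fun e => (h2 y).2.1 ((h.ker _).1 e)⟩
    have h3 : ∀ y z, q y = q z → y ≠ z → ∀ v : V, y.1 • v = -(z.1 • v) := fun y z e ne v => by
      have h4 : z.1⁻¹ * y.1 ∈ A := (h.ker (⟨z, (h2 z).1⟩⁻¹ * ⟨y, (h2 y).1⟩)).1 (by
        rw [map_mul, map_inv, inv_mul_eq_one]; exact congrArg Subtype.val e.symm)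
      rcases h.neg_one h4 (by
        rw [← mul_assoc, mem_center_iff.1 (hA h4) z.1⁻¹ |>.symm, ← mul_assoc, mul_assoc, (h2 y).2.2,
          ← (h2 z).2.2]; group) with h5 | h5
      · exact absurd (Subtype.ext (inv_mul_eq_one.1 h5).symm) ne
      · rw [← smul_neg, ← h5, smul_smul, mul_inv_cancel_left]
    have : Nonempty (ConjClasses.mk g).carrier := ⟨g, ConjClasses.mem_carrier_mk⟩
    have h4 := Nat.card_le_card_of_injective (fun y => (q y, decide (y = Function.invFun q (q y))))
      fun y z e => by_contra fun ne => by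
        have e1 : q y = q z := congrArg Prod.fst e
        have e2 := decide_eq_decide.1 (congrArg Prod.snd e)
        have e3 : q (Function.invFun q (q y)) = q y := Function.invFun_eq ⟨y, rfl⟩
        by_cases h5 : y = Function.invFun q (q y)
        · exact ne (h5.trans (e1 ▸ (e2.1 h5).symm))
        · refine ne (Subtype.ext (eq_of_smul_eq_smul (α := V) fun v => ?_))
          rw [h3 y _ e3.symm h5, h3 z _ (e1.symm.trans e3.symm) (e1 ▸ mt e2.2 h5)]
    rw [CF.Char.card_carrier_eq_index, Nat.card_prod, show Nat.card {x : Q // x ≠ 1} = _ from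
      Set.ncard_compl {(1 : Q)}, Set.ncard_singleton, hQ, Nat.card_eq_fintype_card,
      Fintype.card_bool] at h4
    have := index_mul_card (centralizer {g})
    nlinarith
  have h2 : ∀ f : MulAut Q, ∃ m : M, f ≠ 1 → f (π m) ≠ π m := fun f => by
    by_contra! h3
    exact (h3 1).1 (MulEquiv.ext fun x => by obtain ⟨m, rfl⟩ := h.surj x; exact (h3 m).2)
  choose m hm using h2
  have hφ : ∀ (g : G) (x : M), φ (g * x) = φ g := fun g x => by
    rw [map_mul, (h.triv _ (hC _)).2 x.2, mul_one]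
  have h3 : ∀ g ∉ M, 6 * Nat.card A ≤ Nat.card (centralizer {g}) +
      Nat.card (centralizer {g * m (φ g)}) := fun g hg => by
    have a0 : ∀ {x : G} (i : ℕ), x ^ i ∈ A → φ x ^ i = 1 := fun i e => by
      rw [← map_pow]; exact (h.triv _ (hC _)).2 (h.am.le e)
    have a1 : φ g ≠ 1 := mt (h.triv _ (hC _)).1 hg
    have a2 : ∀ x r, φ x = φ g → (r ≤ 2 ∨ x ^ 2 ∉ A) → (r ≤ 3 ∨ φ g ^ 2 = 1) → r ≤ 4 →
        r * Nat.card A ≤ Nat.card (centralizer {x}) := fun x r e b1 b2 b3 =>
      mul_le_cent hA fun i c1 c2 c3 => by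
        have c4 := a0 i c3
        obtain rfl | rfl | rfl : i = 1 ∨ i = 2 ∨ i = 3 := by omega
        · exact a1 (by rwa [pow_one, e] at c4)
        · exact b1.resolve_left (by omega) c3
        · exact a1 (by rwa [e, pow_succ, b2.resolve_left (by omega), one_mul] at c4)
    by_cases a3 : φ g ^ 2 = 1
    swap
    · have := a2 g 3 rfl (Or.inr fun e => a3 (a0 2 e)) (by omega) (by omega)
      have := a2 _ 3 (hφ g (m (φ g))) (Or.inr fun e => a3 (hφ g _ ▸ a0 2 e)) (by omega) (by omega)
      omega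
    by_cases a4 : g ^ 2 ∈ A
    · have := a2 g 2 rfl (by omega) (by omega) (by omega)
      have := a2 _ 4 (hφ g (m (φ g))) (Or.inr fun e => hm _ a1 ?_) (Or.inr a3) (by omega)
      · omega
      rw [h.conj, ← mul_inv_eq_one, inv_eq_of_mul_eq_one_left ((sq _).symm.trans (hx _)), ← map_mul,
        h.ker]
      convert mul_mem e (inv_mem a4) using 1
      simp only [coe_mul]
      rw [sq, mul_assoc _ _ (g ^ 2)⁻¹, mul_assoc g (m _).1 (g ^ 2)⁻¹,
        mem_center_iff.1 (hA (inv_mem a4))]
      group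
    · have := a2 g 4 rfl (Or.inr a4) (Or.inr a3) (by omega)
      have := a2 _ 2 (hφ g (m (φ g))) (by omega) (by omega) (by omega)
      omega
  have h4 : ∑ g ∈ Finset.univ.filter (· ∉ M), Nat.card (centralizer {g * m (φ g)}) =
      ∑ g ∈ Finset.univ.filter (· ∉ M), Nat.card (centralizer {g}) :=
    Finset.sum_bij' (fun g _ => g * m (φ g)) (fun g _ => g * (m (φ g)).1⁻¹)
      (fun g hg => by simpa [mul_mem_cancel_right] using hg)
      (fun g hg => by simpa [mul_mem_cancel_right] using hg)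
      (fun g _ => by rw [hφ, mul_inv_cancel_right])
      (fun g _ => by rw [← coe_inv, hφ, coe_inv, inv_mul_cancel_right]) fun _ _ => rfl
  have h5 := Finset.card_nsmul_le_sum (Finset.univ.filter (· ∉ M)) _ _
    fun g hg => h3 g (Finset.mem_filter.1 hg).2
  have h6 := Finset.card_nsmul_le_sum ((Finset.univ.filter (· ∈ M)).filter (· ∉ A)) _ _
    fun g hg => h1 g (Finset.mem_filter.1 (Finset.mem_filter.1 hg).1).2 (Finset.mem_filter.1 hg).2
  have h7 := CF.Char.sum_card_centralizer (G := G)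
  have h8 : (Finset.univ.filter (· ∈ M)).filter (· ∈ A) = Finset.univ.filter (· ∈ A) := by
    ext g; simpa using fun e => h.am.le e
  rw [← Finset.sum_filter_add_sum_filter_not _ (· ∈ M),
    ← Finset.sum_filter_add_sum_filter_not (Finset.filter _ _) (· ∈ A), h8, sum_center hA] at h7
  have h9 := Finset.card_filter_add_card_filter_not (s := Finset.univ) (· ∈ M)
  have h10 := Finset.card_filter_add_card_filter_not (s := Finset.univ.filter (· ∈ M)) (· ∈ A)
  rw [h8, card_filter_mem, card_filter_mem, hM] at h10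
  rw [card_filter_mem, Finset.card_univ, ← Nat.card_eq_fintype_card, hM, hG] at h9
  rw [Finset.sum_add_distrib, h4, smul_eq_mul, show Finset.card _ = 20 * Nat.card A by omega] at h5
  rw [smul_eq_mul, show Finset.card _ = 3 * Nat.card A by omega] at h6
  rw [hG] at h7
  refine Nat.le_of_mul_le_mul_left (c := 24 * Nat.card A) ?_ (Nat.mul_pos (by norm_num) Nat.card_pos)
  nlinarith

theorem j_qp [Group.IsSolvable G] {p m : ℕ} (hp : p.Prime) (h5 : p = 5 ∨ p = 7 ∨ 11 ≤ p)
    (hV : Nat.card V = p ^ m) (h2 : p ^ 2 ≤ Nat.card V) (hB : Nat.card Q ≠ 1 →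
      25 * Nat.card ((centralizer (A : Set G)).map φ) ^ 2 ≤ Nat.card Q ^ 5) :
    J p (kc G) (ob G V - 1) := by
  obtain ⟨e, he⟩ := h.sy.exists_sq
  obtain ⟨k, h1, h3⟩ := h.fs.exists_pow_index
  have hn := Module.natCard_eq_pow_finrank (K := K) (V := V)
  have f0 : (centralizer (A : Set G)).index ≠ 0 := index_ne_zero_of_finite
  obtain ⟨j, -, hj⟩ := (Nat.dvd_prime_pow hp).1
    (hV ▸ hn ▸ dvd_pow_self (Nat.card K) Module.finrank_pos.ne')
  have j0 : j ≠ 0 := by rintro rfl; exact (Finite.one_lt_card (α := K)).ne' hj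
  have h4 := (Nat.pow_le_pow_left (Nat.le_of_dvd (by omega) (hp.dvd_of_dvd_pow
    (h3 ▸ hj ▸ dvd_pow_self p j0))) _).trans h3.ge
  have h6 : A.index = (centralizer (A : Set G)).index *
      (Nat.card ((centralizer (A : Set G)).map φ) * e ^ 2) :=
    Nat.eq_of_mul_eq_mul_right (Nat.card_pos (α := A)) (by
      rw [index_mul_card, ← index_mul_card (centralizer (A : Set G)), h.card_cent he]; ring)
  have h7 := card_le_kc_ob (V := V) (le_refl (centralizer (A : Set G)))
  have h8 := (Nat.pow_le_pow_right Nat.card_pos (h.le_rank he)).trans hn.ge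
  rw [h6] at h7
  by_cases e1 : e = 1
  · have := (Nat.card_eq_one_iff_unique.1 (he.trans (by rw [e1]; rfl))).1
    rw [e1, Nat.le_antisymm (Finite.card_le_one_iff_subsingleton.2
      ⟨fun _ _ => Subtype.ext (MulEquiv.ext fun _ => Subsingleton.elim _ _)⟩) Nat.card_pos,
      one_pow, mul_one, mul_one] at h7
    exact num_one (by omega) h7 h2 (h4.trans (by rwa [e1, pow_one] at h8))
  have e0 : e ≠ 0 := by rintro rfl; exact Nat.card_pos.ne' he
  have h9 := h.le_div he (hB fun e' => e1
    (Nat.pow_eq_one.1 (he.symm.trans e') |>.resolve_right two_ne_zero))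
  by_cases j1 : j = 1
  swap
  · exact num_big (by omega) (by omega) h7 (by omega)
      (hj ▸ Nat.pow_le_pow_right hp.pos (by omega)) h4 h8
  rw [j1, pow_one] at hj
  have f1 : (centralizer (A : Set G)).index = 1 := by
    have := (Nat.pow_le_pow_iff_right hp.one_lt).1 (h4.trans_eq (hj.trans (pow_one p).symm))
    omega
  have hA : A ≤ center G := centralizer_eq_top_iff_subset.1 (index_eq_one.1 f1)
  rw [f1, one_mul] at h6
  have h10 := card_le_ob (G := G) (V := V)
  have h11 := three_mul_le hA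
  have h12 := A.index_mul_card
  rw [← h12, h6] at h10
  rw [h6] at h11 h12
  refine num_lin h5 (by omega) Nat.card_pos h10 h11 (hj ▸ h8) (hj ▸ h.fs.card_dvd)
    (fun r => h.prime_dvd he) (by omega) ?_ ?_ ?_ <;> rintro rfl
  · have a1 : Nat.card ((centralizer (A : Set G)).map φ) ≠ 5 := fun e => by
      have := Fact.mk Nat.prime_five
      obtain ⟨x, hx⟩ := exists_prime_orderOf_dvd_card' 5 e.symm.dvd
      rw [← orderOf_coe] at hx
      have a1 := card_ker_lt (f := x.1) (by rintro e; simp [e] at hx)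
      have a2 := dvd_sub_ker Nat.prime_five (hx ▸ pow_orderOf_eq_one x.1)
      omega
    rcases le_or_gt (Nat.card ((centralizer (A : Set G)).map φ)) 4 with a2 | a2
    · exact Or.inl a2
    · have a3 : Nat.card ((centralizer (A : Set G)).map φ) = 6 := by omega
      exact Or.inr ⟨a3, four_mul_le_kc h hA he (by rw [← h12, a3]; norm_num)⟩
  · exact h.sqf he
  · exact (h.four_cases' he).elim (·.2.1) fun a => (Nat.le_of_dvd (by norm_num) a.1).trans (by norm_num)

end qp

theorem card_eq_pow {V : Type*} [AddCommGroup V] [Finite V] {p : ℕ} (hp : p.Prime)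
    (hV : ∀ v : V, p • v = 0) : ∃ m, Nat.card V = p ^ m :=
  have := Fact.mk hp
  (IsPGroup.iff_card (G := Multiplicative V)).1 fun v => ⟨1, by rw [pow_one]; exact hV v⟩

theorem core_comm {G V : Type*} [Group G] [AddCommGroup V] [DistribMulAction G V]
    [FaithfulSMul G V] {W : AddSubgroup V} (hirr : IrrOn (⊤ : Subgroup G) (⊤ : AddSubgroup V))
    (hp : (Nat.card W).Prime) : (MulAction.stabilizer G W).normalCore ≤
      centralizer ((MulAction.stabilizer G W).normalCore : Set G) := fun x hx y hy =>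
  eq_of_smul_eq_smul (α := V) fun v => by
    have := Fact.mk hp
    have hv : v ∈ ⨆ g : G, g • W := sup_orbit hirr (X := W) (by rintro rfl; simp [Nat.not_prime_one] at hp) ▸ trivial
    induction hv using AddSubgroup.iSup_induction' with
    | hp k v hv =>
      by_cases h0 : v = 0
      · simp [h0]
      have key : ∀ z ∈ (MulAction.stabilizer G W).normalCore, ∃ n : ℤ, n • v = z • v := fun z hz => by
        obtain ⟨n, hn⟩ := mem_zmultiples_of_prime_card (G := W) rfl (g := ⟨_, mem_smul.1 hv⟩)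
          (g' := ⟨_, invOn_stab W _ (hz k⁻¹) _ (mem_smul.1 hv)⟩)
          fun e => h0 ((smul_eq_zero_iff_eq _).1 (congrArg Subtype.val e))
        have : n • k⁻¹ • v = (k⁻¹ * z * k⁻¹⁻¹) • k⁻¹ • v := congrArg Subtype.val hn
        exact ⟨n, by simpa [smul_comm n, mul_smul] using this⟩
      obtain ⟨a, ha⟩ := key x hx
      obtain ⟨b, hb⟩ := key y hy
      rw [mul_smul, mul_smul, ← ha, ← hb, smul_comm, smul_comm x, ← ha, ← hb, smul_comm]
    | h1 => simp
    | hadd x y _ _ hx hy => rw [smul_add, smul_add, hx, hy]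

theorem j_irr {p : ℕ} (hp : p.Prime) (h5 : p = 5 ∨ p = 7 ∨ 11 ≤ p) (n : ℕ) :
    ∀ (G V : Type u) [Group G] [Finite G] [AddCommGroup V] [Finite V] [DistribMulAction G V],
      Group.IsSolvable G → IrrOn (⊤ : Subgroup G) (⊤ : AddSubgroup V) → (∀ v : V, p • v = 0) →
      p ^ 2 ≤ Nat.card V → Nat.card V = n →
      J p (kc (MulAction.toPermHom G V).range) (ob G V - 1) := by
  induction n using Nat.strong_induction_on with | h n ih =>
  suffices key : ∀ (G V : Type u) [Group G] [Finite G] [AddCommGroup V] [Finite V] [DistribMulAction G V]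
      [FaithfulSMul G V], Group.IsSolvable G → IrrOn (⊤ : Subgroup G) (⊤ : AddSubgroup V) →
      (∀ v : V, p • v = 0) → p ^ 2 ≤ Nat.card V → Nat.card V = n → J p (kc G) (ob G V - 1) by
    intro G V _ _ _ _ _ _ hirr hV h2 hn
    letI := rangeAct G V
    haveI : FaithfulSMul (MulAction.toPermHom G V).range V := ⟨fun h => Subtype.ext (Equiv.ext h)⟩
    exact ob_range (G := G) (V := V) ▸ key (MulAction.toPermHom G V).range V
      (Group.isSolvable_of_surjective (MonoidHom.rangeRestrict_surjective _))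
      (fun X hX hi => hirr X hX fun g _ v hv => hi ⟨_, g, rfl⟩ trivial v hv) hV h2 hn
  intro G V _ _ _ _ _ _ _ hirr hV h2 hn
  subst hn
  have h25 := (Nat.pow_le_pow_left (show 5 ≤ p by omega) 2).trans h2
  have := Finite.one_lt_card_iff_nontrivial.1 (lt_of_lt_of_le (by norm_num) h25)
  rcases le_or_gt (Nat.card G) 2 with hG | hG
  · have h1 := card_le_kc_ob (V := V) (A := (⊥ : Subgroup G)) (C := ⊤) fun _ _ _ h => by
      rw [mem_bot.1 h, one_mul, mul_one]
    rw [index_bot, index_top, mul_one] at h1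
    exact J.of_le h1 h25 (by nlinarith)
  obtain ⟨A, hA1, hA2, hA3⟩ := exists_max_abelian (G := G)
  obtain ⟨M, hM⟩ := exists_AM A hA3
  rcases fs_or_imp hirr A hA2 with ⟨K, _, _, _, σ, h⟩ | ⟨W, hW⟩
  · obtain ⟨Q, _, φ, β, π, h⟩ := exists_QP h hM
    have : Finite Q := Finite.of_surjective π h.surj
    obtain ⟨m, hm⟩ := card_eq_pow hp hV
    exact j_qp h hp h5 hm h2 (h.bound (p_sol _).2)
  obtain ⟨L, hL, h1⟩ := (eq_top_or_exists_le_coatom (MulAction.stabilizer G W)).resolve_left
    fun e => (hirr W le_top (e ▸ invOn_stab W)).elim hW.ne_bot hW.ne_top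
  obtain ⟨X, hX, rfl⟩ := exists_coarse hW hirr hL h1
  letI := subAct (invOn_stab (G := G) X)
  have h3 := choose_le_ob hX (fun ω : Quotient (MulAction.orbitRel (MulAction.stabilizer G X) X) =>
    ω.out.1) (fun ω => ω.out.2) fun i j n hn e => by
      rw [← i.out_eq, ← j.out_eq]
      exact (Quotient.sound (MulAction.orbitRel_apply.2 ⟨⟨n, hn⟩, Subtype.ext e⟩)).symm
  have h4 := one_lt_index_of_ne_top hL.1
  have h6 := (X.one_lt_card_iff_ne_bot).2 hX.ne_bot
  have h7 := card_le_ob (G := MulAction.stabilizer G X) (V := X)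
  obtain ⟨o, ho⟩ : ∃ o, ob (MulAction.stabilizer G X) X = o + 2 := Nat.exists_eq_add_of_le'
    (not_lt.1 fun e => by
      rw [Nat.sub_eq_zero_of_le (Nat.le_of_lt_succ e), zero_mul] at h7; exact h6.not_ge h7)
  rw [show Nat.card _ = _ from ho, show ∀ t, o + 2 + t - 1 = o + 1 + t by omega] at h3
  obtain ⟨j, hj⟩ := card_eq_pow hp fun v : X => Subtype.ext (hV v)
  rcases j with _ | _ | j
  · exact absurd hj h6.ne'
  · rw [zero_add, pow_one] at hj
    have := choose_ge o h4
    exact num_mono h5 h4 (card_le_kc_ob (core_comm hirr (hj ▸ hp))) (hj ▸ hX.pow_le)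
      (Nat.le_of_dvd (Nat.factorial_pos _) (CF.Invol.index_normalCore_dvd_factorial _))
      (prim_bound hL) (three_le_kc hG) (by
        have := Nat.mul_le_mul_left (MulAction.stabilizer G X).index
          (show 4 ≤ (o + 1) * (o + 4) by nlinarith)
        omega)
  have h8 := ih _ hX.card_lt (MulAction.stabilizer G X) X inferInstance (fun Y _ hY => ((hX.irr hirr) (Y.map X.subtype)
    (AddSubgroup.map_subtype_le Y) (by
      rintro g hg _ ⟨v, hv, rfl⟩; exact ⟨_, hY ⟨g, hg⟩ trivial v hv, rfl⟩)).imp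
    (AddSubgroup.map_eq_bot_iff_of_injective _ X.subtype_injective).1 fun e =>
      eq_top_iff.2 fun x _ => by
        obtain ⟨y, hy, e⟩ := e.ge x.2
        exact (Subtype.ext e : y = x) ▸ hy) (fun v => Subtype.ext (hV v))
    (hj ▸ Nat.pow_le_pow_right hp.pos (by omega)) rfl
  rw [ho] at h8
  exact num_imp (by omega) h8 ((kc_le_of_surj _ (MonoidHom.rangeRestrict_surjective _)).trans
    (kc_le_index_mul _)) h4 (h3.trans (by omega)) (three_le_kc hG)

theorem le_of_J {G : Type*} [Group G] [Finite G] {p : ℕ} (N : Subgroup G) [N.Normal]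
    [IsMulCommutative N] (h : letI : CommGroup N := { mul_comm := mul_comm' }
      letI := mulAct (MulAut.conjNormal (H := N))
      J p (kc (MulAction.toPermHom G (Additive N)).range) (ob G (Additive N) - 1)) :
    49 * p ≤ 60 * kc G := by
  letI : CommGroup N := { mul_comm := mul_comm' }
  letI := mulAct (MulAut.conjNormal (H := N))
  have h1 := kc_add_ob N (V := Additive N) (fun v => v.toMul.1) (fun v => v.toMul.2)
    fun _ _ _ e => Subtype.ext e
  have h2 := kc_le_of_surj _ (QuotientGroup.lift_surjective_of_surjective N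
    (MulAction.toPermHom G (Additive N)).rangeRestrict (MonoidHom.rangeRestrict_surjective _)
    fun n hn => Subtype.ext (Equiv.ext fun v => Subtype.ext (mul_inv_eq_iff_eq_mul.2
      (congrArg Subtype.val (mul_comm (⟨n, hn⟩ : N) v.toMul)))))
  have h3 : 0 < ob G (Additive N) := Nat.card_pos_iff.2 ⟨⟨⟦0⟧⟩, inferInstance⟩
  have := h.2.1
  omega

theorem hk {p : ℕ} (hp : p.Prime) (n : ℕ) : ∀ (G : Type u) [Group G] [Finite G]
    [Group.IsSolvable G], Nat.card G = n → p ^ 2 ∣ n → 49 * p ≤ 60 * kc G := by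
  induction n using Nat.strong_induction_on with | h n ih =>
  intro G _ _ _ hn h2
  subst hn
  have := Fact.mk hp
  have h4 := (Nat.pow_le_pow_left hp.two_le 2).trans (Nat.le_of_dvd Nat.card_pos h2)
  rcases le_or_gt p 3 with h3 | h3
  · have := three_le_kc (G := G) (by omega)
    omega
  have h5 : p = 5 ∨ p = 7 ∨ 11 ≤ p := by
    by_contra! h5
    have := h5.2.2
    interval_cases p <;> simp_all (config := {decide := true})
  by_contra hc
  have h0 : ∀ (N : Subgroup G) [N.Normal], N ≠ ⊥ → ¬ p ^ 2 ∣ N.index := fun N _ h e => hc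
    ((ih _ (by rw [← N.index_mul_card]; exact lt_mul_of_one_lt_right (Nat.pos_of_ne_zero
      index_ne_zero_of_finite) (N.one_lt_card_iff_ne_bot.2 h)) (G ⧸ N) rfl e).trans
      (Nat.mul_le_mul_left _ (kc_le_of_surj _ (QuotientGroup.mk'_surjective N))))
  have h1 : ∀ (N : Subgroup G) [N.Normal], N ≠ ⊥ → p ∣ Nat.card N := fun N _ h => by_contra
    fun e => h0 N h (((hp.coprime_iff_not_dvd.2 e).pow_left 2).dvd_of_dvd_mul_right
      (N.index_mul_card ▸ h2))
  have := Finite.one_lt_card_iff_nontrivial.1 (show 1 < Nat.card G by omega)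
  obtain ⟨N, hN⟩ := CF.Solv.exists_isMinNormal (G := G)
  have := hN.1
  have := hN.isMulCommutative
  obtain ⟨q, hq, h6, h7⟩ := hN.exists_isElementaryAbelian
  have := Fact.mk hq
  obtain ⟨j, hj⟩ := h7.exists_card_eq
  obtain rfl := (Nat.prime_dvd_prime_iff_eq hp hq).1 (hp.dvd_of_dvd_pow (hj ▸ h1 N hN.2.1))
  rcases j with _ | _ | j
  · exact hN.2.1 (N.eq_bot_of_card_eq hj)
  swap
  · letI : CommGroup N := { mul_comm := mul_comm' }
    letI := mulAct (MulAut.conjNormal (H := N))
    refine hc (le_of_J N (j_irr hp h5 _ G (Additive N) inferInstance (fun X _ hX => ?_)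
      (fun v => Subtype.ext (h6.2 _ v.toMul.2)) (hj ▸ Nat.pow_le_pow_right hp.pos (by omega)) rfl))
    rcases hN.2.2 ((AddSubgroup.toSubgroup' X).map N.subtype) ⟨by
      rintro _ ⟨x, hx, rfl⟩ g
      exact ⟨_, hX g trivial x hx, rfl⟩⟩ (map_subtype_le _) with h3 | h3
    · exact Or.inl (eq_bot_iff.2 fun x hx => Subtype.ext (h3.le ⟨x.toMul, hx, rfl⟩))
    · exact Or.inr (eq_top_iff.2 fun x _ => by
        obtain ⟨y, hy, e⟩ := h3.ge x.toMul.2
        exact (Subtype.ext e : Additive.ofMul y = x) ▸ hy)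
  rw [zero_add, pow_one] at hj
  obtain ⟨S⟩ : Nonempty (Sylow p G) := inferInstance
  have h8 : Nat.card S = p ^ 2 := by
    rw [S.card_eq_multiplicity]
    refine congrArg _ (le_antisymm (not_lt.1 fun e => h0 N hN.2.1 (Nat.dvd_of_mul_dvd_mul_right
      hp.pos ?_)) ((hp.pow_dvd_iff_le_factorization Nat.card_pos.ne').1 h2))
    rw [← pow_succ, ← hj, index_mul_card, hj]
    exact (hp.pow_dvd_iff_le_factorization Nat.card_pos.ne').2 e
  have h9 := CF.Solv.centralizer_pCore_le_of_isPSolvable (CF.Solv.isPSolvable_of_isSolvable (G := G) p)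
    (by_contra fun e => CF.Solv.not_dvd_card_pPrimeCore (h1 _ e))
  have := IsPGroup.isMulCommutative_of_card_eq_prime_sq h8
  have h10 : Cfsg.pCore p G = S := le_antisymm (CF.Solv.pCore_le_sylow S)
    (((le_centralizer S.1).trans (centralizer_le (CF.Solv.pCore_le_sylow S))).trans h9)
  have : S.1.Normal := h10 ▸ inferInstance
  have h11 : IsCyclic (S.1.map (QuotientGroup.mk' N)) := isCyclic_of_prime_card (p := p) (by
    have := CF.Solv.card_mul_relIndex (h10 ▸ CF.Solv.le_pCore h7)
    rw [← relIndex_ker, QuotientGroup.ker_mk']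
    exact Nat.eq_of_mul_eq_mul_left hp.pos (by rwa [hj, h8, sq] at this))
  have := isCyclic_of_prime_card hj
  letI : CommGroup S.1 := { mul_comm := mul_comm' }
  letI := mulAct (MulAut.conjNormal (H := S.1))
  letI := rangeAct G (Additive S.1)
  have h12 := card_le_kc_ob (G := (MulAction.toPermHom G (Additive S.1)).range) (A := ⊤) (C := ⊤)
    (V := Additive S.1) (by
    rintro ⟨_, x, rfl⟩ - ⟨_, y, rfl⟩ -
    refine commutatorElement_eq_one_iff_mul_comm.1 (Subtype.ext ?_)
    refine (map_commutatorElement _ y x).symm.trans (Equiv.ext fun v => ?_)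
    have a1 := commutator_mem_commutator (mem_top y) (mem_top x)
    have a2 : (dl (MulAut.conjNormal ⁅y, x⁆) v.toMul).1 ∈ N := (QuotientGroup.eq_one_iff _).1 (by
      change QuotientGroup.mk' N (⁅y, x⁆ * v.toMul.1 * ⁅y, x⁆⁻¹ * v.toMul.1⁻¹) = 1
      simp only [map_mul, map_inv, map_commutatorElement]
      have := CF.SolvStr.commutator_le_centralizer_of_isCyclic (S.1.map (QuotientGroup.mk' N))
        (commutator_mem_commutator (mem_top (y : G ⧸ N)) (mem_top (x : G ⧸ N))) _ ⟨_, v.toMul.2, rfl⟩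
      exact mul_inv_eq_one.2 (mul_inv_eq_iff_eq_mul.2 this.symm))
    refine fix_of_coprime (f := MulAut.conjNormal ⁅y, x⁆) (y := v.toMul) (Subtype.ext (mul_inv_eq_iff_eq_mul.2
      (CF.SolvStr.commutator_le_centralizer_of_isCyclic N a1 _ a2).symm)) ?_
      (Subtype.ext (h6.2 _ a2)) (hp.coprime_iff_not_dvd.2 S.not_dvd_index)
    rw [← map_pow]
    exact MulEquiv.ext fun w => Subtype.ext (mul_inv_eq_iff_eq_mul.2 (congrArg Subtype.val
      (mul_comm (⟨_, S.1.pow_index_mem _⟩ : S.1) w))))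
  rw [ob_range, index_top] at h12
  exact hc (le_of_J S.1 (num_one (f := 1) (by omega) h12 h8.ge ((Nat.pow_le_pow_right hp.pos one_le_two).trans h8.ge)))

end CF.Fgs2.HK
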