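import Cfsg.Agent.Fgs2.Isa5
import Cfsg.Agent.Classical.PGL2
import Cfsg.Agent.Classical.KleinCases

/-!
Finite groups with a faithful irreducible character of degree two.
-/

set_option autoImplicit false

namespace CF.Fgs2.Isa

open Cfsg Subgroup CF.BG CF.Clifford CF.Char CF.Classical Matrix MulAction
open scoped MatrixGroups OnePoint

variable {G : Type*} [Group G] [Finite G] {χ : G → ℂ}

theorem exists_pgl {n : ℕ} (hχ : IsIrrCharacter G χ) (e : χ 1 = n) (hf : ∀ g, χ g = χ 1 → g = 1) :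
    ∃ φ : G →* PGL(n, ℂ), φ.ker = center G := by
  obtain ⟨m, ρ, i, rfl⟩ := hχ
  obtain rfl : m = n := by simpa using e
  let f := (GeneralLinearGroup.toLin (n := Fin m) (R := ℂ)).symm.toMonoidHom.comp ρ.asGroupHom
  have v : ∀ g, ((GeneralLinearGroup.toLin (f g) : LinearMap.GeneralLinearGroup _ _) :
      Module.End ℂ (Fin m → ℂ)) = ρ g := fun g => by simp [f, Representation.asGroupHom_apply]
  have inj : Function.Injective f := (injective_iff_map_eq_one f).2 fun g h => hf g (by
    simp only [Representation.character, ← v, h, map_one])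
  refine ⟨ProjGenLinGroup.mk.comp f, ext fun g => ?_⟩
  simp only [MonoidHom.mem_ker, MonoidHom.comp_apply, ProjGenLinGroup.mk_eq_one, mem_center_iff]
  refine ⟨fun h x => inj (by rw [map_mul, map_mul, h]), fun h x => ?_⟩
  obtain ⟨c, hc⟩ := schur ρ (ρ g) fun x => by
    rw [← Module.End.mul_eq_comp, ← Module.End.mul_eq_comp, ← map_mul, ← map_mul, h]
  refine GeneralLinearGroup.toLin.injective (Units.ext ?_)
  simp only [map_mul, Units.val_mul, v, hc]
  ext; simp

theorem unip_eq_bot (H : Subgroup PGL(2, ℂ)) [Finite H] (x : OnePoint ℂ) : unip H x = ⊥ := by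
  refine unip_eq_bot_iff.2 fun g h => ?_
  obtain ⟨c, rfl⟩ := exists_smul_infty_eq x
  obtain ⟨β, b, e⟩ := isUnip_infty_iff.1 (isUnip_conj_iff.1 (show IsUnip (g : PGL(2, ℂ)) _ from h))
  have : (c⁻¹ * g * c⁻¹⁻¹) ^ orderOf g = 1 := by
    rw [conj_pow, ← coe_pow, pow_orderOf_eq_one]; simp
  rw [inv_inv, e, aff_one_pow, aff_eq_one_iff] at this
  exact mul_ne_zero (Nat.cast_ne_zero.2 (orderOf_pos g).ne') b this.2

theorem abel_comap {Q : Type*} [Group Q] (φ : G →* Q) (h : φ.ker ≤ center G) (S : Subgroup Q)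
    [IsCyclic S] : Abel (S.comap φ) := fun a ha b hb =>
  congrArg Subtype.val (commutative_of_cyclic_center_quotient (φ.subgroupComap S)
    (fun x hx => mem_center_iff.2 fun y => Subtype.ext
      (mem_center_iff.1 (h (congrArg Subtype.val hx :)) y)) ⟨b, hb⟩ ⟨a, ha⟩)

theorem deg_two (hχ : IsIrrCharacter G χ) (e : χ 1 = 2) (hf : ∀ g, χ g = χ 1 → g = 1) :
    (∃ A : Subgroup G, Abel A ∧ A.index ≤ 2) ∨ (center G).index = 12 ∨ (center G).index = 24 ∨
      (center G).index = 60 := by
  obtain ⟨φ, h⟩ := exists_pgl (n := 2) hχ e hf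
  have : Finite φ.range := Finite.of_surjective _ φ.rangeRestrict_surjective
  have u := unip_eq_bot φ.range
  have o : ∀ x : OnePoint ℂ, (orbit φ.range x).ncard ≤ 2 →
      ∃ A : Subgroup G, Abel A ∧ A.index ≤ 2 := fun x hx => by
    have := isCyclic_stabilizer (u x)
    refine ⟨_, abel_comap φ.rangeRestrict (by rw [MonoidHom.ker_rangeRestrict, h])
      (stabilizer φ.range x), ?_⟩
    rwa [index_comap_of_surjective _ φ.rangeRestrict_surjective, index_stabilizer]
  rw [← h, index_ker]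
  rcases klein_semisimple_cases u with ⟨x, hx⟩ | ⟨x, hx⟩ | k | k | k
  · refine .inl (o x ((Set.ncard_le_ncard (t := {x}) ?_).trans (by simp)))
    rintro _ ⟨g, rfl⟩
    exact hx g
  · exact .inl (o x hx.le)
  · exact .inr (.inl k.1)
  · exact .inr (.inr (.inl k.1))
  · exact .inr (.inr (.inr k.1))

end CF.Fgs2.Isa
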