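import Cfsg.Agent.Fgs2.Isa8
import Cfsg.Agent.BG2.P4c
import Cfsg.Agent.Clifford.Glaub

/-!
Winter's theorem on the degrees of solvable linear groups with a non-normal Sylow subgroup.
-/

set_option autoImplicit false

namespace CF.Fgs2.Isa

open Cfsg Subgroup CF.BG CF.BG2 CF.Clifford CF.Char

universe u

variable {G : Type u} [Group G] [Finite G] {χ : G → ℂ} {d n p r : ℕ}

theorem exists_pow_dvd_index (hp : p.Prime) (k : ℕ) : ∀ (G : Type u) [Group G] [Finite G],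
    Nat.card G = k → Group.IsSolvable G → ∀ T : Subgroup G, ¬ p ∣ T.index → ∀ x, PiElt {p} x →
      x ∉ T → ∃ q, IsPrimePow q ∧ q ∣ T.index ∧ q ≡ 1 [MOD p] := by
  induction k using Nat.strong_induction_on with | _ k ih =>
  rintro G _ _ rfl s T i x hx xT
  obtain ⟨N, -, m⟩ := exists_minN (K := ⊤) (A := (⊤ : Subgroup G))
    (fun h => xT ((h.le.trans bot_le : ⊤ ≤ T) (mem_top x))) (by simp)
  have n : N.Normal := normalIn_top.1 ⟨le_top, m.norm⟩
  obtain ⟨r, hr, a⟩ := m.exists_abelem inferInstance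
  let f := QuotientGroup.mk' N
  have d := T.index_map_dvd (f := f) (QuotientGroup.mk'_surjective N)
  by_cases h : f x ∈ T.map f
  swap
  · obtain ⟨q, b, c, e⟩ := ih _ (CF.Solv.card_quotient_lt m.ne_bot) (G ⧸ N) rfl inferInstance _
      (fun w => i (w.trans d)) _ (hx.map f) h
    exact ⟨q, b, c.trans d, e⟩
  rw [← mem_comap, comap_map_eq, QuotientGroup.ker_mk'] at h
  have d2 : (N ⊓ T).relIndex N ∣ T.index := by
    rw [inf_relIndex_left, ← relIndex_sup_norm' (.inr (le_top.trans m.norm))]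
    exact relIndex_dvd_index_of_le le_sup_left
  obtain ⟨P, hP⟩ := exists_syl p T
  obtain ⟨g, hg, l⟩ := (hP.trans_idx le_sup_left ((piNat_compl_single hp).2 fun w =>
    i (w.trans (relIndex_dvd_index_of_le le_sup_left)))).syl_le_cj (zpowers_le.2 h) hx.zpowers
  have rp : ¬ p ∣ ♯N := fun w => by
    obtain rfl := (a.pi p hp w :)
    have : N ≤ T := a.pi.le_of_relIndex' ((piNat_compl_single hp).2 fun w =>
      i (w.trans (inf_relIndex_left N T ▸ d2)))
    exact xT (sup_eq_left.2 this ▸ h)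
  have nP : P ≤ 𝐍 N := le_top.trans m.norm
  let U := (N ⊓ T) ⊔ (N ⊓ 𝐂 P)
  have uN : U ≤ N := sup_le inf_le_left inf_le_left
  have c := card_modEq_card_cent hp hP.pi (K := U) (norm_sup (norm_inf nP (norm_of_le hP.le))
    (norm_inf_cent nP (le_norm_self P)))
  rw [show U ⊓ 𝐂 P = N ⊓ 𝐂 P from le_antisymm (inf_le_inf_right _ uN)
    (le_inf le_sup_right inf_le_right)] at c
  have c := (card_modEq_card_cent hp hP.pi nP).trans c.symm
  rw [← card_mul_relIndex uN] at c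
  obtain ⟨j, hj⟩ := (a.pi.relIndex U).exists_pow (relIndex_ne_zero' _ _)
  refine ⟨U.relIndex N, ⟨r, j, hr.prime, Nat.pos_of_ne_zero ?_, hj.symm⟩,
    (relIndex_dvd_of_le_left N le_sup_left).trans d2, Nat.ModEq.cancel_left_of_coprime
      (hp.coprime_iff_not_dvd.2 fun w => rp (w.trans (card_dvd_of_le uN))) (by rwa [mul_one])⟩
  rintro rfl
  rw [pow_zero, relIndex_eq_one] at hj
  obtain ⟨t, ht, v, hv, rfl⟩ := (mem_sup_norm (le_top.trans m.norm)).1 hg
  obtain ⟨b, hb, c, hc, rfl⟩ := (mem_sup_norm (a.abel.cent inf_le_left inf_le_left |>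
    norm_of_cent)).1 (hj hv)
  obtain ⟨y, hy, rfl⟩ := mem_cj_iff.1 (l (mem_zpowers x))
  refine xT ?_
  rw [show t * (b * c) * y * (t * (b * c))⁻¹ = t * b * (c * y) * c⁻¹ * (t * b)⁻¹ by group,
    ← hc.2 y hy, mul_assoc (t * b), mul_inv_cancel_right]
  exact T.mul_mem (T.mul_mem (T.mul_mem ht hb.2) (hP.le hy)) (T.inv_mem (T.mul_mem ht hb.2))

/-- `q` is a prime power dividing `n` and congruent to `± 1` modulo `p`. -/
def Win (p n q : ℕ) : Prop :=
  IsPrimePow q ∧ q ∣ n ∧ ((q : ℤ) ≡ -1 [ZMOD p] ∨ (q : ℤ) ≡ 1 [ZMOD p])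

theorem mem_ker_or_win {N : Type*} [Group N] [Finite N] (E : NormalEmb N G) (hp : p.Prime)
    (hr : r.Prime) (rp : r ≠ p) (k : IsPGroup r N) (i : PiNat {p} E.index) {x : G}
    (hx : PiElt {p} x) {θ : N → ℂ} (hθ : IsIrrCharacter N θ) (v : E.Invariant θ) (e : θ 1 = d) :
    (∀ y, y * (E.c x y)⁻¹ ∈ charKer θ) ∨ ∃ q, Win p d q := by
  have := Fact.mk hr
  obtain ⟨a, ha⟩ := IsPGroup.iff_card.1 k
  have co : PiNat {p}ᶜ (Nat.card N) := ha ▸ ((piNat_prime hr).2 rp).pow a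
  obtain ⟨ψ, c, f, -⟩ := E.exists_canon (i.coprime co) hθ v
  have s : CycSetup E x (fixA {E.c x}).subtype :=
    ⟨hx.coprime co, subtype_injective _, fun g => by simp [mem_fixA]⟩
  obtain ⟨β, ε, hβ, hε, w⟩ := s.exists_sign (i.coprime co) c
  obtain ⟨b, hb, e'⟩ := exists_cd hβ
  have w := w 1
  rw [map_one, map_one, one_mul, e'] at w
  have f1 : ψ 1 = d := by rw [← e, ← f, map_one]
  have cψ := irr_isCharacter c.irr
  have nε : ‖(ε : ℂ)‖ = 1 := by rcases hε with rfl | rfl <;> simp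
  obtain ⟨j, -, rfl⟩ := (Nat.dvd_prime_pow hr).1 (ha ▸ cd_dvd_card (cd_of_irr hθ e))
  obtain ⟨t, -, rfl⟩ := (Nat.dvd_prime_pow hr).1
    (ha ▸ (cd_dvd_card hb).trans (card_subgroup_dvd_card _))
  have l := char_norm_le cψ x
  rw [w, f1, norm_mul, nε, one_mul, Complex.norm_natCast, Complex.norm_natCast, Nat.cast_le,
    Nat.pow_le_pow_iff_right hr.one_lt] at l
  obtain ⟨m, rfl⟩ := Nat.exists_eq_add_of_le l
  rcases m.eq_zero_or_pos with rfl | m0
  · refine .inl fun y => (mem_charKer_iff (irr_isCharacter hθ)).2 ?_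
    have := commutator_mem_charKer_of_mem_charCenter (char_isClassFunction cψ)
      ((mem_charCenter_iff cψ).2 (by rw [w, f1, norm_mul, nε, one_mul, add_zero])) (E.ι y)
    rw [← f, ← f, map_one, ← (mem_charKer_iff cψ).1 (inv_mem this), map_mul, map_inv, E.ι_c]
    congr 1; group
  · obtain ⟨o, ho⟩ := hx.exists_pow (orderOf_pos x).ne'
    have := gen_modEq_one (gen_of_char cψ) hp (k := o) (ho ▸ pow_orderOf_eq_one x)
      (a := ε * (r ^ t : ℕ)) (b := (r ^ (t + m) : ℕ)) (by rw [w]; simp) (by rw [f1]; simp)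
    rw [pow_add, Nat.cast_mul, mul_comm ε] at this
    have := (Int.ModEq.cancel_left_div_gcd (by exact_mod_cast hp.pos) this).symm
    rw [Int.gcd_natCast_natCast, ((Nat.coprime_primes hp hr).2 rp.symm).pow_right t, Nat.cast_one,
      Int.ediv_one] at this
    refine .inr ⟨r ^ m, ⟨r, m, hr.prime, m0, rfl⟩, pow_dvd_pow r (by omega), ?_⟩
    rcases hε with rfl | rfl
    exacts [.inr this, .inl this]

theorem mem_ker_or_win' {R : Subgroup G} (hp : p.Prime) (hr : r.Prime) (rp : r ≠ p)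
    (k : PiGrp {r} R) {x : G} (hx : PiElt {p} x) (n : x ∈ 𝐍 R) {θ : R → ℂ}
    (hθ : IsIrrCharacter R θ) (v : ∀ y : R, θ ⟨x * y * x⁻¹, conj_mem_of_norm n y.2⟩ = θ y)
    (e : θ 1 = d) :
    (∀ y : R, y * ⟨x * y * x⁻¹, conj_mem_of_norm n y.2⟩⁻¹ ∈ charKer θ) ∨ ∃ q, Win p d q := by
  have n' := zpowers_le.2 n
  let E := NormalEmb.ofLe (le_sup_left : R ≤ R ⊔ zpowers x) fun t ht y =>
    conj_mem_of_norm (sup_le (le_norm_self R) n' ht)
  let z : ↥(R ⊔ zpowers x) := ⟨x, mem_sup_right (mem_zpowers x)⟩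
  refine mem_ker_or_win E hp hr rp k.isPGroup ?_ (x := z) (by rwa [PiElt, ← orderOf_coe]) hθ
    (E.invariant_iff_inertia.2 (eq_top_iff.2 ?_)) e
  · rw [NormalEmb.index_ofLe, relIndex_sup_norm' (.inl n')]
    exact hx.zpowers.relIndex R
  · rintro ⟨_, h⟩ -
    obtain ⟨a, ha, b, hb, rfl⟩ := (mem_sup_norm' n').1 h
    refine (E.inertia θ).mul_mem (E.ι_mem_inertia (irr_isClassFunction hθ) ⟨a, ha⟩)
      (show ⟨b, mem_sup_right hb⟩ ∈ _ from zpowers_le.2 (E.mem_inertia'.2 v : z ∈ _) ?_)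
    obtain ⟨j, rfl⟩ := hb
    exact ⟨j, rfl⟩

theorem mem_cent_of_ker {R : Subgroup G} [Fintype R] (hχ : IsCharacter G χ) (f : charKer χ = ⊥)
    {x : G} (n : x ∈ 𝐍 R) (h : ∀ θ, IsIrrCharacter R θ → classInner (fun y : R => χ y) θ ≠ 0 →
      ∀ y : R, y * ⟨x * y * x⁻¹, conj_mem_of_norm n y.2⟩⁻¹ ∈ charKer θ) : x ∈ 𝐂 R :=
  mem_cent.2 fun y hy => by
    have := mem_charKer_of_constituents (char_isClassFunction (char_restrict hχ R))
      fun θ a b => h θ a b ⟨y, hy⟩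
    rw [charKer_restrict hχ, f, bot_subgroupOf, mem_bot, mul_inv_eq_one, Subtype.ext_iff] at this
    exact mul_inv_eq_iff_eq_mul.1 this.symm |>.symm

theorem winter (s : Group.IsSolvable G) (hp : p.Prime) (hχ : IsIrrCharacter G χ) (e : χ 1 = n)
    (f : charKer χ = ⊥) (i : ¬ p ∣ n) (h : ∀ q, ¬ Win p n q) {x : G} (hx : PiElt {p} x) :
    x ∈ 𝐅 (⊤ : Subgroup G) := by
  refine Sol.cent_F_le inferInstance ⟨trivial, cent_symm (F_le_of_forall fun r hr _ => ?_)
    (mem_zpowers x)⟩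
  have : (𝐎 {r} (⊤ : Subgroup G)).Normal := normalIn_top.1 (O_normal _ _)
  have k := O_pi {r} (⊤ : Subgroup G)
  generalize 𝐎 {r} (⊤ : Subgroup G) = R at *
  have := Fintype.ofFinite G
  have := Fintype.ofFinite R
  have nx : x ∈ 𝐍 R := (normalIn_top.2 ‹_›).norm trivial
  refine cent_symm (zpowers_le.2 (mem_cent_of_ker (irr_isCharacter hχ) f nx fun θ hθ j => ?_))
  let E := NormalEmb.sub R
  obtain ⟨d, hd, e'⟩ := exists_cd hθ
  obtain ⟨m, hm⟩ := inner_char_eq_nat (char_restrict (irr_isCharacter hχ) R) (irr_isCharacter hθ)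
  have c := E.clifford_one hχ hθ j
  rw [show classInner (fun x => χ (E.ι x)) θ = m from hm, e, e'] at c
  have c : n = m * ((E.inertia θ).index * d) := by exact_mod_cast c
  have d1 : (E.inertia θ).index ∣ n := c ▸ (dvd_mul_right _ _).mul_left _
  have d2 : d ∣ n := c ▸ (dvd_mul_left _ _).mul_left _
  have v : x ∈ E.inertia θ := by
    by_contra w
    obtain ⟨q, a, b, c⟩ := exists_pow_dvd_index hp _ G rfl s _ (fun w => i (w.trans d1)) x hx w
    exact h q ⟨a, b.trans d1, .inr (Int.natCast_modEq_iff.2 c)⟩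
  by_cases rp : r = p
  · subst rp
    obtain ⟨a, ha⟩ := k.card_pow
    obtain ⟨_ | t, -, rfl⟩ := (Nat.dvd_prime_pow hr).1 (ha ▸ cd_dvd_card hd)
    · obtain ⟨l, rfl⟩ := exists_linear_of_one (irr_isCharacter hθ) (by simpa using e')
      intro y
      rw [charKer_linear, MonoidHom.mem_ker, map_mul, map_inv, mul_inv_eq_one]
      exact Units.ext (E.mem_inertia'.1 v y).symm
    · exact (i ((dvd_pow_self r t.succ_ne_zero).trans d2)).elim
  · exact (mem_ker_or_win' hp hr rp k hx nx hθ (E.mem_inertia'.1 v) e').resolve_right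
      fun ⟨q, a, b, c⟩ => h q ⟨a, b.trans d2, c⟩

theorem inv_of_lt {R : Subgroup G} [Fintype R] (hp : p.Prime) (hχ : IsCharacter G χ) (e : χ 1 = n)
    (l : n < p) {x : G} (hx : PiElt {p} x) (nx : x ∈ 𝐍 R) {θ : R → ℂ} (hθ : IsIrrCharacter R θ)
    (i : classInner (fun y : R => χ y) θ ≠ 0) (y : R) :
    θ ⟨x * y * x⁻¹, conj_mem_of_norm nx y.2⟩ = θ y := by
  have n' := zpowers_le.2 nx
  let E := NormalEmb.ofLe (le_sup_left : R ≤ R ⊔ zpowers x) fun t ht y =>
    conj_mem_of_norm (sup_le (le_norm_self R) n' ht)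
  have := Fintype.ofFinite ↥(R ⊔ zpowers x)
  have c := char_restrict hχ (R ⊔ zpowers x)
  obtain ⟨ψ, hψ, a, b⟩ := exists_irr_comp_inner_ne_zero E.ι (char_isClassFunction c) i
  obtain ⟨d, hd, e1⟩ := exists_cd hψ
  obtain ⟨t, -, e2⟩ := exists_cd hθ
  obtain ⟨m, hm⟩ := inner_char_eq_nat (char_comp (irr_isCharacter hψ) E.ι) (irr_isCharacter hθ)
  have w := E.clifford_one hψ hθ b
  rw [hm, e1, e2] at w
  have w : d = m * ((E.inertia θ).index * t) := by exact_mod_cast w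
  have l := ((Nat.le_of_dvd (cd_pos hd) (w ▸ (dvd_mul_right _ _).mul_left _ :
    (E.inertia θ).index ∣ d)).trans (one_le_of_inner_ne_zero c hψ a e e1)).trans_lt l
  have k : PiNat {p} E.index := by
    rw [NormalEmb.index_ofLe, relIndex_sup_norm' (.inl n')]
    exact hx.zpowers.relIndex R
  obtain ⟨_ | j, hj⟩ := (k.dvd (index_dvd_of_le (E.range_le_inertia
    (irr_isClassFunction hθ)))).exists_pow index_ne_zero_of_finite
  · exact E.invariant_iff_inertia.2 (index_eq_one.1 hj) ⟨x, mem_sup_right (mem_zpowers x)⟩ y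
  · exact absurd (Nat.le_self_pow j.succ_ne_zero p) (hj ▸ l).not_ge

theorem normal_of_cent [Fact p.Prime] (s : IsPSolvable p G) (P : Sylow p G)
    (h : ∀ r : ℕ, r.Prime → r ≠ p → ∀ R : Subgroup G, PiGrp {r} R → ∀ x ∈ P, x ∈ 𝐍 R → x ∈ 𝐂 R) :
    (P : Subgroup G).Normal := by
  have hp : p.Prime := Fact.out
  have hP := syl_sylow_top P
  have l : pCore p G ≤ P := pCore_eq (G := G) hp ▸ hP.O_le
  let f := QuotientGroup.mk' (pCore p G)
  have sj : Function.Surjective f := QuotientGroup.mk'_surjective _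
  have k : PiGrp {p}ᶜ (pPrimeCore p (G ⧸ pCore p G)) := pPrimeCore_eq (G := G ⧸ pCore p G) hp ▸ O_pi _ _
  have a := hP.pi.map f
  have c : pPrimeCore p (G ⧸ pCore p G) ≤ 𝐂 ((P : Subgroup G).map f) := by
    refine le_of_forall_syl fun r hr d => ?_
    obtain ⟨S, hS, n⟩ := exists_syl_inv (le_normalizer_of_normal (H := pPrimeCore p _))
      (a.coprime k) (.inl a.sol) r
    refine ⟨S, hS, cent_symm ?_⟩
    rintro _ ⟨x, hx, rfl⟩
    obtain ⟨R, hR⟩ := exists_syl r (S.comap f)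
    have e : R.map f = S := by
      have := hR.map f
      rw [map_comap_eq_self_of_surjective sj] at this
      exact this.eq_of_pi hS.pi
    obtain ⟨u, hu, b, hb, w⟩ := hR.syl_frattini (normalIn_norm _) (x := x)
      (le_normalizer_comap f (n ⟨x, hx, rfl⟩))
    rw [← e, comap_map_eq, QuotientGroup.ker_mk'] at hu
    obtain ⟨m, hm, ρ, hρ, rfl⟩ := (mem_sup_norm' le_normalizer_of_normal).1 (sup_comm R _ ▸ hu)
    have := map_cent (zpowers_le.2 (h r hr (k r hr d) R hR.pi (ρ * b) (by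
      rw [show ρ * b = m⁻¹ * x by rw [← w]; group]
      exact mul_mem (inv_mem (l hm)) hx) (mul_mem (le_norm_self R hρ) hb.2))) f
      ⟨_, mem_zpowers _, rfl⟩
    rwa [← e, ← w, mul_assoc, map_mul, show f m = 1 from (QuotientGroup.eq_one_iff m).2 hm,
      one_mul]
  have := a.eq_bot (k.le ((cent_symm c).trans (CF.Solv.centralizer_pPrimeCore_le_of_isPSolvable
    (CF.Solv.isPSolvable_quotient s _) CF.Solv.pCore_quotient_pCore)))
  rw [Subgroup.map_eq_bot_iff, QuotientGroup.ker_mk'] at this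
  exact le_antisymm l this ▸ inferInstance

end CF.Fgs2.Isa
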