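import Cfsg.Agent.Fgs2.Isa14
import Cfsg.Agent.Fgs2.Basic
import Mathlib.Combinatorics.SimpleGraph.Connectivity.Connected

/-!
The common-divisor graph on a relative degree set (Isaacs).
-/

set_option autoImplicit false

namespace CF.Fgs2.Isa

open Cfsg Subgroup CF.BG CF.Clifford CF.Char
open scoped commutatorElement ComplexConjugate

attribute [local instance] Fintype.ofFinite
attribute [-instance] MonoidHom.instPow MonoidHom.mul instOneMonoidHom MonoidHom.instInv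

universe u v

variable {G : Type u} [Group G] [Finite G] {χ : G → ℂ} {a b c d e k m n p q t : ℕ}
  {N : Subgroup G}

theorem orb_pow {A : Type v} [CommGroup A] [MulDistribMulAction G A] {x y : A}
    (h : (MulAction.stabilizer G y).index.Coprime (MulAction.stabilizer G x).index)
    (k : (MulAction.stabilizer G (x * y)).index.Coprime (MulAction.stabilizer G x).index) (g : G) :
    (g • x * x⁻¹) ^ (MulAction.stabilizer G y).index = 1 := by
  have : Finite (MulAction.orbit G y) := (Set.finite_range _).to_subtype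
  have f : ∀ z : MulAction.orbit G y, g • x * x⁻¹ * z ∈ MulAction.orbit G y := by
    rintro ⟨_, r, rfl⟩
    obtain ⟨s, s1, s', s2, e⟩ := exists_mul_of_coprime_index h (g⁻¹ * r)
    obtain ⟨t, t1, t', t2, e'⟩ := exists_mul_of_coprime_index k (g * s)
    refine ⟨t, ?_⟩
    have := congrArg (· • (x * y)) e'
    simp only [mul_smul, MulAction.mem_stabilizer_iff.1 t2] at this
    simp only [smul_mul', MulAction.mem_stabilizer_iff.1 s1,
      MulAction.mem_stabilizer_iff.1 t1] at this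
    rw [inv_mul_eq_iff_eq_mul] at e
    simp only [e, mul_smul, MulAction.mem_stabilizer_iff.1 s2]
    rw [mul_right_comm, this, mul_inv_cancel_comm]
  have := Equiv.prod_comp (Equiv.ofBijective (fun z : MulAction.orbit G y =>
    (⟨_, f z⟩ : MulAction.orbit G y)) (Finite.injective_iff_bijective.1
    fun z w e => Subtype.ext (mul_left_cancel (congrArg Subtype.val e)))) Subtype.val
  simp only [Equiv.ofBijective_apply, Finset.prod_mul_distrib, Finset.prod_const] at this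
  rw [MulAction.index_stabilizer, ← Nat.card_coe_set_eq, Nat.card_eq_fintype_card, mul_pow]
  exact mul_eq_right.1 this

/-- The conjugation action on the linear characters of a normal subgroup. -/
@[reducible] def linAct (N : Subgroup G) [N.Normal] : MulDistribMulAction G (N →* ℂˣ) where
  smul g μ := μ.comp ((NormalEmb.sub N).c g⁻¹).toMonoidHom
  one_smul μ := MonoidHom.ext fun x => by
    change μ ((NormalEmb.sub N).c 1⁻¹ x) = _
    simp
  mul_smul g h μ := MonoidHom.ext fun x => by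
    change μ ((NormalEmb.sub N).c (g * h)⁻¹ x) = μ ((NormalEmb.sub N).c h⁻¹ ((NormalEmb.sub N).c g⁻¹ x))
    simp
  smul_mul _ _ _ := rfl
  smul_one _ := rfl

omit [Finite G] in
theorem stab_linAct [N.Normal] (μ : N →* ℂˣ) :
    letI := linAct N; MulAction.stabilizer G μ = Il N μ := by
  ext g
  rw [← inv_mem_iff (H := Il N μ), mem_Il]
  exact DFunLike.ext_iff

theorem pow_card_lin (μ : N →* ℂˣ) : μ ^ ⁅N, N⁆.relIndex N = 1 :=
  have : (⁅N, N⁆.subgroupOf N).Normal := by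
    rw [subgroupOf_comm le_rfl le_rfl, subgroupOf_self]
    infer_instance
  pow_index_eq_one (W := ⁅N, N⁆.subgroupOf N) (by
    rw [subgroupOf_comm le_rfl le_rfl, subgroupOf_self]
    exact Abelianization.commutator_subset_ker μ)

theorem eq_one_of_pow {A : Type v} [Monoid A] {x : A} (h : x ^ m = 1) (k : x ^ n = 1)
    (c : m.Coprime n) : x = 1 := by
  rw [← pow_one x, ← c.gcd_eq_one]
  exact pow_gcd_eq_one.2 ⟨h, k⟩

theorem Il_eq_top [N.Normal] {μ ν : N →* ℂˣ} (h : (Il N ν).index.Coprime (Il N μ).index)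
    (k : (Il N (μ * ν)).index.Coprime (Il N μ).index) (o : μ ^ m = 1)
    (c : m.Coprime (Il N ν).index) : Il N μ = ⊤ := by
  letI := linAct N
  simp only [← stab_linAct] at *
  refine eq_top_iff.2 fun g _ => mul_inv_eq_one.1 (eq_one_of_pow ?_ (orb_pow h k g) c)
  rw [mul_pow, ← smul_pow', inv_pow, o, smul_one, inv_one]
  exact mul_one (1 : N →* ℂˣ)

/-- `d` is the degree of an irreducible character over `θ`. -/
def Kd (N : Subgroup G) (θ : N → ℂ) (d : ℕ) : Prop :=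
  ∃ χ, IsIrrCharacter G χ ∧ classInner (fun n : N => χ n) θ ≠ 0 ∧ χ 1 = d

theorem exists_Kd {θ : N → ℂ} (h : IsIrrCharacter N θ) : ∃ d, Kd N θ d := by
  obtain ⟨χ, x, y⟩ := CF.Char.exists_irr_over N h
  obtain ⟨d, -, z⟩ := exists_cd x
  exact ⟨d, χ, x, y, z⟩

theorem Kd.rc {θ : N → ℂ} (k : Kd N θ d) (h : IsIrrCharacter N θ) (o : θ ≠ fun _ => 1) :
    d ∈ 𝐫𝐜 N :=
  let ⟨_, x, y, z⟩ := k
  rc_of x (not_le_ker_of_over h o (irr_isCharacter x) y) z

theorem lin_ne {μ : N →* ℂˣ} (h : μ ≠ 1) : (fun n => (μ n : ℂ)) ≠ fun _ => 1 :=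
  fun w => h (linear_injective w)

theorem Kd.rc' {μ : N →* ℂˣ} (k : Kd N (fun n => μ n) d) (o : μ ≠ 1) : d ∈ 𝐫𝐜 N :=
  k.rc (irr_linear μ) (lin_ne o)

theorem Kd.dvd [N.Normal] {θ : N → ℂ} (k : Kd N θ d) (h : IsIrrCharacter N θ) (e : θ 1 = t) :
    ((NormalEmb.sub N).inertia θ).index * t ∣ d :=
  let ⟨_, x, y, z⟩ := k
  inertia_dvd _ h x y z e

theorem Kd.dvd' [N.Normal] {μ : N →* ℂˣ} (k : Kd N (fun n => μ n) d) : (Il N μ).index ∣ d :=
  (dvd_mul_right _ 1).trans (k.dvd (irr_linear μ) (by simp))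

theorem rc_cases [N.Normal] (h : d ∈ 𝐫𝐜 N) : (∃ μ : N →* ℂˣ, μ ≠ 1 ∧ Kd N (fun n => μ n) d) ∨
    d ∈ 𝐫𝐜 ⁅N, N⁆ ∧ ∃ θ t, IsIrrCharacter N θ ∧ θ 1 = (t : ℕ) ∧ t ≠ 1 ∧ Kd N θ d := by
  obtain ⟨χ, x, y, z⟩ := mem_rc.1 h
  obtain ⟨θ, u, v⟩ := CF.Char.exists_irr_under N x
  obtain ⟨t, -, w⟩ := exists_cd u
  by_cases e : t = 1
  · obtain ⟨μ, rfl⟩ := exists_linear_of_one (irr_isCharacter u) (by simpa [e] using w)
    exact .inl ⟨μ, fun e => y (le_charKer_of_inner_ne_zero x N (by rwa [e] at v)), χ, x, v, z⟩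
  refine .inr ⟨rc_of x (fun f => e (Nat.cast_injective (R := ℂ) (w.symm.trans (Eq.trans
    ((irr_one_eq_one_iff u).2 (le_trans ?_ (charKer_le_of_inner_ne_zero
      (char_restrict (irr_isCharacter x) N) u v))) Nat.cast_one.symm)))) z, θ, t, u, w, e, χ, x, v, z⟩
  rw [charKer_restrict (irr_isCharacter x), commutator_def, ← subgroupOf_self,
    ← subgroupOf_comm le_rfl le_rfl]
  exact subgroupOf_mono N f

theorem Kd.pow_eq_one [N.Normal] (l : N ≤ commutator G) {θ : N → ℂ} (h : IsIrrCharacter N θ)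
    (kd : Kd N θ d) {ν : N →* ℂˣ} (e : detHom (irr_isCharacter h) ^ k = ν) (i : Il N ν = ⊤) :
    ν ^ d = 1 := by
  obtain ⟨χ, x, y, z⟩ := kd
  have := Classical.decEq (N → ℂ)
  have c := (NormalEmb.sub N).clifford x h y
  obtain ⟨j, hj⟩ := inner_char_eq_nat (char_restrict (irr_isCharacter x) N) (irr_isCharacter h)
  obtain ⟨t, -, w⟩ := exists_cd h
  have c1 := (NormalEmb.sub N).clifford_one x h y
  simp only [NormalEmb.sub_ι, subtype_apply, hj, w, z] at c c1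
  have ch : ∀ φ ∈ Finset.univ.image ((NormalEmb.sub N).cj θ), IsCharacter N φ := fun φ hφ => by
    obtain ⟨g, -, rfl⟩ := Finset.mem_image.1 hφ
    exact (NormalEmb.sub N).cj_char (irr_isCharacter h) g
  have : ν ^ (j * ((NormalEmb.sub N).inertia θ).index) = 1 := MonoidHom.ext fun n => Units.ext (by
    have f := congrFun (congrArg detChar c) n
    rw [detChar_restrict (irr_isCharacter x), detChar_natCast_smul (char_sum _ ch),
      detChar_sum _ ch] at f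
    beta_reduce at f
    rw [← coe_detHom (irr_isCharacter x), MonoidHom.mem_ker.1
        (Abelianization.commutator_subset_ker _ (l n.2))] at f
    have f := congrArg (· ^ k) f
    simp only [Units.val_one, one_pow, Pi.pow_apply, Finset.prod_apply] at f
    rw [← pow_mul, mul_comm, pow_mul, ← Finset.prod_pow, Finset.prod_congr rfl
      (g := fun _ => (ν n : ℂ)) fun φ hφ => ?_, Finset.prod_const, NormalEmb.card_image_cj,
        ← pow_mul, mul_comm] at f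
    · simpa using f.symm
    obtain ⟨g, -, rfl⟩ := Finset.mem_image.1 hφ
    rw [← mem_Il.1 (i.ge (mem_top g)) n, ← e]
    exact congrArg (· ^ k) (congrFun (detChar_comp (irr_isCharacter h)
      ((NormalEmb.sub N).c g).toMonoidHom) n))
  rw [show d = j * ((NormalEmb.sub N).inertia θ).index * t by
    exact_mod_cast c1.trans (mul_assoc _ _ _).symm, pow_mul, this, one_pow]

theorem det_lin (μ : N →* ℂˣ) : detHom (irr_isCharacter (irr_linear μ)) = μ :=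
  MonoidHom.ext fun n => Units.ext (congrFun (detChar_linear μ) n)

theorem link [N.Normal] (l : N ≤ commutator G) {θ : N → ℂ} (h : IsIrrCharacter N θ)
    {ν : N →* ℂˣ} (e : detHom (irr_isCharacter h) ^ k = ν) (o : ν ≠ 1) (x : Kd N θ a)
    (y : Kd N (fun n => ν n) b) : ¬ a.Coprime b := fun c => by
  by_cases i : Il N ν = ⊤
  · exact o (eq_one_of_pow (x.pow_eq_one l h e i)
      (y.pow_eq_one l (irr_linear ν) (k := 1) (by rw [det_lin, pow_one]) i) c)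
  obtain ⟨t, -, w⟩ := exists_cd h
  refine i (index_eq_one.1 (Nat.eq_one_of_dvd_coprimes c ((index_dvd_of_le fun g hg =>
    mem_Il.2 fun n => ?_).trans ((dvd_mul_right _ _).trans (x.dvd h w))) y.dvd'))
  rw [← e, MonoidHom.pow_apply, MonoidHom.pow_apply, det_inv _ _ hg]

theorem link' [N.Normal] (l : N ≤ commutator G) {μ : N →* ℂˣ} (o : μ ^ k ≠ 1)
    (x : Kd N (fun n => μ n) a) (y : Kd N (fun n => (μ ^ k) n) b) : ¬ a.Coprime b :=
  link l (irr_linear μ) (by rw [det_lin]) o x y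

theorem twist [N.Normal] (l : N ≤ commutator G) {θ : N → ℂ} (h : IsIrrCharacter N θ) (w : θ 1 = t)
    (t1 : t ≠ 1) (x : Kd N θ a) {ν : N →* ℂˣ} (o : ν ≠ 1) (y : Kd N (fun n => ν n) b)
    (c : (t * k).Coprime m) (e : (ν * (detHom (irr_isCharacter h) ^ k)⁻¹) ^ m = 1) :
    ∃ d ∈ 𝐫𝐜 N, ¬ a.Coprime d ∧ ¬ d.Coprime b := by
  obtain ⟨j, hj⟩ := exists_pow_eq_self_of_coprime (c.coprime_dvd_right (orderOf_dvd_of_pow_eq_one e))
  generalize f : ν * (detHom (irr_isCharacter h) ^ k)⁻¹ = z at hj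
  have h' := irr_linear_mul (z ^ j) h
  have w' : ((z ^ j) 1 : ℂ) * θ 1 = t := by simp [w]
  obtain ⟨d, z1⟩ := exists_Kd h'
  refine ⟨d, z1.rc h' fun v => t1 (by exact_mod_cast w'.symm.trans (congrFun v 1)), fun v =>
    t1 (Nat.eq_one_of_dvd_coprimes v ((dvd_mul_left _ _).trans (x.dvd h w))
      ((dvd_mul_left _ _).trans (z1.dvd h' w'))), link l h' (k := k) ?_ o z1 y⟩
  have : detHom (irr_isCharacter h') = (z ^ j) ^ t * detHom (irr_isCharacter h) :=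
    MonoidHom.ext fun n => Units.ext (by
      simpa using detChar_linear_mul (z ^ j) (irr_isCharacter h) w n)
  rw [this, mul_pow, ← pow_mul, ← pow_mul, mul_comm j, pow_mul, hj, ← f, inv_mul_cancel_right]

theorem lin_lin [N.Normal] (l : N ≤ commutator G) {μ ν : N →* ℂˣ} (o : μ ≠ 1) (o' : ν ≠ 1)
    (x : Kd N (fun n => μ n) a) (y : Kd N (fun n => ν n) b) (e : μ ^ m = 1) (e' : ν ^ m = 1)
    (c : a.Coprime m) (c' : b.Coprime m) : ∃ d ∈ 𝐫𝐜 N, ¬ a.Coprime d ∧ ¬ d.Coprime b := by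
  have r := rc_ne_one l (x.rc' o)
  by_cases v : a.Coprime b
  swap
  · exact ⟨a, x.rc' o, by simpa using r, v⟩
  have i : Il N μ ≠ ⊤ := fun i => o (eq_one_of_pow
    (x.pow_eq_one l (irr_linear μ) (k := 1) (by rw [det_lin, pow_one]) i) e c)
  have i' : Il N ν ≠ ⊤ := fun i => o' (eq_one_of_pow
    (y.pow_eq_one l (irr_linear ν) (k := 1) (by rw [det_lin, pow_one]) i) e' c')
  have v' := (v.coprime_dvd_left x.dvd').coprime_dvd_right y.dvd'
  obtain ⟨d, z⟩ := exists_Kd (irr_linear (μ * ν))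
  refine ⟨d, z.rc' fun w => i' (Il_eq_top (m := m) v' ?_ e' (c.symm.coprime_dvd_right x.dvd')),
    fun w => i (Il_eq_top v'.symm ((w.symm.coprime_dvd_left z.dvd').coprime_dvd_right x.dvd') e
      (c'.symm.coprime_dvd_right y.dvd')), fun w => i' (Il_eq_top v' (mul_comm μ ν ▸
        (w.coprime_dvd_left z.dvd').coprime_dvd_right y.dvd') e'
          (c.symm.coprime_dvd_right x.dvd'))⟩
  rw [show ν * μ = 1 from (mul_comm ν μ).trans w, show Il N 1 = ⊤ from eq_top_iff.2 fun g _ => mem_Il.2 fun _ => rfl, index_top]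
  exact Nat.coprime_one_left _

/-- Reachability in the common-divisor graph. -/
def Rch (N : Subgroup G) (a b : ℕ) : Prop :=
  ∀ ha hb, (commonDivisorGraph.induce (𝐫𝐜 N)).Reachable ⟨a, ha⟩ ⟨b, hb⟩

theorem adj_of (ha : a ∈ 𝐫𝐜 N) (hb : b ∈ 𝐫𝐜 N) (h : ¬ a.Coprime b) (k : a ≠ b) :
    (commonDivisorGraph.induce (𝐫𝐜 N)).Adj ⟨a, ha⟩ ⟨b, hb⟩ :=
  ⟨k, lt_of_le_of_ne (Nat.gcd_pos_of_pos_left _ (rc_pos ha)) (Ne.symm h)⟩

theorem Rch.of (h : ¬ a.Coprime b) : Rch N a b := fun ha hb => by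
  obtain rfl | k := eq_or_ne a b
  exacts [.rfl, (adj_of ha hb h k).reachable]

omit [Finite G] in
theorem Rch.trans (h : Rch N a b) (hb : b ∈ 𝐫𝐜 N) (k : Rch N b c) : Rch N a c :=
  fun ha hc => (h ha hb).trans (k hb hc)

omit [Finite G] in
theorem Rch.symm (h : Rch N a b) : Rch N b a := fun ha hb => (h hb ha).symm

theorem Rch.two (h : ∃ d ∈ 𝐫𝐜 N, ¬ a.Coprime d ∧ ¬ d.Coprime b) : Rch N a b :=
  let ⟨_, x, y, z⟩ := h
  (Rch.of y).trans x (.of z)

theorem rch_pow [N.Normal] (l : N ≤ commutator G) {μ ν : N →* ℂˣ} (o : ν ^ k ≠ 1)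
    (e : μ ^ n = ν ^ k) (x : Kd N (fun n => μ n) a) (y : Kd N (fun n => ν n) b) : Rch N a b := by
  obtain ⟨d, z⟩ := exists_Kd (irr_linear (ν ^ k))
  exact (Rch.of (link' l (e ▸ o) x (e ▸ z))).trans (z.rc' o) (Rch.of (link' l o y z)).symm

theorem rch_cross [N.Normal] (l : N ≤ commutator G) {μ ν : N →* ℂˣ} (o : μ ≠ 1) (o' : ν ≠ 1)
    (e : μ ^ m = 1) (e' : ν ^ n = 1) (c : m.Coprime n) (x : Kd N (fun n => μ n) a)
    (y : Kd N (fun n => ν n) b) : Rch N a b := by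
  obtain ⟨d, z⟩ := exists_Kd (irr_linear (μ * ν))
  have u : μ ^ n ≠ 1 := fun w => o (eq_one_of_pow e w c)
  have f : (μ * ν) ^ n = μ ^ n := by rw [mul_pow, e']; exact mul_one (μ ^ n)
  exact (rch_pow l u f z x).symm.trans (z.rc' fun w => u (by rw [← f, w, one_pow]))
    (rch_pow l (fun w => o' (eq_one_of_pow w e' c)) (by rw [mul_pow, e]; exact one_mul (ν ^ m)) z y)

theorem rch_or [N.Normal] (l : N ≤ commutator G) (hp : p.Prime) (ha : a ∈ 𝐫𝐜 N) (h : ¬ p ∣ a) :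
    (∀ (ν : N →* ℂˣ) (s b : ℕ), ν ≠ 1 → ν ^ p ^ s = 1 → Kd N (fun n => ν n) b → Rch N a b) ∨
      ∃ (μ : N →* ℂˣ) (s : ℕ), μ ≠ 1 ∧ μ ^ p ^ s = 1 ∧ Kd N (fun n => μ n) a := by
  have m0 := relIndex_ne_zero' ⁅N, N⁆ N
  obtain ⟨u, w, e, c⟩ : ∃ u w, p ^ u * w = ⁅N, N⁆.relIndex N ∧ p.Coprime w :=
    ⟨_, _, Nat.ordProj_mul_ordCompl_eq_self _ p, Nat.coprime_ordCompl hp m0⟩
  obtain ⟨μ, o, x⟩ | ⟨-, θ, t, x1, x2, x3, x⟩ := rc_cases ha
  · by_cases v : μ ^ p ^ u = 1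
    · exact .inr ⟨μ, u, o, v, x⟩
    refine .inl fun ν s b o' e' y => ?_
    obtain ⟨d, z⟩ := exists_Kd (irr_linear (μ ^ p ^ u))
    exact (Rch.of (link' l v x z)).trans (z.rc' v) (rch_cross l v o' (m := w)
      (by rw [← pow_mul, e, pow_card_lin]) e' (c.symm.pow_right s) z y)
  refine .inl fun ν s b o' e' y => .two (twist l x1 x2 x3 x o' y (k := w) (m := p ^ (s + u))
    (Nat.Coprime.pow_right _ (Nat.Coprime.mul_left ((Nat.coprime_comm.1 (hp.coprime_iff_not_dvd.2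
      fun v => h (v.trans ((dvd_mul_left _ _).trans (x.dvd x1 x2))))))  c.symm)) ?_)
  rw [mul_pow, inv_pow, ← pow_mul, pow_add, pow_mul ν, e', one_pow, mul_comm w, mul_assoc, e,
    mul_comm, pow_mul, pow_card_lin, one_pow]
  exact mul_inv_cancel (1 : N →* ℂˣ)

theorem exists_lin_pow (hp : p.Prime) (h : p ∣ ⁅N, N⁆.relIndex N) :
    ∃ ν : N →* ℂˣ, ν ≠ 1 ∧ ν ^ p ^ 1 = 1 := by
  have := Fact.mk hp
  obtain ⟨ν, e⟩ := exists_prime_orderOf_dvd_card' (G := N →* ℂˣ) p (by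
    rwa [card_linear, commutator_def, ← subgroupOf_self, ← subgroupOf_comm le_rfl le_rfl])
  exact ⟨ν, fun w => hp.ne_one (by rw [← e, w, orderOf_one]), by rw [pow_one, ← e, pow_orderOf_eq_one]⟩

theorem rch_of_not_dvd [N.Normal] (l : N ≤ commutator G) (hp : p.Prime) (hq : q.Prime)
    (ha : a ∈ 𝐫𝐜 N) (hb : b ∈ 𝐫𝐜 N) (p1 : p ∣ ⁅N, N⁆.relIndex N) (q1 : q ∣ ⁅N, N⁆.relIndex N)
    (h : ¬ p ∣ a) (k : ¬ q ∣ b) : Rch N a b := by
  have Q : ∀ {p a : ℕ}, p.Prime → a ∈ 𝐫𝐜 N → p ∣ ⁅N, N⁆.relIndex N → ¬ p ∣ a →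
      ∃ (μ : N →* ℂˣ) (s d : ℕ), μ ≠ 1 ∧ μ ^ p ^ s = 1 ∧ Kd N (fun n => μ n) d ∧ Rch N a d :=
    fun hp ha p1 h => by
      obtain v | ⟨μ, s, x, y, z⟩ := rch_or l hp ha h
      · obtain ⟨ν, x, y⟩ := exists_lin_pow hp p1
        obtain ⟨d, z⟩ := exists_Kd (irr_linear ν)
        exact ⟨ν, 1, d, x, y, z, v ν 1 d x y z⟩
      · exact ⟨μ, s, _, x, y, z, fun _ _ => .rfl⟩
  obtain ⟨μ, s, d, x1, x2, x3, x4⟩ := Q hp ha p1 h
  obtain ⟨ν, s', d', y1, y2, y3, y4⟩ := Q hq hb q1 k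
  obtain rfl | e := eq_or_ne p q
  swap
  · exact (x4.trans (x3.rc' x1) (rch_cross l x1 y1 x2 y2
      (Nat.coprime_pow_primes _ _ hp hq e) x3 y3)).trans (y3.rc' y1) y4.symm
  obtain v | ⟨μ, s, x, y, z⟩ := rch_or l hp ha h
  · exact (v ν s' d' y1 y2 y3).trans (y3.rc' y1) y4.symm
  obtain v | ⟨ν, s', x', y', z'⟩ := rch_or l hp hb k
  · exact (v μ s a x y z).symm
  exact .two (lin_lin l x x' z z' (m := p ^ (s + s')) (by rw [pow_add, pow_mul, y, one_pow])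
    (by rw [add_comm, pow_add, pow_mul, y', one_pow])
    ((Nat.coprime_comm.1 (hp.coprime_iff_not_dvd.2 h)).pow_right _)
    ((Nat.coprime_comm.1 (hp.coprime_iff_not_dvd.2 k)).pow_right _))

theorem comp_cases [N.Normal] (l : N ≤ commutator G) (ha : a ∈ 𝐫𝐜 N) (hb : b ∈ 𝐫𝐜 N)
    (h : ¬ Rch N a b) : (a.Coprime (⁅N, N⁆.relIndex N) ∧
      ∀ r : ℕ, r.Prime → r ∣ ⁅N, N⁆.relIndex N → r ∣ b) ∨ (b.Coprime (⁅N, N⁆.relIndex N) ∧
        ∀ r : ℕ, r.Prime → r ∣ ⁅N, N⁆.relIndex N → r ∣ a) := by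
  have c : a.Coprime b := by_contra fun w => h (.of w)
  by_cases x : ∀ r : ℕ, r.Prime → r ∣ ⁅N, N⁆.relIndex N → r ∣ b
  · exact .inl ⟨coprime_of_primes fun r hr u v => not_dvd_of_coprime c hr u (x r hr v), x⟩
  by_cases y : ∀ r : ℕ, r.Prime → r ∣ ⁅N, N⁆.relIndex N → r ∣ a
  · exact .inr ⟨coprime_of_primes fun r hr u v => not_dvd_of_coprime c hr (y r hr v) u, y⟩
  push Not at x y
  obtain ⟨q, hq, q1, q2⟩ := x
  obtain ⟨p, hp, p1, p2⟩ := y
  exact absurd (rch_of_not_dvd l hp hq ha hb p1 q1 p2 q2) h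

theorem exists_prime_relIndex (h : ⁅N, N⁆ < N) : ∃ p : ℕ, p.Prime ∧ p ∣ ⁅N, N⁆.relIndex N :=
  Nat.exists_prime_and_dvd fun w => h.not_ge (relIndex_eq_one.1 w)

theorem dist_two (N : Subgroup G) : ∀ [N.Normal], Sol N → N ≤ commutator G → ∀ {a b c : ℕ},
    a ∈ 𝐫𝐜 N → b ∈ 𝐫𝐜 N → c ∈ 𝐫𝐜 N → (∀ r : ℕ, r.Prime → r ∣ ⁅N, N⁆.relIndex N → r ∣ c) →
      ¬ Rch N a c → ¬ Rch N b c → ∃ d ∈ 𝐫𝐜 N, ¬ a.Coprime d ∧ ¬ d.Coprime b := by
  induction N using card_induction with | _ N ih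
  intro _ s l a b c ha hb hc D x y
  have co : ∀ {a}, ¬ Rch N a c → a.Coprime (⁅N, N⁆.relIndex N) := fun x =>
    coprime_of_primes fun r hr u v => x (.of fun w => not_dvd_of_coprime w hr u (D r hr v))
  have tw : ∀ {a b t : ℕ} {θ : N → ℂ} {ν : N →* ℂˣ}, IsIrrCharacter N θ → θ 1 = t → t ≠ 1 →
      Kd N θ a → ν ≠ 1 → Kd N (fun n => ν n) b → ¬ Rch N a c →
        ∃ d ∈ 𝐫𝐜 N, ¬ a.Coprime d ∧ ¬ d.Coprime b := fun x1 x2 x3 x4 o z x =>
    twist l x1 x2 x3 x4 o z (k := 1) (by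
      rw [mul_one]
      exact (co x).coprime_dvd_left ((dvd_mul_left _ _).trans (x4.dvd x1 x2))) (pow_card_lin _)
  obtain ⟨μ, o, z⟩ | ⟨ha', θ, t, x1, x2, x3, x4⟩ := rc_cases ha <;>
    obtain ⟨ν, o', z'⟩ | ⟨hb', θ', t', y1, y2, y3, y4⟩ := rc_cases hb
  · exact lin_lin l o o' z z' (pow_card_lin _) (pow_card_lin _) (co x) (co y)
  · obtain ⟨d, u, v, w⟩ := tw y1 y2 y3 y4 o z y
    exact ⟨d, u, fun e => w e.symm, fun e => v e.symm⟩
  · exact tw x1 x2 x3 x4 o' z' x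
  obtain ⟨ν, o, z⟩ | ⟨hc', -⟩ := rc_cases hc
  · exact absurd (.two (tw x1 x2 x3 x4 o z x)) x
  have n1 : ⁅N, N⁆ ≠ ⊥ := fun w => by
    obtain ⟨χ, -, v, -⟩ := mem_rc.1 ha'
    exact v (w ▸ bot_le)
  have mo : ∀ {a}, a ∈ 𝐫𝐜 ⁅N, N⁆ → ¬ Rch N a c → ¬ Rch ⁅N, N⁆ a c := fun ha x v => x fun _ _ =>
    (v ha hc').map (SimpleGraph.induceHomOfLE _ (rc_mono (der_le N))).toHom
  have l' := (der_le N).trans l
  by_cases D' : ∀ r : ℕ, r.Prime → r ∣ ⁅⁅N, N⁆, ⁅N, N⁆⁆.relIndex ⁅N, N⁆ → r ∣ c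
  · obtain ⟨d, u, v⟩ := ih _ (card_lt (s.der_lt (ne_bot_mono n1 (der_le N)))) (s.mono (der_le N)) l'
      ha' hb' hc' D' (mo ha' x) (mo hb' y)
    exact ⟨d, rc_mono (der_le N) u, v⟩
  obtain ⟨p, hp, p1⟩ := exists_prime_relIndex ((s.mono (der_le N)).der_lt n1)
  exact ⟨a, ha, by simpa using rc_ne_one l ha, fun w => not_dvd_of_coprime w hp
    (((comp_cases l' ha' hc' (mo ha' x)).resolve_left fun v => D' v.2).2 p hp p1)
    (((comp_cases l' hb' hc' (mo hb' y)).resolve_left fun v => D' v.2).2 p hp p1)⟩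

end CF.Fgs2.Isa
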