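import Cfsg.Agent.Fgs2.FrobCount
import Mathlib

/-!
# Finite linear groups in characteristic `p` with bounded Sylow `p`-subgroups

A translation invariant space `W` of functions on a finite group in which some non-zero function
vanishes on a positive proportion of the group yields a subgroup of bounded index on which a
non-zero member of `W` vanishes.
-/

namespace CF.Fgs2

open Module

universe u v

/-- left translation of functions -/
def ltr {G : Type u} [Group G] (F : Type v) [Field F] (s : G) : (G → F) →ₗ[F] (G → F) :=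
  LinearMap.funLeft F F (fun x => s * x)

/-- right translation of functions -/
def rtr {G : Type u} [Group G] (F : Type v) [Field F] (s : G) : (G → F) →ₗ[F] (G → F) :=
  LinearMap.funLeft F F (fun x => x * s)

section
variable {G : Type u} [Group G] {F : Type v} [Field F]

@[simp] theorem ltr_apply (s : G) (f : G → F) (x : G) : ltr F s f x = f (s * x) := rfl
@[simp] theorem rtr_apply (s : G) (f : G → F) (x : G) : rtr F s f x = f (x * s) := rfl

/-- two-sided translation invariance -/
def Biinv (W : Submodule F (G → F)) : Prop :=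
  (∀ s : G, ∀ f ∈ W, ltr F s f ∈ W) ∧ ∀ s : G, ∀ f ∈ W, rtr F s f ∈ W

theorem sum_card_inter [Fintype G] [DecidableEq G] (Z : Finset G) :
    ∑ g : G, (Z.filter (fun x => g * x ∈ Z)).card = Z.card ^ 2 := by
  have h1 : ∀ g : G, (Z.filter (fun x => g * x ∈ Z)).card =
      ∑ x ∈ Z, if g * x ∈ Z then 1 else 0 := fun g => by
    rw [Finset.card_filter]
  simp_rw [h1]
  rw [Finset.sum_comm]
  have h2 : ∀ x ∈ Z, (∑ g : G, if g * x ∈ Z then 1 else 0) = Z.card := by
    intro x _
    rw [← Finset.card_filter]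
    refine Finset.card_bij (fun g _ => g * x) (fun g hg => (Finset.mem_filter.1 hg).2)
      (fun a _ b _ h => mul_right_cancel h) (fun y hy => ⟨y * x⁻¹, by simp [hy], by simp⟩)
  rw [Finset.sum_congr rfl h2, Finset.sum_const, smul_eq_mul, sq]

theorem arith_index {N s z t i : ℕ} (hN : N = s * i) (hz : N ≤ t * z) (h0 : 0 < N)
    (h : 2 * t ^ 2 * z ^ 2 ≤ 2 * t ^ 2 * (s * z) + N * N) : i ≤ 2 * t := by
  have hz0 : 0 < z := by
    rcases Nat.eq_zero_or_pos z with rfl | h
    · omega
    · exact h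
  have ht0 : 0 < t := by
    rcases Nat.eq_zero_or_pos t with rfl | h
    · omega
    · exact h
  have hs0 : 0 < s := by
    rcases Nat.eq_zero_or_pos s with rfl | h
    · omega
    · exact h
  have h1 : N * N ≤ t ^ 2 * z ^ 2 := by
    calc N * N ≤ (t * z) * (t * z) := Nat.mul_le_mul hz hz
      _ = t ^ 2 * z ^ 2 := by ring
  have h2 : t ^ 2 * (z * z) ≤ t ^ 2 * (2 * s * z) := by nlinarith
  have h3 : z * z ≤ 2 * s * z := Nat.le_of_mul_le_mul_left h2 (by positivity)
  have h4 : z ≤ 2 * s := Nat.le_of_mul_le_mul_right h3 hz0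
  have h5 : s * i ≤ s * (2 * t) := by
    calc s * i = N := hN.symm
      _ ≤ t * z := hz
      _ ≤ t * (2 * s) := Nat.mul_le_mul_left _ h4
      _ = s * (2 * t) := by ring
  exact Nat.le_of_mul_le_mul_left h5 hs0

end

theorem descent (k : ℕ) : ∀ t : ℕ, ∃ N : ℕ, ∀ (G : Type u) [Group G] [Finite G] (F : Type v)
    [Field F] (W U : Submodule F (G → F)), Biinv W → U ≤ W → U ≠ ⊥ →
    finrank F W ≤ finrank F U + k → Nat.card G ≤ t * {x | ∀ f ∈ U, f x = 0}.ncard →
    ∃ H : Subgroup G, H.index ≤ N ∧ ∃ f ∈ W, f ≠ 0 ∧ ∀ x ∈ H, f x = 0 := by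
  have key : ∀ (t : ℕ) (G : Type u) [Group G] [Finite G] (F : Type v)
      [Field F] (W U : Submodule F (G → F)), Biinv W → U ≤ W → U ≠ ⊥ →
      Nat.card G ≤ t * {x | ∀ f ∈ U, f x = 0}.ncard →
      (∃ H : Subgroup G, H.index ≤ 2 * t ∧ ∃ f ∈ W, f ≠ 0 ∧ ∀ x ∈ H, f x = 0) ∨
      ∃ U' : Submodule F (G → F), U < U' ∧ U' ≤ W ∧
        Nat.card G ≤ (2 * t ^ 2) * {x | ∀ f ∈ U', f x = 0}.ncard := by
    intro t G _ _ F _ W U hW hUW hU hZ
    classical
    have := Fintype.ofFinite G
    by_cases hex : ∃ U' : Submodule F (G → F), U < U' ∧ U' ≤ W ∧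
        Nat.card G ≤ (2 * t ^ 2) * {x | ∀ f ∈ U', f x = 0}.ncard
    · exact Or.inr hex
    left
    push Not at hex
    let S0 : Submonoid G :=
      { carrier := {s | ∀ f ∈ U, ltr F s f ∈ U}
        one_mem' := fun f hf => by
          have : ltr F (1 : G) f = f := by ext x; simp
          rwa [this]
        mul_mem' := fun {a b} ha hb f hf => by
          have : ltr F (a * b) f = ltr F b (ltr F a f) := by ext x; simp [mul_assoc]
          rw [this]; exact hb _ (ha _ hf) }
    let S : Subgroup G :=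
      { S0 with
        inv_mem' := fun {a} ha => by
          have h1 : a⁻¹ = a ^ (orderOf a - 1) := by
            have hp := orderOf_pos a
            rw [inv_eq_iff_mul_eq_one, ← pow_succ', Nat.sub_add_cancel hp, pow_orderOf_eq_one]
          rw [h1]; exact S0.pow_mem ha _ }
    have hS : ∀ s, s ∈ S ↔ ∀ f ∈ U, ltr F s f ∈ U := fun s => Iff.rfl
    set Z : Finset G := Finset.univ.filter (fun x => ∀ f ∈ U, f x = 0) with hZdef
    have hZc : {x | ∀ f ∈ U, f x = 0}.ncard = Z.card := by
      rw [← Set.ncard_coe_finset]; congr 1; ext x; simp [hZdef]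
    rw [hZc] at hZ
    have h0 : 0 < Nat.card G := Nat.card_pos
    have hsmall : ∀ g, g ∉ S → (2 * t ^ 2) * (Z.filter (fun x => g * x ∈ Z)).card ≤ Nat.card G := by
      intro g hg
      have hlt : U < U ⊔ U.map (ltr F g) := by
        refine lt_of_le_of_ne le_sup_left fun he => hg ((hS g).2 fun f hf => ?_)
        have h1 : ltr F g f ∈ U ⊔ U.map (ltr F g) :=
          Submodule.mem_sup_right (Submodule.mem_map_of_mem hf)
        rwa [← he] at h1
      have hle : U ⊔ U.map (ltr F g) ≤ W := by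
        refine sup_le hUW ?_
        rintro _ ⟨f, hf, rfl⟩
        exact hW.1 g f (hUW hf)
      have h1 := hex _ hlt hle
      refine le_trans (Nat.mul_le_mul_left _ ?_) h1.le
      rw [← Set.ncard_coe_finset]
      refine Set.ncard_le_ncard ?_ (Set.toFinite _)
      intro x hx
      simp only [hZdef, Finset.coe_filter, Finset.mem_filter, Finset.mem_univ, true_and,
        Set.mem_setOf_eq] at hx
      intro f hf
      obtain ⟨a, ha, _, ⟨b, hb, rfl⟩, rfl⟩ := Submodule.mem_sup.1 hf
      simp [hx.1 a ha, hx.2 b hb]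
    have hsum := sum_card_inter Z
    have hbound : 2 * t ^ 2 * Z.card ^ 2 ≤
        2 * t ^ 2 * (Nat.card S * Z.card) + Nat.card G * Nat.card G := by
      rw [← hsum, Finset.mul_sum,
        ← Finset.sum_filter_add_sum_filter_not Finset.univ (fun g => g ∈ S)]
      refine Nat.add_le_add ?_ ?_
      · rw [← Finset.mul_sum]
        refine Nat.mul_le_mul_left _ ?_
        refine le_trans (Finset.sum_le_card_nsmul _ _ Z.card fun g _ => Finset.card_filter_le _ _) ?_
        rw [smul_eq_mul, Nat.card_eq_fintype_card, Fintype.card_subtype]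
      · refine le_trans (Finset.sum_le_card_nsmul _ _ (Nat.card G) fun g hg =>
          hsmall g (Finset.mem_filter.1 hg).2) ?_
        rw [smul_eq_mul]
        refine Nat.mul_le_mul_right _ ?_
        rw [Nat.card_eq_fintype_card]
        exact Finset.card_le_univ _
    refine ⟨S, arith_index (S.card_mul_index).symm hZ h0 hbound, ?_⟩
    have hZne : Z.Nonempty := by
      rw [← Finset.card_pos]
      rcases Nat.eq_zero_or_pos Z.card with h | h
      · rw [h] at hZ; omega
      · exact h
    obtain ⟨z, hz⟩ := hZne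
    have hz' : ∀ f ∈ U, f z = 0 := by simpa [hZdef] using hz
    obtain ⟨f, hf, hf0⟩ := (Submodule.ne_bot_iff U).1 hU
    refine ⟨rtr F z f, hW.2 z f (hUW hf), fun h => hf0 ?_, fun x hx => ?_⟩
    · ext x
      have := congrFun h (x * z⁻¹)
      simpa using this
    · have := hz' _ ((hS x).1 hx f hf)
      simpa using this
  induction k with
  | zero =>
    intro t
    refine ⟨2 * t, fun G _ _ F _ W U hW hUW hU hk hZ => ?_⟩
    rcases key t G F W U hW hUW hU hZ with h | ⟨U', h1, h2, _⟩
    · exact h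
    · have := Submodule.finrank_lt_finrank_of_lt h1
      have := Submodule.finrank_mono h2
      omega
  | succ k ih =>
    intro t
    obtain ⟨N, hN⟩ := ih (2 * t ^ 2)
    refine ⟨max (2 * t) N, fun G _ _ F _ W U hW hUW hU hk hZ => ?_⟩
    rcases key t G F W U hW hUW hU hZ with ⟨H, h1, h2⟩ | ⟨U', h1, h2, h3⟩
    · exact ⟨H, h1.trans (le_max_left _ _), h2⟩
    · have h4 := Submodule.finrank_lt_finrank_of_lt h1
      obtain ⟨H, h5, h6⟩ := hN G F W U' hW h2 (ne_bot_of_gt h1) (by omega) h3
      exact ⟨H, h5.trans (le_max_right _ _), h6⟩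

section
variable {F : Type v} [Field F] {A : Type*} [Ring A] [Algebra F A] [Module.Finite F A]

/-- dimension of the algebra generated by one element -/
noncomputable def adim (F : Type v) [Field F] {A : Type*} [Ring A] [Algebra F A] (x : A) : ℕ :=
  finrank F (Subalgebra.toSubmodule (Algebra.adjoin F {x}))

theorem adim_eq (x : A) : adim F x = (minpoly F x).natDegree := by
  classical
  have hx : IsIntegral F x := Algebra.IsIntegral.isIntegral x
  rw [adim, ← Submodule.span_range_natDegree_eq_adjoin (minpoly.monic hx) (minpoly.aeval _ _)]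
  have h1 : ((Finset.image (x ^ ·) (Finset.range (minpoly F x).natDegree) : Finset A) : Set A) =
      Set.range fun i : Fin (minpoly F x).natDegree => x ^ (i : ℕ) := by
    ext y
    simp only [Finset.coe_image, Finset.coe_range, Set.mem_image, Set.mem_Iio, Set.mem_range]
    exact ⟨fun ⟨i, hi, h⟩ => ⟨⟨i, hi⟩, h⟩, fun ⟨i, h⟩ => ⟨i, i.2, h⟩⟩
  rw [h1, finrank_span_eq_card (linearIndependent_pow x), Fintype.card_fin]

theorem adim_le (x : A) : adim F x ≤ finrank F A := Submodule.finrank_le _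

/-- the determinant test function -/
noncomputable def dtest {j : ℕ} (L : A →ₗ[F] (Fin j → F)) (x : A) : F :=
  Matrix.det (Matrix.of fun b a : Fin j => L (x ^ (b : ℕ)) a)

theorem exists_dtest (x : A) : ∃ L : A →ₗ[F] (Fin (adim F x) → F), dtest L x = 1 := by
  have h : LinearIndependent F fun i : Fin (adim F x) => x ^ (i : ℕ) := by
    rw [adim_eq]; exact linearIndependent_pow x
  have h1 := h.fintypeLinearCombination_injective
  obtain ⟨L, hL⟩ := LinearMap.exists_leftInverse_of_injective _ (LinearMap.ker_eq_bot.2 h1)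
  refine ⟨L, ?_⟩
  have h2 : (Matrix.of fun b a : Fin (adim F x) => L (x ^ (b : ℕ)) a) = 1 := by
    ext b a
    have h3 := LinearMap.congr_fun hL (Pi.single b 1)
    simp only [LinearMap.comp_apply, Fintype.linearCombination_apply_single, one_smul,
      LinearMap.id_apply] at h3
    rw [Matrix.of_apply, h3, Matrix.one_apply, Pi.single_apply]
    simp [eq_comm]
  rw [dtest, h2, Matrix.det_one]

theorem dtest_eq_zero {j : ℕ} (L : A →ₗ[F] (Fin j → F)) {x : A} (h : adim F x < j) :
    dtest L x = 0 := by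
  refine Matrix.det_eq_zero_of_not_linearIndependent_rows fun hl => ?_
  have h1 : LinearIndependent F fun b : Fin j => x ^ (b : ℕ) :=
    LinearIndependent.of_comp L hl
  have h2 : LinearIndependent F fun b : Fin j =>
      (⟨x ^ (b : ℕ), Subalgebra.pow_mem _ (Algebra.self_mem_adjoin_singleton F x) _⟩ :
        Subalgebra.toSubmodule (Algebra.adjoin F {x})) :=
    LinearIndependent.of_comp (Subalgebra.toSubmodule (Algebra.adjoin F {x})).subtype h1
  have h3 := h2.fintype_card_le_finrank
  rw [Fintype.card_fin] at h3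
  exact absurd h3 (not_le.2 h)

theorem adim_le_of_mem {x y : A} (h : x ∈ Algebra.adjoin F {y}) : adim F x ≤ adim F y :=
  Submodule.finrank_mono (Algebra.adjoin_le (Set.singleton_subset_iff.2 h))

theorem adim_lt_of_mem {x y : A} (h : x ∈ Algebra.adjoin F {y}) (h' : y ∉ Algebra.adjoin F {x}) :
    adim F x < adim F y := by
  refine Submodule.finrank_lt_finrank_of_lt (lt_of_le_of_ne
    (Algebra.adjoin_le (Set.singleton_subset_iff.2 h)) fun he => h' ?_)
  have : y ∈ Subalgebra.toSubmodule (Algebra.adjoin F {y}) := Algebra.self_mem_adjoin_singleton F y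
  rwa [← he] at this

omit [Module.Finite F A] in
theorem eq_zero_of_nilp {x z : A} {N : ℕ} (hN : (N : F) ≠ 0) (hx : x ^ N = 1)
    (hz : z ∈ Algebra.adjoin F {x}) (hn : IsNilpotent z) : z = 0 := by
  rw [Algebra.adjoin_singleton_eq_range_aeval] at hz
  obtain ⟨f, rfl⟩ := hz
  obtain ⟨k, hk⟩ := hn
  have hN0 : N ≠ 0 := by rintro rfl; simp at hN
  have hsep : (Polynomial.X ^ N - Polynomial.C (1 : F)).Separable :=
    Polynomial.separable_X_pow_sub_C 1 hN one_ne_zero
  have hdvd : minpoly F x ∣ Polynomial.X ^ N - Polynomial.C (1 : F) :=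
    minpoly.dvd F x (by simp [hx])
  have hsq : Squarefree (minpoly F x) := (hsep.of_dvd hdvd).squarefree
  have h1 : minpoly F x ∣ f ^ k := minpoly.dvd F x (by rw [map_pow]; exact hk)
  obtain ⟨c, hc⟩ := hsq.isRadical k f h1
  change Polynomial.aeval x f = 0
  rw [hc, map_mul, minpoly.aeval, zero_mul]

end

section
variable {G : Type u} [Group G] [Finite G] {F : Type v} [Field F] {A : Type*} [Ring A] [Algebra F A]
  [Module.Finite F A] {p : ℕ} [Fact p.Prime] [CharP F p]

omit [Module.Finite F A] [CharP F p] in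
theorem mem_adjoin_of_reg (ρ : G →* A) {g : G} {m : ℕ} (hg : ¬ p ∣ orderOf g) :
    ρ g ∈ Algebra.adjoin F {ρ g ^ p ^ m} := by
  have hc : (p ^ m).Coprime (orderOf g) :=
    Nat.Coprime.pow_left _ ((Nat.Prime.coprime_iff_not_dvd Fact.out).2 hg)
  obtain ⟨k, hk⟩ := exists_pow_eq_self_of_coprime hc
  have : ρ g = (ρ g ^ p ^ m) ^ k := by rw [← map_pow, ← map_pow, hk]
  rw [this]
  conv => enter [2]; rw [this]
  exact Subalgebra.pow_mem _ (Algebra.self_mem_adjoin_singleton F _) _

omit [Module.Finite F A] in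
theorem notMem_adjoin_of_sing {ρ : G →* A} (hρ : Function.Injective ρ) {g : G} {m : ℕ}
    (hm : (Nat.card G).factorization p ≤ m) (hg : p ∣ orderOf g) :
    ρ g ∉ Algebra.adjoin F {ρ g ^ p ^ m} := by
  intro h
  have hp : p.Prime := Fact.out
  have ho : orderOf g ≠ 0 := (orderOf_pos g).ne'
  set N := ordCompl[p] (orderOf g) with hN
  have hNp : ¬ p ∣ N := Nat.not_dvd_ordCompl hp ho
  have hNF : (N : F) ≠ 0 := by rwa [Ne, CharP.cast_eq_zero_iff F p]
  have hle : (orderOf g).factorization p ≤ m :=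
    le_trans ((Nat.factorization_le_iff_dvd ho Nat.card_pos.ne').2 (orderOf_dvd_natCard g) p) hm
  have hdvd : orderOf g ∣ p ^ m * N := by
    conv_lhs => rw [← Nat.ordProj_mul_ordCompl_eq_self (orderOf g) p]
    exact Nat.mul_dvd_mul_right (pow_dvd_pow p hle) _
  have hx : (ρ g ^ p ^ m) ^ N = 1 := by
    rw [← pow_mul, ← map_pow, orderOf_dvd_iff_pow_eq_one.1 hdvd, map_one]
  have hz : ρ g ^ N - 1 ∈ Algebra.adjoin F {ρ g ^ p ^ m} :=
    Subalgebra.sub_mem _ (Subalgebra.pow_mem _ h _) (Subalgebra.one_mem _)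
  have hA : Nontrivial A := by
    by_contra hA
    have := not_nontrivial_iff_subsingleton.1 hA
    have hg1 : g = 1 := hρ (Subsingleton.elim _ _)
    rw [hg1, orderOf_one] at hg
    exact hp.one_lt.ne' (Nat.dvd_one.1 hg)
  have : CharP A p := charP_of_injective_algebraMap (algebraMap F A).injective p
  have hn : IsNilpotent (ρ g ^ N - 1) := by
    refine ⟨p ^ m, ?_⟩
    rw [sub_pow_char_pow_of_commute p m (Commute.one_right _), one_pow, ← pow_mul, mul_comm,
      pow_mul, hx, sub_self]
  have h0 := eq_zero_of_nilp hNF hx hz hn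
  rw [sub_eq_zero, ← map_pow, ← map_one ρ] at h0
  exact hNp (hg.trans (orderOf_dvd_iff_pow_eq_one.2 (hρ h0)))

omit [CharP F p] in
theorem card_le_reg {m : ℕ} (hm : (Nat.card G).factorization p ≤ m) :
    Nat.card G ≤ p ^ m * {g : G | ¬ p ∣ orderOf g}.ncard ∧
    (p ∣ Nat.card G → Nat.card G ≤ p ^ m * {g : G | p ∣ orderOf g}.ncard) := by
  have hp : p.Prime := Fact.out
  have h0 : Nat.card G ≠ 0 := Nat.card_pos.ne'
  set N := ordCompl[p] (Nat.card G) with hN
  have hNd : N ∣ Nat.card G := Nat.ordCompl_dvd _ _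
  have hNp : ¬ p ∣ N := Nat.not_dvd_ordCompl hp h0
  have hG : Nat.card G ≤ p ^ m * N := by
    conv_lhs => rw [← Nat.ordProj_mul_ordCompl_eq_self (Nat.card G) p]
    exact Nat.mul_le_mul_right _ (Nat.pow_le_pow_right hp.pos hm)
  have h1 := dvd_card_pow_eq_one hNd
  have h2 : {g : G | ¬ p ∣ orderOf g} = {g : G | g ^ N = 1} := by
    ext g
    simp only [Set.mem_setOf_eq]
    rw [← orderOf_dvd_iff_pow_eq_one]
    refine ⟨fun h => ?_, fun h h' => hNp (h'.trans h)⟩
    have hc : (orderOf g).Coprime (ordProj[p] (Nat.card G)) :=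
      Nat.Coprime.pow_right _ ((Nat.Prime.coprime_iff_not_dvd hp).2 h).symm
    refine hc.dvd_of_dvd_mul_left ?_
    rw [Nat.ordProj_mul_ordCompl_eq_self]
    exact orderOf_dvd_natCard g
  have h3 : N ∣ {g : G | ¬ p ∣ orderOf g}.ncard := by
    rw [h2]; exact h1
  have h4 : {g : G | p ∣ orderOf g}.ncard + {g : G | ¬ p ∣ orderOf g}.ncard = Nat.card G :=
    Set.ncard_add_ncard_compl _
  refine ⟨hG.trans (Nat.mul_le_mul_left _ (Nat.le_of_dvd ?_ h3)), fun hd =>
    hG.trans (Nat.mul_le_mul_left _ (Nat.le_of_dvd ?_ ?_))⟩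
  · refine (Set.ncard_pos (Set.toFinite _)).2 ⟨1, ?_⟩
    simp [hp.one_lt.ne']
  · obtain ⟨g, hg⟩ := exists_prime_orderOf_dvd_card' p hd
    exact (Set.ncard_pos (Set.toFinite _)).2 ⟨g, by simp [hg]⟩
  · rw [← h4] at hNd
    exact (Nat.dvd_add_left h3).1 hNd

/-- `W` contains all test functions -/
def Good (q : ℕ) (ρ : G →* A) (W : Submodule F (G → F)) : Prop :=
  ∀ j ≤ finrank F A, ∀ e ≤ q, ∀ L : A →ₗ[F] (Fin j → F), (fun g => dtest L (ρ g ^ e)) ∈ W

theorem exists_test {ρ : G →* A} (hρ : Function.Injective ρ) {m : ℕ}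
    (hm : (Nat.card G).factorization p ≤ m) (hd : p ∣ Nat.card G) {W : Submodule F (G → F)}
    (hW : Good (p ^ m) ρ W) :
    ∃ f ∈ W, f ≠ 0 ∧ Nat.card G ≤ p ^ m * {x | f x = 0}.ncard := by
  have hp : p.Prime := Fact.out
  obtain ⟨g1, hg1⟩ := Finite.exists_max (fun g : G => adim F (ρ g))
  obtain ⟨g2, hg2⟩ := Finite.exists_max (fun g : G => adim F (ρ g ^ p ^ m))
  obtain ⟨h1, h2⟩ := card_le_reg hm
  by_cases h : adim F (ρ g2 ^ p ^ m) < adim F (ρ g1)
  · obtain ⟨L, hL⟩ := exists_dtest (F := F) (ρ g1)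
    refine ⟨_, hW _ (adim_le _) 1 (Nat.one_le_pow _ _ hp.pos) L, fun h0 => ?_, h1.trans ?_⟩
    · have := congrFun h0 g1
      simp [hL] at this
    · refine Nat.mul_le_mul_left _ (Set.ncard_le_ncard (fun g hg => ?_) (Set.toFinite _))
      simp only [Set.mem_setOf_eq, pow_one]
      exact dtest_eq_zero L
        (lt_of_le_of_lt ((adim_le_of_mem (mem_adjoin_of_reg ρ hg)).trans (hg2 g)) h)
  · obtain ⟨L, hL⟩ := exists_dtest (F := F) (ρ g2 ^ p ^ m)
    refine ⟨_, hW _ (adim_le _) (p ^ m) le_rfl L, fun h0 => ?_, (h2 hd).trans ?_⟩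
    · have := congrFun h0 g2
      simp [hL] at this
    · refine Nat.mul_le_mul_left _ (Set.ncard_le_ncard (fun g hg => ?_) (Set.toFinite _))
      simp only [Set.mem_setOf_eq]
      refine dtest_eq_zero L (lt_of_lt_of_le (adim_lt_of_mem
        (Subalgebra.pow_mem _ (Algebra.self_mem_adjoin_singleton F _) _)
        (notMem_adjoin_of_sing hρ hm hg)) ((hg1 g).trans (not_lt.1 h)))

end

theorem exists_coprime_aux (p : ℕ) [Fact p.Prime] (m D : ℕ) : ∃ N : ℕ,
    ∀ (G : Type u) [Group G] [Finite G] (F : Type v) [Field F] [CharP F p] (n : ℕ)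
      (ρ : G →* Module.End F (Fin n → F)), Function.Injective ρ →
      (Nat.card G).factorization p ≤ m → ∀ W : Submodule F (G → F), Biinv W → Good (p ^ m) ρ W →
      finrank F W ≤ D → ∃ H : Subgroup G, H.index ≤ N ∧ ¬ p ∣ Nat.card H := by
  induction D with
  | zero =>
    refine ⟨1, fun G _ _ F _ _ n ρ hρ hm W hW hG hD => ⟨⊤, by simp, fun hd => ?_⟩⟩
    rw [Subgroup.card_top] at hd
    obtain ⟨f, hf, hf0, -⟩ := exists_test hρ hm hd hG
    have : W = ⊥ := Submodule.finrank_eq_zero.1 (by omega)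
    rw [this] at hf
    exact hf0 hf
  | succ D ih =>
    obtain ⟨N, hN⟩ := ih
    obtain ⟨N', hN'⟩ := descent.{u, v} (D + 1) (p ^ m)
    refine ⟨max 1 (N * N'), fun G _ _ F _ _ n ρ hρ hm W hW hG hD => ?_⟩
    by_cases hd : p ∣ Nat.card G
    swap
    · exact ⟨⊤, by simp, by rwa [Subgroup.card_top]⟩
    obtain ⟨f, hf, hf0, hZ⟩ := exists_test hρ hm hd hG
    obtain ⟨H, hH, f', hf', hf0', hfH⟩ := hN' G F W (Submodule.span F {f}) hW
      ((Submodule.span_singleton_le_iff_mem _ _).2 hf) (by simpa using hf0) (by omega) (by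
        refine hZ.trans (Nat.mul_le_mul_left _ (Set.ncard_le_ncard (fun x hx g hg => ?_)
          (Set.toFinite _)))
        obtain ⟨c, rfl⟩ := Submodule.mem_span_singleton.1 hg
        simp only [Set.mem_setOf_eq] at hx
        simp [hx])
    let r : (G → F) →ₗ[F] (H → F) := LinearMap.funLeft F F (fun x : H => (x : G))
    have hlt : finrank F (W.map r) < finrank F W := by
      have h1 := LinearMap.finrank_range_add_finrank_ker (r.domRestrict W)
      rw [LinearMap.range_domRestrict] at h1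
      have h2 : 0 < finrank F (LinearMap.ker (r.domRestrict W)) := by
        refine Nat.pos_of_ne_zero fun h0 => hf0' ?_
        have h3 : (⟨f', hf'⟩ : W) ∈ LinearMap.ker (r.domRestrict W) := by
          ext x
          exact hfH x x.2
        rw [Submodule.finrank_eq_zero.1 h0] at h3
        simpa using h3
      omega
    obtain ⟨K, hK, hKp⟩ := hN H F n (ρ.comp H.subtype) (hρ.comp H.subtype_injective)
      (le_trans ((Nat.factorization_le_iff_dvd Nat.card_pos.ne' Nat.card_pos.ne').2
        (H.card_subgroup_dvd_card) p) hm) (W.map r)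
      ⟨by
        rintro s _ ⟨g, hg, rfl⟩
        exact ⟨_, hW.1 s g hg, rfl⟩, by
        rintro s _ ⟨g, hg, rfl⟩
        exact ⟨_, hW.2 s g hg, rfl⟩⟩
      (fun j hj e he L => ⟨_, hG j hj e he L, rfl⟩) (by omega)
    refine ⟨K.map H.subtype, le_trans ?_ (le_max_right _ _), ?_⟩
    · rw [Subgroup.index_map_subtype]
      exact Nat.mul_le_mul hK hH
    · rwa [Subgroup.card_map_of_injective H.subtype_injective]

section
variable {G : Type u} [Group G] {F : Type v} [Field F] {A : Type*} [Ring A] [Algebra F A]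
  [Module.Finite F A]

theorem Biinv.mul {P Q : Submodule F (G → F)} (hP : Biinv P) (hQ : Biinv Q) : Biinv (P * Q) := by
  constructor
  · intro s f hf
    refine Submodule.mul_induction_on hf (fun a ha b hb => ?_) (fun a b ha hb => ?_)
    · exact Submodule.mul_mem_mul (hP.1 s a ha) (hQ.1 s b hb)
    · rw [map_add]; exact Submodule.add_mem _ ha hb
  · intro s f hf
    refine Submodule.mul_induction_on hf (fun a ha b hb => ?_) (fun a b ha hb => ?_)
    · exact Submodule.mul_mem_mul (hP.2 s a ha) (hQ.2 s b hb)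
    · rw [map_add]; exact Submodule.add_mem _ ha hb

theorem biinv_one : Biinv (1 : Submodule F (G → F)) := by
  constructor <;>
  · intro s f hf
    obtain ⟨c, rfl⟩ := Submodule.mem_one.1 hf
    exact Submodule.mem_one.2 ⟨c, rfl⟩

theorem Biinv.pow {P : Submodule F (G → F)} (hP : Biinv P) (E : ℕ) : Biinv (P ^ E) := by
  induction E with
  | zero => rw [pow_zero]; exact biinv_one
  | succ E ih => rw [pow_succ]; exact ih.mul hP

open Pointwise in
theorem finrank_pow_le [Finite G] (P : Submodule F (G → F)) (E : ℕ) :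
    finrank F (P ^ E : Submodule F (G → F)) ≤ finrank F P ^ E := by
  classical
  obtain ⟨s, -, hs, hsp, -⟩ := Submodule.exists_finset_span_eq_linearIndepOn F (P : Set (G → F))
  rw [Submodule.span_eq] at hs hsp
  rw [← hs]
  conv_lhs => rw [← hsp, Submodule.span_pow, ← Finset.coe_pow]
  exact (finrank_span_finset_le_card _).trans Finset.card_pow_le

/-- matrix coefficient functions -/
def coefFun (F : Type v) [Field F] [Algebra F A] (ρ : G →* A) : Module.Dual F A →ₗ[F] (G → F) where
  toFun l := fun g => l (ρ g)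
  map_add' _ _ := rfl
  map_smul' _ _ := rfl

/-- affine span of matrix coefficients -/
def coefSp (F : Type v) [Field F] [Algebra F A] (ρ : G →* A) : Submodule F (G → F) :=
  LinearMap.range (coefFun F ρ) ⊔ 1

omit [Module.Finite F A] in
theorem biinv_coefSp (ρ : G →* A) : Biinv (coefSp F ρ) := by
  constructor
  · intro s f hf
    obtain ⟨_, ⟨l, rfl⟩, b, hb, rfl⟩ := Submodule.mem_sup.1 hf
    rw [map_add]
    refine Submodule.add_mem _ (Submodule.mem_sup_left ⟨l ∘ₗ LinearMap.mulLeft F (ρ s), ?_⟩)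
      (Submodule.mem_sup_right (biinv_one.1 s b hb))
    ext x; simp [coefFun]
  · intro s f hf
    obtain ⟨_, ⟨l, rfl⟩, b, hb, rfl⟩ := Submodule.mem_sup.1 hf
    rw [map_add]
    refine Submodule.add_mem _ (Submodule.mem_sup_left ⟨l ∘ₗ LinearMap.mulRight F (ρ s), ?_⟩)
      (Submodule.mem_sup_right (biinv_one.2 s b hb))
    ext x; simp [coefFun]

theorem finrank_coefSp [Finite G] (ρ : G →* A) : finrank F (coefSp F ρ) ≤ finrank F A + 1 := by
  refine (Submodule.finrank_add_le_finrank_add_finrank _ _).trans (Nat.add_le_add ?_ ?_)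
  · exact (LinearMap.finrank_range_le _).trans (Subspace.dual_finrank_eq).le
  · rw [Submodule.one_eq_span]
    exact (finrank_span_le_card _).trans (by simp)

theorem pow_mem_coefSp (ρ : G →* A) (b : ℕ) : ∀ l : Module.Dual F A,
    (fun g => l (ρ g ^ b)) ∈ coefSp F ρ ^ b := by
  induction b with
  | zero =>
    intro l
    rw [pow_zero]
    exact Submodule.mem_one.2 ⟨l 1, by ext x; simp⟩
  | succ b ih =>
    intro l
    let e := Module.finBasis F A
    have h1 : (fun g => l (ρ g ^ (b + 1))) = ∑ i, (fun g => (l ∘ₗ LinearMap.mulRight F (e i))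
        (ρ g ^ b)) * coefFun F ρ (e.coord i) := by
      ext g
      rw [pow_succ]
      have h2 : l (ρ g ^ b * ρ g) = l (ρ g ^ b * ∑ i, e.repr (ρ g) i • e i) := by rw [e.sum_repr]
      rw [h2]
      simp [-Module.Basis.sum_repr, Finset.mul_sum, coefFun, mul_comm]
    rw [h1, pow_succ]
    exact Submodule.sum_mem _ fun i _ => Submodule.mul_mem_mul (ih _)
      (Submodule.mem_sup_left ⟨_, rfl⟩)

omit [Module.Finite F A] in
theorem coefSp_pow_mono (ρ : G →* A) {a b : ℕ} (h : a ≤ b) : coefSp F ρ ^ a ≤ coefSp F ρ ^ b :=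
  pow_le_pow_right' (le_sup_right : 1 ≤ coefSp F ρ) h

theorem good_coefSp (ρ : G →* A) (q : ℕ) :
    Good q ρ (coefSp F ρ ^ (finrank F A * (q * finrank F A))) := by
  intro j hj e he L
  have h1 : (fun g => dtest L (ρ g ^ e)) = ∑ σ : Equiv.Perm (Fin j),
      ((Equiv.Perm.sign σ : ℤ) : F) •
        ∏ i, (fun g => ((LinearMap.proj i) ∘ₗ L) (ρ g ^ (e * (σ i : ℕ)))) := by
    ext g
    simp [dtest, Matrix.det_apply', pow_mul]
  rw [h1]
  refine Submodule.sum_mem _ fun σ _ => Submodule.smul_mem _ _ ?_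
  refine coefSp_pow_mono ρ (Nat.mul_le_mul_right _ hj) ?_
  have h2 : ∀ (s : Finset (Fin j)) (P : Submodule F (G → F)) (f : Fin j → G → F),
      (∀ i, f i ∈ P) → ∏ i ∈ s, f i ∈ P ^ s.card := by
    intro s P f hf
    classical
    induction s using Finset.induction_on with
    | empty => simpa using Submodule.mem_one.2 ⟨1, by simp⟩
    | insert a s ha ih =>
      rw [Finset.prod_insert ha, Finset.card_insert_of_notMem ha, pow_succ']
      exact Submodule.mul_mem_mul (hf a) ih
  have h3 := h2 Finset.univ (coefSp F ρ ^ (q * finrank F A))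
    (fun i => fun g => ((LinearMap.proj i) ∘ₗ L) (ρ g ^ (e * (σ i : ℕ)))) fun i =>
      coefSp_pow_mono ρ (Nat.mul_le_mul he ((σ i).2.le.trans hj)) (pow_mem_coefSp ρ _ _)
  rwa [Finset.card_univ, Fintype.card_fin, ← pow_mul, mul_comm] at h3

end

/-- A finite linear group of degree `n` in characteristic `p` has a `p'`-subgroup of index bounded
in terms of `n` and the order of a Sylow `p`-subgroup. -/
theorem exists_coprime_index (p : ℕ) [Fact p.Prime] (m n : ℕ) : ∃ N : ℕ,
    ∀ (G : Type u) [Group G] [Finite G] (F : Type v) [Field F] [CharP F p]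
      (ρ : G →* Module.End F (Fin n → F)), Function.Injective ρ →
      (Nat.card G).factorization p ≤ m → ∃ H : Subgroup G, H.index ≤ N ∧ ¬ p ∣ Nat.card H := by
  obtain ⟨N, hN⟩ := exists_coprime_aux.{u, v} p m ((n * n + 1) ^ (n * n * (p ^ m * (n * n))))
  refine ⟨N, fun G _ _ F _ _ ρ hρ hm => ?_⟩
  have h1 : finrank F (Module.End F (Fin n → F)) = n * n := by
    simp [Module.finrank_linearMap]
  refine hN G F n ρ hρ hm _ ((biinv_coefSp ρ).pow _) (good_coefSp ρ _) ?_
  refine (finrank_pow_le _ _).trans ?_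
  rw [h1]
  refine Nat.pow_le_pow_left ?_ _
  rw [← h1]
  exact finrank_coefSp ρ

end CF.Fgs2
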