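import Cfsg.Agent.Fgs2.BF1
import Cfsg.Agent.BlockB.Idem
import Cfsg.Agent.Char.Blich

/-!
# Lifting faithful representations of `p'`-groups to characteristic zero (degree at most squared)
-/

namespace CF.Fgs2

open Module MonoidAlgebra Cfsg
open CF.BlockB (eSet omega)
open scoped ComplexConjugate

universe u v

section
variable {G : Type*} [Group G] [Finite G]

theorem maxGen_of_idem {K V : Type*} [Field K] [AddCommGroup V] [Module K V] {f : Module.End K V}
    (hf : f * f = f) : f.maxGenEigenspace 0 = LinearMap.ker f := by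
  ext x
  rw [Module.End.mem_maxGenEigenspace]
  simp only [zero_smul, sub_zero, LinearMap.mem_ker]
  refine ⟨fun ⟨k, hk⟩ => ?_, fun h => ⟨1, by simpa using h⟩⟩
  rcases k with _ | k
  · have : x = 0 := by simpa using hk
    simp [this]
  · rwa [IsIdempotentElem.pow_succ_eq k hf] at hk

/-- matrix of left multiplication -/
noncomputable def lmat {R : Type*} [CommRing R] (a : R[G]) : Matrix G G R :=
  Matrix.of fun x y => a.coeff (x * y⁻¹)

theorem charpoly_mulLeft [Fintype G] [DecidableEq G] {K : Type*} [Field K] (a : K[G]) :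
    (LinearMap.mulLeft K a).charpoly = (lmat a).charpoly := by
  rw [← LinearMap.charpoly_toMatrix _ (MonoidAlgebra.basis G K)]
  congr 1
  ext x y
  rw [LinearMap.toMatrix_apply, MonoidAlgebra.basis_apply, LinearMap.mulLeft_apply]
  change (a * single y 1).coeff x = _
  rw [coeff_mul_single_apply, mul_one, lmat, Matrix.of_apply]

theorem trace_mulLeft [Fintype G] [DecidableEq G] {K : Type*} [Field K] (a : K[G]) :
    LinearMap.trace K _ (LinearMap.mulLeft K a) = Nat.card G * a.coeff 1 := by
  rw [LinearMap.trace_eq_matrix_trace K (MonoidAlgebra.basis G K), Matrix.trace]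
  have : ∀ x : G, (LinearMap.toMatrix (MonoidAlgebra.basis G K) (MonoidAlgebra.basis G K)
      (LinearMap.mulLeft K a)).diag x = a.coeff 1 := by
    intro x
    rw [Matrix.diag_apply, LinearMap.toMatrix_apply, MonoidAlgebra.basis_apply,
      LinearMap.mulLeft_apply]
    change (a * single x 1).coeff x = _
    rw [coeff_mul_single_apply, mul_one, mul_inv_cancel]
  rw [Finset.sum_congr rfl fun x _ => this x]
  simp

theorem finrank_ker_le {R K L : Type*} [CommRing R] [Field K] [Field L] {f : R →+* L}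
    (hf : Function.Injective f) (φ : R →+* K) {a : R[G]} (ha : a * a = a) :
    finrank L (LinearMap.ker (LinearMap.mulLeft L (mapRingHom G f a))) ≤
      finrank K (LinearMap.ker (LinearMap.mulLeft K (mapRingHom G φ a))) := by
  classical
  have := Fintype.ofFinite G
  have h1 : ∀ {S : Type _} [Field S] (g : R →+* S),
      finrank S (LinearMap.ker (LinearMap.mulLeft S (mapRingHom G g a))) =
        ((lmat a).charpoly.map g).natTrailingDegree := by
    intro S _ g
    rw [← maxGen_of_idem, LinearMap.finrank_maxGenEigenspace_zero_eq, charpoly_mulLeft,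
      ← Matrix.charpoly_map]
    · congr 2
    · rw [Module.End.mul_eq_comp, ← LinearMap.mulLeft_mul, ← map_mul, ha]
  have h2 : ∀ {S : Type _} [Field S] (g : R →+* S),
      finrank S (LinearMap.ker (LinearMap.mulLeft S (mapRingHom G g a))) =
        ((lmat a).charpoly.map g).natTrailingDegree := by
    intro S _ g
    rw [← maxGen_of_idem, LinearMap.finrank_maxGenEigenspace_zero_eq, charpoly_mulLeft,
      ← Matrix.charpoly_map]
    · congr 2
    · rw [Module.End.mul_eq_comp, ← LinearMap.mulLeft_mul, ← map_mul, ha]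
  rw [h1 f, h2 φ]
  refine Polynomial.le_natTrailingDegree ((Matrix.charpoly_monic _).map φ).ne_zero fun m hm => ?_
  have h3 := Polynomial.coeff_eq_zero_of_lt_natTrailingDegree hm
  rw [Polynomial.coeff_map, map_eq_zero_iff f hf] at h3
  rw [Polynomial.coeff_map, h3, map_zero]

/-- conjugation average -/
noncomputable def cavg [Fintype G] {R : Type*} [CommRing R] (a : R[G]) : R[G] :=
  ∑ h : G, single h (1 : R) * a * single h⁻¹ (1 : R)

theorem coeff_cavg [Fintype G] {R : Type*} [CommRing R] (a : R[G]) (g : G) :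
    (cavg a).coeff g = ∑ h : G, a.coeff (h⁻¹ * g * h) := by
  rw [cavg, BlockB.coeff_sum_apply]
  exact Finset.sum_congr rfl fun h _ => BlockB.coeff_conj a h g

theorem cavg_mem_Z [Fintype G] {R : Type*} [CommRing R] (a : R[G]) : cavg a ∈ BlockB.Z R G := by
  rw [BlockB.mem_Z_iff]
  intro g x
  rw [coeff_cavg, coeff_cavg]
  refine Fintype.sum_equiv (Equiv.mulLeft x⁻¹) _ _ fun h => ?_
  simp [mul_assoc]

theorem map_cavg [Fintype G] {R S : Type*} [CommRing R] [CommRing S] (f : R →+* S) (a : R[G]) :
    mapRingHom G f (cavg a) = cavg (mapRingHom G f a) := by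
  simp [cavg]

theorem exists_char_aux {R : Subring ℂ} (hR : ∀ z : ℂ, IsIntegral ℤ z → z ∈ R)
    (hR' : (Nat.card G : ℂ)⁻¹ ∈ R) {K : Type*} [Field K] (φ : R →+* K)
    {A : Type*} [Ring A] [Algebra K A] [Module.Finite K A] (π : K[G] →ₐ[K] A)
    (hπ : ∀ g : G, π (single g 1) = 1 → g = 1) :
    ∃ (θ : G → ℂ) (d : ℕ), IsCharacter G θ ∧ Char.charKer θ = ⊥ ∧ θ 1 = d ∧ d ≤ finrank K A := by
  classical
  have := Fintype.ofFinite G
  have hcK : (Nat.card G : K) ≠ 0 := by
    have h1 : (Nat.card G : R) * ⟨_, hR'⟩ = 1 := Subtype.ext (by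
      simp [Nat.card_pos.ne'])
    have h2 := congrArg φ h1
    rw [map_mul, map_natCast, map_one] at h2
    exact left_ne_zero_of_mul_eq_one h2
  have hmem : ∀ (B : Set (IrrCharacter G)) (g : G), blockCoeff B g ∈ R := by
    intro B g
    rw [BlockB.blockCoeff_eq]
    refine R.mul_mem hR' (R.sum_mem fun χ _ => R.mul_mem
      (hR _ (Char.char_isIntegral (Char.irr_isCharacter χ.2) _)) ?_)
    rw [← Char.irr_inv χ.2]
    exact hR _ (Char.char_isIntegral (Char.irr_isCharacter χ.2) _)
  let ι : R[G] →+* ℂ[G] := mapRingHom G R.subtype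
  have hι : Function.Injective ι := MonoidAlgebra.map_injective _ R.subtype_injective
  let E : Set (IrrCharacter G) → R[G] := fun B => BlockB.ofFun fun g => ⟨_, hmem B g⟩
  have hE : ∀ B, ι (E B) = eSet B := fun B => by
    ext g; simp [ι, E]
  let ψ : R[G] →+* K[G] := mapRingHom G φ
  let e : Set (IrrCharacter G) → K[G] := fun B => ψ (E B)
  have Emul : ∀ A B, E A * E B = E (A ∩ B) := fun A B => hι (by
    rw [map_mul, hE, hE, hE, BlockB.eSet_mul])
  have emul : ∀ A B, e A * e B = e (A ∩ B) := fun A B => by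
    simp only [e]; rw [← map_mul, Emul]
  have esum : ∀ B : Set (IrrCharacter G), e B = ∑ χ with χ ∈ B, e {χ} := fun B => by
    simp only [e]
    rw [← map_sum]
    congr 1
    apply hι
    rw [map_sum, hE, BlockB.eq_sum_eSet_singleton (BlockB.eSet_mem_Z B), Finset.sum_filter]
    refine Finset.sum_congr rfl fun χ _ => ?_
    rw [BlockB.omega_eSet, hE]
    split_ifs <;> simp
  have euniv : e Set.univ = 1 := by
    simp only [e]
    rw [← map_one ψ]
    congr 1
    apply hι
    rw [hE, BlockB.eSet_univ, map_one]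
  have eZ : ∀ B, e B ∈ BlockB.Z K G := fun B => by
    rw [BlockB.mem_Z_iff]
    intro g h
    simp only [e, ψ, coeff_mapRingHom, E, BlockB.coeff_ofFun]
    congr 1
    exact Subtype.ext (BlockB.mem_Z_iff.1 (BlockB.eSet_mem_Z B) g h)
  have hav : ∀ (χ : IrrCharacter G) (a : K[G]), ∃ c : K, cavg a * e {χ} = c • e {χ} := by
    intro χ a
    induction a using MonoidAlgebra.induction_on with
    | of g =>
      have h1 : IsIntegral ℤ (cavg (single g (1 : ℂ))) := by
        refine BlockB.isIntegral_of_coeff fun x => ?_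
        rw [coeff_cavg]
        refine ⟨∑ h : G, if g = h⁻¹ * x * h then 1 else 0, ?_⟩
        simp [Finsupp.single_apply]
      have h2 := hR _ (BlockB.omega_isIntegral χ.2 (cavg_mem_Z _) h1)
      have h3 : cavg (single g (1 : R)) * E {χ} = (⟨_, h2⟩ : R) • E {χ} := by
        apply hι
        rw [Algebra.smul_def, map_mul, map_mul, hE, map_cavg]
        simp only [ι, mapRingHom_single, map_one, coe_algebraMap, Algebra.algebraMap_self,
          RingHom.coe_id, Function.comp_apply, id_eq, Subring.subtype_apply]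
        refine BlockB.Z_ext (Subalgebra.mul_mem _ (cavg_mem_Z _) (BlockB.eSet_mem_Z _))
          (Subalgebra.mul_mem _ (Subalgebra.algebraMap_mem _ _) (BlockB.eSet_mem_Z _)) fun ξ => ?_
        rw [BlockB.omega_mul_central ξ.2 (BlockB.eSet_mem_Z _),
          BlockB.omega_mul_central ξ.2 (BlockB.eSet_mem_Z _), BlockB.omega_eSet]
        split_ifs with h
        · rw [Set.mem_singleton_iff.1 h, BlockB.omega_single, mul_div_assoc,
            div_self (Char.irr_one_ne_zero χ.2), mul_one, mul_one]
        · simp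
      refine ⟨φ ⟨_, h2⟩, ?_⟩
      have h4 := congrArg ψ h3
      rw [Algebra.smul_def, map_mul, map_mul, map_cavg] at h4
      simp only [ψ, mapRingHom_single, map_one, coe_algebraMap, Algebra.algebraMap_self,
          RingHom.coe_id, Function.comp_apply, id_eq] at h4
      rw [Algebra.smul_def]
      exact h4
    | add a b ha hb =>
      obtain ⟨c, hc⟩ := ha
      obtain ⟨d, hd⟩ := hb
      refine ⟨c + d, ?_⟩
      rw [add_smul, ← hc, ← hd, ← add_mul]
      congr 1
      simp [cavg, mul_add, add_mul, Finset.sum_add_distrib]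
    | smul r a ha =>
      obtain ⟨c, hc⟩ := ha
      refine ⟨r * c, ?_⟩
      rw [mul_smul, ← hc, ← smul_mul_assoc]
      congr 1
      simp [cavg, Finset.smul_sum]
  obtain ⟨X, hXd⟩ : ∃ X : Set (IrrCharacter G), ∀ χ, χ ∈ X ↔ π (e {χ}) ≠ 0 :=
    ⟨{χ | π (e {χ}) ≠ 0}, fun _ => Iff.rfl⟩
  have hinj1 : ∀ χ ∈ X, ∀ a : K[G], e {χ} * a = a → π a = 0 → a = 0 := by
    intro χ hχ a ha h0
    by_contra hne
    obtain ⟨g, hg⟩ : ∃ g, a.coeff g ≠ 0 := by
      by_contra hh
      push Not at hh
      exact hne (by ext g; simp [hh g])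
    obtain ⟨c, hc⟩ := hav χ (a * single g⁻¹ 1)
    have h1 : cavg (a * single g⁻¹ 1) * e {χ} = cavg (a * single g⁻¹ 1) := by
      rw [cavg, Finset.sum_mul]
      refine Finset.sum_congr rfl fun h _ => ?_
      rw [BlockB.Z_comm (eZ _), ← mul_assoc, ← mul_assoc, ← BlockB.Z_comm (eZ _), mul_assoc _ (e _),
        ← mul_assoc (e _), ha]
    have h2 : π (cavg (a * single g⁻¹ 1)) = 0 := by
      simp [cavg, h0]
    have h3 : (cavg (a * single g⁻¹ 1)).coeff 1 = Nat.card G * a.coeff g := by
      rw [coeff_cavg]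
      simp
    rw [h1] at hc
    rw [hc, map_smul, smul_eq_zero] at h2
    rcases h2 with rfl | h2
    · rw [hc, zero_smul] at h3
      exact mul_ne_zero hcK hg h3.symm
    · exact (hXd χ).1 hχ h2
  have hinj : ∀ a : K[G], e X * a = a → π a = 0 → a = 0 := by
    intro a ha h0
    rw [← ha, esum, Finset.sum_mul]
    refine Finset.sum_eq_zero fun χ hχ => hinj1 χ (Finset.mem_filter.1 hχ).2 _ ?_ ?_
    · rw [← mul_assoc, emul, Set.inter_self]
    · rw [map_mul, h0, mul_zero]
  have hX1 : π (e X) = 1 := by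
    rw [← map_one π, ← euniv, esum, esum Set.univ, map_sum, map_sum, Finset.sum_filter,
      Finset.sum_filter]
    refine Finset.sum_congr rfl fun χ _ => ?_
    by_cases h : χ ∈ X
    · simp [h]
    · have h' : π (e {χ}) = 0 := by simpa [hXd] using h
      simp [h, h']
  let θ : G → ℂ := ∑ χ with χ ∈ X, (charDegree (χ : G → ℂ) : ℂ) • (χ : G → ℂ)
  have hθ : IsCharacter G θ :=
    Char.char_sum _ fun χ _ => Char.char_natCast_smul (Char.irr_isCharacter χ.2) _
  have hθX : ∀ g, blockCoeff X g = (Nat.card G : ℂ)⁻¹ * θ g⁻¹ := fun g => by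
    rw [BlockB.blockCoeff_eq]
    simp only [θ, Finset.sum_apply, Pi.smul_apply, smul_eq_mul, BlockB.irr_charDegree_eq]
    congr 1
    exact Finset.sum_congr rfl fun χ _ => by rw [Char.irr_inv χ.2]
  obtain ⟨d, hd⟩ := Char.char_one_eq_nat hθ
  refine ⟨θ, d, hθ, ?_, hd, ?_⟩
  · rw [eq_bot_iff]
    intro g hg
    have h1 : E X * single g (1 : R) = E X := by
      apply hι
      rw [map_mul, hE]
      ext x
      simp only [ι, mapRingHom_single, map_one, coeff_mul_single_apply, mul_one,
        BlockB.coeff_eSet, hθX, mul_inv_rev, inv_inv]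
      rw [Char.mem_charKer.1 hg]
    have h2 := congrArg (fun a => π (ψ a)) h1
    simp only [map_mul, ψ, mapRingHom_single, map_one] at h2
    change π (e X) * _ = π (e X) at h2
    rw [hX1, one_mul] at h2
    exact hπ g h2
  · have h1 := finrank_ker_le R.subtype_injective φ (a := 1 - E X) (by
      rw [sub_mul, one_mul, mul_sub, mul_one, Emul, Set.inter_self, sub_self, sub_zero])
    have h2 : finrank K (LinearMap.ker (LinearMap.mulLeft K (mapRingHom G φ (1 - E X)))) ≤
        finrank K A := by
      refine LinearMap.finrank_le_finrank_of_injective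
        (f := π.toLinearMap.domRestrict _) ?_
      rw [← LinearMap.ker_eq_bot, eq_bot_iff]
      rintro ⟨a, ha⟩ h0
      rw [LinearMap.mem_ker, LinearMap.mulLeft_apply, map_sub, map_one, sub_mul, one_mul,
        sub_eq_zero] at ha
      exact Subtype.ext (hinj a ha.symm h0)
    refine le_trans (le_of_eq ?_) (h1.trans h2)
    have h3 : LinearMap.IsProj
        (LinearMap.ker (LinearMap.mulLeft ℂ (mapRingHom G R.subtype (1 - E X))))
        (LinearMap.mulLeft ℂ (eSet X)) := by
      change LinearMap.IsProj (LinearMap.ker (LinearMap.mulLeft ℂ (ι (1 - E X)))) _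
      rw [map_sub, map_one, hE]
      constructor
      · intro x
        rw [LinearMap.mem_ker, LinearMap.mulLeft_apply, LinearMap.mulLeft_apply, ← mul_assoc,
          sub_mul, one_mul, BlockB.eSet_mul_self, sub_self, zero_mul]
      · intro x hx
        rw [LinearMap.mem_ker, LinearMap.mulLeft_apply, sub_mul, one_mul, sub_eq_zero] at hx
        exact hx.symm
    have h4 := h3.trace
    rw [trace_mulLeft, BlockB.coeff_eSet, hθX, inv_one, hd, ← mul_assoc,
      mul_inv_cancel₀ (Nat.cast_ne_zero.2 Nat.card_pos.ne'), one_mul] at h4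
    exact_mod_cast h4

theorem exists_common_field (p : ℕ) [Fact p.Prime] (F : Type u) (k : Type) [Field F] [Field k]
    [CharP F p] [CharP k p] : ∃ (K : Type u) (_ : Field K), Nonempty (F →+* K) ∧ Nonempty (k →+* K) := by
  let _ := ZMod.algebra F p
  let _ := ZMod.algebra k p
  have : Nontrivial (TensorProduct (ZMod p) F k) :=
    Algebra.TensorProduct.nontrivial_of_algebraMap_injective_of_isDomain (ZMod p) F k
      (algebraMap (ZMod p) F).injective (algebraMap (ZMod p) k).injective
  obtain ⟨I, hI⟩ := Ideal.exists_maximal (TensorProduct (ZMod p) F k)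
  exact ⟨_ ⧸ I, Ideal.Quotient.field I,
    ⟨(Ideal.Quotient.mk I).comp Algebra.TensorProduct.includeLeftRingHom⟩,
    ⟨(Ideal.Quotient.mk I).comp (Algebra.TensorProduct.includeRight (R := ZMod p)).toRingHom⟩⟩

/-- A faithful representation of degree `n` of a `p'`-group in characteristic `p` gives a faithful
complex character of degree at most `n ^ 2`. -/
theorem exists_char_of_coprime {p : ℕ} [Fact p.Prime] {F : Type u} [Field F] [CharP F p] {n : ℕ}
    (ρ : G →* Module.End F (Fin n → F)) (hρ : Function.Injective ρ) (hp : ¬ p ∣ Nat.card G) :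
    ∃ (θ : G → ℂ) (d : ℕ), IsCharacter G θ ∧ Char.charKer θ = ⊥ ∧ θ 1 = d ∧ d ≤ n * n := by
  obtain ⟨M, hM⟩ := BlockB.exists_isPModular (p := p) Fact.out
  have := BlockB.charP_k hM
  obtain ⟨K, _, ⟨i⟩, ⟨j⟩⟩ := exists_common_field p F (BlockB.k M)
  let σ : G →* Matrix (Fin n) (Fin n) K := (i.mapMatrix.toMonoidHom.comp
    (LinearMap.toMatrixAlgEquiv' (R := F) (n := Fin n)).toMonoidHom).comp ρ
  obtain ⟨θ, d, h1, h2, h3, h4⟩ := exists_char_aux (G := G) (R := (BlockB.O M).toSubring)
    (fun z hz => BlockB.mem_O_iff.2 (BlockB.v_le_one_of_isIntegral M hz))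
    (BlockB.mem_O_iff.2 (by rw [map_inv₀, (BlockB.v_natCast_eq_one_iff hM _).2 hp, inv_one]))
    (j.comp (BlockB.res M)) (MonoidAlgebra.lift K _ G σ) (fun g hg => by
      rw [MonoidAlgebra.lift_single, one_smul, ← map_one σ] at hg
      apply hρ
      apply (LinearMap.toMatrixAlgEquiv' (R := F) (n := Fin n)).injective
      exact Matrix.map_injective i.injective hg)
  refine ⟨θ, d, h1, h2, h3, h4.trans (le_of_eq ?_)⟩
  simp [Module.finrank_matrix]

end

/-- Brauer–Feit: the analogue of Jordan's theorem in characteristic `p`. -/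
theorem brauer_feit (p : ℕ) [Fact p.Prime] (m n : ℕ) : ∃ N : ℕ,
    ∀ (G : Type u) [Group G] [Finite G] (F : Type v) [Field F] [CharP F p]
      (ρ : G →* Module.End F (Fin n → F)), Function.Injective ρ →
      (Nat.card G).factorization p ≤ m →
      ∃ A : Subgroup G, A.Normal ∧ IsMulCommutative A ∧ A.index < N := by
  obtain ⟨N, hN⟩ := exists_coprime_index.{u, v} p m n
  let J := (n * n).factorial * 12 ^ (n * n * ((n * n + 1).primeCounting + 1))
  refine ⟨(J * N).factorial + 1, fun G _ _ F _ _ ρ hρ hm => ?_⟩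
  obtain ⟨H, hH, hp⟩ := hN G F ρ hρ hm
  obtain ⟨θ, d, h1, h2, h3, h4⟩ := exists_char_of_coprime (ρ.comp H.subtype)
    (hρ.comp H.subtype_injective) hp
  obtain ⟨B, -, hB, hBi⟩ := Char.jordan h1 h2 h3
  have hBJ : B.index ≤ J := hBi.trans (Nat.mul_le_mul (Nat.factorial_le h4)
    (Nat.pow_le_pow_right (by norm_num) (Nat.mul_le_mul h4
      (Nat.succ_le_succ (Nat.monotone_primeCounting (Nat.succ_le_succ h4))))))
  have hC : (B.map H.subtype).index ≤ J * N := by
    rw [Subgroup.index_map_subtype]
    exact Nat.mul_le_mul hBJ hH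
  refine ⟨(B.map H.subtype).normalCore, inferInstance, ⟨⟨fun a b => ?_⟩⟩, Nat.lt_succ_of_le ?_⟩
  · obtain ⟨x, hx, ha⟩ := Subgroup.normalCore_le _ a.2
    obtain ⟨y, hy, hb⟩ := Subgroup.normalCore_le _ b.2
    apply Subtype.ext
    rw [Subgroup.coe_mul, Subgroup.coe_mul, ← ha, ← hb, ← map_mul, ← map_mul]
    congr 1
    exact (hB hx y hy).symm
  · refine le_trans ?_ (Nat.factorial_le hC)
    rw [Subgroup.normalCore_eq_ker, Subgroup.index_ker, Subgroup.index_eq_card,
      ← Nat.card_perm]
    exact Subgroup.card_le_card_group _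

end CF.Fgs2
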