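import Cfsg.Agent.Perm.Huppert2

/-! Bases (regular orbits on tuples) for linear groups: the inductive framework. -/

set_option autoImplicit false

namespace CF.Fgs2.Base

open Subgroup CF.Perm
open scoped Pointwise commutatorElement

universe u

section defs

variable {G V : Type*} [Group G] [AddCommGroup V] [DistribMulAction G V]

/-- `U` is invariant under `H` -/
def InvOn (H : Subgroup G) (U : AddSubgroup V) : Prop := ∀ g ∈ H, ∀ v ∈ U, g • v ∈ U

/-- `U` is a completely reducible `H`-module -/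
def CROn (H : Subgroup G) (U : AddSubgroup V) : Prop :=
  ∀ X ≤ U, InvOn H X → ∃ W ≤ U, InvOn H W ∧ X ⊓ W = ⊥ ∧ X ⊔ W = U

/-- `U` is an irreducible (or zero) `H`-module -/
def IrrOn (H : Subgroup G) (U : AddSubgroup V) : Prop := ∀ X ≤ U, InvOn H X → X = ⊥ ∨ X = U

/-- the tuple `t` is a base for the action of `H` on `U` -/
def RegOn (H : Subgroup G) (U : AddSubgroup V) {ι : Type*} (t : ι → V) : Prop :=
  (∀ i, t i ∈ U) ∧ ∀ g ∈ H, (∀ i, g • t i = t i) → ∀ v ∈ U, g • v = v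

theorem IrrOn.cr {H : Subgroup G} {U : AddSubgroup V} (h : IrrOn H U) (hU : InvOn H U) :
    CROn H U := fun X hX hi => by
  rcases h X hX hi with rfl | rfl
  · exact ⟨U, le_rfl, hU, bot_inf_eq _, bot_sup_eq _⟩
  · exact ⟨⊥, bot_le, fun g _ v hv => by rw [AddSubgroup.mem_bot.1 hv, smul_zero]; exact zero_mem _,
      inf_bot_eq _, sup_bot_eq _⟩

theorem CROn.mono {H : Subgroup G} {U X : AddSubgroup V} (h : CROn H U) (hX : X ≤ U)
    (hi : InvOn H X) : CROn H X := fun Y hY hj => by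
  obtain ⟨W, -, h2, h3, h4⟩ := h Y (hY.trans hX) hj
  refine ⟨W ⊓ X, inf_le_right, fun g hg v hv => ⟨h2 g hg v hv.1, hi g hg v hv.2⟩, ?_, ?_⟩
  · rw [← inf_assoc, h3, bot_inf_eq]
  · rw [← sup_inf_assoc_of_le _ hY, h4, inf_eq_right.2 hX]

theorem RegOn.add {H : Subgroup G} {X W : AddSubgroup V} (hX : InvOn H X) (hW : InvOn H W)
    (h : X ⊓ W = ⊥) {ι : Type*} {s t : ι → V} (hs : RegOn H X s) (ht : RegOn H W t) :
    RegOn H (X ⊔ W) (s + t) := by
  refine ⟨fun i => AddSubgroup.add_mem_sup (hs.1 i) (ht.1 i), fun g hg h1 v hv => ?_⟩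
  have h2 : ∀ i, g • s i = s i ∧ g • t i = t i := fun i => by
    have h3 := h1 i
    rw [Pi.add_apply, smul_add] at h3
    have h4 : g • s i - s i = -(g • t i - t i) := by
      rw [neg_sub, sub_eq_sub_iff_add_eq_add, h3, add_comm]
    have h5 : g • s i - s i ∈ X ⊓ W := ⟨X.sub_mem (hX g hg _ (hs.1 i)) (hs.1 i),
      h4 ▸ W.neg_mem (W.sub_mem (hW g hg _ (ht.1 i)) (ht.1 i))⟩
    rw [h, AddSubgroup.mem_bot] at h5
    rw [h5, zero_eq_neg] at h4
    exact ⟨sub_eq_zero.1 h5, sub_eq_zero.1 h4⟩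
  obtain ⟨x, hx, w, hw, rfl⟩ := AddSubgroup.mem_sup.1 hv
  rw [smul_add, hs.2 g hg (fun i => (h2 i).1) x hx, ht.2 g hg (fun i => (h2 i).2) w hw]

/-- the action of `H` on an invariant subgroup -/
@[reducible] def subAct {H : Subgroup G} {U : AddSubgroup V} (h : InvOn H U) :
    DistribMulAction H U where
  smul g v := ⟨g.1 • v.1, h g.1 g.2 v.1 v.2⟩
  one_smul v := Subtype.ext (one_smul G v.1)
  mul_smul a b v := Subtype.ext (mul_smul a.1 b.1 v.1)
  smul_zero g := Subtype.ext (smul_zero g.1)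
  smul_add g a b := Subtype.ext (smul_add g.1 a.1 b.1)

/-- the faithful action of the image in the symmetric group -/
@[reducible] def rangeAct (G V : Type*) [Group G] [AddCommGroup V] [DistribMulAction G V] :
    DistribMulAction (MulAction.toPermHom G V).range V where
  smul_zero s := by obtain ⟨_, g, rfl⟩ := s; exact smul_zero g
  smul_add s := by obtain ⟨_, g, rfl⟩ := s; exact smul_add g

/-- the additive action attached to a homomorphism into `MulAut` -/
@[reducible] def mulAct {Q : Type*} [CommGroup Q] (φ : G →* MulAut Q) :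
    DistribMulAction G (Additive Q) where
  smul g v := Additive.ofMul (φ g v.toMul)
  one_smul v := by change Additive.ofMul (φ 1 v.toMul) = v; rw [map_one]; rfl
  mul_smul a b v := by change Additive.ofMul (φ (a * b) v.toMul) = _; rw [map_mul]; rfl
  smul_zero g := by change Additive.ofMul (φ g 1) = _; rw [map_one]; rfl
  smul_add g a b := by change Additive.ofMul (φ g (a.toMul * b.toMul)) = _; rw [map_mul]; rfl

end defs

/-- a class of pairs (group, module order) closed under sections -/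
structure Cls (C : ∀ (G : Type u) [Group G], ℕ → Prop) : Prop where
  inj : ∀ {G H : Type u} [Group G] [Group H] [Finite G] (f : H →* G), Function.Injective f →
    ∀ {m m' : ℕ}, m' ∣ m → C G m → C H m'
  surj : ∀ {G H : Type u} [Group G] [Group H] [Finite G] (f : G →* H), Function.Surjective f →
    ∀ {m : ℕ}, C G m → C H m

/-- bases indexed by `ι` exist for completely reducible modules of order `< n` -/
def P (C : ∀ (G : Type u) [Group G], ℕ → Prop) (ι : Type) (n : ℕ) : Prop :=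
  ∀ (G V : Type u) [Group G] [Finite G] [AddCommGroup V] [Finite V] [DistribMulAction G V],
    C G (Nat.card V) → CROn (⊤ : Subgroup G) (⊤ : AddSubgroup V) → Nat.card V < n →
    ∃ t : ι → V, RegOn (⊤ : Subgroup G) ⊤ t

variable {C : ∀ (G : Type u) [Group G], ℕ → Prop} {ι : Type} {n : ℕ}

theorem P.rel (h : P C ι n) (hC : Cls C) {G V : Type u} [Group G] [Finite G] [AddCommGroup V]
    [Finite V] [DistribMulAction G V] (hG : C G (Nat.card V)) {H : Subgroup G} {U : AddSubgroup V}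
    (hU : InvOn H U) (hcr : CROn H U) (hn : Nat.card U < n) : ∃ t : ι → V, RegOn H U t := by
  letI := subAct hU
  obtain ⟨t, -, ht⟩ := h H U (hC.inj H.subtype H.subtype_injective U.card_addSubgroup_dvd_card hG)
    (fun X _ hX => by
      obtain ⟨W, h1, h2, h3, h4⟩ := hcr (X.map U.subtype) (AddSubgroup.map_subtype_le X)
        (by rintro g hg _ ⟨v, hv, rfl⟩; exact ⟨_, hX ⟨g, hg⟩ trivial v hv, rfl⟩)
      refine ⟨W.addSubgroupOf U, le_top, fun g _ v hv => h2 g.1 g.2 v.1 hv, ?_, ?_⟩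
      · refine eq_bot_iff.2 fun v hv => ?_
        have : v.1 ∈ X.map U.subtype ⊓ W := ⟨⟨v, hv.1, rfl⟩, hv.2⟩
        rw [h3] at this
        exact Subtype.ext this
      · refine eq_top_iff.2 fun v _ => ?_
        obtain ⟨_, ⟨x, hx, rfl⟩, w, hw, e⟩ := AddSubgroup.mem_sup.1 (h4.ge v.2)
        exact AddSubgroup.mem_sup.2 ⟨x, hx, ⟨w, h1 hw⟩, hw, Subtype.ext e⟩) hn
  exact ⟨fun i => (t i).1, fun i => (t i).2, fun g hg h1 v hv =>
    congrArg Subtype.val (ht ⟨g, hg⟩ trivial (fun i => Subtype.ext (h1 i)) ⟨v, hv⟩ trivial)⟩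

theorem P.mul (h : P C ι n) {G Q : Type u} [Group G] [Finite G] [CommGroup Q] [Finite Q]
    (φ : G →* MulAut Q) (hG : C G (Nat.card Q))
    (hcr : ∀ X : Subgroup Q, (∀ g, ∀ x ∈ X, φ g x ∈ X) → ∃ W : Subgroup Q,
      (∀ g, ∀ x ∈ W, φ g x ∈ W) ∧ X ⊓ W = ⊥ ∧ X ⊔ W = ⊤) (hn : Nat.card Q < n) :
    ∃ t : ι → Q, ∀ g, (∀ i, φ g (t i) = t i) → φ g = 1 := by
  letI := mulAct φ
  obtain ⟨t, -, ht⟩ := h G (Additive Q) hG (fun X _ hX => by
    obtain ⟨W, h1, h2, h3⟩ := hcr (AddSubgroup.toSubgroup' X) fun g x hx => hX g trivial _ hx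
    refine ⟨W.toAddSubgroup, le_top, fun g _ v hv => h1 g _ hv, ?_, ?_⟩
    · apply AddSubgroup.toSubgroup'.injective
      rw [OrderIso.map_inf, OrderIso.map_bot]; exact h2
    · apply AddSubgroup.toSubgroup'.injective
      rw [OrderIso.map_sup, OrderIso.map_top]; exact h3) hn
  exact ⟨fun i => (t i).toMul, fun g hg => MulEquiv.ext fun x =>
    ht g trivial hg (Additive.ofMul x) trivial⟩

/-- reduction to faithful irreducible modules -/
theorem P.succ (h : P C ι n) (hC : Cls C)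
    (step : ∀ (G V : Type u) [Group G] [Finite G] [AddCommGroup V] [Finite V] [Nontrivial V]
      [DistribMulAction G V] [FaithfulSMul G V], C G (Nat.card V) → Nat.card V = n →
      IrrOn (⊤ : Subgroup G) (⊤ : AddSubgroup V) → ∃ t : ι → V, RegOn (⊤ : Subgroup G) ⊤ t) :
    P C ι (n + 1) := by
  intro G V _ _ _ _ _ hG hcr hn
  rcases Nat.lt_succ_iff_lt_or_eq.1 hn with hn | hn
  · exact h G V hG hcr hn
  rcases subsingleton_or_nontrivial V with hV | hV
  · exact ⟨0, fun _ => trivial, fun _ _ _ _ _ => Subsingleton.elim _ _⟩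
  by_cases hirr : IrrOn (⊤ : Subgroup G) (⊤ : AddSubgroup V)
  · letI := rangeAct G V
    haveI : FaithfulSMul (MulAction.toPermHom G V).range V :=
      ⟨fun h => Subtype.ext (Equiv.ext h)⟩
    obtain ⟨t, -, ht⟩ := step (MulAction.toPermHom G V).range V
      (hC.surj _ (MonoidHom.rangeRestrict_surjective _) hG) hn
      fun X hX hi => hirr X hX fun g _ v hv => hi ⟨_, g, rfl⟩ trivial v hv
    exact ⟨t, fun _ => trivial, fun g _ hg => ht ⟨_, g, rfl⟩ trivial hg⟩
  · simp only [IrrOn, not_forall, not_or] at hirr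
    obtain ⟨X, -, h1, h2, h3⟩ := hirr
    obtain ⟨W, -, h4, h5, h6⟩ := hcr X le_top h1
    have hlt : ∀ Y : AddSubgroup V, Y ≠ ⊤ → Nat.card Y < n := fun Y hY =>
      hn ▸ (AddSubgroup.card_le_card_addGroup Y).lt_of_ne fun e => hY (Y.eq_top_of_card_eq e)
    obtain ⟨s, hs⟩ := h.rel hC hG h1 (hcr.mono le_top h1) (hlt X h3)
    obtain ⟨t, ht⟩ := h.rel hC hG h4 (hcr.mono le_top h4) (hlt W fun e => h2 (by
      rwa [e, inf_top_eq] at h5))
    exact ⟨s + t, h6 ▸ hs.add h1 h4 h5 ht⟩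

section imp

variable {G V : Type*} [Group G] [AddCommGroup V] [DistribMulAction G V]

/-- `W` is a block of a system of imprimitivity -/
structure Imp (G : Type*) [Group G] [DistribMulAction G V] (W : AddSubgroup V) : Prop where
  ne_bot : W ≠ ⊥
  ne_top : W ≠ ⊤
  ind : iSupIndep fun X : MulAction.orbit G W => (X : AddSubgroup V)

theorem mem_smul {g : G} {W : AddSubgroup V} {v : V} : v ∈ g • W ↔ g⁻¹ • v ∈ W :=
  AddSubgroup.mem_pointwise_smul_iff_inv_smul_mem

theorem card_smul (g : G) (W : AddSubgroup V) : Nat.card (g • W : AddSubgroup V) = Nat.card W :=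
  Nat.card_congr ⟨fun v => ⟨g⁻¹ • v.1, mem_smul.1 v.2⟩, fun v => ⟨g • v.1, mem_smul.2 (by simp)⟩,
    fun v => Subtype.ext (smul_inv_smul g v.1), fun v => Subtype.ext (inv_smul_smul g v.1)⟩

theorem indep_of_sep {κ : Type*} (D : κ → AddSubgroup V) (R : Subring (AddMonoid.End V))
    (hc : ∀ f ∈ R, ∀ f' ∈ R, f * f' = f' * f) (hD : ∀ f ∈ R, ∀ i, ∀ v ∈ D i, f v ∈ D i)
    (hs : ∀ i j, j ≠ i → ∃ f ∈ R, (∀ v ∈ D j, f v = 0) ∧ ∀ v ∈ D i, f v = 0 → v = 0) :
    iSupIndep D := by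
  intro i
  have key : ∀ v ∈ ⨆ j, ⨆ (_ : j ≠ i), D j, ∃ f ∈ R, f v = 0 ∧ ∀ v ∈ D i, f v = 0 → v = 0 := by
    intro v hv
    rw [iSup_subtype'] at hv
    induction hv using AddSubgroup.iSup_induction' with
    | hp j v hv =>
      obtain ⟨f, h1, h2, h3⟩ := hs i j.1 j.2
      exact ⟨f, h1, h2 v hv, h3⟩
    | h1 => exact ⟨1, R.one_mem, rfl, fun _ _ h => h⟩
    | hadd x y _ _ hx hy =>
      obtain ⟨f, h1, h2, h3⟩ := hx
      obtain ⟨f', h4, h5, h6⟩ := hy
      refine ⟨f * f', R.mul_mem h1 h4, ?_, fun v hv h7 => h6 v hv (h3 _ (hD f' h4 i v hv) h7)⟩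
      rw [map_add, show (f * f') y = f (f' y) from rfl, h5, map_zero, add_zero, hc f h1 f' h4]
      change f' (f x) = 0
      rw [h2, map_zero]
  refine disjoint_iff.2 (eq_bot_iff.2 fun v hv => ?_)
  obtain ⟨f, -, h2, h3⟩ := key v hv.2
  exact h3 v hv.1 h2

theorem imp_or_dom [Finite V] [Nontrivial V] (R : Subring (AddMonoid.End V))
    (hc : ∀ f ∈ R, ∀ f' ∈ R, f * f' = f' * f)
    (hn : ∀ g : G, ∀ f ∈ R, ∃ f' ∈ R, ∀ v, f' (g • v) = g • f v)
    (hirr : IrrOn (⊤ : Subgroup G) (⊤ : AddSubgroup V)) :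
    (∀ f ∈ R, ∀ v, v ≠ 0 → f v = 0 → f = 0) ∨ ∃ W : AddSubgroup V, Imp G W := by
  let Ann : AddSubgroup V → Prop := fun W =>
    W ≠ ⊥ ∧ ∀ v, (∀ f ∈ R, (∀ w ∈ W, f w = 0) → f v = 0) → v ∈ W
  obtain ⟨W, ⟨h1, h2⟩, h3⟩ := exists_minimal_of_wellFoundedLT Ann ⟨⊤, top_ne_bot, fun _ _ => trivial⟩
  have h4 : ∀ f ∈ R, ∀ v ∈ W, f v = 0 → v = 0 ∨ ∀ w ∈ W, f w = 0 := fun f hf v hv h0 => by
    refine or_iff_not_imp_left.2 fun hv0 w hw => ?_
    refine (h3 (y := W ⊓ AddMonoidHom.ker f) ⟨fun e => hv0 ?_, fun x hx => ⟨h2 x fun f' hf' h5 =>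
      hx f' hf' fun w hw => h5 w hw.1, hx f hf fun w hw => hw.2⟩⟩ inf_le_left hw).2
    exact AddSubgroup.mem_bot.1 (e ▸ ⟨hv, h0⟩)
  have h5 : ∀ f ∈ R, ∀ v ∈ W, f v ∈ W := fun f hf v hv => h2 _ fun f' hf' h6 => by
    change (f' * f) v = 0
    rw [hc f' hf' f hf]
    change f (f' v) = 0
    rw [h6 v hv, map_zero]
  by_cases hW : W = ⊤
  · subst hW
    exact Or.inl fun f hf v hv h0 =>
      AddMonoidHom.ext fun w => (h4 f hf v trivial h0).resolve_left hv w trivial
  refine Or.inr ⟨W, h1, hW, indep_of_sep _ R hc ?_ ?_⟩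
  · rintro f hf ⟨_, g, rfl⟩ v hv
    obtain ⟨f', h6, h7⟩ := hn g⁻¹ f hf
    exact mem_smul.2 (h7 v ▸ h5 f' h6 _ (mem_smul.1 hv))
  · rintro ⟨_, g, rfl⟩ ⟨_, k, rfl⟩ hne
    by_contra h6
    push Not at h6
    refine hne (Subtype.ext (AddSubgroup.eq_of_le_of_card_ge (fun v hv => ?_) ?_).symm)
    · refine mem_smul.2 (h2 _ fun f hf h7 => ?_)
      obtain ⟨f', h8, h9⟩ := hn k f hf
      obtain ⟨w, hw, h10, h11⟩ := h6 f' h8 fun x hx => by
        rw [← smul_inv_smul k x, h9, h7 _ (mem_smul.1 hx), smul_zero]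
      obtain ⟨f'', h12, h13⟩ := hn g⁻¹ f' h8
      have h14 := (h4 f'' h12 _ (mem_smul.1 hw) (by rw [h13, h10, smul_zero])).resolve_left
        (fun e => h11 ((smul_eq_zero_iff_eq _).1 e)) _ (mem_smul.1 hv)
      rw [h13, smul_eq_zero_iff_eq, ← smul_inv_smul k v, h9, smul_eq_zero_iff_eq] at h14
      exact h14
    · exact ((card_smul k W).trans (card_smul g W).symm).le

end imp

theorem fs_or_imp {G : Type*} {V : Type u} [Group G] [AddCommGroup V] [DistribMulAction G V]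
    [Finite V] [Nontrivial V] [FaithfulSMul G V] (hirr : IrrOn (⊤ : Subgroup G) (⊤ : AddSubgroup V))
    (A : Subgroup G) [hA : A.Normal] (hc : IsMulCommutative A) :
    (∃ (K : Type u) (_ : Field K) (_ : Finite K) (_ : Module K V) (σ : G →* RingAut K),
      FS V K A σ) ∨ ∃ W : AddSubgroup V, Imp G W := by
  have := finite_addEnd (V := V)
  let T := DistribMulAction.toAddMonoidEnd G V
  let R := Subring.closure (T '' A)
  have hR : ∀ a ∈ A, T a ∈ R := fun a ha => Subring.subset_closure ⟨a, ha, rfl⟩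
  have h1 : ∀ g : G, ∀ f ∈ R, T g * f * T g⁻¹ ∈ R := fun g f hf => by
    induction hf using Subring.closure_induction with
    | mem x hx =>
      obtain ⟨a, ha, rfl⟩ := hx
      simpa only [map_mul] using hR _ (hA.conj_mem a ha g)
    | zero => simp
    | one => simp [← map_mul]
    | add x y _ _ hx hy => simpa only [mul_add, add_mul] using R.add_mem hx hy
    | neg x _ hx => simpa only [mul_neg, neg_mul] using R.neg_mem hx
    | mul x y _ _ hx hy =>
      have := R.mul_mem hx hy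
      rwa [mul_assoc, ← mul_assoc (T g⁻¹), ← mul_assoc (T g⁻¹), ← map_mul, inv_mul_cancel, map_one,
        one_mul, ← mul_assoc, mul_assoc (T g)] at this
  have h2 : ∀ g ∈ centralizer (A : Set G), ∀ f ∈ R, f * T g = T g * f := fun g hg f hf =>
    Subring.closure_le (t := Subring.centralizer {T g}).2 (by
      rintro _ ⟨a, ha, rfl⟩ _ rfl
      rw [← map_mul, ← hg a ha, map_mul]) hf _ rfl |>.symm
  have h3 : ∀ f ∈ R, ∀ f' ∈ R, f * f' = f' * f := fun f hf f' hf' =>
    Subring.closure_le (t := Subring.centralizer {f}).2 (by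
      rintro _ ⟨a, ha, rfl⟩ _ rfl
      exact h2 a (le_centralizer A ha) _ hf) hf' _ rfl
  refine (imp_or_dom R h3 (fun g f hf => ⟨_, h1 g f hf, fun v => by
        change g • f (g⁻¹ • g • v) = _; rw [inv_smul_smul]⟩) hirr).imp_left fun h => ?_
  obtain ⟨v, hv⟩ := exists_ne (0 : V)
  have : Nontrivial (AddMonoid.End V) := ⟨1, 0, fun h => hv (DFunLike.congr_fun h v)⟩
  have : NoZeroDivisors R := ⟨fun {a b} hab => or_iff_not_imp_right.2 fun hb => by
    obtain ⟨w, hw⟩ := DFunLike.ne_iff.1 (mt Subtype.ext hb)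
    exact Subtype.ext (h _ a.2 _ hw (DFunLike.congr_fun (congrArg Subtype.val hab) w))⟩
  have : IsDomain R := NoZeroDivisors.to_isDomain _
  letI : Field R := (Finite.isDomain_to_isField R).toField
  letI : MulSemiringAction G R :=
    { smul := fun g f => ⟨_, h1 g f f.2⟩
      one_smul := fun f => Subtype.ext (show T 1 * f * T 1⁻¹ = f by simp)
      mul_smul := fun g k f => Subtype.ext (show T (g * k) * f * T (g * k)⁻¹ =
        T g * (T k * f * T k⁻¹) * T g⁻¹ by simp only [mul_inv_rev, map_mul, mul_assoc])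
      smul_zero := fun g => Subtype.ext (show T g * 0 * T g⁻¹ = 0 by simp)
      smul_add := fun g f f' => Subtype.ext (show T g * (f + f') * T g⁻¹ =
        T g * f * T g⁻¹ + T g * f' * T g⁻¹ by simp only [mul_add, add_mul])
      smul_one := fun g => Subtype.ext (show T g * 1 * T g⁻¹ = 1 by simp [← map_mul])
      smul_mul := fun g f f' => Subtype.ext (show T g * (f * f') * T g⁻¹ =
        T g * f * T g⁻¹ * (T g * f' * T g⁻¹) by
          simp only [mul_assoc]; rw [← mul_assoc (T g⁻¹), ← map_mul]; simp) }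
  refine ⟨R, inferInstance, inferInstance, inferInstance, MulSemiringAction.toRingAut G R,
    fun g k v => ?_, fun a ha => ⟨⟨_, hR a ha⟩, fun _ => rfl⟩, le_antisymm (fun g hg a ha => ?_)
    fun g hg => RingEquiv.ext fun k => Subtype.ext ?_, fun W hW k v hv => ?_⟩
  · change _ = g • (k : AddMonoid.End V) (g⁻¹ • g • v)
    rw [inv_smul_smul]; rfl
  · refine eq_mul_inv_iff_mul_eq.1 (eq_of_smul_eq_smul (α := V) fun v => ?_)
    rw [mul_smul, mul_smul]
    exact (DFunLike.congr_fun (congrArg Subtype.val (DFunLike.congr_fun hg ⟨_, hR a ha⟩)) v).symm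
  · change T g * k * T g⁻¹ = k
    rw [← h2 g hg k k.2, mul_assoc, ← map_mul]; simp
  · obtain ⟨k, hk⟩ := k
    change k v ∈ W
    induction hk using Subring.closure_induction generalizing v with
    | mem x hx => obtain ⟨a, ha, rfl⟩ := hx; exact hW a ha v hv
    | zero => exact W.zero_mem
    | one => exact hv
    | add x y _ _ hx hy => exact W.add_mem (hx v hv) (hy v hv)
    | neg x _ hx => exact W.neg_mem (hx v hv)
    | mul x y _ _ hx hy => exact hx _ (hy v hv)

end CF.Fgs2.Base
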