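import Cfsg.Agent.Fgs2.Base9

/-! Bases for linear groups: isometries induced by elements with many fixed points. -/

set_option autoImplicit false

namespace CF.Fgs2.Base

open Subgroup CF.Perm CF.Transfer
open scoped Pointwise commutatorElement

section iso

variable {Q K : Type*} [CommGroup Q] [Finite Q] [Field K] {β : Q →* Q →* Kˣ} {f : MulAut Q}
  {Γ : Subgroup (MulAut Q)} {T : Finset (MulAut Q)}

/-- isometries which can be induced by an element with a large fixed space -/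
def Hv (β : Q →* Q →* Kˣ) (f : MulAut Q) : Prop := Iso β f ∧ f ≠ 1 ∧
  ((f * f = 1 ∧ ∀ y, β y (dl f y) = 1) ∨ ∃ l : ℕ, l.Prime ∧ l ≠ 2 ∧ f ^ l = 1 ∧
    (∀ y, dl f (dl f (dl f y)) = 1) ∧ ∀ y, dl f y ^ l = 1)

omit [Finite Q] in
theorem hv_of_odd (h : ND β) (i : Iso β f) (h1 : f ≠ 1) {l : ℕ} (hl : l.Prime) (l2 : l ≠ 2)
    (h2 : f ^ l = 1) (h3 : ∀ y, β (dl f y) (f (dl f y)) = 1) : Hv β f := by
  have h4 : ∀ y, dl f (dl f (dl f y)) = 1 := fun y => by
    have h5 : dl f (dl (f ^ 2) (dl f y)) = 1 := (h.perp_range i).le (by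
      rintro _ ⟨x, rfl⟩
      have h6 := h3 (x * f y)
      have h7 : dl f (f y) = f (dl f y) := by simp [dl_apply]
      simp only [map_mul, MonoidHom.mul_apply, h3, one_mul, h7, i (dl f y), mul_one] at h6
      rw [dl_apply (f ^ 2), map_mul, map_inv, pow_two, MulAut.mul_apply, mul_inv_eq_one]
      exact mul_left_cancel (h6.trans (h.alt.symm _ _).symm))
    obtain ⟨k, hk⟩ := exists_pow_eq_self_of_coprime (x := f) (Nat.coprime_two_left.2
      ((hl.odd_of_ne_two l2).of_dvd_nat (orderOf_dvd_of_pow_eq_one h2)))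
    have h6 := ker_le_pow (f ^ 2) k (x := dl f (dl f y)) (by
      rw [MonoidHom.mem_ker, ← h5]
      simp only [dl_apply, pow_two, map_mul, map_inv, MulAut.mul_apply, mul_inv, inv_inv]
      ac_rfl)
    rwa [hk] at h6
  refine ⟨i, h1, Or.inr ⟨l, hl, l2, h2, h4, fun y => ?_⟩⟩
  have h5 : ∀ n : ℕ, (f ^ n) y = dl f (dl f y) ^ n.choose 2 * dl f y ^ n * y := fun n => by
    induction n with
    | zero => simp
    | succ n ih =>
      rw [pow_succ', MulAut.mul_apply, ih, map_mul, map_mul, map_pow, map_pow, dl_eq_one.1 (h4 y),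
        apply_eq f (dl f y), apply_eq f y, Nat.choose_succ_succ' n 1, Nat.choose_one_right, mul_pow,
        pow_add, pow_succ]
      ac_rfl
  have h6 := pow_apply_of_fix (dl_eq_one.1 (h4 y)) l
  have h7 := h5 l
  obtain ⟨k, rfl⟩ := hl.odd_of_ne_two l2
  rw [h2, MulAut.one_apply, eq_comm, mul_eq_right] at h6 h7
  rwa [Nat.choose_two_right, Nat.add_sub_cancel, mul_left_comm, Nat.mul_div_cancel_left _ two_pos,
    pow_mul, h6, one_pow, one_mul] at h7

theorem Hv.exists_pow {l : ℕ} (hl : l.Prime) (h : ∀ y, dl f y ^ l = 1) :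
    ∃ j, Nat.card (dl f).range = l ^ j :=
  have := Fact.mk hl
  (CF.Solv.isPGroup_of_forall_pow_eq_one (by rintro _ ⟨y, rfl⟩; exact h y)).exists_card_eq

theorem Hv.inv (h : Hv β f) (h1 : (dl f).ker = ⊥) (y : Q) : f y = y⁻¹ := by
  rcases h.2.2 with ⟨h2, -⟩ | ⟨l, hl, -, h2, -, h3⟩
  · refine eq_inv_of_mul_eq_one_left (mem_bot.1 (h1 ▸ mem_ker_dl.2 ?_))
    rw [map_mul, ← MulAut.mul_apply, h2, MulAut.one_apply, mul_comm]
  obtain ⟨j, hj⟩ := Hv.exists_pow hl h3
  have h4 := dvd_sub_ker hl h2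
  have h5 := card_ker_lt h.2.1
  rw [← card_ker_mul f, h1, card_bot, one_mul, hj] at h4 h5
  rcases j with _ | j
  · simp at h5
  · exact absurd ((Nat.dvd_sub_iff_right h5.le (dvd_pow_self l j.succ_ne_zero)).1 h4) hl.not_dvd_one

theorem sum_range_le {R c : ℕ} (hT : ∀ f ∈ T, Hv β f ∧ ((dl f).ker ≠ ⊥ → Nat.card (dl f).range ≤ R))
    (hc : ∀ S ⊆ T, (∀ f ∈ S, (dl f).ker ≠ ⊥) → S.card ≤ c) :
    ∑ f ∈ T, Nat.card (dl f).range ≤ Nat.card Q + c * R := by
  classical
  rw [← Finset.sum_filter_add_sum_filter_not T fun f => (dl f).ker = ⊥]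
  refine add_le_add ((Finset.sum_le_card_nsmul _ _ _ fun f _ => card_le_card_group _).trans ?_)
    ((Finset.sum_le_card_nsmul _ _ _ fun f hf => (hT f (Finset.mem_filter.1 hf).1).2
      (Finset.mem_filter.1 hf).2).trans (Nat.mul_le_mul_right _ (hc _ (Finset.filter_subset _ _)
        fun f hf => (Finset.mem_filter.1 hf).2)))
  refine (Nat.mul_le_mul_right _ (Finset.card_le_one.2 fun f hf g hg => MulEquiv.ext fun y => ?_)).trans
    (one_mul _).le
  rw [Finset.mem_filter] at hf hg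
  rw [(hT f hf.1).1.inv hf.2, (hT g hg.1).1.inv hg.2]

omit [Finite Q] in
theorem card_le_of_mem [Finite Γ] (hT : ∀ f ∈ T, f ∈ Γ) : T.card ≤ Nat.card Γ := by
  rw [← Nat.card_eq_finsetCard]
  exact Nat.card_le_card_of_injective (fun f => ⟨f.1, hT f f.2⟩)
    fun f g e => Subtype.ext (congrArg (fun x : Γ => x.1) e)

theorem range_dvd_lt (h1 : (dl f).ker ≠ ⊥) :
    Nat.card (dl f).range ∣ Nat.card Q ∧ 2 * Nat.card (dl f).range ≤ Nat.card Q :=
  ⟨card_subgroup_dvd_card _, card_ker_mul f ▸ Nat.mul_le_mul_right _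
    ((one_lt_card_iff_ne_bot _).2 h1)⟩

theorem one_lt_range (h1 : f ≠ 1) : 1 < Nat.card (dl f).range := by
  have h2 := card_ker_lt h1
  rw [← card_ker_mul f] at h2
  exact (Nat.lt_mul_iff_one_lt_right Nat.card_pos).1 h2

theorem Hv.le_nine (h : ND β) (a : Hv β f) (hQ : Nat.card Q = 36 ∨ Nat.card Q = 81)
    (h1 : (dl f).ker ≠ ⊥) : Nat.card (dl f).range ≤ 9 := by
  obtain ⟨h2, h3⟩ := range_dvd_lt h1
  rcases a.2.2 with ⟨-, h4⟩ | ⟨l, hl, -, -, h4, h5⟩
  · obtain ⟨e, he⟩ := h.sq_range a.1 h4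
    rw [he] at h2 h3 ⊢
    have h5 : e ≤ 6 := by rcases hQ with q | q <;> nlinarith
    rcases hQ with q | q <;> rw [q] at h2 h3 <;> interval_cases e <;> omega
  obtain ⟨j, hj⟩ := Hv.exists_pow hl h5
  have h6 := CF.Solv.card_map_mul_card_inf_ker (dl f) (dl f).range
  have h7 : Nat.card (dl f).range ≤ Nat.card (dl f).ker * Nat.card (dl f).ker :=
    h6 ▸ Nat.mul_le_mul (card_le_of_le (by rintro _ ⟨_, ⟨y, rfl⟩, rfl⟩; exact h4 y))
      (card_le_of_le inf_le_left)
  have h8 := card_ker_mul f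
  have h9 : IsPrimePow (Nat.card (dl f).range) := (isPrimePow_nat_iff _).2 ⟨l, j, hl,
    Nat.pos_of_ne_zero fun e => by
      have := one_lt_range a.2.1
      rw [hj, e, pow_zero] at this
      omega, hj.symm⟩
  have k1 : ∀ r ≤ 18, r ∣ 36 → IsPrimePow r → r ≤ 9 := by decide +kernel
  have k2 : ∀ r ≤ 40, r ∣ 81 → r ≤ 9 ∨ r = 27 := by decide +kernel
  rcases hQ with e | e <;> rw [e] at h2 h3 h8
  · exact k1 _ (by omega) h2 h9
  · refine (k2 _ (by omega) h2).resolve_right fun e => ?_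
    rw [e] at h7 h8
    rw [show Nat.card (dl f).ker = 3 by omega] at h7
    omega

theorem sixteen_le (h : ND β) (i : Iso β f) (h1 : f ≠ 1) (a : ∀ y, β y (dl f y) = 1)
    (b : ∀ y, dl f y * dl f y = 1) (c : ¬ A2 β f) : 16 ≤ Nat.card (dl f).range := by
  obtain ⟨e, he⟩ := h.sq_range i a
  obtain ⟨j, hj⟩ := Hv.exists_pow Nat.prime_two fun y => (pow_two _).trans (b y)
  obtain ⟨k, -, rfl⟩ := (Nat.dvd_prime_pow Nat.prime_two).1 ((dvd_pow_self e two_ne_zero).trans
    (he.symm.trans hj).dvd)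
  have h2 := one_lt_range h1
  rcases k with _ | _ | k
  · omega
  · exact absurd ⟨i, a, b, he⟩ c
  · rw [he]
    exact Nat.pow_le_pow_left (Nat.pow_le_pow_right (n := 2) (i := 2) two_pos (by omega)) 2

theorem Hv.two (h : ND β) (hx : ∀ x : Q, x ^ 2 = 1) (a : Hv β f) (c : ¬ A2 β f) :
    16 ≤ Nat.card (dl f).range ∧ Nat.card (dl f).range ^ 2 ≤ Nat.card Q := by
  rcases a.2.2 with ⟨h1, h2⟩ | ⟨l, hl, l2, -, -, h1⟩
  · refine ⟨sixteen_le h a.1 a.2.1 h2 (fun y => (pow_two _).symm.trans (hx _)) c, ?_⟩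
    rw [← card_ker_mul f, pow_two]
    refine Nat.mul_le_mul_right _ (card_le_of_le ?_)
    rintro _ ⟨y, rfl⟩
    rw [mem_ker_dl, dl_apply, map_mul, map_inv, ← MulAut.mul_apply, h1, MulAut.one_apply,
      inv_eq_of_mul_eq_one_right ((pow_two _).symm.trans (hx y)),
      inv_eq_of_mul_eq_one_right ((pow_two _).symm.trans (hx (f y))), mul_comm]
  refine absurd (MulEquiv.ext fun y => dl_eq_one.1 ?_) a.2.1
  rw [← pow_one (dl f y), ← ((Nat.coprime_primes Nat.prime_two hl).2 l2.symm).gcd_eq_one]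
  exact pow_gcd_eq_one.2 ⟨hx _, h1 y⟩

theorem A2.dvd (h : ND β) (a : A2 β f) : 16 ∣ Nat.card Q := by
  rw [← card_ker_mul f, a.card]
  exact mul_dvd_mul_right (a.card ▸ card_dvd_of_le (H := (dl f).range) (K := (dl f).ker) (by
    rintro _ ⟨y, rfl⟩; exact a.dl_dl h y)) 4

theorem Sy.exp_two {G : Type*} [Group G] {C : Subgroup G} {φ : G →* MulAut Q} (h : Sy C φ β) {k : ℕ}
    (hQ : Nat.card Q = 2 ^ k) (x : Q) : x ^ 2 = 1 := by
  by_contra h1
  obtain ⟨n, hn⟩ := exists_pow_prime h1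
  have h2 := (Nat.prime_dvd_prime_iff_eq hn Nat.prime_two).1
    (hn.dvd_of_dvd_pow (hQ ▸ _root_.orderOf_dvd_natCard ((x ^ 2) ^ n)))
  have h3 := h.aniso ((powMonoidHom 2).range ⊓ (powMonoidHom 2).ker) (by
    rintro g _ ⟨⟨a, rfl⟩, ha⟩
    exact ⟨⟨φ g a, by simp⟩, by simpa [← map_pow] using ha⟩) (by
    rintro _ ⟨⟨a, rfl⟩, -⟩ b ⟨-, hb⟩
    rw [powMonoidHom_apply, map_pow, MonoidHom.pow_apply, ← map_pow, show b ^ 2 = 1 from hb, map_one])
  have h4 : (x ^ 2) ^ n ∈ (⊥ : Subgroup Q) := h3 ▸ ⟨⟨x ^ n, pow_right_comm x n 2⟩,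
    orderOf_dvd_iff_pow_eq_one.1 h2.dvd⟩
  exact hn.ne_one (by rw [mem_bot.1 h4, orderOf_one])

end iso

/-- the weight of an element of prime order -/
noncomputable def wt {G : Type*} [Group G] (g : G) : ℚ :=
  if (orderOf g).Prime then 1 / ((orderOf g : ℚ) - 1) else 0

theorem wt_nonneg {G : Type*} [Group G] (g : G) : 0 ≤ wt g := by
  unfold wt
  split_ifs with h
  · exact div_nonneg zero_le_one (sub_nonneg.2 (by exact_mod_cast h.one_le))
  · rfl

theorem wt_le_one {G : Type*} [Group G] (g : G) : wt g ≤ 1 := by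
  unfold wt
  split_ifs with h
  · have : (2 : ℚ) ≤ orderOf g := by exact_mod_cast h.two_le
    exact (div_le_one (by linarith)).2 (by linarith)
  · exact zero_le_one

section fix

variable {G V : Type*} [Group G] [AddCommGroup V] [DistribMulAction G V] {ι : Type}

/-- the number of tuples in `D` fixed by `g` -/
noncomputable def cnt (D : Finset (ι → V)) (g : G) : ℕ := Nat.card {t : D // ∀ i, g • t.1 i = t.1 i}

theorem exists_reg_of_wsum [Fintype G] (D : Finset (ι → V))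
    (h : ∑ g : G, wt g * cnt D g < D.card) : ∃ t : ι → V, RegOn (⊤ : Subgroup G) ⊤ t := by
  classical
  by_contra h1
  refine h.not_ge ?_
  have h2 : ∀ g : G, (cnt D g : ℚ) = ∑ t : D, if ∀ i, g • t.1 i = t.1 i then 1 else 0 := fun g => by
    rw [cnt, Nat.card_eq_fintype_card, Fintype.card_subtype, Finset.sum_boole]
  simp only [h2, Finset.mul_sum]
  rw [Finset.sum_comm, ← Fintype.card_coe, ← Finset.card_univ, ← nsmul_one]
  refine Finset.card_nsmul_le_sum _ _ _ fun t _ => ?_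
  obtain ⟨g, h3, h4⟩ : ∃ g : G, (∀ i, g • t.1 i = t.1 i) ∧ g ≠ 1 := by
    by_contra! h3
    exact h1 ⟨t, fun _ => trivial, fun g _ hg v _ => by rw [h3 g hg, one_smul]⟩
  obtain ⟨k, hk⟩ := exists_pow_prime h4
  replace h3 : ∀ i, g ^ k • t.1 i = t.1 i := fun i => fx_le_pow g k (h3 i)
  generalize g ^ k = x at h3 hk
  have := Fact.mk hk
  have h5 : (2 : ℚ) ≤ orderOf x := by exact_mod_cast hk.two_le
  refine le_trans ?_ (Finset.sum_le_sum_of_subset_of_nonneg
    (Finset.subset_univ ((Finset.univ.filter (· ∈ zpowers x)).erase 1))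
    fun g _ _ => mul_nonneg (wt_nonneg g) (by split_ifs <;> norm_num))
  rw [Finset.sum_congr rfl (g := fun _ => 1 / ((orderOf x : ℚ) - 1)) fun y hy => ?_, Finset.sum_const,
    Finset.card_erase_of_mem (by simp), ← Fintype.card_subtype, ← Nat.card_eq_fintype_card,
    Nat.card_zpowers, nsmul_eq_mul, Nat.cast_pred hk.pos, mul_one_div_cancel (by linarith)]
  simp only [Finset.mem_erase, Finset.mem_filter] at hy
  have h6 : orderOf y = orderOf x := orderOf_eq_prime (orderOf_dvd_iff_pow_eq_one.1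
    (orderOf_dvd_of_mem_zpowers hy.2.2)) hy.1
  rw [wt, h6, if_pos hk, if_pos fun i => MulAction.mem_stabilizer_iff.1
    ((zpowers_le (H := MulAction.stabilizer G (t.1 i))).2 (h3 i) hy.2.2), mul_one]

theorem cnt_le_pow [Finite V] [Fintype ι] [DecidableEq (ι → V)] [Fintype (ι → V)] (g : G) :
    cnt ((Finset.univ : Finset (ι → V)).erase 0) g ≤ Nat.card (fx V g) ^ Fintype.card ι - 1 := by
  classical
  have := Fintype.ofFinite (ι → fx V g)
  refine Nat.le_sub_one_of_lt ?_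
  rw [← Nat.card_eq_fintype_card, ← Nat.card_fun, cnt, Nat.card_eq_fintype_card,
    Nat.card_eq_fintype_card]
  exact Fintype.card_lt_of_injective_of_notMem (fun t i => ⟨t.1.1 i, t.2 i⟩)
    (fun a b e => Subtype.ext (Subtype.ext (funext fun i => congrArg Subtype.val (congrFun e i))))
    (b := 0) fun ⟨t, e⟩ => Finset.ne_of_mem_erase t.1.2
      (funext fun i => congrArg Subtype.val (congrFun e i))

theorem card_mul_le' [Finite V] {U W Z : AddSubgroup V} (h1 : U ≤ Z) (h2 : W ≤ Z) :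
    Nat.card U * Nat.card W ≤ Nat.card Z * Nat.card (U ⊓ W : AddSubgroup V) := by
  have := card_mul_le (U.addSubgroupOf Z) (W.addSubgroupOf Z)
  rwa [show U.addSubgroupOf Z ⊓ W.addSubgroupOf Z = (U ⊓ W).addSubgroupOf Z from rfl, Nat.card_congr (AddSubgroup.addSubgroupOfEquivOfLe h1).toEquiv,
    Nat.card_congr (AddSubgroup.addSubgroupOfEquivOfLe h2).toEquiv,
    Nat.card_congr (AddSubgroup.addSubgroupOfEquivOfLe (inf_le_left.trans h1)).toEquiv] at this

theorem exists_ne_zero [Finite V] {U W : AddSubgroup V} (h1 : Nat.card V < Nat.card U ^ 2)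
    (h2 : Nat.card V < Nat.card W ^ 2) : ∃ v ∈ U, v ∈ W ∧ v ≠ 0 := by
  by_contra! h3
  have h4 := card_mul_le U W
  rw [(eq_bot_iff (a := U ⊓ W)).2 fun v hv => h3 v hv.1 hv.2, AddSubgroup.card_bot] at h4
  nlinarith [Nat.mul_le_mul h4 h4, Nat.mul_lt_mul'' h1 h2]

theorem card_fx_modEq [Finite V] {g : G} {l : ℕ} (hl : l.Prime) (h : g ^ l = 1) :
    Nat.card V ≡ Nat.card (fx V g) [MOD l] := by
  have := Fact.mk hl
  have h1 := (CF.Solv.isPGroup_of_forall_pow_eq_one (N := zpowers g) (p := l) (by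
    rintro _ ⟨n, rfl⟩
    rw [← zpow_natCast, ← zpow_mul, mul_comm, zpow_mul, zpow_natCast, h, one_zpow])
      ).card_modEq_card_fixedPoints V
  rwa [show MulAction.fixedPoints (zpowers g) V = fx V g from Set.ext fun v =>
    ⟨fun hv => hv ⟨g, mem_zpowers g⟩, fun hv x => (zpowers_le (H := MulAction.stabilizer G v)).2 hv x.2⟩] at h1

end fix

end CF.Fgs2.Base
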