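import Cfsg.Agent.Fgs2.Base10

/-! Bases for linear groups: fixed spaces in the quasi-primitive case. -/

set_option autoImplicit false

namespace CF.Fgs2.Base

open Subgroup CF.Perm CF.Transfer
open scoped Pointwise commutatorElement

universe u

/-- the data of the quasi-primitive case -/
structure QP {G : Type*} (V : Type*) {K Q : Type*} [Group G] [AddCommGroup V]
    [DistribMulAction G V] [Field K] [Module K V] [CommGroup Q] (A M : Subgroup G)
    (σ : G →* RingAut K) (φ : G →* MulAut Q) (β : Q →* Q →* Kˣ) (p : M →* Q) : Prop where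
  fs : FS V K A σ
  am : AM A M
  surj : Function.Surjective p
  ker : ∀ m, p m = 1 ↔ (m : G) ∈ A
  conj : ∀ g (m : M), φ g (p m) = p ⟨g * m * g⁻¹, am.Mn.conj_mem _ m.2 g⟩
  sy : Sy (centralizer (A : Set G)) φ β
  comm : ∀ (x y : M) (v : V), (x : G) • (y : G) • v = (β (p x) (p y) : K) • (y : G) • (x : G) • v
  triv : ∀ c ∈ centralizer (A : Set G), φ c = 1 ↔ c ∈ M
  card : Nat.card Q = A.relIndex M

theorem exists_QP {G : Type u} {V K : Type*} [Group G] [AddCommGroup V] [DistribMulAction G V]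
    [Field K] [Module K V] {A M : Subgroup G} {σ : G →* RingAut K} [Nontrivial V]
    [FaithfulSMul G V] (h : FS V K A σ) (hM : AM A M) :
    ∃ (Q : Type u) (_ : CommGroup Q) (φ : G →* MulAut Q) (β : Q →* Q →* Kˣ) (p : M →* Q),
      QP V A M σ φ β p := by
  obtain ⟨Q, _, φ, β, p, p1, p2, p3, p4, p5, p6, p7⟩ := exists_Sy h hM
  exact ⟨Q, _, φ, β, p, h, hM, p1, p2, p3, p4, p5, p6, p7⟩

/-- elements with a large fixed space -/
def Hy {G : Type*} (V : Type*) [Group G] [AddCommGroup V] [DistribMulAction G V] (g : G) : Prop :=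
  Nat.card V < Nat.card (fx V g) ^ 2

namespace QP

variable {G V K Q : Type*} [Group G] [Finite G] [AddCommGroup V] [Finite V] [Nontrivial V]
  [DistribMulAction G V] [FaithfulSMul G V] [Field K] [Finite K] [Module K V] [CommGroup Q]
  [Finite Q] {A M : Subgroup G} {σ : G →* RingAut K} {φ : G →* MulAut Q} {β : Q →* Q →* Kˣ}
  {p : M →* Q} (h : QP V A M σ φ β p) {g g' : G}
include h

set_option linter.unusedSectionVars false

local notation "𝐂" => centralizer (A : Set G)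

theorem iso (hg : g ∈ 𝐂) : Iso β (φ g) := h.sy.inv g hg

theorem iso' : ∀ f ∈ (𝐂).map φ, Iso β f := by rintro _ ⟨g, hg, rfl⟩; exact h.iso hg

/-- the commutator with an element of `M` -/
def br (g : G) (m : M) : M := ⟨⁅g, m.1⁆, M.mul_mem (h.am.Mn.conj_mem _ m.2 g) (M.inv_mem m.2)⟩

theorem p_br (g : G) (m : M) : p (h.br g m) = dl (φ g) (p m) := by
  rw [dl_apply, h.conj, ← map_inv, ← map_mul]; rfl

theorem one_of_fix {x y : M} {v : V} (hv : v ≠ 0) (h1 : x.1 • v = v) (h2 : y.1 • v = v) :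
    β (p x) (p y) = 1 := by
  have := h.comm x y v
  rw [h2, h1, h2] at this
  exact Units.ext (smul_left_injective K hv (by simpa using this.symm))

theorem commute_iff {x y : M} : Commute x.1 y.1 ↔ β (p x) (p y) = 1 := by
  obtain ⟨v, hv⟩ := exists_ne (0 : V)
  refine ⟨fun e => ?_, fun e => eq_of_smul_eq_smul (α := V) fun v => by
    rw [mul_smul, mul_smul, h.comm, e, Units.val_one, one_smul]⟩
  have := h.comm x y v
  rw [← mul_smul, e.eq, mul_smul] at this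
  exact Units.ext (smul_left_injective K (m := y.1 • x.1 • v) (by
    rwa [ne_eq, smul_eq_zero_iff_eq, smul_eq_zero_iff_eq]) (by simpa using this.symm))

theorem fx_pow (x : M) (y : Q) {s : ℕ} (hs : s ≤ orderOf (β (p x) y)) :
    Nat.card (fx V x.1) ^ s ≤ Nat.card V := by
  obtain ⟨y, rfl⟩ := h.surj y
  exact card_fx_pow_comm h.fs (h.am.cen x.2) (h.am.cen y.2) (h.comm x y) hs

theorem fx_sq (x : M) (hx : p x ≠ 1) : Nat.card (fx V x.1) ^ 2 ≤ Nat.card V := by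
  obtain ⟨y, hy⟩ := not_forall.1 (mt h.sy.nondeg hx)
  refine h.fx_pow x y ?_
  have h1 := mt orderOf_eq_one_iff.1 hy
  have h2 := (isOfFinOrder_of_finite (β (p x) y)).orderOf_pos
  omega

theorem not_mem (hg : Hy V g) (hA : g ∉ A) : g ∉ M := fun h1 =>
  (h.fx_sq ⟨g, h1⟩ (mt (h.ker _).1 hA)).not_gt hg

theorem fx_four (hg : g ∈ 𝐂) (hA : g ∉ M) : Nat.card (fx V g) ^ 4 ≤ Nat.card V ^ 3 := by
  obtain ⟨y, hy⟩ := not_forall.1 (mt (MulEquiv.ext (g := 1)) (mt (h.triv g hg).1 hA))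
  obtain ⟨m, rfl⟩ := h.surj y
  have h1 := h.fx_sq (h.br g m) (by rw [h.p_br]; exact mt dl_eq_one.1 hy)
  calc _ = (Nat.card (fx V g) ^ 2) ^ 2 := by ring
    _ ≤ (Nat.card V * Nat.card (fx V ⁅g, m.1⁆)) ^ 2 := Nat.pow_le_pow_left (card_fx_sq_le g m) 2
    _ ≤ Nat.card V ^ 2 * Nat.card V := by rw [mul_pow]; exact Nat.mul_le_mul_left _ h1
    _ = _ := by ring

theorem eq_one_of_fix {a : G} (ha : a ∈ A) {v : V} (hv : v ≠ 0) (h1 : a • v = v) : a = 1 :=
  by_contra fun h2 => hv (AddSubgroup.mem_bot.1 (fx_eq_bot h.fs ha h2 ▸ (h1 : v ∈ fx V a)))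

theorem exists_fix (hg : Hy V g) (m : G) : ∃ v : V, v ≠ 0 ∧ g • v = v ∧ ⁅g, m⁆ • v = v := by
  obtain ⟨v, h1, h2, h3⟩ := exists_ne_zero hg (W := fx V (m * g * m⁻¹)) (by rwa [card_fx_conj])
  exact ⟨v, h3, h1, by rw [show ⁅g, m⁆ = g * (m * g * m⁻¹)⁻¹ by rw [commutatorElement_def]; group,
    mul_smul, inv_smul_eq_iff.2 (mem_fx.1 h2).symm, mem_fx.1 h1]⟩

theorem commute (hg : Hy V g) {m : M} (hm : φ g (p m) = p m) : Commute g m := by
  obtain ⟨v, h1, -, h2⟩ := h.exists_fix hg m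
  exact commutatorElement_eq_one_iff_commute.1 (h.eq_one_of_fix ((h.ker (h.br g m)).1
    (by rw [h.p_br, dl_eq_one, hm])) h1 h2)

theorem alt (hg : Hy V g) (h2 : g * g = 1) (y : Q) : β y (dl (φ g) y) = 1 := by
  obtain ⟨m, rfl⟩ := h.surj y
  have h3 := h.commute hg (m := m * ⟨g * m * g⁻¹, h.am.Mn.conj_mem _ m.2 g⟩) (by
    rw [map_mul, ← h.conj, map_mul, ← MulAut.mul_apply, ← map_mul, h2, map_one, mul_comm]; rfl)
  rw [dl_apply, map_mul, map_inv, h.sy.alt, inv_one, mul_one, h.conj, ← h.commute_iff]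
  have h4 : g⁻¹ = g := inv_eq_of_mul_eq_one_right h2
  have h5 : g * (m * (g * m * g⁻¹)) = m * (g * m * g⁻¹) * g := h3
  change m * (g * m * g⁻¹) = g * m * g⁻¹ * m
  rw [h4] at h5 ⊢
  calc _ = m * (g * m * g) * g * g := by rw [mul_assoc _ g g, h2, mul_one]
    _ = _ := by rw [← h5]; simp only [mul_assoc, h2, mul_one]

theorem hv (hg : Hy V g) (hC : g ∈ 𝐂) (hA : g ∉ A) (hp : (orderOf g).Prime) : Hv β (φ g) := by
  have h1 : φ g ≠ 1 := mt (h.triv g hC).1 (h.not_mem hg hA)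
  by_cases h2 : orderOf g = 2
  · have h3 : g * g = 1 := (pow_two g).symm.trans (h2 ▸ pow_orderOf_eq_one g)
    exact ⟨h.iso hC, h1, Or.inl ⟨by rw [← map_mul, h3, map_one], h.alt hg h3⟩⟩
  refine hv_of_odd h.sy.nd (h.iso hC) h1 hp h2 (by rw [← map_pow, pow_orderOf_eq_one, map_one])
    fun y => ?_
  obtain ⟨m, rfl⟩ := h.surj y
  obtain ⟨v, h3, h4, h5⟩ := h.exists_fix hg m
  rw [← h.p_br, h.conj]
  refine h.one_of_fix h3 h5 ?_
  change (g * ⁅g, m.1⁆ * g⁻¹) • v = v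
  rw [mul_smul, mul_smul, inv_smul_eq_iff.2 h4.symm, h5, h4]

theorem mem_of_eq (hg : g ∈ 𝐂) (hg' : g' ∈ 𝐂) (e : φ g = φ g') : g⁻¹ * g' ∈ M :=
  (h.triv _ (mul_mem (inv_mem hg) hg')).1 (by rw [map_mul, map_inv, e, inv_mul_cancel])

theorem card_heavy (f : MulAut Q) (S : Finset G) (hS : ∀ g ∈ S, g ∈ 𝐂 ∧ Hy V g ∧ φ g = f) :
    S.card ≤ Nat.card (dl f).range := by
  rcases S.eq_empty_or_nonempty with rfl | ⟨x, hx⟩
  · simp
  obtain ⟨h1, h2, rfl⟩ := hS x hx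
  rw [← Nat.card_eq_finsetCard, ← h.sy.nd.perp_ker (h.iso h1)]
  refine Nat.card_le_card_of_injective (fun g => ⟨p ⟨x⁻¹ * g, h.mem_of_eq h1 (hS g g.2).1
    (hS g g.2).2.2.symm⟩, fun y hy => ?_⟩) fun g k e => Subtype.ext ?_
  · obtain ⟨m, rfl⟩ := h.surj y
    exact h.commute_iff.1 ((h.commute h2 (mem_ker_dl.1 hy)).inv_left.mul_left
      (h.commute (hS g g.2).2.1 ((hS g g.2).2.2 ▸ mem_ker_dl.1 hy))).symm
  obtain ⟨v, h3, h4, h5⟩ := exists_ne_zero (hS g g.2).2.1 (hS k k.2).2.1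
  have h6 := inv_mul_eq_one.2 (congrArg Subtype.val e)
  rw [← map_inv, ← map_mul, h.ker] at h6
  exact inv_mul_eq_one.1 (h.eq_one_of_fix (a := g.1⁻¹ * k.1) (by simpa [mul_assoc] using h6) h5
    (by rw [mul_smul, mem_fx.1 h4, inv_smul_eq_iff, mem_fx.1 h3]))

theorem five_eight (hg : Hy V g) (hC : g ∈ 𝐂) (h2 : g * g = 1) (b : ∀ y, dl (φ g) y * dl (φ g) y = 1)
    (h16 : 16 ≤ Nat.card (dl (φ g)).range) : Nat.card (fx V g) ^ 8 ≤ Nat.card V ^ 5 := by
  have nd := h.sy.nd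
  have two : ∀ {y}, dl (φ g) y ≠ 1 → Nat.card (zpowers (dl (φ g) y)) = 2 := fun {y} e =>
    (Nat.card_zpowers _).trans (orderOf_eq_prime ((pow_two _).trans (b y)) e)
  obtain ⟨y, hy⟩ : ∃ y, dl (φ g) y ≠ 1 := by
    by_contra! e
    rw [(eq_bot_iff (a := (dl (φ g)).range)).2 (by rintro _ ⟨y, rfl⟩; exact e y), card_bot] at h16
    omega
  obtain ⟨z, h3, hz⟩ : ∃ z ∈ perp β (zpowers (dl (φ g) y)), dl (φ g) z ∉ zpowers (dl (φ g) y) := by
    by_contra! e
    have a1 := card_le_of_le (map_le_iff_le_comap.2 (show perp β (zpowers (dl (φ g) y)) ≤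
      (zpowers (dl (φ g) y)).comap (dl (φ g)) from e))
    have a2 := CF.Solv.card_map_mul_card_inf_ker (dl (φ g)) (perp β (zpowers (dl (φ g) y)))
    have a3 := nd.card_mul_perp (zpowers (dl (φ g) y))
    have a4 := Nat.mul_le_mul a1 (card_le_of_le (inf_le_left : (dl (φ g)).ker ⊓
      perp β (zpowers (dl (φ g) y)) ≤ _))
    have a5 := Nat.mul_le_mul_left (Nat.card (dl (φ g)).ker) h16
    have a6 : 0 < Nat.card (dl (φ g)).ker := Nat.card_pos
    rw [card_ker_mul] at a5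
    rw [two hy] at a3 a4
    omega
  obtain ⟨r, h4, h5⟩ : ∃ r ∈ perp β (zpowers (dl (φ g) y)), r ∉ perp β (zpowers (dl (φ g) z)) :=
    SetLike.not_le_iff_exists.1 fun e => hz (by
      have := perp_anti (β := β) e
      rw [nd.perp_perp, nd.perp_perp] at this
      exact this (mem_zpowers _))
  obtain ⟨s, h6⟩ := not_forall.1 (mt nd.nondeg hy)
  obtain ⟨m, rfl⟩ := h.surj y
  obtain ⟨n, rfl⟩ := h.surj z
  obtain ⟨r, rfl⟩ := h.surj r
  obtain ⟨s, rfl⟩ := h.surj s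
  rw [mem_perp_zpowers, ← h.p_br] at h3 h4 h5
  rw [← h.p_br] at hy h6
  have b' := b (p m)
  rw [← h.p_br, ← map_mul, h.ker] at b'
  have gi : g⁻¹ = g := inv_eq_of_mul_eq_one_right h2
  have cj : ∀ m : M, m * g * m.1⁻¹ = g * (h.br g m).1 := fun m => by
    change _ = g * (g * m * g⁻¹ * m.1⁻¹)
    rw [gi, ← mul_assoc, ← mul_assoc, ← mul_assoc, h2, one_mul]
  have cg : g * (h.br g m).1 * (g * (h.br g m).1) = 1 := by
    rw [← cj, conj_mul, h2, mul_one, mul_inv_cancel]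
  have c1 := cj m
  have c2 := cj n
  generalize h.br g m = u at *
  generalize h.br g n = u' at *
  have uu : u.1 * u.1 = 1 := by
    obtain ⟨v, a1, a2, a3⟩ := exists_ne_zero hg (W := fx V (m * g * m.1⁻¹)) (by rwa [card_fx_conj])
    rw [c1, mem_fx, mul_smul, ← mem_fx.1 a1, smul_left_cancel_iff, mem_fx.1 a1] at a2
    exact h.eq_one_of_fix b' a3 (by rw [mul_smul, a2, a2])
  have gu : Commute g u := by
    have := eq_inv_of_mul_eq_one_left cg
    rwa [mul_inv_rev, gi, inv_eq_of_mul_eq_one_right uu] at this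
  have hneg : (β (p s) (p u) : K) = -1 ∧ (β (p s) (p u) : K) ≠ 1 := by
    have a1 : (β (p s) (p u) : K) ≠ 1 := fun e => h6 (nd.alt.symm' (Units.val_eq_one.1 e))
    refine ⟨(mul_self_eq_one_iff.1 ?_).resolve_left a1, a1⟩
    rw [← Units.val_mul, ← map_mul, ← map_mul, show u * u = 1 from Subtype.ext uu, map_one, map_one,
      Units.val_one]
  have hE : ∀ v, v ∈ fx V (s * u * s.1⁻¹) ↔ u.1 • v = -v := fun v => by
    rw [mem_fx, mul_smul, mul_smul, h.comm s u, smul_inv_smul, hneg.1, neg_one_smul, neg_eq_iff_eq_neg]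
  have hne : ∀ v : V, v = -v → v = 0 := fun v e => by_contra fun hv =>
    hneg.2 (smul_left_injective K hv (by simpa [hneg.1] using e.symm))
  let W := fx V g ⊓ fx V u.1
  have hW : ∀ x : G, Commute x u → (∀ v ∈ fx V x ⊓ fx V u.1, v ∈ W) → Nat.card (fx V x) ≤
      Nat.card W * Nat.card (fx V x ⊓ fx V (s * u * s.1⁻¹) : AddSubgroup V) := fun x hx h7 => by
    let ψ : fx V x →+ V := (fx V x).subtype + (DistribSMul.toAddMonoidHom V u.1).comp (fx V x).subtype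
    rw [← ψ.ker.index_mul_card, AddSubgroup.index_ker]
    refine Nat.mul_le_mul (AddSubgroup.card_le_of_le ?_) (Nat.card_le_card_of_injective
      (fun v => ⟨v.1.1, v.1.2, (hE _).2 (eq_neg_of_add_eq_zero_right v.2)⟩)
      fun a b e => Subtype.ext (Subtype.ext (congrArg (fun x => x.1) e)))
    rintro _ ⟨v, rfl⟩
    refine h7 (v.1 + u.1 • v.1) ⟨mem_fx.2 ?_, mem_fx.2 ?_⟩
    · rw [smul_add, ← mul_smul, hx.eq, mul_smul, mem_fx.1 v.2]
    · rw [smul_add, ← mul_smul, uu, one_smul, add_comm]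
  have e1 := hW g gu fun _ h => h
  have e2 := hW (g * u) (gu.mul_left (Commute.refl _)) fun v hv => ⟨by
    have := mem_fx.1 hv.1
    rwa [mul_smul, mem_fx.1 hv.2] at this, hv.2⟩
  have e3 := card_mul_le' (inf_le_right : fx V g ⊓ fx V (s * u * s.1⁻¹) ≤ _)
    (inf_le_right : fx V (g * u) ⊓ fx V (s * u * s.1⁻¹) ≤ _)
  rw [(eq_bot_iff (a := fx V g ⊓ fx V (s * u * s.1⁻¹) ⊓ (fx V (g * u) ⊓ fx V (s * u * s.1⁻¹)))).2
    fun v hv => hne v (by
      have := mem_fx.1 hv.2.1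
      rw [mul_smul, (hE v).1 hv.1.2, smul_neg, mem_fx.1 hv.1.1] at this
      exact this.symm), AddSubgroup.card_bot, mul_one, card_fx_conj] at e3
  rw [show Nat.card (fx V (g * u)) = Nat.card (fx V g) by rw [← c1, card_fx_conj]] at e2
  have sm : ∀ x : M, β (p u) (p x) = 1 → ∀ Z : AddSubgroup V, Z ≤ fx V u.1 → x.1 • Z ≤ fx V u.1 :=
    fun x hx Z hZ => by
      rintro _ ⟨v, hv, rfl⟩
      change u.1 • x.1 • v = x.1 • v
      rw [h.comm, hx, Units.val_one, one_smul, mem_fx.1 (hZ hv)]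
  have e4 := card_mul_le' (inf_le_right : W ≤ _) (sm n h3 W inf_le_right)
  let Z := fx V u.1 ⊓ fx V u'.1
  have e5 : Nat.card (W ⊓ n.1 • W : AddSubgroup V) ≤ Nat.card Z :=
    AddSubgroup.card_le_of_le fun v hv => ⟨hv.1.2, by
      have a1 : v ∈ fx V (n * g * n.1⁻¹) := by rw [fx_conj]; exact mem_smul.2 (mem_smul.1 hv.2).1
      rwa [c2, mem_fx, mul_smul, ← mem_fx.1 hv.1.1, smul_left_cancel_iff, mem_fx.1 hv.1.1] at a1⟩
  have e6 := card_mul_le' (inf_le_left : Z ≤ _) (sm r h4 Z inf_le_left)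
  rw [(eq_bot_iff (a := Z ⊓ r.1 • Z)).2 (by
    rintro _ ⟨hv, w, hw, rfl⟩
    by_contra a1
    have a2 := h.comm u' r w
    rw [mem_fx.1 hw.2] at a2
    exact h5 (Units.ext (smul_left_injective K a1 (by
      simpa using a2.symm.trans (mem_fx.1 hv.2))))), AddSubgroup.card_bot, mul_one, card_smul] at e6
  rw [card_smul] at e4
  have e7 := h.fx_sq u hy
  replace e4 := e4.trans (Nat.mul_le_mul_left _ e5)
  have e8 := (Nat.mul_le_mul e1 e2).trans ((mul_mul_mul_comm _ _ _ _).trans_le (Nat.mul_le_mul e4 e3))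
  generalize Nat.card (fx V g) = F at *
  generalize Nat.card (fx V u.1) = U at *
  generalize Nat.card Z = z at *
  calc F ^ 8 = (F * F) ^ 4 := by ring
    _ ≤ (U * z * U) ^ 4 := Nat.pow_le_pow_left e8 4
    _ = (U ^ 2) ^ 4 * (z * z) ^ 2 := by ring
    _ ≤ (U ^ 2) ^ 4 * U ^ 2 := by gcongr
    _ ≤ Nat.card V ^ 4 * Nat.card V := by gcongr
    _ = _ := by ring

theorem fx_three (hg : Hy V g) (hC : g ∈ 𝐂) (hA : g ∉ A) (hp : (orderOf g).Prime)
    (c : ¬ A2 β (φ g)) : Nat.card (fx V g) ^ 3 ≤ Nat.card V ^ 2 := by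
  have a := h.hv hg hC hA hp
  by_cases b : ∀ y, dl (φ g) y * dl (φ g) y = 1
  · have h2 : orderOf g = 2 := by_contra fun e => a.2.1 (MulEquiv.ext fun y => ?_)
    · have h3 : g * g = 1 := (pow_two g).symm.trans (h2 ▸ pow_orderOf_eq_one g)
      have h4 := h.five_eight hg hC h3 b (sixteen_le h.sy.nd a.1 a.2.1 (h.alt hg h3) b c)
      refine (Nat.pow_le_pow_iff_left (n := 8) (by norm_num)).1 ?_
      calc _ = (Nat.card (fx V g) ^ 8) ^ 3 := by ring
        _ ≤ (Nat.card V ^ 5) ^ 3 := by gcongr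
        _ ≤ _ := by rw [← pow_mul, ← pow_mul]; exact Nat.pow_le_pow_right Nat.card_pos (by norm_num)
    have h3 : φ g ^ orderOf g = 1 := by rw [← map_pow, pow_orderOf_eq_one, map_one]
    rcases a.2.2 with ⟨h4, -⟩ | ⟨l, hl, l2, -, -, h4⟩
    · refine DFunLike.congr_fun (?_ : φ g = 1) y
      rw [← pow_one (φ g), ← ((Nat.coprime_primes Nat.prime_two hp).2 (Ne.symm e)).gcd_eq_one]
      exact pow_gcd_eq_one.2 ⟨(pow_two _).trans h4, h3⟩
    refine dl_eq_one.1 ?_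
    rw [← pow_one (dl _ y), ← ((Nat.coprime_primes Nat.prime_two hl).2 l2.symm).gcd_eq_one]
    exact pow_gcd_eq_one.2 ⟨(pow_two _).trans (b y), h4 y⟩
  obtain ⟨y, hy⟩ := not_forall.1 b
  obtain ⟨m, rfl⟩ := h.surj y
  obtain ⟨z, hz⟩ := not_forall.1 (mt h.sy.nondeg hy)
  rw [← h.p_br, map_mul, MonoidHom.mul_apply, ← pow_two] at hz
  have h1 := h.fx_pow (h.br g m) z (s := 3) (by
    have h1 := mt orderOf_dvd_iff_pow_eq_one.1 hz
    have h2 := (isOfFinOrder_of_finite (β (p (h.br g m)) z)).orderOf_pos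
    by_contra! h3
    interval_cases orderOf (β (p (h.br g m)) z) <;> simp at h1)
  refine (Nat.pow_le_pow_iff_left two_ne_zero).1 ?_
  calc _ = (Nat.card (fx V g) ^ 2) ^ 3 := by ring
    _ ≤ (Nat.card V * Nat.card (fx V ⁅g, m.1⁆)) ^ 3 := Nat.pow_le_pow_left (card_fx_sq_le g m) 3
    _ ≤ Nat.card V ^ 3 * Nat.card V := by rw [mul_pow]; exact Nat.mul_le_mul_left _ h1
    _ = _ := by ring

end QP

end CF.Fgs2.Base
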