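import Cfsg.Agent.Fgs2.Base11

/-! Bases for linear groups: the counting argument in the quasi-primitive case. -/

set_option autoImplicit false

namespace CF.Fgs2.Base

open Subgroup CF.Perm CF.Transfer
open scoped Pointwise commutatorElement

/-- elements of prime order above `f` with non-zero fixed points -/
def Lt {G : Type*} (V : Type*) {Q : Type*} [Group G] [AddCommGroup V] [DistribMulAction G V]
    [Group Q] (A : Subgroup G) (φ : G →* MulAut Q) (f : MulAut Q) (S : Finset G) : Prop :=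
  ∀ g ∈ S, g ∈ centralizer (A : Set G) ∧ g ∉ A ∧ (orderOf g).Prime ∧ fx V g ≠ ⊥ ∧ φ g = f

theorem le_div_of_pow {w d n a b : ℕ} (hw : 2 ≤ w) (hb : 0 < b) (h : (w ^ d) ^ b ≤ (w ^ n) ^ a) :
    d ≤ a * n / b := by
  rw [← pow_mul, ← pow_mul, Nat.pow_le_pow_iff_right hw] at h
  exact (Nat.le_div_iff_mul_le hb).2 (mul_comm n a ▸ h)

namespace QP

variable {G V K Q : Type*} [Group G] [Finite G] [AddCommGroup V] [Finite V] [Nontrivial V]
  [DistribMulAction G V] [FaithfulSMul G V] [Field K] [Finite K] [Module K V] [CommGroup Q]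
  [Finite Q] {A M : Subgroup G} {σ : G →* RingAut K} {φ : G →* MulAut Q} {β : Q →* Q →* Kˣ}
  {p : M →* Q} (h : QP V A M σ φ β p) {g g' : G} {f : MulAut Q} {S : Finset G}
include h

set_option linter.unusedSectionVars false

local notation "𝐂" => centralizer (A : Set G)

theorem sum_le (hS : Lt V A φ f S) (I : Set Q)
    (hI : ∀ g ∈ S, ∀ g' ∈ S, ∀ m : M, m.1 = g⁻¹ * g' → p m ∈ I) {r : ℚ} (h0 : 0 ≤ r)
    (hr : ∀ g ∈ S, (orderOf g : ℚ) ≤ r * (orderOf g - 1) ∨
      (¬ orderOf g ∣ Nat.card A ∧ 1 ≤ r * (orderOf g - 1))) :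
    ∑ g ∈ S, wt g ≤ Nat.card I * r := by
  classical
  rcases S.eq_empty_or_nonempty with rfl | ⟨x, hx⟩
  · simpa using mul_nonneg (Nat.cast_nonneg _) h0
  have hm : ∀ g ∈ S, x⁻¹ * g ∈ M := fun g hg =>
    h.mem_of_eq (hS x hx).1 (hS g hg).1 ((hS x hx).2.2.2.2.trans (hS g hg).2.2.2.2.symm)
  let ψ : G → Q := fun g => if h : x⁻¹ * g ∈ M then p ⟨_, h⟩ else 1
  have := Fintype.ofFinite I
  rw [← Finset.sum_fiberwise_of_maps_to (g := ψ) (t := I.toFinset) fun g hg => by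
    simpa only [ψ, dif_pos (hm g hg), Set.mem_toFinset] using hI x hx g hg _ rfl,
    Nat.card_eq_card_toFinset, ← nsmul_eq_mul]
  refine Finset.sum_le_card_nsmul _ _ _ fun q _ => ?_
  rcases (S.filter fun g => ψ g = q).eq_empty_or_nonempty with e | ⟨y, hy⟩
  · simpa [e] using h0
  rw [Finset.mem_filter] at hy
  have h1 : ∀ g ∈ S.filter fun g => ψ g = q, y⁻¹ * g ∈ A ∧ (y⁻¹ * g) ^ orderOf y = 1 ∧
      orderOf g = orderOf y := fun g hg => by
    rw [Finset.mem_filter] at hg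
    have h1 := inv_mul_eq_one.2 (hy.2.trans hg.2.symm)
    simp only [ψ, dif_pos (hm g hg.1), dif_pos (hm y hy.1), ← map_inv, ← map_mul, h.ker] at h1
    replace h1 : y⁻¹ * g ∈ A := by simpa [mul_assoc] using h1
    have h2 : g ^ orderOf y = (y⁻¹ * g) ^ orderOf y := by
      rw [← mul_inv_cancel_left y g, (show Commute y _ from ((hS y hy.1).1 _ h1).symm).mul_pow,
        pow_orderOf_eq_one, one_mul, inv_mul_cancel_left]
    have h3 : orderOf g = orderOf y := by_contra fun e => by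
      obtain ⟨k, hk⟩ := exists_pow_eq_self_of_coprime (x := g)
        ((Nat.coprime_primes (hS y hy.1).2.2.1 (hS g hg.1).2.2.1).2 (Ne.symm e))
      exact (hS g hg.1).2.1 (hk ▸ pow_mem (h2 ▸ pow_mem h1 _) k)
    exact ⟨h1, by rw [← h2, ← h3, pow_orderOf_eq_one], h3⟩
  have h2 := (hS y hy.1).2.2.1
  have h3 : (2 : ℚ) ≤ orderOf y := by exact_mod_cast h2.two_le
  rw [Finset.sum_congr rfl (g := fun _ => 1 / ((orderOf y : ℚ) - 1)) fun g hg => by
    rw [wt, (h1 g hg).2.2, if_pos h2], Finset.sum_const, nsmul_eq_mul, mul_one_div,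
    div_le_iff₀ (by linarith)]
  rcases hr y hy.1 with h4 | ⟨h4, h5⟩
  · refine le_trans (Nat.cast_le.2 ?_) h4
    have := h.fs.isCyclic
    have := Fintype.ofFinite A
    refine le_trans (Finset.card_le_card_of_injOn (fun g => if h : y⁻¹ * g ∈ A then ⟨_, h⟩ else 1)
      (fun g hg => ?_) fun g hg k hk e => ?_) (IsCyclic.card_pow_eq_one_le (α := A) h2.pos)
    · simpa [dif_pos (h1 g hg).1, Subtype.ext_iff] using (h1 g hg).2.1
    · simpa [dif_pos (h1 g hg).1, dif_pos (h1 k hk).1] using e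
  refine le_trans (Nat.cast_le_one.2 (Finset.card_le_one.2 fun g hg k hk => ?_)) h5
  have key : ∀ g ∈ S.filter fun g => ψ g = q, y = g := fun g hg => by_contra fun e => by
    have := Fact.mk h2
    exact h4 (orderOf_eq_prime (h1 g hg).2.1 (mt inv_mul_eq_one.1 e) ▸
      A.orderOf_dvd_natCard (h1 g hg).1)
  exact (key g hg).symm.trans (key k hk)

theorem sum_le_two (hS : Lt V A φ f S) : ∑ g ∈ S, wt g ≤ 2 * Nat.card Q := by
  have := h.sum_le hS Set.univ (fun _ _ _ _ _ _ => trivial) zero_le_two fun g hg => Or.inl (by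
    have : (2 : ℚ) ≤ orderOf g := by exact_mod_cast (hS g hg).2.2.1.two_le
    linarith)
  rwa [Nat.card_univ, mul_comm] at this

theorem order_eq (hS : Lt V A φ f S) (h1 : f ≠ 1) (hg : g ∈ S) : orderOf g = orderOf f := by
  have := Fact.mk (hS g hg).2.2.1
  exact (orderOf_eq_prime (by rw [← (hS g hg).2.2.2.2, ← map_pow, pow_orderOf_eq_one, map_one])
    h1).symm

theorem sum_le_inv (hS : Lt V A φ f S) (hx : ∀ x : Q, x ^ 2 = 1) (h1 : f ≠ 1) (h2 : f * f = 1) :
    ∑ g ∈ S, wt g ≤ 2 * Nat.card (dl f).ker := by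
  have h3 : ∀ g ∈ S, orderOf g = 2 := fun g hg =>
    (h.order_eq hS h1 hg).trans (orderOf_eq_prime ((pow_two f).trans h2) h1)
  have h4 : ∀ g ∈ S, g⁻¹ = g := fun g hg => inv_eq_of_mul_eq_one_right
    ((pow_two g).symm.trans (h3 g hg ▸ pow_orderOf_eq_one g))
  have := h.sum_le hS (dl f).ker (fun g hg g' hg' m hm => mem_ker_dl.2 (by
    rw [← (hS g hg).2.2.2.2, h.conj, ← inv_eq_of_mul_eq_one_right ((pow_two _).symm.trans (hx (p m))),
      ← map_inv]
    refine congrArg p (Subtype.ext ?_)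
    change g * m * g⁻¹ = m.1⁻¹
    rw [hm, mul_inv_cancel_left, mul_inv_rev, inv_inv, h4 g hg, h4 g' hg'])) zero_le_two
      fun g hg => Or.inl (by rw [h3 g hg]; norm_num)
  rwa [mul_comm] at this

theorem sum_le_odd (hS : Lt V A φ f S) (h1 : f ≠ 1) (h2 : f * f ≠ 1) :
    ∑ g ∈ S, wt g ≤ Nat.card Q * (3 / 2) ∧ ((∀ l, l.Prime → l ∣ Nat.card A → l = 2) →
      ∑ g ∈ S, wt g ≤ Nat.card Q * (1 / 2)) := by
  have h3 : ∀ g ∈ S, orderOf g ≠ 2 := fun g hg e => h2 ((pow_two f).symm.trans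
    (orderOf_dvd_iff_pow_eq_one.1 ((h.order_eq hS h1 hg).symm.trans e).dvd))
  have h4 : ∀ g ∈ S, (3 : ℚ) ≤ orderOf g := fun g hg => by
    exact_mod_cast (hS g hg).2.2.1.two_le.lt_of_ne' (h3 g hg)
  refine ⟨Nat.card_univ (α := Q) ▸ h.sum_le hS Set.univ (fun _ _ _ _ _ _ => trivial) (by norm_num)
    fun g hg => Or.inl (by linarith [h4 g hg]), fun h5 => Nat.card_univ (α := Q) ▸ h.sum_le hS Set.univ
      (fun _ _ _ _ _ _ => trivial) (by norm_num) fun g hg => Or.inr ⟨fun e => h3 g hg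
        (h5 _ (hS g hg).2.2.1 e), by linarith [h4 g hg]⟩⟩

/-- the fixed space as a subspace -/
def fs' (hg : g ∈ 𝐂) : Submodule K V :=
  { fx V g with smul_mem' := fun k v hv => mem_fx.2 (by rw [h.fs.comm hg, mem_fx.1 hv]) }

theorem card_fx (hg : g ∈ 𝐂) : Nat.card (fx V g) = Nat.card K ^ Module.finrank K (h.fs' hg) :=
  Module.natCard_eq_pow_finrank (V := h.fs' hg)

theorem master {ι : Type} (D : Finset (ι → V)) (Φ : ℕ → ℕ) (hΦ : Monotone Φ) (h0 : Φ 0 = 0)
    {s N X L O : ℕ} (hC : ∀ g (hg : g ∈ 𝐂), cnt D g ≤ Φ (Module.finrank K (h.fs' hg)))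
    (hO : ∀ g ∉ 𝐂, cnt D g ≤ s)
    (hN : ∀ T : Finset (MulAut Q), (∀ f ∈ T, f ∈ (𝐂).map φ ∧ A2 β f) → 4 * T.card ≤ N)
    (hX : ∀ T : Finset (MulAut Q), (∀ f ∈ T, f ∈ (𝐂).map φ ∧ Hv β f ∧ ¬ A2 β f) →
      ∑ f ∈ T, Nat.card (dl f).range ≤ X)
    (lam : MulAut Q → ℚ) (hl : ∀ f ∈ (𝐂).map φ, ∀ S, Lt V A φ f S → ∑ g ∈ S, wt g ≤ lam f)
    (hL : ∀ T : Finset (MulAut Q), (∀ f ∈ T, f ∈ (𝐂).map φ) → ∑ f ∈ T, lam f ≤ L)
    (hO' : ((𝐂).index - 1) * Nat.card 𝐂 ≤ O)
    (hlt : N * Φ (3 * Module.finrank K V / 4) + X * Φ (2 * Module.finrank K V / 3) +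
      L * Φ (Module.finrank K V / 2) + O * s < D.card) :
    ∃ t : ι → V, RegOn (⊤ : Subgroup G) ⊤ t := by
  classical
  have := Fintype.ofFinite G
  refine exists_reg_of_wsum D (lt_of_le_of_lt ?_ (Nat.cast_lt.2 hlt))
  have hw : 2 ≤ Nat.card K := Finite.one_lt_card
  have hV : Nat.card V = Nat.card K ^ Module.finrank K V := Module.natCard_eq_pow_finrank
  let S1 := Finset.univ.filter fun g => g ∈ 𝐂 ∧ Hy V g ∧ A2 β (φ g)
  let S2 := Finset.univ.filter fun g => g ∈ 𝐂 ∧ Hy V g ∧ Hv β (φ g) ∧ ¬ A2 β (φ g)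
  let S3 := Finset.univ.filter fun g => g ∈ 𝐂 ∧ g ∉ A ∧ (orderOf g).Prime ∧ fx V g ≠ ⊥
  let S4 := Finset.univ.filter fun g => g ∉ 𝐂
  have key : ∀ g : G, wt g * cnt D g ≤ (if g ∈ S1 then (Φ (3 * Module.finrank K V / 4) : ℚ) else 0) +
      (if g ∈ S2 then (Φ (2 * Module.finrank K V / 3) : ℚ) else 0) +
      (if g ∈ S3 then wt g * Φ (Module.finrank K V / 2) else 0) +
      if g ∈ S4 then (s : ℚ) else 0 := fun g => by
    have a0 := wt_nonneg g
    have a1 : ∀ {x : ℕ}, cnt D g ≤ x → wt g * cnt D g ≤ x := fun e =>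
      (mul_le_of_le_one_left (Nat.cast_nonneg _) (wt_le_one g)).trans (Nat.cast_le.2 e)
    have a2 : ∀ {P : Prop} [Decidable P] {x : ℕ}, 0 ≤ if P then (x : ℚ) else 0 := by
      intros; split_ifs <;> positivity
    have a3 : 0 ≤ if g ∈ S3 then wt g * Φ (Module.finrank K V / 2) else 0 := by
      split_ifs <;> positivity
    by_cases hg : g ∈ 𝐂
    swap
    · rw [if_pos (show g ∈ S4 by simpa [S4] using hg)]
      exact (a1 (hO g hg)).trans (le_add_of_nonneg_left (add_nonneg (add_nonneg a2 a2) a3))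
    refine le_trans ?_ (le_add_of_nonneg_right a2)
    by_cases hp : (orderOf g).Prime
    swap
    · rw [wt, if_neg hp, zero_mul]
      exact add_nonneg (add_nonneg a2 a2) (by simp)
    have a4 := h.card_fx hg
    by_cases hb : fx V g = ⊥
    · rw [hb, AddSubgroup.card_bot, eq_comm, Nat.pow_eq_one] at a4
      have a5 := hC g hg
      rw [a4.resolve_left (by omega), h0] at a5
      exact (a1 a5).trans (Nat.cast_zero.trans_le (add_nonneg (add_nonneg a2 a2) a3))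
    have hA : g ∉ A := fun e => hb (fx_eq_bot h.fs e fun e' => hp.ne_one (by rw [e', orderOf_one]))
    by_cases hy : Hy V g
    swap
    · rw [if_pos (show g ∈ S3 by simp [S3, hg, hA, hp, hb])]
      refine le_add_of_nonneg_of_le (add_nonneg a2 a2) (mul_le_mul_of_nonneg_left (Nat.cast_le.2
        ((hC g hg).trans (hΦ ?_))) a0)
      simpa using le_div_of_pow (a := 1) hw two_pos (by rw [← a4, ← hV, pow_one]; exact not_lt.1 hy)
    refine le_add_of_le_of_nonneg ?_ a3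
    by_cases ha : A2 β (φ g)
    · rw [if_pos (show g ∈ S1 by simp [S1, hg, hy, ha])]
      exact le_add_of_le_of_nonneg (a1 ((hC g hg).trans (hΦ (le_div_of_pow hw four_pos
        (by rw [← a4, ← hV]; exact h.fx_four hg (h.not_mem hy hA)))))) a2
    · rw [if_pos (show g ∈ S2 by simp [S2, hg, hy, ha, h.hv hy hg hA hp])]
      exact le_add_of_nonneg_of_le a2 (a1 ((hC g hg).trans (hΦ (le_div_of_pow hw three_pos
        (by rw [← a4, ← hV]; exact h.fx_three hy hg hA hp ha)))))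
  refine (Finset.sum_le_sum fun g _ => key g).trans ?_
  simp only [Finset.sum_add_distrib, Finset.sum_ite_mem, Finset.univ_inter, Finset.sum_const,
    nsmul_eq_mul, ← Finset.sum_mul]
  have hv : ∀ (S : Finset G) f, (∀ g ∈ S, g ∈ 𝐂 ∧ Hy V g) →
      (S.filter fun g => φ g = f).card ≤ Nat.card (dl f).range := fun S f hS =>
    h.card_heavy f _ fun g hg => ⟨(hS g (Finset.mem_filter.1 hg).1).1,
      (hS g (Finset.mem_filter.1 hg).1).2, (Finset.mem_filter.1 hg).2⟩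
  have b1 : S1.card ≤ N := by
    have b : ∀ f ∈ S1.image φ, f ∈ (𝐂).map φ ∧ A2 β f := fun f hf => by
      obtain ⟨g, hg, rfl⟩ := Finset.mem_image.1 hf
      exact ⟨⟨g, (Finset.mem_filter.1 hg).2.1, rfl⟩, (Finset.mem_filter.1 hg).2.2.2⟩
    exact (Finset.card_le_mul_card_image _ 4 fun f hf => (b f hf).2.card ▸ hv S1 f fun g hg =>
      ⟨(Finset.mem_filter.1 hg).2.1, (Finset.mem_filter.1 hg).2.2.1⟩).trans (hN _ b)
  have b2 : S2.card ≤ X := by
    rw [Finset.card_eq_sum_card_image φ]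
    refine (Finset.sum_le_sum fun f _ => hv S2 f fun g hg => ⟨(Finset.mem_filter.1 hg).2.1,
      (Finset.mem_filter.1 hg).2.2.1⟩).trans (hX _ fun f hf => ?_)
    obtain ⟨g, hg, rfl⟩ := Finset.mem_image.1 hf
    exact ⟨⟨g, (Finset.mem_filter.1 hg).2.1, rfl⟩, (Finset.mem_filter.1 hg).2.2.2⟩
  have b3 : ∑ g ∈ S3, wt g ≤ L := by
    have b : ∀ f ∈ S3.image φ, f ∈ (𝐂).map φ := fun f hf => by
      obtain ⟨g, hg, rfl⟩ := Finset.mem_image.1 hf
      exact ⟨g, (Finset.mem_filter.1 hg).2.1, rfl⟩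
    rw [← Finset.sum_fiberwise_of_maps_to fun g hg => Finset.mem_image_of_mem φ hg]
    refine (Finset.sum_le_sum fun f hf => hl f (b f hf) _ fun g hg => ?_).trans (hL _ b)
    simpa [S3, and_assoc] using hg
  have b4 : S4.card ≤ O := by
    refine le_trans (le_of_eq ?_) hO'
    rw [Nat.sub_one_mul, index_mul_card]
    rw [show S4 = _ from Finset.filter_not _ _, Finset.card_univ_diff,
      ← Fintype.card_subtype, Nat.card_eq_fintype_card, Nat.card_eq_fintype_card]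
  push_cast
  gcongr

theorem cnt_outer {ι : Type} [Fintype ι] (hg : g ∉ 𝐂) :
    Nat.card (fx V g) ^ Fintype.card ι ≤
      Nat.card K ^ ((Fintype.card ι * Module.finrank K V + 1) / 2) := by
  have h1 := card_fx_pow_semi h.fs g (s := 2) (by
    have h1 := mt orderOf_eq_one_iff.1 fun e => hg (h.fs.ker.le e)
    have h2 : 0 < orderOf (σ g) := (σ.isOfFinOrder (isOfFinOrder_of_finite g)).orderOf_pos
    omega)
  refine (Nat.pow_le_pow_iff_left two_ne_zero).1 ?_
  rw [Module.natCard_eq_pow_finrank (K := K) (V := V)] at h1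
  rw [pow_right_comm]
  refine (Nat.pow_le_pow_left h1 _).trans ?_
  rw [← pow_mul, ← pow_mul, mul_comm]
  exact Nat.pow_le_pow_right Nat.card_pos (by omega)

end QP

end CF.Fgs2.Base
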