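import Cfsg.Agent.Fgs2.Base12

/-! Bases for linear groups: the numerical inequalities. -/

set_option autoImplicit false

namespace CF.Fgs2.Base

/-- the inequality at a base point -/
def chk (t κ δ w n N X L O : ℕ) : Prop :=
  κ * (N * w ^ (t * (3 * n / 4)) + X * w ^ (t * (2 * n / 3)) + L * w ^ (t * (n / 2))) +
    O * w ^ ((t * n + 1) / 2 + δ) < κ * w ^ (t * n)

instance (t κ δ w n N X L O : ℕ) : Decidable (chk t κ δ w n N X L O) := by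
  unfold chk; infer_instance

/-- arithmetic conditions on the parameters -/
def cnd (t e w f : ℕ) : Prop := 3 ≤ w ∧ (t = 2 → w % 2 = 1) ∧
  (∀ r ≤ e, r.Prime → r ∣ e → r ∣ w - 1) ∧ ∃ k ≤ w, k ^ f = w

instance (t e w f : ℕ) : Decidable (cnd t e w f) := by unfold cnd; infer_instance

/-- the table of base points -/
def tab (t e n B N X L : ℕ) (P : ℕ → Bool) : Prop :=
  (∀ w ≤ 32, ∀ f ≤ 5, cnd t e w f ∧ P w = true →
    chk t 1 0 w n N X L ((f - 1) * (B * (e ^ 2 * (w - 1))))) ∧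
  (P 33 = true → chk t 8 2 33 n N X L (B * e ^ 2))

instance (t e n B N X L : ℕ) (P : ℕ → Bool) : Decidable (tab t e n B N X L P) := by
  unfold tab; infer_instance

theorem pw {w w₀ i j i₀ j₀ : ℕ} (h : w₀ ≤ w) (h0 : 0 < w₀) (h1 : i + j₀ ≤ j + i₀) (h2 : i₀ ≤ j₀) :
    w ^ i * w₀ ^ j₀ ≤ w₀ ^ i₀ * w ^ j := by
  obtain ⟨d, rfl⟩ := Nat.exists_eq_add_of_le h2
  calc _ = w₀ ^ i₀ * (w ^ i * w₀ ^ d) := by ring
    _ ≤ w₀ ^ i₀ * (w ^ i * w ^ d) := by gcongr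
    _ ≤ _ := by rw [← pow_add]; exact Nat.mul_le_mul_left _ (Nat.pow_le_pow_right (by omega) (by omega))

theorem chk.mono {t κ δ w₀ n₀ N X L O' w n O : ℕ} (h : chk t κ δ w₀ n₀ N X L O')
    (ht : t = 2 ∨ t = 3) (hw : w₀ ≤ w) (h0 : 0 < w₀) (hn : n₀ ≤ n)
    (hδ : (t * n₀ + 1) / 2 + δ ≤ t * n₀) (hO : κ * O ≤ O' * w ^ δ) : chk t 1 0 w n N X L O := by
  have a1 := pw (i := t * (3 * n / 4)) (j := t * n) (i₀ := t * (3 * n₀ / 4)) (j₀ := t * n₀) hw h0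
    (by rcases ht with rfl | rfl <;> omega) (by rcases ht with rfl | rfl <;> omega)
  have a2 := pw (i := t * (2 * n / 3)) (j := t * n) (i₀ := t * (2 * n₀ / 3)) (j₀ := t * n₀) hw h0
    (by rcases ht with rfl | rfl <;> omega) (by rcases ht with rfl | rfl <;> omega)
  have a3 := pw (i := t * (n / 2)) (j := t * n) (i₀ := t * (n₀ / 2)) (j₀ := t * n₀) hw h0
    (by rcases ht with rfl | rfl <;> omega) (by rcases ht with rfl | rfl <;> omega)
  have a4 := pw (i := (t * n + 1) / 2 + δ) (j := t * n) (i₀ := (t * n₀ + 1) / 2 + δ) (j₀ := t * n₀)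
    hw h0 (by rcases ht with rfl | rfl <;> omega) hδ
  have a5 : 0 < w ^ (t * n) := Nat.pow_pos (by omega)
  unfold chk at h ⊢
  rw [pow_add] at a4
  rw [one_mul, one_mul, add_zero]
  refine Nat.lt_of_mul_lt_mul_left (a := κ * w₀ ^ (t * n₀)) (lt_of_le_of_lt ?_
    (Nat.mul_lt_mul_of_pos_right h a5))
  calc _ = κ * (N * (w ^ (t * (3 * n / 4)) * w₀ ^ (t * n₀)) + X * (w ^ (t * (2 * n / 3)) *
        w₀ ^ (t * n₀)) + L * (w ^ (t * (n / 2)) * w₀ ^ (t * n₀))) +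
        κ * O * (w ^ ((t * n + 1) / 2) * w₀ ^ (t * n₀)) := by ring
    _ ≤ κ * (N * (w₀ ^ (t * (3 * n₀ / 4)) * w ^ (t * n)) + X * (w₀ ^ (t * (2 * n₀ / 3)) *
        w ^ (t * n)) + L * (w₀ ^ (t * (n₀ / 2)) * w ^ (t * n))) +
        O' * w ^ δ * (w ^ ((t * n + 1) / 2) * w₀ ^ (t * n₀)) := by gcongr
    _ ≤ _ := by
      have := Nat.mul_le_mul_left O' a4
      nlinarith

theorem two_pow_ge {f : ℕ} (h : 5 ≤ f) : 8 * (f - 1) ≤ 2 ^ f := by
  induction f, h using Nat.le_induction with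
  | base => norm_num
  | succ f h ih => rw [pow_succ]; omega

theorem tab.use {t e n₀ B N X L w n f k O : ℕ} {P : ℕ → Bool} (h : tab t e n₀ B N X L P)
    (ht : t = 2 ∨ t = 3) (h0 : 5 ≤ t * n₀) (hw : 3 ≤ w) (h2 : t = 2 → w % 2 = 1)
    (hp : ∀ r, r.Prime → r ∣ e → r ∣ w - 1) (hk : 2 ≤ k) (hf : w = k ^ f)
    (hP : P (min w 33) = true) (hn : n₀ ≤ n) (hO : O ≤ (f - 1) * (B * (e ^ 2 * (w - 1)))) : chk t 1 0 w n N X L O := by
  have h1 : 2 ^ f ≤ w := hf ▸ Nat.pow_le_pow_left hk f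
  rcases le_or_gt w 32 with h3 | h3
  · refine (h.1 w h3 f ((Nat.pow_le_pow_iff_right (a := 2) (by norm_num)).1 (by omega))
      ⟨⟨hw, h2, fun r _ => hp r, k, hf ▸ Nat.le_self_pow (by rintro rfl; simp at hf; omega) k, hf.symm⟩,
        by rwa [min_eq_left (by omega)] at hP⟩).mono ht le_rfl (by omega) hn (by omega) (by simpa using hO)
  refine (h.2 (by rwa [min_eq_right h3] at hP)).mono ht h3 (by norm_num) hn (by omega) ?_
  have h4 : 8 * (f - 1) ≤ w := by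
    rcases le_or_gt 5 f with h4 | h4
    exacts [(two_pow_ge h4).trans h1, by omega]
  calc _ ≤ 8 * (f - 1) * (B * (e ^ 2 * (w - 1))) := by rw [mul_assoc]; gcongr
    _ ≤ w * (B * (e ^ 2 * w)) := by gcongr; omega
    _ = _ := by ring

theorem num_forty {e : ℕ} (he : 40 ≤ e) : 64 * e ^ 21 < 9 ^ e := by
  induction e, he using Nat.le_induction with
  | base => norm_num
  | succ e he ih =>
    have h2 := Nat.pow_le_pow_left (show 40 * (e + 1) ≤ 41 * e by omega) 21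
    rw [mul_pow, mul_pow] at h2
    rw [pow_succ 9]
    generalize (e + 1) ^ 21 = x at *
    generalize e ^ 21 = y at *
    omega

theorem chk_big {t e N X L O : ℕ} (ht : t = 2 ∨ t = 3) (he : 40 ≤ e) (h1 : N ≤ e ^ 4)
    (h2 : X ≤ e ^ 7) (h3 : L ≤ e ^ 7) (h4 : O ≤ e ^ 7) : chk t 1 2 3 e N X L O := by
  have k := num_forty he
  have key : ∀ {a i : ℕ}, a ≤ e ^ 7 → 3 * i + 2 * e ≤ 3 * (t * e) → 4 * (a * 3 ^ i) < 3 ^ (t * e) :=
    fun {a i} ha hi => lt_of_pow_lt_pow_left₀ 3 (Nat.zero_le _) (by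
      calc _ ≤ (4 * (e ^ 7 * 3 ^ i)) ^ 3 := by gcongr
        _ = 64 * e ^ 21 * 3 ^ (3 * i) := by ring
        _ < 9 ^ e * 3 ^ (3 * i) := by gcongr
        _ ≤ _ := by
          rw [show 9 = 3 ^ 2 from rfl, ← pow_mul, ← pow_add, ← pow_mul]
          exact Nat.pow_le_pow_right (by norm_num) (by omega))
  have a1 : 4 * (N * 3 ^ (t * (3 * e / 4))) < 3 ^ (t * e) :=
    lt_of_pow_lt_pow_left₀ 4 (Nat.zero_le _) (by
      calc _ ≤ (4 * (e ^ 4 * 3 ^ (t * (3 * e / 4)))) ^ 4 := by gcongr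
        _ = 64 * (4 * e ^ 16) * 3 ^ (4 * (t * (3 * e / 4))) := by ring
        _ ≤ 64 * (e ^ 5 * e ^ 16) * 3 ^ (4 * (t * (3 * e / 4))) := by
          gcongr; exact le_trans (by omega) (Nat.le_self_pow (by norm_num) e)
        _ < 9 ^ e * 3 ^ (4 * (t * (3 * e / 4))) := by rw [← pow_add]; gcongr
        _ ≤ _ := by
          rw [show 9 = 3 ^ 2 from rfl, ← pow_mul, ← pow_add, ← pow_mul]
          exact Nat.pow_le_pow_right (by norm_num) (by rcases ht with rfl | rfl <;> omega))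
  have a2 := key (i := t * (2 * e / 3)) h2 (by rcases ht with rfl | rfl <;> omega)
  have a3 := key (i := t * (e / 2)) h3 (by rcases ht with rfl | rfl <;> omega)
  have a4 := key (i := (t * e + 1) / 2 + 2) h4 (by rcases ht with rfl | rfl <;> omega)
  unfold chk
  omega

/-- the generic bound for the number of alternating involutions -/
def gN (e : ℕ) : ℕ := if 4 ∣ e then 4 * (e ^ 4 / 6) else 0

theorem tab_gen3 : ∀ e < 40, 5 ≤ e ∧ e ≠ 8 ∧ e ≠ 9 → tab 3 e e (e ^ 5 / 5) (gN e)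
    (e ^ 2 + e ^ 5 / 5 * (e ^ 2 / 2)) (e ^ 5 / 5 * (2 * e ^ 2)) fun _ => true := by
  decide +kernel

theorem tab_gen2 : ∀ e < 40, 7 ≤ e ∧ e ≠ 8 ∧ e ≠ 9 ∧ e ≠ 16 → tab 2 e e (e ^ 5 / 5) (gN e)
    (e ^ 2 + e ^ 5 / 5 * (e ^ 2 / 2)) (e ^ 5 / 5 * (2 * e ^ 2)) fun _ => true := by
  decide +kernel

theorem tab3 : tab 3 2 2 6 0 0 48 (· != 3) ∧ tab 3 2 3 6 0 0 48 (fun _ => true) ∧
    tab 3 3 3 24 0 33 432 (· != 4) ∧ tab 3 3 4 24 0 33 432 (fun _ => true) ∧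
    tab 3 4 4 72 24 0 2304 (· != 3) ∧ tab 3 4 5 72 24 0 2304 (fun _ => true) ∧
    tab 3 8 8 6553 180 0 838784 (· != 3) ∧ tab 3 8 8 6553 180 0 211808 (· == 3) ∧
    tab 3 9 9 11809 0 106362 1913058 (fun _ => true) := by decide +kernel

theorem tab2 : tab 2 2 3 6 0 0 48 (fun _ => true) ∧ tab 2 3 3 24 0 33 432 (fun _ => true) ∧
    tab 2 4 4 72 24 0 2304 (11 ≤ ·) ∧ tab 2 4 4 72 24 0 1040 (· == 7) ∧
    tab 2 4 5 72 24 0 2304 (· == 5) ∧ tab 2 4 4 20 0 0 640 (7 ≤ ·) ∧ tab 2 4 4 4 0 0 128 (· == 5) ∧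
    tab 2 4 5 20 0 0 640 (fun _ => true) ∧ tab 2 4 4 20 0 0 72 (· == 3) ∧
    tab 2 5 5 120 0 1465 6000 (fun _ => true) ∧ tab 2 6 6 210 0 1926 15120 (fun _ => true) ∧
    tab 2 8 8 6553 180 0 838784 (7 ≤ ·) ∧ tab 2 8 8 6553 180 0 211808 (· == 5) ∧
    tab 2 8 8 42 0 0 5376 (· == 3) ∧ tab 2 9 9 11809 0 106362 1913058 (fun _ => true) ∧
    tab 2 16 16 209715 43688 26843776 107374080 (· != 3) ∧
    tab 2 16 16 15625 0 250256 8000000 (· == 3) := by decide +kernel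

end CF.Fgs2.Base
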