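import Cfsg.Agent.Fgs2.Base13

/-! Bases for linear groups: bounds for the classes of elements, and independent tuples. -/

set_option autoImplicit false

namespace CF.Fgs2.Base

open Subgroup CF.Perm CF.Transfer
open scoped Pointwise commutatorElement

section iso

variable {Q K : Type*} [CommGroup Q] [Finite Q] [Field K] {β : Q →* Q →* Kˣ} {f : MulAut Q}
  {Γ : Subgroup (MulAut Q)} {e B : ℕ}

/-- bound for the alternating involutions -/
def NB (β : Q →* Q →* Kˣ) (Γ : Subgroup (MulAut Q)) (N : ℕ) : Prop :=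
  ∀ T : Finset (MulAut Q), (∀ f ∈ T, f ∈ Γ ∧ A2 β f) → 4 * T.card ≤ N

/-- bound for the other isometries with large fixed spaces -/
def XB (β : Q →* Q →* Kˣ) (Γ : Subgroup (MulAut Q)) (X : ℕ) : Prop :=
  ∀ T : Finset (MulAut Q), (∀ f ∈ T, f ∈ Γ ∧ Hv β f ∧ ¬ A2 β f) →
    ∑ f ∈ T, Nat.card (dl f).range ≤ X

omit [Finite Q] in
theorem NB.zero (h : ∀ f ∈ Γ, ¬ A2 β f) (N : ℕ) : NB β Γ N := fun T hT => by
  rw [Finset.eq_empty_of_forall_notMem fun f hf => h f (hT f hf).1 (hT f hf).2]; simp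

theorem NB.gen (h : ND β) (he : Nat.card Q = e ^ 2) : NB β Γ (gN e) := by
  unfold gN
  split_ifs with h4
  · intro T hT
    have := h.card_A2_le T fun f hf => (hT f hf).2
    rw [he, ← pow_mul] at this
    exact Nat.mul_le_mul_left _ ((Nat.le_div_iff_mul_le (by norm_num)).2 this)
  · exact NB.zero (fun f _ a => h4 ((Nat.pow_dvd_pow_iff two_ne_zero).1 (he ▸ a.dvd h))) _

omit [Finite Q] in
theorem NB.three [Finite Γ] [Group.IsSolvable Γ] (h : ND β) (i : ∀ f ∈ Γ, Iso β f)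
    (o : Cfsg.pCore 2 Γ = ⊥) (h3 : ¬ 3 ∣ Nat.card Γ) (N : ℕ) : NB β Γ N :=
  NB.zero (fun _ hf a => h3 (h.three_dvd i o hf a)) N

theorem XB.of {R : ℕ} (he : Nat.card Q = e) (hB : Nat.card Γ ≤ B)
    (h : ∀ f, Hv β f → ¬ A2 β f → (dl f).ker ≠ ⊥ → Nat.card (dl f).range ≤ R) :
    XB β Γ (e + B * R) := fun T hT => he ▸ sum_range_le (fun f hf =>
  ⟨(hT f hf).2.1, h f (hT f hf).2.1 (hT f hf).2.2⟩) fun _ hS _ =>
    (card_le_of_mem fun f hf => (hT f (hS hf)).1).trans hB

theorem XB.gen (he : Nat.card Q = e) (hB : Nat.card Γ ≤ B) : XB β Γ (e + B * (e / 2)) :=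
  XB.of he hB fun f _ _ h => by have := (range_dvd_lt h).2; omega

theorem XB.two (h : ND β) (hx : ∀ x : Q, x ^ 2 = 1) (he : Nat.card Q < 256) : XB β Γ 0 :=
  fun T hT => by
    rw [Finset.eq_empty_of_forall_notMem (s := T) fun f hf => ?_, Finset.sum_empty]
    obtain ⟨h1, h2⟩ := (hT f hf).2.1.two h hx (hT f hf).2.2
    nlinarith

theorem XB.three (h : ND β) (he : Nat.card Q = 9) : XB β Γ 33 := fun T hT => by
  have key : ∀ f ∈ T, (dl f).ker ≠ ⊥ → Nat.card (dl f).range = 3 := fun f hf h1 => by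
    obtain ⟨h2, h3⟩ := range_dvd_lt h1
    have h4 := one_lt_range (hT f hf).2.1.2.1
    rw [he] at h2 h3
    have : Nat.card (dl f).range ≤ 4 := by omega
    interval_cases Nat.card (dl f).range <;> omega
  exact (sum_range_le (R := 3) (c := 8) (fun f hf => ⟨(hT f hf).2.1, fun e => (key f hf e).le⟩)
    fun S hS h1 => Nat.lt_succ_iff.1 ((h.card_prime_lt S fun f hf => ⟨(hT f (hS hf)).2.1.1,
      key f (hS hf) (h1 f hf) ▸ Nat.prime_three⟩).trans_eq he)).trans (by rw [he])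

end iso

/-- bound for the weighted number of elements of prime order -/
def LB {G : Type*} (V : Type*) {Q : Type*} [Group G] [AddCommGroup V] [DistribMulAction G V]
    [Group Q] (A : Subgroup G) (φ : G →* MulAut Q) (L : ℕ) : Prop :=
  ∃ lam : MulAut Q → ℚ, (∀ f ∈ (centralizer (A : Set G)).map φ, ∀ S, Lt V A φ f S →
    ∑ g ∈ S, wt g ≤ lam f) ∧ ∀ T : Finset (MulAut Q),
      (∀ f ∈ T, f ∈ (centralizer (A : Set G)).map φ) → ∑ f ∈ T, lam f ≤ L

theorem sum_ite_le {α : Type*} (T : Finset α) (P : α → Prop) [DecidablePred P] {c : ℚ} (hc : 0 ≤ c)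
    {k : ℕ} (h : (T.filter P).card ≤ k) : ∑ f ∈ T, (if P f then c else 0) ≤ k * c := by
  rw [← Finset.sum_filter, Finset.sum_const, nsmul_eq_mul]
  gcongr

theorem pCore_three {Γ : Type*} [Group Γ] [Finite Γ] (h : ¬ 3 ∣ Nat.card Γ) :
    Cfsg.pCore 3 Γ = ⊥ := by_contra fun e => by
  obtain ⟨k, hk⟩ := (CF.Loc.isPGroup_pCore 3 Γ).exists_card_eq
  refine h (dvd_trans (hk ▸ dvd_pow_self 3 fun e' => e ?_) (card_subgroup_dvd_card (Cfsg.pCore 3 Γ)))
  rw [eq_bot_iff_card, hk, e', pow_zero]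

theorem card_filter_eq_le {α : Type*} (T : Finset α) (a : α) [DecidablePred (· = a)] :
    (T.filter (· = a)).card ≤ 1 := Finset.card_le_one.2 fun _ h _ k =>
  (Finset.mem_filter.1 h).2.trans (Finset.mem_filter.1 k).2.symm

namespace QP

variable {G V K Q : Type*} [Group G] [Finite G] [AddCommGroup V] [Finite V] [Nontrivial V]
  [DistribMulAction G V] [FaithfulSMul G V] [Field K] [Finite K] [Module K V] [CommGroup Q]
  [Finite Q] {A M : Subgroup G} {σ : G →* RingAut K} {φ : G →* MulAut Q} {β : Q →* Q →* Kˣ}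
  {p : M →* Q} (h : QP V A M σ φ β p) {g : G} {e B N X L O t : ℕ}
include h

set_option linter.unusedSectionVars false

local notation "𝐂" => centralizer (A : Set G)
local notation "𝚪" => Subgroup.map φ (centralizer (A : Set G))
local notation "𝐰" => Nat.card K
local notation "𝐧" => Module.finrank K V

theorem lb_gen (he : Nat.card Q = e) (hB : Nat.card 𝚪 ≤ B) : LB V A φ (B * (2 * e)) :=
  ⟨fun _ => 2 * Nat.card Q, fun _ _ _ => h.sum_le_two, fun T hT => by
    rw [Finset.sum_const, nsmul_eq_mul, he]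
    push_cast
    gcongr
    exact (card_le_of_mem hT).trans hB⟩

theorem lb_eight (he : Nat.card Q = 64) (hB : Nat.card 𝚪 ≤ 6553) (hw : 𝐰 = 3 ∨ 𝐰 = 5) :
    LB V A φ 211808 := by
  classical
  have hx := h.sy.exp_two (k := 6) he
  refine ⟨fun f => 32 + (if f = 1 then 96 else 0) +
    if (Nat.card (dl f).range).Prime then 32 else 0, fun f _ S hS => ?_, fun T hT => ?_⟩
  · beta_reduce
    by_cases h1 : f = 1
    · have := h.sum_le_two hS
      rw [he] at this
      split_ifs <;> push_cast at this ⊢ <;> linarith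
    by_cases h2 : f * f = 1
    · have h3 := h.sum_le_inv hS hx h1 h2
      have h4 := card_ker_mul f
      have h5 := one_lt_range h1
      rw [if_neg h1]
      refine h3.trans ?_
      split_ifs with h6
      · exact_mod_cast (by nlinarith : 2 * Nat.card (dl f).ker ≤ 64)
      have h7 := he ▸ card_subgroup_dvd_card (dl f).range
      have h8 : 4 ≤ Nat.card (dl f).range := by
        by_contra! h8
        interval_cases Nat.card (dl f).range <;> simp_all [Nat.prime_two]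
      exact_mod_cast (by nlinarith : 2 * Nat.card (dl f).ker ≤ 32)
    have h3 := (h.sum_le_odd hS h1 h2).2 fun l hl h3 => (Nat.prime_dvd_prime_iff_eq hl
      Nat.prime_two).1 (hl.dvd_of_dvd_pow (n := 2) ((h3.trans h.fs.card_dvd).trans (by
        rcases hw with e | e <;> rw [e] <;> norm_num)))
    rw [he] at h3
    split_ifs <;> push_cast at h3 ⊢ <;> linarith
  have h1 := sum_ite_le T _ (c := 96) (by norm_num) (card_filter_eq_le T 1)
  have h2 := sum_ite_le T (fun f => (Nat.card (dl f).range).Prime) (c := 32) (by norm_num) (k := 63)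
    (Nat.lt_succ_iff.1 ((h.sy.nd.card_prime_lt _ fun f hf => ⟨h.iso' f (hT f
      (Finset.mem_filter.1 hf).1), (Finset.mem_filter.1 hf).2⟩).trans_eq he))
  have h3 : (T.card : ℚ) ≤ 6553 := by exact_mod_cast (card_le_of_mem hT).trans hB
  simp only [Finset.sum_add_distrib, Finset.sum_const, nsmul_eq_mul]
  push_cast at h1 h2 ⊢
  linarith

theorem lb_seven (he : Nat.card Q = 16) (h42 : ∀ T : Finset (MulAut Q),
    (∀ f ∈ T, f ∈ 𝚪 ∧ (f * f = 1 ∨ Odd (orderOf f))) → T.card ≤ 42) : LB V A φ 1040 := by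
  classical
  refine ⟨fun f => (if f = 1 then 32 else 0) +
    if f * f = 1 ∨ Odd (orderOf f) then 24 else 0, fun f _ S hS => ?_, fun T hT => ?_⟩
  · beta_reduce
    by_cases h1 : f = 1
    · have := h.sum_le_two hS
      rw [he] at this
      split_ifs <;> push_cast at this ⊢ <;> linarith
    by_cases h2 : f * f = 1
    · have h3 := h.sum_le_inv hS (h.sy.exp_two (k := 4) he) h1 h2
      have h4 := card_ker_mul f
      have h5 := one_lt_range h1
      rw [if_neg h1, if_pos (Or.inl h2)]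
      exact h3.trans (by exact_mod_cast (by nlinarith : 2 * Nat.card (dl f).ker ≤ 24))
    rcases S.eq_empty_or_nonempty with rfl | ⟨g, hg⟩
    · split_ifs <;> simp
    have h3 := (h.sum_le_odd hS h1 h2).1
    rw [if_neg h1, if_pos (Or.inr (h.order_eq hS h1 hg ▸ (hS g hg).2.2.1.odd_of_ne_two fun e => h2
      ((pow_two f).symm.trans (orderOf_dvd_iff_pow_eq_one.1 ((h.order_eq hS h1 hg).symm.trans e).dvd))))]
    rw [he] at h3
    push_cast at h3 ⊢
    linarith
  have h1 := sum_ite_le T _ (c := 32) (by norm_num) (card_filter_eq_le T 1)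
  have h2 := sum_ite_le T (fun f => f * f = 1 ∨ Odd (orderOf f)) (c := 24) (by norm_num) (h42 _ fun f hf =>
    ⟨hT f (Finset.mem_filter.1 hf).1, (Finset.mem_filter.1 hf).2⟩)
  rw [Finset.sum_add_distrib]
  push_cast at h1 h2 ⊢
  linarith

theorem o2 [Group.IsSolvable G] {k : ℕ} (he : Nat.card Q = 2 ^ k) : Cfsg.pCore 2 𝚪 = ⊥ := by
  have := h.am.An
  refine (Subgroup.map_eq_bot_iff_of_injective _ (subtype_injective _)).1 (h.sy.eq_bot_of_pgroup
    (IsPGroup.of_card he) ((CF.Loc.isPGroup_pCore 2 _).map _) ((map_subtype_le _).trans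
      (map_le_range φ _)) fun g ρ hρ => (CF.Solv.normalizer_le_normalizer_map_subtype _
        (mem_normalizer_fintype ?_) ρ).1 hρ)
  rintro _ ⟨c, hc, rfl⟩
  exact ⟨_, (inferInstance : (𝐂).Normal).conj_mem c hc g, by simp⟩

theorem lb_81 [Group.IsSolvable G] (he : Nat.card Q = 16) (hV : Nat.card V = 81) (hw : 𝐰 = 3)
    (h3 : ¬ 3 ∣ Nat.card 𝚪) : LB V A φ 72 := by
  classical
  have := CF.Solv.isSolvable_map φ 𝐂
  have h4 := h.o2 (k := 4) he
  obtain ⟨h5, h6⟩ := h.sy.nd.twenty he h.iso' h4 (pCore_three h3)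
  refine ⟨fun f => (if f = 1 then 32 else 0) +
    if f * f = 1 ∧ f ≠ 1 then 8 else 0, fun f hf S hS => ?_, fun T hT => ?_⟩
  · beta_reduce
    by_cases h1 : f = 1
    · have := h.sum_le_two hS
      rw [he] at this
      split_ifs <;> push_cast at this ⊢ <;> linarith
    by_cases h2 : f * f = 1
    · have h7 := h.sum_le_inv hS (h.sy.exp_two (k := 4) he) h1 h2
      have h8 := four_mul_le (k := 4) he h4 h3 hf h1
      rw [if_neg h1, if_pos ⟨h2, h1⟩]
      exact h7.trans (by exact_mod_cast (by omega : 2 * Nat.card (dl f).ker ≤ 8))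
    rw [Finset.eq_empty_of_forall_notMem (s := S) fun g hg => ?_]
    · split_ifs <;> simp
    obtain ⟨a1, a2, a3, a4, a5⟩ := hS g hg
    have a6 := h.order_eq hS h1 hg
    have a7 : orderOf g = 5 := (Nat.prime_dvd_prime_iff_eq a3 Nat.prime_five).1
      ((a3.dvd_mul.1 (show orderOf g ∣ 2 ^ 2 * 5 from a6 ▸ (orderOf_dvd_natCard _ hf).trans h5)
        ).resolve_left fun e => h2 ((pow_two f).symm.trans (orderOf_dvd_iff_pow_eq_one.1 (a6.symm.trans
          ((Nat.prime_dvd_prime_iff_eq a3 Nat.prime_two).1 (a3.dvd_of_dvd_pow e))).dvd)))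
    have a8 := card_fx_modEq (V := V) a3 (pow_orderOf_eq_one g)
    have a9 := h.fx_four a1 (mt (h.triv g a1).2 (a5 ▸ h1))
    have a10 := mt (AddSubgroup.eq_bot_iff_card _).2 a4
    rw [hV, h.card_fx a1, hw] at a8 a9
    rw [h.card_fx a1, hw] at a10
    have a11 := le_div_of_pow (n := 4) (by norm_num) four_pos a9
    rw [a7] at a8
    interval_cases Module.finrank K (h.fs' a1)
    exacts [a10 rfl, absurd a8 (by decide), absurd a8 (by decide), absurd a8 (by decide)]
  have h1 := sum_ite_le T _ (c := 32) (by norm_num) (card_filter_eq_le T 1)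
  have h2 := sum_ite_le T (fun f => f * f = 1 ∧ f ≠ 1) (c := 8) (by norm_num) (h6 _ fun f hf =>
    ⟨hT f (Finset.mem_filter.1 hf).1, (Finset.mem_filter.1 hf).2⟩)
  rw [Finset.sum_add_distrib]
  push_cast at h1 h2 ⊢
  linarith

theorem reg_of_chk (hN : NB β 𝚪 N) (hX : XB β 𝚪 X) (hL : LB V A φ L) (h1 : 1 ≤ L) (ht : t ≠ 0)
    (hc : chk t 1 0 𝐰 𝐧 N X L (((𝐂).index - 1) * Nat.card 𝐂)) :
    ∃ s : Fin t → V, RegOn (⊤ : Subgroup G) ⊤ s := by
  classical
  have := Fintype.ofFinite V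
  obtain ⟨lam, h2, h3⟩ := hL
  have hw : 0 < 𝐰 := Nat.card_pos
  refine h.master (Finset.univ.erase 0) (fun d => 𝐰 ^ (t * d) - 1) (fun a b e => by beta_reduce; gcongr)
    (by simp) (s := 𝐰 ^ ((t * 𝐧 + 1) / 2)) (fun g hg => (cnt_le_pow g).trans (by
      rw [h.card_fx hg, Fintype.card_fin, ← pow_mul, mul_comm])) (fun g hg => (cnt_le_pow g).trans
        ((Nat.sub_le _ _).trans (by simpa using h.cnt_outer (ι := Fin t) hg))) hN hX lam h2 h3
          le_rfl ?_
  rw [Finset.card_erase_of_mem (Finset.mem_univ _), Finset.card_univ, Fintype.card_fun,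
    ← Nat.card_eq_fintype_card, Module.natCard_eq_pow_finrank (K := K) (V := V), Fintype.card_fin,
    ← pow_mul, mul_comm _ t]
  unfold chk at hc
  have a1 := Nat.mul_le_mul_left N (Nat.sub_le (𝐰 ^ (t * (3 * 𝐧 / 4))) 1)
  have a2 := Nat.mul_le_mul_left X (Nat.sub_le (𝐰 ^ (t * (2 * 𝐧 / 3))) 1)
  have a3 := Nat.mul_sub_one L (𝐰 ^ (t * (𝐧 / 2)))
  have a4 := Nat.le_mul_of_pos_right L (Nat.pow_pos hw (n := t * (𝐧 / 2)))
  rw [add_zero] at hc
  omega

theorem reg_of_ind {s : ℕ} (hN : NB β 𝚪 N) (hX : XB β 𝚪 X) (hL : LB V A φ L) (ht : t ≠ 0)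
    (hn : t ≤ 𝐧) (hs : ∀ g ∉ 𝐂, (Nat.card (fx V g) - 1).descFactorial t ≤ s)
    (hO : ((𝐂).index - 1) * Nat.card 𝐂 ≤ O)
    (hc : N * ∏ i : Fin t, (𝐰 ^ (3 * 𝐧 / 4) - 𝐰 ^ i.1) + X * ∏ i : Fin t, (𝐰 ^ (2 * 𝐧 / 3) - 𝐰 ^ i.1) +
      L * ∏ i : Fin t, (𝐰 ^ (𝐧 / 2) - 𝐰 ^ i.1) + O * s < ∏ i : Fin t, (𝐰 ^ 𝐧 - 𝐰 ^ i.1)) :
    ∃ s : Fin t → V, RegOn (⊤ : Subgroup G) ⊤ s := by
  classical
  have := Fintype.ofFinite V
  have := Fintype.ofFinite K
  obtain ⟨lam, h2, h3⟩ := hL
  have hw : 0 < 𝐰 := Nat.card_pos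
  have hD : ∀ s ∈ Finset.univ.filter fun s : Fin t → V => LinearIndependent K s,
    LinearIndependent K s := fun s hs => by simpa using hs
  refine h.master (Finset.univ.filter fun s => LinearIndependent K s)
    (fun d => ∏ i : Fin t, (𝐰 ^ d - 𝐰 ^ i.1)) (fun a b e => by beta_reduce; gcongr)
    (Finset.prod_eq_zero (Finset.mem_univ ⟨0, Nat.pos_of_ne_zero ht⟩) rfl)
    (fun g hg => ?_) (fun g hg => le_trans ?_ (hs g hg)) hN hX lam h2 h3 hO ?_
  · refine (Nat.card_le_card_of_injective (β := {s : Fin t → h.fs' hg // LinearIndependent K s})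
      (fun s => ⟨fun i => ⟨s.1.1 i, s.2 i⟩, LinearIndependent.of_comp (h.fs' hg).subtype
        (hD _ s.1.2)⟩) fun a b e => Subtype.ext (Subtype.ext (funext fun i =>
          congrArg (fun x => (x.1 i).1) e))).trans ?_
    rcases le_or_gt t (Module.finrank K (h.fs' hg)) with h4 | h4
    · rw [card_linearIndependent h4, Nat.card_eq_fintype_card]
    · rw [Nat.card_eq_zero.2 (Or.inl ⟨fun s => h4.not_ge (by
        simpa using s.2.fintype_card_le_finrank)⟩)]
      exact Nat.zero_le _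
  · refine (Nat.card_le_card_of_injective (β := Fin t ↪ {v : fx V g // v ≠ 0})
      (fun s => ⟨fun i => ⟨⟨s.1.1 i, s.2 i⟩, fun e => (hD _ s.1.2).ne_zero i
        (congrArg Subtype.val e)⟩, fun i j e => (hD _ s.1.2).injective
          (show s.1.1 i = s.1.1 j from congrArg (fun x : {v : fx V g // v ≠ 0} => x.1.1) e)⟩) fun a b e => Subtype.ext (Subtype.ext (funext fun i =>
            congrArg (fun x => (x i).1.1) e))).trans ?_
    rw [Nat.card_eq_fintype_card, Fintype.card_embedding_eq, Fintype.card_fin,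
      Fintype.card_subtype_compl, Fintype.card_subtype_eq, Nat.card_eq_fintype_card]
  · rwa [← Fintype.card_subtype, ← Nat.card_eq_fintype_card, card_linearIndependent hn,
      ← Nat.card_eq_fintype_card]

end QP

end CF.Fgs2.Base
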