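import Cfsg.Agent.Fgs2.Base14

/-! Bases for linear groups: small quasi-primitive cases. -/

set_option autoImplicit false

namespace CF.Fgs2.Base

open Subgroup CF.Perm CF.Transfer
open scoped Pointwise commutatorElement

theorem sep_eig {K V : Type*} [Field K] [AddCommGroup V] [Module K V] (h2 : (-1 : K) ≠ 1)
    (f : V →+ V) {k : K} (hk : k ≠ 0) {u u' : V} (h : f u = k • u) (h' : f u' = -k • u')
    (e : u + u' = 0) : u = 0 ∧ u' = 0 := by
  have h1 := congrArg f e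
  rw [map_add, map_zero, h, h', neg_smul, ← smul_neg, ← smul_add, smul_eq_zero_iff_right hk,
    ← eq_neg_of_add_eq_zero_left e, ← two_smul K, smul_eq_zero_iff_right fun e => h2 (by
      linear_combination -e)] at h1
  exact ⟨h1, by rwa [h1, zero_add] at e⟩

namespace QP

variable {G V K Q : Type*} [Group G] [Finite G] [AddCommGroup V] [Finite V] [Nontrivial V]
  [DistribMulAction G V] [FaithfulSMul G V] [Field K] [Finite K] [Module K V] [CommGroup Q]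
  [Finite Q] {A M : Subgroup G} {σ : G →* RingAut K} {φ : G →* MulAut Q} {β : Q →* Q →* Kˣ}
  {p : M →* Q} (h : QP V A M σ φ β p) {g : G} {e B N X L O t : ℕ}
include h

set_option linter.unusedSectionVars false

local notation "𝐂" => centralizer (A : Set G)
local notation "𝚪" => Subgroup.map φ (centralizer (A : Set G))
local notation "𝐰" => Nat.card K
local notation "𝐧" => Module.finrank K V

theorem neg_one {a : G} (ha : a ∈ A) (h1 : a * a = 1) : a = 1 ∨ ∀ v : V, a • v = -v := by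
  obtain ⟨k, hk⟩ := h.fs.scal a ha
  obtain ⟨v, hv⟩ := exists_ne (0 : V)
  refine (mul_self_eq_one_iff.1 (smul_left_injective K hv (?_ : (k * k) • v = (1 : K) • v))).imp
    (fun e => h.eq_one_of_fix ha hv (by rw [hk, e, one_smul])) fun e v => by rw [hk, e, neg_one_smul]
  rw [mul_smul, ← hk, ← hk, ← mul_smul, h1, one_smul, one_smul]

theorem one_of_eig {x y : M} {v : V} (hv : v ≠ 0) {k l : K} (h1 : x.1 • v = k • v)
    (h2 : y.1 • v = l • v) : β (p x) (p y) = 1 := by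
  have := h.comm x y v
  rw [h2, h.fs.comm (h.am.cen x.2), h1, h.fs.comm (h.am.cen y.2), h2, smul_comm l] at this
  exact Units.ext (smul_left_injective K (m := k • l • v) (by
    rwa [← h2, ← h.fs.comm (h.am.cen y.2), ← h1, ne_eq, smul_eq_zero_iff_eq, smul_eq_zero_iff_eq])
      (by simpa using this.symm))

theorem pow_four (hw : 𝐰 = 5) (hx : ∀ x : Q, x ^ 2 = 1) (hC : 𝐂 = ⊤) (m : M) : m.1 ^ 4 = 1 := by
  have h2 : ∀ m : M, m.1 ^ 2 ∈ A := fun m => (h.ker (m ^ 2)).1 (by rw [map_pow, hx])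
  have h4 : ∀ a ∈ A, a ^ 4 = 1 := fun a ha => orderOf_dvd_iff_pow_eq_one.1
    ((A.orderOf_dvd_natCard ha).trans (by simpa [hw] using h.fs.card_dvd))
  let θ : M →* G := MonoidHom.mk' (fun m => m.1 ^ 4) fun a b => by
    have h3 := h.am.comm b b.2 a a.2
    rw [coe_mul, mul_pow_of_class_two (h.am.commute h3 a.2) (h.am.commute h3 b.2),
      show Nat.choose 4 2 = 2 * 3 from rfl, pow_mul, (h.am.pow_mem_iff b.2 2).1 (h2 b) a a.2, one_pow,
      mul_one]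
  have hθ : ∀ m : M, p m ∈ θ.ker.map p → m ∈ θ.ker := by
    rintro m ⟨x, hx, e⟩
    have := θ.ker.mul_mem hx (h4 _ ((h.ker (x⁻¹ * m)).1 (by rw [map_mul, map_inv, e, inv_mul_cancel])) :
      x⁻¹ * m ∈ θ.ker)
    rwa [mul_inv_cancel_left] at this
  have h5 := h.sy.aniso (perp β (θ.ker.map p)) (h.sy.perp_inv (by
    rintro g _ ⟨m, hm, rfl⟩
    exact ⟨_, show (g * m * g⁻¹) ^ 4 = 1 by rw [conj_pow, show m.1 ^ 4 = 1 from hm, mul_one,
      mul_inv_cancel], (h.conj g m).symm⟩)) fun x hx y hy => by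
    obtain ⟨x, rfl⟩ := h.surj x
    obtain ⟨y, rfl⟩ := h.surj y
    have key : ∀ m : M, m ∈ θ.ker ∨ ∀ v : V, θ m • v = -v := fun m => h.neg_one
      (show (m.1 ^ (2 * 2)) ∈ A from pow_mul m.1 2 2 ▸ pow_mem (h2 m) 2) (by
        change m.1 ^ 4 * m.1 ^ 4 = 1
        rw [← pow_add, show 4 + 4 = 2 * 4 from rfl, pow_mul, h4 _ (h2 m)])
    rcases key x with e | e
    · exact hy _ ⟨x, e, rfl⟩
    rcases key y with e' | e'
    · exact h.sy.symm' (hx _ ⟨y, e', rfl⟩)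
    have := hy _ ⟨x * y, eq_of_smul_eq_smul (α := V) fun v => by
      rw [map_mul, mul_smul, e, e', neg_neg, one_smul], rfl⟩
    rwa [map_mul, map_mul, MonoidHom.mul_apply, h.sy.alt, mul_one] at this
  exact hθ m (by rw [← h.sy.nd.perp_perp (θ.ker.map p), h5]; exact fun x hx => by simp [mem_bot.1 hx])

theorem eig (hw : 𝐰 = 5) (hx : ∀ x : Q, x ^ 2 = 1) (hC : 𝐂 = ⊤) (m : M) {v : V} (hv : v ≠ 0) :
    ∃ (k : K) (u : V), k ≠ 0 ∧ u ≠ 0 ∧ m.1 • u = k • u ∧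
      ∀ x : M, β (p x) (p m) = 1 → ∀ l : K, x.1 • v = l • v → x.1 • u = l • u := by
  have := Fintype.ofFinite K
  obtain ⟨k, hk⟩ : ∃ k : K, ∀ v : V, m.1 • m.1 • v = (k * k) • v := by
    rcases h.neg_one ((h.ker (m ^ 2)).1 (by rw [map_pow, hx])) ((pow_add m.1 2 2).symm.trans
      (h.pow_four hw hx hC m)) with e | e
    · exact ⟨1, fun v => by rw [← mul_smul, ← pow_two, show m.1 ^ 2 = 1 from e, one_mul, one_smul,
        one_smul]⟩
    obtain ⟨k, hk⟩ := (FiniteField.isSquare_neg_one_iff (F := K)).2 (by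
      rw [← Nat.card_eq_fintype_card, hw]; norm_num)
    exact ⟨k, fun v => by rw [← mul_smul, ← pow_two, ← hk, neg_one_smul]; exact e v⟩
  have h0 : k ≠ 0 := fun e => hv (by simpa [e, smul_eq_zero_iff_eq] using hk v)
  by_cases h1 : k • v + m.1 • v = 0
  · exact ⟨-k, v, neg_ne_zero.2 h0, hv, by rw [neg_smul, eq_neg_of_add_eq_zero_right h1],
      fun _ _ _ h => h⟩
  refine ⟨k, _, h0, h1, ?_, fun x h2 l h3 => ?_⟩
  · rw [smul_add, hk, h.fs.comm (h.am.cen m.2), smul_add, mul_smul, add_comm]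
  · rw [smul_add, h.comm, h2, Units.val_one, one_smul, h.fs.comm (h.am.cen x.2), h3,
      h.fs.comm (h.am.cen m.2), smul_add, smul_comm k]

theorem reg_five (hw : 𝐰 = 5) (hn : 𝐧 = 4) (he : Nat.card Q = 16) (hC : 𝐂 = ⊤) {X : Subgroup Q}
    (P : Pl β X) (hX : ∀ f ∈ 𝚪, X.map f.toMonoidHom = X ∨ X.map f.toMonoidHom = perp β X) :
    ∃ s : Fin 2 → V, RegOn (⊤ : Subgroup G) ⊤ s := by
  have hx := h.sy.exp_two (k := 4) he
  have nd := h.sy.nd
  have P' := nd.pl_perp P.2 (by rw [P.1, he])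
  obtain ⟨a, ha, b, hb, a1, b1, ab⟩ := exists_two P.1
  obtain ⟨c, hc, d, hd, c1, d1, cd⟩ := exists_two P'.1
  obtain ⟨a, rfl⟩ := h.surj a
  obtain ⟨b, rfl⟩ := h.surj b
  obtain ⟨c, rfl⟩ := h.surj c
  obtain ⟨d, rfl⟩ := h.surj d
  have neg : ∀ {x y : Q}, β x y ≠ 1 → (β x y : K) = -1 := fun e => (sq_eq_one_iff.1 (by
    rw [← Units.val_pow_eq_pow_val, ← map_pow, hx, map_one, Units.val_one])).resolve_left
      (mt Units.val_eq_one.1 e)
  have h2 : (-1 : K) ≠ 1 := neg (P.ne_one nd.alt ha hb a1 b1 ab) ▸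
    mt Units.val_eq_one.1 (P.ne_one nd.alt ha hb a1 b1 ab)
  have mv : ∀ {x y : M} {v : V} {k : K}, x.1 • v = k • v → (β (p x) (p y) = 1 →
      x.1 • y.1 • v = k • y.1 • v) ∧ (β (p x) (p y) ≠ 1 → x.1 • y.1 • v = -k • y.1 • v) :=
    fun {x y v k} e => ⟨fun e' => by rw [h.comm, e', e, h.fs.comm (h.am.cen y.2)]; simp,
      fun e' => by rw [h.comm, neg e', e, h.fs.comm (h.am.cen y.2)]; simp⟩
  obtain ⟨v, hv⟩ := exists_ne (0 : V)
  obtain ⟨k, u, k0, u0, hu, -⟩ := h.eig hw hx hC a hv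
  obtain ⟨l, x, l0, x0, cx, ax⟩ := h.eig hw hx hC c u0
  obtain ⟨r, y, r0, y0, dy, ay⟩ := h.eig hw hx hC d ((smul_eq_zero_iff_eq b.1).not.2 u0)
  replace ax := ax a (hc _ ha) k hu
  replace ay := ay a (hd _ ha) _ ((mv hu).2 (P.ne_one nd.alt ha hb a1 b1 ab))
  refine ⟨![x, y], fun _ => trivial, fun g _ hg => ?_⟩
  have gx : g • x = x := hg 0
  have gy : g • y = y := hg 1
  have gC : g ∈ 𝐂 := hC ▸ mem_top g
  have cj : ∀ {m : M} {v : V} {k : K}, g • v = v → m.1 • v = k • v → (g * m * g⁻¹) • v = k • v :=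
    fun e e' => by rw [mul_smul, mul_smul, inv_smul_eq_iff.2 e.symm, e', h.fs.comm gC, e]
  have pr : ∀ {m m' : M} {v : V} {k k' : K}, v ≠ 0 → g • v = v → m.1 • v = k • v →
      m'.1 • v = k' • v → β (p m') (φ g (p m)) = 1 := fun v0 e e1 e2 => by
    rw [h.conj]; exact h.one_of_eig v0 e2 (cj e e1)
  have fix : ∀ {Y : Subgroup Q} {q : Q}, Pl β Y → q ∈ Y → q ≠ 1 → φ g q ∈ Y → β q (φ g q) = 1 →
      φ g q = q := fun P h1 h2 h3 h4 => by_contra fun e =>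
    P.ne_one nd.alt h1 h3 h2 (by simpa using h2) (Ne.symm e) h4
  have fa : φ g (p a) = p a := fix P ha a1 (nd.perp_perp X ▸ nd.alt.le_perp_comm (le_of_four P'.1 hc hd
    c1 d1 cd (mem_perp_zpowers.2 (nd.alt.symm' (pr x0 gx ax cx))) (mem_perp_zpowers.2
      (nd.alt.symm' (pr y0 gy ay dy)))) (mem_zpowers _)) (pr x0 gx ax ax)
  have fX : (perp β X).map (φ g).toMonoidHom = perp β X := by
    rw [← (h.iso gC).perp_map, (hX _ ⟨g, gC, rfl⟩).resolve_right fun e =>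
      a1 (mem_bot.1 (P.2.le ⟨ha, e.le ⟨_, ha, fa⟩⟩))]
  have cm : ∀ {m : M} {v w : V} {k : K}, v ≠ 0 → g • v = v → m.1 • v = k • v → p m ∈ perp β X →
      p m ≠ 1 → g • w = w → g • m.1 • w = m.1 • w := fun {m v w k} v0 e e1 h3 h4 h5 => by
    have := h.eq_one_of_fix ((h.ker (h.br g m)).1 (by
      rw [h.p_br, dl_eq_one, fix P' h3 h4 (fX.le ⟨_, h3, rfl⟩) (pr v0 e e1 e1)]))
        ((smul_eq_zero_iff_eq m.1).not.2 v0) (by
          change (g * m * g⁻¹ * m.1⁻¹) • m.1 • v = _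
          rw [mul_smul, inv_smul_smul, cj e e1, e1])
    rw [← mul_smul, commutatorElement_eq_one_iff_mul_comm.1 this, mul_smul, h5]
  have cd' := P'.ne_one nd.alt hc hd c1 d1 cd
  have li : LinearIndependent K ![x, d.1 • x, y, c.1 • y] := Fintype.linearIndependent_iff.2 fun s e => by
    rw [Fin.sum_univ_four, add_assoc] at e
    let T := DistribSMul.toAddMonoidHom V (M := G)
    have hT : ∀ (m : M) (s : K) {k : K} {v : V}, m.1 • v = k • v → T m (s • v) = k • s • v :=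
      fun m s k v e => (h.fs.comm (h.am.cen m.2) s v).trans (by rw [e, smul_comm])
    obtain ⟨e1, e2⟩ := sep_eig h2 (T a) k0 (by
      rw [map_add, smul_add]; exact congrArg₂ _ (hT a _ ax) (hT a _ ((mv ax).1 (hd _ ha)))) (by
      rw [map_add, smul_add]; exact congrArg₂ _ (hT a _ ay) (hT a _ ((mv ay).1 (hc _ ha)))) e
    obtain ⟨e3, e4⟩ := sep_eig h2 (T c) l0 (hT c _ cx) (hT c _ ((mv cx).2 cd')) e1
    obtain ⟨e5, e6⟩ := sep_eig h2 (T d) r0 (hT d _ dy) (hT d _ ((mv dy).2 (mt nd.alt.symm' cd'))) e2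
    intro i
    fin_cases i
    exacts [(smul_eq_zero_iff_left x0).1 e3,
      (smul_eq_zero_iff_left ((smul_eq_zero_iff_eq d.1).not.2 x0)).1 e4,
      (smul_eq_zero_iff_left y0).1 e5, (smul_eq_zero_iff_left ((smul_eq_zero_iff_eq c.1).not.2 y0)).1 e6]
  intro v _
  refine (Submodule.span_le (p := h.fs' gC)).2 ?_ ((li.span_eq_top_of_card_eq_finrank
    (by simp [hn])).ge Submodule.mem_top)
  rintro _ ⟨i, rfl⟩
  fin_cases i
  exacts [gx, cm y0 gy dy hd d1 gx, gy, cm x0 gx cx hc c1 gy]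

theorem card_cent (he : Nat.card Q = e) : Nat.card 𝐂 = Nat.card 𝚪 * (e * Nat.card A) := by
  have hc0 : Nat.card 𝚪 = M.relIndex 𝐂 := by
    rw [← relIndex_ker, ← inf_relIndex_right, ← inf_relIndex_right M]
    congr 1
    exact Subgroup.ext fun c => and_congr_left fun hc => h.triv c hc
  rw [hc0, ← he, h.card]
  exact Nat.eq_of_mul_eq_mul_left (Nat.pos_of_ne_zero index_ne_zero_of_finite)
    ((index_mul_card _).trans h.am.card_eq)

theorem card_le : Nat.card A ≤ 𝐰 - 1 :=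
  Nat.le_of_dvd (Nat.sub_pos_of_lt Finite.one_lt_card) h.fs.card_dvd

theorem le_rank (he : Nat.card Q = e ^ 2) : e ≤ 𝐧 :=
  (Nat.pow_le_pow_iff_left two_ne_zero).1 (he ▸ h.card ▸ h.fs.relIndex_le_sq h.am)

theorem prime_dvd (he : Nat.card Q = e ^ 2) {r : ℕ} (hr : r.Prime) (h1 : r ∣ e) : r ∣ Nat.card A :=
  hr.dvd_of_dvd_pow ((h1.trans (dvd_pow_self e two_ne_zero)).trans
    (he ▸ h.card ▸ h.am.relIndex_dvd_pow))

theorem three_le (he : Nat.card Q = e ^ 2) (e1 : e ≠ 1) : 3 ≤ 𝐰 := by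
  have h1 := Nat.le_of_dvd Nat.card_pos (h.prime_dvd he (Nat.minFac_prime e1) e.minFac_dvd)
  have h2 := (Nat.minFac_prime e1).two_le
  have h3 := h.card_le
  omega

theorem outer_le (he : Nat.card Q = e) (hB : Nat.card 𝚪 ≤ B) :
    ((𝐂).index - 1) * Nat.card 𝐂 ≤ ((𝐂).index - 1) * (B * (e * (𝐰 - 1))) := by
  rw [h.card_cent he]
  gcongr
  exact h.card_le

theorem reg_of_tab {n₀ : ℕ} {P : ℕ → Bool} (T : tab t e n₀ B N X L P) (he : Nat.card Q = e ^ 2)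
    (ht : t = 3 ∨ t = 2 ∧ 𝐰 % 2 = 1) (hB : Nat.card 𝚪 ≤ B) (hN : NB β 𝚪 N) (hX : XB β 𝚪 X)
    (hL : LB V A φ L) (hP : P (min 𝐰 33) = true) (hn : n₀ ≤ 𝐧)
    (h0 : e ≠ 1 ∧ 5 ≤ t * n₀ ∧ 1 ≤ L := by norm_num) :
    ∃ s : Fin t → V, RegOn (⊤ : Subgroup G) ⊤ s := by
  obtain ⟨k, h1, h2⟩ := h.fs.exists_pow_index
  exact h.reg_of_chk hN hX hL h0.2.2 (by omega) (T.use (by omega) h0.2.1 (h.three_le he h0.1)
    (by omega) (fun r hr h3 => (h.prime_dvd he hr h3).trans h.fs.card_dvd) h1 h2 hP hn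
      (h.outer_le he hB))

theorem reg_big (he : Nat.card Q = e ^ 2) (h40 : 40 ≤ e) (ht : t = 2 ∨ t = 3)
    (hB : Nat.card 𝚪 ≤ e ^ 5 / 5) : ∃ s : Fin t → V, RegOn (⊤ : Subgroup G) ⊤ s := by
  obtain ⟨k, h1, h2⟩ := h.fs.exists_pow_index
  have h3 := Nat.div_mul_le_self (e ^ 5) 5
  have h4 : 5 ≤ e ^ 5 := le_trans (by omega) (Nat.le_self_pow (by norm_num) e)
  have h5 : e ^ 5 / 5 * 5 * e ^ 2 ≤ e ^ 7 := by
    rw [show e ^ 7 = e ^ 5 * e ^ 2 by ring]; gcongr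
  have h6 : 0 < e ^ 5 / 5 := by omega
  have h7 := Nat.mul_le_mul_left (e ^ 5 / 5) (Nat.div_le_self (e ^ 2) 2)
  have h8 := Nat.le_mul_of_pos_left (e ^ 2) h6
  refine h.reg_of_chk (NB.gen h.sy.nd he) (XB.gen he hB) (h.lb_gen he hB) (Nat.mul_pos h6 (by positivity))
    (by omega) ((chk_big (O := e ^ 5 / 5 * e ^ 2) ht h40 ?_ (by linarith) (by linarith) (by linarith)).mono ht
      (h.three_le he (by omega)) (by norm_num) (h.le_rank he) (by rcases ht with rfl | rfl <;> omega) ?_)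
  · unfold gN
    split_ifs <;> omega
  have h9 : (𝐂).index ≤ 𝐰 := (Nat.lt_two_pow_self.trans_le (h2 ▸ Nat.pow_le_pow_left h1 _)).le
  calc _ ≤ ((𝐂).index - 1) * (e ^ 5 / 5 * (e ^ 2 * (𝐰 - 1))) := (one_mul _).trans_le (h.outer_le he hB)
    _ ≤ 𝐰 * (e ^ 5 / 5 * (e ^ 2 * 𝐰)) := by gcongr <;> omega
    _ = _ := by ring

theorem reg_two (hn : 𝐧 = 2) (he : Nat.card Q = e ^ 2) (hB : Nat.card 𝚪 ≤ B)
    (hO : ((𝐂).index - 1) * (B * e ^ 2) ≤ 𝐰 - 1) : ∃ s : Fin 2 → V, RegOn (⊤ : Subgroup G) ⊤ s := by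
  refine h.reg_of_ind (s := 𝐰 ^ 2) (NB.gen h.sy.nd he) (XB.gen he hB) (h.lb_gen he hB) two_ne_zero
    hn.ge (fun g hg => (Nat.descFactorial_le_pow _ _).trans ((Nat.pow_le_pow_left (Nat.sub_le _ _) 2).trans
      (by simpa [hn] using h.cnt_outer (ι := Fin 2) hg))) (h.outer_le he hB) ?_
  obtain ⟨w, hw⟩ := Nat.exists_eq_add_of_lt (Finite.one_lt_card (α := K))
  rw [hw] at hO
  simp only [hn, Fin.prod_univ_two, hw]
  rw [show (1 + w + 1) ^ 2 - (1 + w + 1) ^ (0 : Fin 2).1 = (w + 1) * (w + 3) by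
    rw [Nat.sub_eq_iff_eq_add (by simp; nlinarith)]; simp; ring,
    show (1 + w + 1) ^ 2 - (1 + w + 1) ^ (1 : Fin 2).1 = (w + 1) * (w + 2) by
    rw [Nat.sub_eq_iff_eq_add (by simp; nlinarith)]; simp; ring]
  simp only [Nat.add_sub_cancel] at hO ⊢
  have := Nat.mul_le_mul_right ((1 + w) * (1 + w + 1) ^ 2) hO
  simp
  nlinarith [Nat.zero_le w, Nat.zero_le (w ^ 2), Nat.zero_le (w ^ 3)]

theorem le_div (he : Nat.card Q = e ^ 2) (hB : 25 * Nat.card 𝚪 ^ 2 ≤ Nat.card Q ^ 5) :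
    Nat.card 𝚪 ≤ e ^ 5 / 5 := (Nat.le_div_iff_mul_le (by norm_num)).2
  ((Nat.pow_le_pow_iff_left two_ne_zero).1 (by
    rw [he, pow_right_comm] at hB
    rwa [mul_pow, mul_comm]))

theorem index_eq_one (hw : (𝐰).Prime) : (𝐂).index = 1 := by
  obtain ⟨k, -, h2⟩ := h.fs.exists_pow_index
  exact (h2 ▸ hw).eq_one_of_pow

theorem four_cases' [Group.IsSolvable G] (he : Nat.card Q = 16) :
    (3 ∣ Nat.card 𝚪 ∧ Nat.card 𝚪 ≤ 72 ∧ NB β 𝚪 24 ∧ LB V A φ 1040 ∧ ∃ X, Pl β X ∧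
      ∀ f ∈ 𝚪, X.map f.toMonoidHom = X ∨ X.map f.toMonoidHom = perp β X) ∨
    (Nat.card 𝚪 ∣ 20 ∧ ∀ N, NB β 𝚪 N) := by
  have := CF.Solv.isSolvable_map φ 𝐂
  have h2 := h.o2 (k := 4) he
  by_cases h3 : Cfsg.pCore 3 𝚪 = ⊥
  · have h4 := (h.sy.nd.twenty he h.iso' h2 h3).1
    exact Or.inr ⟨h4, NB.three h.sy.nd h.iso' h2 fun e => absurd (e.trans h4) (by norm_num)⟩
  obtain ⟨X, h4, h5⟩ := h.sy.nd.planes16 he (h.sy.exp_two (k := 4) he) h.iso' h3
  obtain ⟨h6, h7, h8⟩ := h.sy.nd.count16 he (h.sy.exp_two (k := 4) he) h.iso' h4 h5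
  exact Or.inl ⟨by_contra fun e => h3 (pCore_three e), h6, fun T hT => by have := h7 T hT; omega,
    h.lb_seven he h8, X, h4, h5⟩

theorem nb_eight [Group.IsSolvable G] (he : Nat.card Q = 64) : NB β 𝚪 180 := fun T hT => by
  have := CF.Solv.isSolvable_map φ 𝐂
  have := h.sy.nd.card_A2_64 he (h.sy.exp_two (k := 6) he) h.iso' (h.o2 (k := 6) he) T hT
  omega

theorem xb_nine (he : Nat.card Q = e) (h1 : e = 36 ∨ e = 81) (hB : Nat.card 𝚪 ≤ B) :
    XB β 𝚪 (e + B * 9) := XB.of he hB fun _ a _ => a.le_nine h.sy.nd (he ▸ h1)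

theorem xb_two {k : ℕ} (he : Nat.card Q = 2 ^ k) (hk : k < 8 := by norm_num) : XB β 𝚪 0 :=
  XB.two h.sy.nd (h.sy.exp_two he) (he ▸ Nat.pow_lt_pow_right (a := 2) (by norm_num) hk)

theorem sqf (he : Nat.card Q = e ^ 2) (hs : e ≠ 1 ∧ Squarefree e := by decide +kernel) :
    Nat.card 𝚪 ≤ (e ^ 2 - 1) * e := h.sy.nd.card_le_of_squarefree he hs.2 hs.1 _ h.iso'

theorem reg3 [Group.IsSolvable G] (hM : Nat.card Q ≠ 1) (hB : 25 * Nat.card 𝚪 ^ 2 ≤ Nat.card Q ^ 5) :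
    ∃ s : Fin 3 → V, RegOn (⊤ : Subgroup G) ⊤ s := by
  obtain ⟨e, he⟩ := h.sy.exists_sq
  have h1 := h.le_div he hB
  have h2 := h.le_rank he
  have e0 : e ≠ 0 := by rintro rfl; exact Nat.card_pos.ne' he
  have e1 : e ≠ 1 := by rintro rfl; exact hM he
  have h3 := h.three_le he e1
  have nd := h.sy.nd
  obtain ⟨t1, t2, t3, t4, t5, t6, t7, t8, t9⟩ := tab3
  rcases le_or_gt 40 e with h4 | h4
  · exact h.reg_big he h4 (Or.inr rfl) h1
  by_cases h5 : 5 ≤ e ∧ e ≠ 8 ∧ e ≠ 9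
  · refine h.reg_of_tab (tab_gen3 e h4 h5) he (Or.inl rfl) h1 (NB.gen nd he) (XB.gen he h1)
      (h.lb_gen he h1) rfl h2 ⟨e1, by omega, Nat.mul_pos (Nat.div_pos (le_trans h5.1
        (Nat.le_self_pow (by norm_num) e)) (by norm_num)) (by positivity)⟩
  obtain rfl | rfl | rfl | rfl | rfl : e = 2 ∨ e = 3 ∨ e = 4 ∨ e = 8 ∨ e = 9 := by omega
  · have a := h.lb_gen he h1
    by_cases hw : 𝐰 = 3
    swap
    · exact h.reg_of_tab t1 he (Or.inl rfl) h1 (NB.gen nd he) (h.xb_two he) a (by simp; omega) h2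
    rcases h2.eq_or_lt with hn | hn
    swap
    · exact h.reg_of_tab t2 he (Or.inl rfl) h1 (NB.gen nd he) (h.xb_two he) a rfl hn
    obtain ⟨s, hs⟩ := h.reg_two hn.symm he h1 (by simp [h.index_eq_one (hw ▸ Nat.prime_three)])
    exact ⟨![s 0, s 1, 0], fun _ => trivial, fun g hg e => hs.2 g hg fun i => by
      fin_cases i; exacts [e 0, e 1]⟩
  · have b := h.sqf he
    have a := h.lb_gen he b
    by_cases hw : 𝐰 = 4
    swap
    · exact h.reg_of_tab t3 he (Or.inl rfl) b (NB.gen nd he) (XB.three nd he) a (by simp; omega) h2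
    rcases h2.eq_or_lt with hn | hn
    swap
    · exact h.reg_of_tab t4 he (Or.inl rfl) b (NB.gen nd he) (XB.three nd he) a rfl hn
    refine h.reg_of_ind (s := 210) (O := 648) (NB.gen nd he) (XB.three nd he) a (by norm_num) h2
      (fun g hg => ?_) ((h.outer_le he b).trans ?_) (by rw [← hn, hw]; decide)
    · have := h.cnt_outer (ι := Fin 2) hg
      rw [← hn, hw, Fintype.card_fin] at this
      exact (Nat.descFactorial_le 3 (show _ ≤ 7 by
        have : Nat.card (fx V g) ≤ 8 := (Nat.pow_le_pow_iff_left two_ne_zero).1 this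
        omega)).trans (by decide)
    obtain ⟨k, a1, a2⟩ := h.fs.exists_pow_index
    have : (𝐂).index ≤ 2 := (Nat.pow_le_pow_iff_right (a := 2) (by norm_num)).1
      ((Nat.pow_le_pow_left a1 _).trans (a2.symm.trans hw).le)
    rw [hw]
    omega
  · obtain ⟨b, c⟩ : Nat.card 𝚪 ≤ 72 ∧ NB β 𝚪 24 := by
      rcases h.four_cases' he with b | b
      exacts [⟨b.2.1, b.2.2.1⟩, ⟨(Nat.le_of_dvd (by norm_num) b.1).trans (by norm_num), b.2 _⟩]
    have a := h.lb_gen he b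
    by_cases hw : 𝐰 = 3
    swap
    · exact h.reg_of_tab t5 he (Or.inl rfl) b c (h.xb_two (k := 4) he) a (by simp; omega) h2
    rcases h2.eq_or_lt with hn | hn
    swap
    · exact h.reg_of_tab t6 he (Or.inl rfl) b c (h.xb_two (k := 4) he) a rfl hn
    exact h.reg_of_ind (s := 0) (O := 0) c (h.xb_two (k := 4) he) a (by norm_num) (by omega)
      (fun g hg => absurd (Subgroup.index_eq_one.1 (h.index_eq_one (hw ▸ Nat.prime_three)) ▸ mem_top g) hg)
      (by simp [h.index_eq_one (hw ▸ Nat.prime_three)]) (by rw [← hn, hw]; decide)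
  · by_cases hw : 𝐰 = 3
    · exact h.reg_of_tab t8 he (Or.inl rfl) h1 (h.nb_eight he) (h.xb_two (k := 6) he)
        (h.lb_eight he h1 (Or.inl hw)) (by simp [hw]) h2
    · exact h.reg_of_tab t7 he (Or.inl rfl) h1 (h.nb_eight he) (h.xb_two (k := 6) he)
        (h.lb_gen he h1) (by simp; omega) h2
  · exact h.reg_of_tab t9 he (Or.inl rfl) h1 (NB.gen nd he) (h.xb_nine he (Or.inr rfl) h1)
      (h.lb_gen he h1) rfl h2

theorem reg2 [Group.IsSolvable G] (hM : Nat.card Q ≠ 1) (hB : 25 * Nat.card 𝚪 ^ 2 ≤ Nat.card Q ^ 5)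
    (hc : (Nat.card G).Coprime (Nat.card V)) (hodd : 𝐰 % 2 = 1) :
    ∃ s : Fin 2 → V, RegOn (⊤ : Subgroup G) ⊤ s := by
  obtain ⟨e, he⟩ := h.sy.exists_sq
  have h1 := h.le_div he hB
  have h2 := h.le_rank he
  have e0 : e ≠ 0 := by rintro rfl; exact Nat.card_pos.ne' he
  have e1 : e ≠ 1 := by rintro rfl; exact hM he
  have h3 := h.three_le he e1
  have nd := h.sy.nd
  have ht : 2 = 3 ∨ 2 = 2 ∧ 𝐰 % 2 = 1 := Or.inr ⟨rfl, hodd⟩
  have hp : ∀ r : ℕ, r ∣ 𝐰 → r ∣ Nat.card 𝚪 → r = 1 := fun r a b => Nat.eq_one_of_dvd_coprimes hc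
    ((b.trans (card_map_dvd _ _)).trans (card_subgroup_dvd_card _)) (a.trans (by
      rw [Module.natCard_eq_pow_finrank (K := K) (V := V)]; exact dvd_pow_self _ (by omega)))
  have p3 : 3 ∣ 𝐰 → ¬ 3 ∣ Nat.card 𝚪 := fun a b => absurd (hp 3 a b) (by norm_num)
  have := CF.Solv.isSolvable_map φ 𝐂
  obtain ⟨t1, t2, t3, t4, t5, t6, t7, t8, t9, t10, t11, t12, t13, t14, t15, t16, t17⟩ := tab2
  rcases le_or_gt 40 e with h4 | h4
  · exact h.reg_big he h4 (Or.inl rfl) h1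
  by_cases h5 : 7 ≤ e ∧ e ≠ 8 ∧ e ≠ 9 ∧ e ≠ 16
  · refine h.reg_of_tab (tab_gen2 e h4 h5) he ht h1 (NB.gen nd he) (XB.gen he h1)
      (h.lb_gen he h1) rfl h2 ⟨e1, by omega, Nat.mul_pos (Nat.div_pos (le_trans (by omega)
        (Nat.le_self_pow (by norm_num) e)) (by norm_num)) (by positivity)⟩
  obtain rfl | rfl | rfl | rfl | rfl | rfl | rfl | rfl : e = 2 ∨ e = 3 ∨ e = 4 ∨ e = 5 ∨ e = 6 ∨
    e = 8 ∨ e = 9 ∨ e = 16 := by omega
  · rcases h2.eq_or_lt with hn | hn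
    swap
    · exact h.reg_of_tab t1 he ht h1 (NB.gen nd he) (h.xb_two he) (h.lb_gen he h1) rfl hn
    obtain ⟨k, a1, a2⟩ := h.fs.exists_pow_index
    have a3 : ∀ a b f : ℕ, 2 ≤ b ∧ a + 1 ≤ b ^ 2 → (f - 1) * a + 1 ≤ b ^ f := fun a b f hab => by
      rcases le_or_gt 2 f with hf | hf
      · induction f, hf using Nat.le_induction with
        | base => simpa using hab.2
        | succ f hf ih =>
          have h1 := Nat.pow_le_pow_right (show 0 < b by omega) hf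
          have h2 := Nat.mul_le_mul_left (b ^ f) hab.1
          obtain ⟨f, rfl⟩ := Nat.exists_eq_add_of_le' (show 1 ≤ f by omega)
          rw [Nat.add_sub_cancel] at ih ⊢
          rw [pow_succ b (f + 1), add_one_mul]
          omega
      · rw [show f - 1 = 0 by omega, zero_mul]
        exact Nat.pow_pos (by omega)
    have a4 : (𝐂).index ≠ 0 := index_ne_zero_of_finite
    have a5 : k % 2 = 1 := Nat.odd_iff.1 ((Nat.odd_pow_iff a4).1 (a2 ▸ Nat.odd_iff.2 hodd))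
    by_cases a6 : 3 ∣ 𝐰
    · refine h.reg_two (B := 2) hn.symm he (Nat.le_of_dvd two_pos (((Nat.Prime.coprime_iff_not_dvd
        Nat.prime_three).2 (p3 a6)).symm.dvd_of_dvd_mul_left ((card_subgroup_dvd_card _).trans (by
          rw [card_mulAut_of_pow_eq_one (r := 2) (h.sy.exp_two he) he]; decide)))) ?_
      have := (a3 8 3 _ (by norm_num)).trans (Nat.pow_le_pow_left (show 3 ≤ k by omega) (𝐂).index)
      omega
    · have a7 : k ≠ 3 := fun e => a6 (a2 ▸ e ▸ dvd_pow_self k a4)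
      have := (a3 24 5 _ (by norm_num)).trans (Nat.pow_le_pow_left (show 5 ≤ k by omega) (𝐂).index)
      exact h.reg_two hn.symm he h1 (by omega)
  · exact h.reg_of_tab t2 he ht (h.sqf he) (NB.gen nd he) (XB.three nd he) (h.lb_gen he (h.sqf he)) rfl h2
  · have x := h.xb_two (k := 4) he
    rcases h.four_cases' he with ⟨b1, b2, b3, b4, X, b5, b6⟩ | ⟨b1, b2⟩
    · have : ¬ 3 ∣ 𝐰 := fun a => p3 a b1
      obtain hw | hw | hw : 𝐰 = 5 ∨ 𝐰 = 7 ∨ 11 ≤ 𝐰 := by omega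
      · rcases h2.eq_or_lt with hn | hn
        exacts [h.reg_five hw hn.symm he (Subgroup.index_eq_one.1 (h.index_eq_one (hw ▸ Nat.prime_five)))
          b5 b6, h.reg_of_tab t5 he ht b2 b3 x (h.lb_gen he b2) (by simp [hw]) hn]
      · exact h.reg_of_tab t4 he ht b2 b3 x b4 (by simp [hw]) h2
      · exact h.reg_of_tab t3 he ht b2 b3 x (h.lb_gen he b2) (by simp [hw]) h2
    have b3 := Nat.le_of_dvd (by norm_num) b1
    obtain hw | hw | hw : 𝐰 = 3 ∨ 𝐰 = 5 ∨ 7 ≤ 𝐰 := by omega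
    · rcases h2.eq_or_lt with hn | hn
      exacts [h.reg_of_tab t9 he ht b3 (b2 0) x (h.lb_81 he (by
        rw [Module.natCard_eq_pow_finrank (K := K) (V := V), hw, ← hn]; rfl) hw (p3 hw.symm.dvd))
          (by simp [hw]) h2, h.reg_of_tab t8 he ht b3 (b2 0) x (h.lb_gen he b3) rfl hn]
    · have b4 : Nat.card 𝚪 ≤ 4 := Nat.le_of_dvd four_pos (((Nat.Prime.coprime_iff_not_dvd
        Nat.prime_five).2 fun a => absurd (hp 5 hw.symm.dvd a) (by norm_num)).symm.dvd_of_dvd_mul_left b1)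
      exact h.reg_of_tab t7 he ht b4 (b2 0) x (h.lb_gen he b4) (by simp [hw]) h2
    · exact h.reg_of_tab t6 he ht b3 (b2 0) x (h.lb_gen he b3) (by simp [hw]) h2
  · exact h.reg_of_tab t10 he ht (h.sqf he) (NB.gen nd he) (XB.gen he (h.sqf he))
      (h.lb_gen he (h.sqf he)) rfl h2
  · exact h.reg_of_tab t11 he ht (h.sqf he) (NB.gen nd he) (h.xb_nine he (Or.inl rfl) (h.sqf he))
      (h.lb_gen he (h.sqf he)) rfl h2
  · have x := h.xb_two (k := 6) he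
    obtain hw | hw | hw : 𝐰 = 3 ∨ 𝐰 = 5 ∨ 7 ≤ 𝐰 := by omega
    · have b := nd.le_fortytwo he (h.sy.exp_two (k := 6) he) h.iso' (h.o2 (k := 6) he)
        (pCore_three (p3 hw.symm.dvd))
      exact h.reg_of_tab t14 he ht b (NB.three nd h.iso' (h.o2 (k := 6) he) (p3 hw.symm.dvd) 0) x
        (h.lb_gen he b) (by simp [hw]) h2
    · exact h.reg_of_tab t13 he ht h1 (h.nb_eight he) x (h.lb_eight he h1 (Or.inr hw)) (by simp [hw]) h2
    · exact h.reg_of_tab t12 he ht h1 (h.nb_eight he) x (h.lb_gen he h1) (by simp [hw]) h2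
  · exact h.reg_of_tab t15 he ht h1 (NB.gen nd he) (h.xb_nine he (Or.inr rfl) h1)
      (h.lb_gen he h1) rfl h2
  by_cases hw : 𝐰 = 3
  · have b := nd.le_big he (h.sy.exp_two (k := 8) he) h.iso' (h.o2 (k := 8) he)
      (pCore_three (p3 hw.symm.dvd))
    exact h.reg_of_tab t17 he ht b (NB.three nd h.iso' (h.o2 (k := 8) he) (p3 hw.symm.dvd) 0)
      (XB.of (R := 16) he b fun f a c _ => by
        have := (a.two nd (h.sy.exp_two (k := 8) he) c).2
        rw [he] at this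
        exact (Nat.pow_le_pow_iff_left two_ne_zero).1 this) (h.lb_gen he b) (by simp [hw]) h2
  · exact h.reg_of_tab t16 he ht h1 (NB.gen nd he) (XB.gen he h1) (h.lb_gen he h1)
      (by simp; omega) h2

end QP

end CF.Fgs2.Base
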