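import Cfsg.Agent.Fgs2.Base15

/-! Completely reducible solvable linear groups have a base of size three (Seress). -/

set_option autoImplicit false

namespace CF.Fgs2.Base

open Subgroup CF.Perm CF.Transfer
open scoped Pointwise commutatorElement

universe u

/-- solvable groups -/
def CSol (G : Type u) [Group G] (_ : ℕ) : Prop := Group.IsSolvable G

theorem cls_sol : Cls CSol.{u} where
  inj f hf _ _ _ h := have : Group.IsSolvable _ := h; Group.isSolvable_of_isSolvable_injective hf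
  surj f hf _ h := have : Group.IsSolvable _ := h; Group.isSolvable_of_surjective hf

/-- the order bound for completely reducible solvable groups -/
def PW (n : ℕ) : Prop :=
  ∀ (G V : Type u) [Group G] [Finite G] [AddCommGroup V] [Finite V] [Nontrivial V]
    [DistribMulAction G V], Group.IsSolvable G → CROn (⊤ : Subgroup G) (⊤ : AddSubgroup V) →
    Nat.card V < n → 25 * (fixingSubgroup G (Set.univ : Set V)).index ^ 2 ≤ Nat.card V ^ 5

variable {n : ℕ}

theorem PW.rel (h : PW.{u} n) {G V : Type u} [Group G] [Finite G] [AddCommGroup V] [Finite V]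
    [DistribMulAction G V] [Group.IsSolvable G] {H : Subgroup G} {U : AddSubgroup V}
    (hU : InvOn H U) (hcr : CROn H U) (h0 : U ≠ ⊥) (hn : Nat.card U < n) :
    25 * (fixingSubgroup G (U : Set V)).relIndex H ^ 2 ≤ Nat.card U ^ 5 := by
  letI := subAct hU
  have := (U.nontrivial_iff_ne_bot).2 h0
  have h1 := h H U inferInstance (fun X _ hX => by
      obtain ⟨W, h1, h2, h3, h4⟩ := hcr (X.map U.subtype) (AddSubgroup.map_subtype_le X)
        (by rintro g hg _ ⟨v, hv, rfl⟩; exact ⟨_, hX ⟨g, hg⟩ trivial v hv, rfl⟩)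
      refine ⟨W.addSubgroupOf U, le_top, fun g _ v hv => h2 g.1 g.2 v.1 hv, ?_, ?_⟩
      · refine eq_bot_iff.2 fun v hv => ?_
        have : v.1 ∈ X.map U.subtype ⊓ W := ⟨⟨v, hv.1, rfl⟩, hv.2⟩
        rw [h3] at this
        exact Subtype.ext this
      · refine eq_top_iff.2 fun v _ => ?_
        obtain ⟨_, ⟨x, hx, rfl⟩, w, hw, e⟩ := AddSubgroup.mem_sup.1 (h4.ge v.2)
        exact AddSubgroup.mem_sup.2 ⟨x, hx, ⟨w, h1 hw⟩, hw, Subtype.ext e⟩) hn
  rwa [show fixingSubgroup H (Set.univ : Set U) = (fixingSubgroup G (U : Set V)).subgroupOf H from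
    Subgroup.ext fun g => ⟨fun hg v => congrArg Subtype.val (hg ⟨v, trivial⟩),
      fun hg v => Subtype.ext (hg v.1)⟩] at h1

theorem PW.mul (h : PW.{u} n) {G Q : Type u} [Group G] [Finite G] [CommGroup Q] [Finite Q]
    [Nontrivial Q] [Group.IsSolvable G] (φ : G →* MulAut Q)
    (hcr : ∀ X : Subgroup Q, (∀ g, ∀ x ∈ X, φ g x ∈ X) → ∃ W : Subgroup Q,
      (∀ g, ∀ x ∈ W, φ g x ∈ W) ∧ X ⊓ W = ⊥ ∧ X ⊔ W = ⊤) (hn : Nat.card Q < n) :
    25 * Nat.card φ.range ^ 2 ≤ Nat.card Q ^ 5 := by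
  letI := mulAct φ
  have h1 := h G (Additive Q) inferInstance (fun X _ hX => by
    obtain ⟨W, h1, h2, h3⟩ := hcr (AddSubgroup.toSubgroup' X) fun g x hx => hX g trivial _ hx
    refine ⟨W.toAddSubgroup, le_top, fun g _ v hv => h1 g _ hv, ?_, ?_⟩
    · apply AddSubgroup.toSubgroup'.injective
      rw [OrderIso.map_inf, OrderIso.map_bot]; exact h2
    · apply AddSubgroup.toSubgroup'.injective
      rw [OrderIso.map_sup, OrderIso.map_top]; exact h3) hn
  rwa [show fixingSubgroup G (Set.univ : Set (Additive Q)) = φ.ker from Subgroup.ext fun g =>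
    ⟨fun hg => MulEquiv.ext fun x => hg ⟨Additive.ofMul x, trivial⟩,
      fun hg v => congrArg Additive.ofMul (DFunLike.congr_fun hg v.1.toMul)⟩, index_ker] at h1

theorem PW.succ (h : PW.{u} n)
    (step : ∀ (G V : Type u) [Group G] [Finite G] [AddCommGroup V] [Finite V] [Nontrivial V]
      [DistribMulAction G V] [FaithfulSMul G V], Group.IsSolvable G → Nat.card V = n →
      IrrOn (⊤ : Subgroup G) (⊤ : AddSubgroup V) → 25 * Nat.card G ^ 2 ≤ Nat.card V ^ 5) :
    PW.{u} (n + 1) := by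
  intro G V _ _ _ _ _ _ hG hcr hn
  rcases Nat.lt_succ_iff_lt_or_eq.1 hn with hn | hn
  · exact h G V hG hcr hn
  by_cases hirr : IrrOn (⊤ : Subgroup G) (⊤ : AddSubgroup V)
  · letI := rangeAct G V
    haveI : FaithfulSMul (MulAction.toPermHom G V).range V :=
      ⟨fun h => Subtype.ext (Equiv.ext h)⟩
    have h1 := step (MulAction.toPermHom G V).range V
      (Group.isSolvable_of_surjective (MonoidHom.rangeRestrict_surjective _)) hn
      fun X hX hi => hirr X hX fun g _ v hv => hi ⟨_, g, rfl⟩ trivial v hv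
    rwa [← index_ker, show (MulAction.toPermHom G V).ker = fixingSubgroup G (Set.univ : Set V) from
      Subgroup.ext fun g => ⟨fun hg v => DFunLike.congr_fun hg v.1,
        fun hg => Equiv.ext fun v => hg ⟨v, trivial⟩⟩] at h1
  simp only [IrrOn, not_forall, not_or] at hirr
  obtain ⟨X, -, h1, h2, h3⟩ := hirr
  obtain ⟨W, -, h4, h5, h6⟩ := hcr X le_top h1
  have hlt : ∀ Y : AddSubgroup V, Y ≠ ⊤ → Nat.card Y < n := fun Y hY =>
    hn ▸ (AddSubgroup.card_le_card_addGroup Y).lt_of_ne fun e => hY (Y.eq_top_of_card_eq e)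
  have a1 := h.rel h1 (hcr.mono le_top h1) h2 (hlt X h3)
  have a2 := h.rel h4 (hcr.mono le_top h4) (fun e => h3 (by rwa [e, sup_bot_eq] at h6))
    (hlt W fun e => h2 (by rwa [e, inf_top_eq] at h5))
  have a3 := card_mul_le X W
  rw [h5, AddSubgroup.card_bot, mul_one] at a3
  rw [relIndex_top_right] at a1 a2
  have a4 := (Nat.le_of_dvd (Nat.pos_of_ne_zero index_ne_zero_of_finite) (index_dvd_of_le
    (show fixingSubgroup G (X : Set V) ⊓ fixingSubgroup G (W : Set V) ≤ fixingSubgroup G Set.univ from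
      fun g hg v => by
        obtain ⟨x, hx, w, hw, e⟩ := AddSubgroup.mem_sup.1 (h6.ge (AddSubgroup.mem_top v.1))
        rw [← e, smul_add, hg.1 ⟨x, hx⟩, hg.2 ⟨w, hw⟩]))).trans index_inf_le
  calc _ ≤ 25 * 25 * ((fixingSubgroup G (X : Set V)).index * (fixingSubgroup G (W : Set V)).index) ^ 2 := by
        gcongr; norm_num
    _ = _ := by ring
    _ ≤ Nat.card X ^ 5 * Nat.card W ^ 5 := Nat.mul_le_mul a1 a2
    _ ≤ _ := by rw [← mul_pow]; gcongr

theorem Imp.card_core {G V : Type*} [Group G] [Finite G] [AddCommGroup V] [DistribMulAction G V]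
    [FaithfulSMul G V] {W : AddSubgroup V} (h : Imp G W)
    (hirr : IrrOn (⊤ : Subgroup G) (⊤ : AddSubgroup V)) :
    Nat.card (MulAction.stabilizer G W).normalCore ≤ (fixingSubgroup G (W : Set V)).relIndex
      (MulAction.stabilizer G W) ^ (MulAction.stabilizer G W).index := by
  rw [relIndex, index, index, ← Nat.card_fun]
  refine Nat.card_le_card_of_injective (fun x q => QuotientGroup.mk ⟨q.out⁻¹ * x * q.out⁻¹⁻¹,
    x.2 _⟩) fun x y e => Subtype.ext (inv_mul_eq_one.1 (eq_of_smul_eq_smul (α := V) fun v => ?_))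
  have hv : v ∈ ⨆ g : G, g • W := sup_orbit hirr h.ne_bot ▸ trivial
  rw [one_smul]
  induction hv using AddSubgroup.iSup_induction' with
  | hp k v hv =>
    obtain ⟨a, ha⟩ := QuotientGroup.mk_out_eq_mul (MulAction.stabilizer G W) k
    have h1 := QuotientGroup.eq.1 (congrFun e k) ⟨(a.1⁻¹ * k⁻¹) • v, by
      rw [mul_smul]; exact invOn_stab W _ (inv_mem a.2) _ (mem_smul.1 hv)⟩
    simpa [ha, mul_smul] using h1
  | h1 => exact smul_zero _
  | hadd x y _ _ hx hy => rw [smul_add, hx, hy]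

theorem exists_mark {Q κ : Type*} (s : κ → Q) :
    ∃ γ : Q → Option κ, ∀ q i, γ q = γ (s i) → q = s i := by
  classical
  refine ⟨fun q => if h : ∃ i, s i = q then some h.choose else none, fun q i e => ?_⟩
  simp only [dif_pos (⟨i, rfl⟩ : ∃ j, s j = s i)] at e
  split_ifs at e with h
  rw [← h.choose_spec, Option.some.inj e, (⟨i, rfl⟩ : ∃ j, s j = s i).choose_spec]

theorem cr_of_irr {G Q : Type*} [Group G] [Group Q] {φ : G →* MulAut Q}
    (h : ∀ X : Subgroup Q, (∀ g, ∀ x ∈ X, φ g x ∈ X) → X = ⊥ ∨ X = ⊤) (X : Subgroup Q)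
    (hX : ∀ g, ∀ x ∈ X, φ g x ∈ X) :
    ∃ W : Subgroup Q, (∀ g, ∀ x ∈ W, φ g x ∈ W) ∧ X ⊓ W = ⊥ ∧ X ⊔ W = ⊤ := by
  rcases h X hX with rfl | rfl
  · exact ⟨⊤, fun _ _ _ => trivial, bot_inf_eq _, bot_sup_eq _⟩
  · exact ⟨⊥, fun g x hx => by rw [mem_bot.1 hx, map_one]; exact one_mem _, inf_bot_eq _,
      sup_bot_eq _⟩

theorem exists_col_sol (h : P CSol.{u} (Fin 3) n) {G : Type u} [Group G] [Finite G]
    [Group.IsSolvable G] (H : Subgroup G) (hn : H.index < n) : ∃ c : G → Fin 5, Col ⊤ H c := by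
  refine exists_col H fun L K h1 h2 => ?_
  obtain ⟨Q, _, _, φ, π, h3, h4, h5⟩ := exists_aff (covBy_coatom h1)
  obtain ⟨t, ht⟩ := h.mul φ (inferInstance : Group.IsSolvable L) (cr_of_irr h4) (h3 ▸ lt_of_le_of_lt
    (Nat.le_of_dvd (Nat.pos_of_ne_zero index_ne_zero_of_finite)
      ((relIndex_dvd_index_of_le h1.le).trans (index_dvd_of_le h2))) hn)
  obtain ⟨γ, hγ⟩ := exists_mark (Fin.cons 1 t : Fin 4 → Q)
  obtain ⟨d, hd⟩ := ((h5 _ γ fun x hx => by
    have h6 : π x = 1 := by simpa using hγ _ 0 (hx _)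
    exact ⟨h6, ht x fun i => by simpa [h6] using hγ _ i.succ (hx _)⟩).comp
      (finSuccEquiv 4).symm.injective).of_sub h1.le
  exact hd.five

theorem pw_num {e n w f a c : ℕ} (hn : e ≤ n) (h2 : 2 ≤ w) (hf : 2 ^ f ≤ w) (ha : a ≤ w - 1)
    (h : (e = 1 ∧ c ≤ 1) ∨ (2 ≤ e ∧ 3 ≤ w ∧ (e = 3 → 4 ≤ w) ∧ 25 * c ^ 2 ≤ (e ^ 2) ^ 5)) :
    25 * (f * (c * (e ^ 2 * a))) ^ 2 ≤ (w ^ n) ^ 5 := by
  have h1 : 2 * f ≤ w := le_trans (by
    rcases f with _ | f
    · simp
    · rw [pow_succ, mul_comm]; exact Nat.mul_le_mul_right _ Nat.lt_two_pow_self) hf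
  refine le_trans ?_ (Nat.pow_le_pow_left (Nat.pow_le_pow_right (by omega) hn) 5)
  rcases h with ⟨rfl, h3⟩ | ⟨h3, h4, h5, h6⟩
  · refine Nat.le_of_mul_le_mul_left (c := 4) ?_ four_pos
    obtain ⟨v, rfl⟩ := Nat.exists_eq_add_of_le' (show 1 ≤ w by omega)
    have h7 : 25 * v ^ 2 ≤ 4 * (v + 1) ^ 3 := by
      rcases le_or_gt v 5 with h | h
      · interval_cases v <;> omega
      · nlinarith [Nat.mul_le_mul_right (v ^ 2) h]
    calc _ = (2 * f) ^ 2 * (25 * (c * a) ^ 2) := by ring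
      _ ≤ (v + 1) ^ 2 * (25 * (1 * v) ^ 2) := by gcongr; exact ha
      _ ≤ (v + 1) ^ 2 * (4 * (v + 1) ^ 3) := by rw [one_mul]; gcongr
      _ = _ := by ring
  have k : ∀ (b x y z : ℕ) (e₀ : ℕ), x * e₀ ^ 14 * z ≤ y * (b ^ e₀) ^ 5 →
      (e₀ + 1) ^ 14 ≤ b ^ 5 * e₀ ^ 14 → ∀ e, e₀ ≤ e → x * e ^ 14 * z ≤ y * (b ^ e) ^ 5 :=
    fun b x y z e₀ k1 k2 e he => by
    induction e, he using Nat.le_induction with
    | base => exact k1
    | succ e he ih =>
      rcases Nat.eq_zero_or_pos e₀ with rfl | h0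
      · simp at k2
      have k3 : (e + 1) ^ 14 ≤ b ^ 5 * e ^ 14 := Nat.le_of_mul_le_mul_right (c := e₀ ^ 14) (by
        calc _ = ((e + 1) * e₀) ^ 14 := by ring
          _ ≤ ((e₀ + 1) * e) ^ 14 := by gcongr ?_ ^ 14; nlinarith
          _ = (e₀ + 1) ^ 14 * e ^ 14 := by ring
          _ ≤ b ^ 5 * e₀ ^ 14 * e ^ 14 := by gcongr
          _ = _ := by ring) (by positivity)
      calc _ ≤ x * (b ^ 5 * e ^ 14) * z := by gcongr
        _ = b ^ 5 * (x * e ^ 14 * z) := by ring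
        _ ≤ b ^ 5 * (y * (b ^ e) ^ 5) := by gcongr
        _ = _ := by ring
  rcases h4.eq_or_lt with rfl | h4
  · rcases h3.eq_or_lt with rfl | h3
    · have : c ≤ 6 := by nlinarith
      calc _ ≤ 25 * (1 * (6 * (2 ^ 2 * 2))) ^ 2 := by gcongr; omega
        _ ≤ _ := by norm_num
    calc _ = 25 * c ^ 2 * (f * (e ^ 2 * a)) ^ 2 := by ring
      _ ≤ (e ^ 2) ^ 5 * (1 * (e ^ 2 * 2)) ^ 2 := by gcongr; omega
      _ = 4 * e ^ 14 * 1 := by ring
      _ ≤ _ := (k 3 4 1 1 4 (by norm_num) (by norm_num) e (by omega)).trans_eq (one_mul _)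
  refine Nat.le_of_mul_le_mul_left (c := 4 * 4 ^ (e * 5)) ?_ (by positivity)
  calc _ = 4 ^ (e * 5) * (25 * c ^ 2 * ((2 * f) * (e ^ 2 * a)) ^ 2) := by ring
    _ ≤ 4 ^ (e * 5) * ((e ^ 2) ^ 5 * (w * (e ^ 2 * w)) ^ 2) := by gcongr; omega
    _ = e ^ 14 * (w ^ 4 * 4 ^ (e * 5)) := by ring
    _ ≤ e ^ 14 * (4 ^ 4 * w ^ (e * 5)) := Nat.mul_le_mul_left _ (pw h4 four_pos (by omega) (by omega))
    _ = 1 * e ^ 14 * 4 ^ 4 * w ^ (e * 5) := by ring
    _ ≤ 4 * (4 ^ e) ^ 5 * w ^ (e * 5) :=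
      Nat.mul_le_mul_right _ (k 4 1 4 _ 2 (by norm_num) (by norm_num) e h3)
    _ = _ := by rw [← pow_mul, ← pow_mul]

namespace QP

variable {G V K Q : Type*} [Group G] [Finite G] [AddCommGroup V] [Finite V] [Nontrivial V]
  [DistribMulAction G V] [FaithfulSMul G V] [Field K] [Finite K] [Module K V] [CommGroup Q]
  [Finite Q] {A M : Subgroup G} {σ : G →* RingAut K} {φ : G →* MulAut Q} {β : Q →* Q →* Kˣ}
  {p : M →* Q} (h : QP V A M σ φ β p)
include h

theorem reg_one (hQ : Nat.card Q = 1) : ∃ s : Fin 2 → V, RegOn (⊤ : Subgroup G) ⊤ s := by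
  have := (Nat.card_eq_one_iff_unique.1 hQ).1
  obtain ⟨v, w, h1⟩ := reg_of_cent_le h.fs fun c hc => (h.ker ⟨c, (h.triv c hc).1
    (MulEquiv.ext fun _ => Subsingleton.elim _ _)⟩).1 (Subsingleton.elim _ _)
  exact ⟨![v, w], fun _ => trivial, fun g _ hg u _ => by rw [h1 g (hg 0) (hg 1), one_smul]⟩

theorem card_lt (hQ : Nat.card Q ≠ 1) : Nat.card Q < Nat.card V := by
  obtain ⟨e, he⟩ := h.sy.exists_sq
  have h1 := h.three_le he fun e1 => hQ (by rw [he, e1]; rfl)
  rw [he, Module.natCard_eq_pow_finrank (K := K) (V := V)]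
  refine lt_of_lt_of_le ?_ ((Nat.pow_le_pow_left h1 e).trans
    (Nat.pow_le_pow_right (by omega) (h.le_rank he)))
  clear he
  induction e with
  | zero => simp
  | succ e ih =>
    rcases e with _ | _ | e
    · norm_num
    · norm_num
    · rw [pow_succ 3]; nlinarith

theorem pw (hB : Nat.card Q ≠ 1 →
    25 * Nat.card ((centralizer (A : Set G)).map φ) ^ 2 ≤ Nat.card Q ^ 5) :
    25 * Nat.card G ^ 2 ≤ Nat.card V ^ 5 := by
  obtain ⟨e, he⟩ := h.sy.exists_sq
  obtain ⟨k, h1, h2⟩ := h.fs.exists_pow_index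
  rw [← index_mul_card (centralizer (A : Set G)), h.card_cent he,
    Module.natCard_eq_pow_finrank (K := K) (V := V)]
  refine pw_num (h.le_rank he) Finite.one_lt_card (h2 ▸ Nat.pow_le_pow_left h1 _) h.card_le ?_
  by_cases e1 : e = 1
  · have := (Nat.card_eq_one_iff_unique.1 (he.trans (by rw [e1]; rfl))).1
    exact Or.inl ⟨e1, Finite.card_le_one_iff_subsingleton.2
      ⟨fun _ _ => Subtype.ext (MulEquiv.ext fun _ => Subsingleton.elim _ _)⟩⟩
  have e0 : e ≠ 0 := by rintro rfl; exact Nat.card_pos.ne' he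
  refine Or.inr ⟨by omega, h.three_le he e1, fun e3 => ?_, he ▸ hB fun e' => e1
    (Nat.pow_eq_one.1 (he.symm.trans e') |>.resolve_right two_ne_zero)⟩
  have := Nat.le_of_dvd Nat.card_pos (h.prime_dvd he Nat.prime_three e3.symm.dvd)
  have := h.card_le
  omega

end QP

theorem QP.bound {G V Q : Type u} {K : Type*} [Group G] [Finite G] [AddCommGroup V] [Finite V]
    [Nontrivial V] [DistribMulAction G V] [FaithfulSMul G V] [Field K] [Finite K] [Module K V]
    [CommGroup Q] [Finite Q] {A M : Subgroup G} {σ : G →* RingAut K} {φ : G →* MulAut Q}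
    {β : Q →* Q →* Kˣ} {p : M →* Q} (h : QP V A M σ φ β p) [Group.IsSolvable G]
    (ih : PW.{u} (Nat.card V)) (hQ : Nat.card Q ≠ 1) :
    25 * Nat.card ((centralizer (A : Set G)).map φ) ^ 2 ≤ Nat.card Q ^ 5 := by
  have := Finite.one_lt_card_iff_nontrivial.1 (lt_of_le_of_ne (Nat.card_pos (α := Q)) (Ne.symm hQ))
  refine le_trans ?_ (ih.mul φ h.sy.cr (h.card_lt hQ))
  gcongr
  exact card_le_of_le (map_le_range _ _)

theorem RegOn.three {G V : Type*} [Group G] [AddCommGroup V] [DistribMulAction G V]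
    {s : Fin 2 → V} (hs : RegOn (⊤ : Subgroup G) ⊤ s) : ∃ s : Fin 3 → V, RegOn (⊤ : Subgroup G) ⊤ s :=
  ⟨![s 0, s 1, 0], fun _ => trivial, fun g hg e => hs.2 g hg fun i => by
    fin_cases i; exacts [e 0, e 1]⟩

theorem p_sol (n : ℕ) : P CSol.{u} (Fin 3) n ∧ PW.{u} n := by
  induction n with
  | zero => exact ⟨fun G V _ _ _ _ _ _ _ h => by omega, fun G V _ _ _ _ _ _ _ _ h => by omega⟩
  | succ n ih =>
    have key : ∀ (G V : Type u) [Group G] [Finite G] [AddCommGroup V] [Finite V] [Nontrivial V]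
        [DistribMulAction G V] [FaithfulSMul G V], Group.IsSolvable G → Nat.card V = n →
        IrrOn (⊤ : Subgroup G) (⊤ : AddSubgroup V) → (∃ t : Fin 3 → V, RegOn (⊤ : Subgroup G) ⊤ t) ∧
          25 * Nat.card G ^ 2 ≤ Nat.card V ^ 5 := fun G V _ _ _ _ _ _ _ hG hn hirr => by
      subst hn
      obtain ⟨A, hA1, hA2, hA3⟩ := exists_max_abelian (G := G)
      obtain ⟨M, hM⟩ := exists_AM A hA3
      rcases fs_or_imp hirr A hA2 with ⟨K, _, _, _, σ, h⟩ | ⟨W, hW⟩
      · obtain ⟨Q, _, φ, β, p, h⟩ := exists_QP h hM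
        have : Finite Q := Finite.of_surjective p h.surj
        refine ⟨?_, h.pw (h.bound ih.2)⟩
        by_cases hQ : Nat.card Q = 1
        exacts [(h.reg_one hQ).elim fun _ h => h.three, h.reg3 hQ (h.bound ih.2 hQ)]
      obtain ⟨c, hc⟩ := exists_col_sol ih.1 _ hW.index_lt
      have h1 := (hW.irr hirr).cr (invOn_stab W)
      obtain ⟨t, ht⟩ := ih.1.rel cls_sol hG (invOn_stab W) h1 hW.card_lt
      obtain ⟨s, h2, h3⟩ := five_reg hW.ne_bot ht
      refine ⟨hW.reg hirr hc s h2 h3, ?_⟩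
      calc _ = (5 * (MulAction.stabilizer G W).normalCore.index) ^ 2 *
            Nat.card (MulAction.stabilizer G W).normalCore ^ 2 := by
            rw [← index_mul_card (MulAction.stabilizer G W).normalCore]; ring
        _ ≤ (5 ^ _) ^ 2 * (_ ^ _) ^ 2 := Nat.mul_le_mul (Nat.pow_le_pow_left hc.index_core 2)
            (Nat.pow_le_pow_left (hW.card_core hirr) 2)
        _ = (25 * (fixingSubgroup G (W : Set V)).relIndex (MulAction.stabilizer G W) ^ 2) ^
            (MulAction.stabilizer G W).index := by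
            rw [pow_right_comm, pow_right_comm _ _ 2, mul_pow]; rfl
        _ ≤ (Nat.card W ^ 5) ^ _ :=
            Nat.pow_le_pow_left (ih.2.rel (invOn_stab W) h1 hW.ne_bot hW.card_lt) _
        _ ≤ _ := by rw [pow_right_comm]; exact Nat.pow_le_pow_left hW.pow_le 5
    exact ⟨ih.1.succ cls_sol fun G V _ _ _ _ _ _ _ hG hn hirr => (key G V hG hn hirr).1,
      ih.2.succ fun G V _ _ _ _ _ _ _ hG hn hirr => (key G V hG hn hirr).2⟩

end CF.Fgs2.Base
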