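import Cfsg.Agent.Fgs2.Base16

/-! Coprime solvable linear groups have a base of size two (Dolfi). -/

set_option autoImplicit false

namespace CF.Fgs2.Base

open Subgroup CF.Perm CF.Transfer
open scoped Pointwise commutatorElement

universe u

section aff

variable {Q : Type*} [CommGroup Q] [Finite Q] {Γ : Subgroup (MulAut Q)}

theorem col_count {m : ℕ} (h : ∀ f ∈ Γ, f ≠ 1 → Nat.card (dl f).ker ≤ m)
    (hc : (Nat.card Q * Nat.card Γ) ^ 2 * 3 ^ m < 3 ^ Nat.card Q) :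
    ∃ γ : Q → Fin 3, ∀ a, ∀ f ∈ Γ, (∀ q, γ (a * f q) = γ q) → a = 1 ∧ f = 1 := by
  classical
  by_contra! h1
  choose a f h2 h3 h4 using h1
  let S : Q × Γ → Set (Q → Fin 3) := fun x => {γ | (x.1 = 1 → x.2.1 ≠ 1) ∧
    ∀ q, γ (x.1 * x.2.1 q) = γ q}
  have h5 : ∀ x, Nat.card (S x) ^ 2 ≤ 3 ^ (Nat.card Q + m) := fun x => by
    by_cases h6 : x.1 = 1 → x.2.1 ≠ 1
    swap
    · rw [show S x = ∅ from Set.eq_empty_of_forall_notMem fun γ h => h6 h.1]; simp
    have h7 := card_inv_fun (κ := Fin 3) (x.2.1.toEquiv.trans (Equiv.mulLeft x.1))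
    rw [Nat.card_fin] at h7
    refine le_trans (Nat.pow_le_pow_left (Nat.card_le_card_of_injective
      (fun γ : S x => ⟨γ.1, γ.2.2⟩) fun _ _ e => Subtype.ext (by injection e)) 2)
      (h7.trans (Nat.pow_le_pow_right (by norm_num) (Nat.add_le_add_left ?_ _)))
    rcases isEmpty_or_nonempty {q // (x.2.1.toEquiv.trans (Equiv.mulLeft x.1)) q = q} with h8 | ⟨⟨q, hq⟩⟩
    · exact Nat.card_of_isEmpty.trans_le (Nat.zero_le _)
    have hq' : x.1 * x.2.1 q = q := hq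
    refine le_trans (Nat.card_le_card_of_injective (β := (dl x.2.1).ker) (fun y => ⟨y.1 * q⁻¹,
      mem_ker_dl.2 ?_⟩) fun _ _ e => Subtype.ext (mul_right_cancel (congrArg Subtype.val e)))
      (h _ x.2.2 fun e => h6 ?_ e)
    · have hy : x.1 * x.2.1 y.1 = y.1 := y.2
      rw [map_mul, map_inv, eq_inv_mul_of_mul_eq hq', eq_inv_mul_of_mul_eq hy]
      conv_lhs => rw [mul_inv, inv_inv, mul_mul_mul_comm, inv_mul_cancel, one_mul]
    · simpa [e] using hq'
  obtain ⟨r, h6, h7⟩ := exists_root 2 (3 ^ (Nat.card Q + m)) two_ne_zero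
  have := Fintype.ofFinite (Q × Γ)
  have h8 := Nat.card_le_card_of_injective (α := Q → Fin 3) (β := Σ x, S x)
    (fun γ => ⟨(a γ, ⟨f γ, h2 γ⟩), γ, h4 γ, h3 γ⟩) fun _ _ e =>
      congrArg (fun x : Σ x, S x => x.2.1) e
  rw [Nat.card_sigma, Nat.card_fun, Nat.card_fin] at h8
  have h9 := h8.trans (Finset.sum_le_card_nsmul _ _ r fun x _ => h7 _ (h5 x))
  rw [Finset.card_univ, ← Nat.card_eq_fintype_card, Nat.card_prod, smul_eq_mul] at h9
  refine lt_irrefl ((3 ^ Nat.card Q) ^ 2) ((Nat.pow_le_pow_left h9 2).trans_lt ?_)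
  calc _ ≤ (Nat.card Q * Nat.card Γ) ^ 2 * 3 ^ (Nat.card Q + m) := by rw [mul_pow]; gcongr
    _ = (Nat.card Q * Nat.card Γ) ^ 2 * 3 ^ m * 3 ^ Nat.card Q := by ring
    _ < _ := by rw [sq (3 ^ _)]; gcongr

theorem col_semi (h : ∀ f ∈ Γ, f ≠ 1 → Nat.card (dl f).ker ≤ 1) :
    ∃ γ : Q → Fin 3, ∀ a, ∀ f ∈ Γ, (∀ q, γ (a * f q) = γ q) → a = 1 ∧ f = 1 := by
  obtain ⟨t, ht⟩ : ∃ t : Q, ∀ f ∈ Γ, f t = t → f = 1 := by
    rcases subsingleton_or_nontrivial Q with h1 | h1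
    · exact ⟨1, fun _ _ _ => MulEquiv.ext fun _ => Subsingleton.elim _ _⟩
    obtain ⟨t, ht⟩ := exists_ne (1 : Q)
    exact ⟨t, fun f hf e => by_contra fun h2 => ht (mem_bot.1 ((eq_bot_of_card_le _ (h f hf h2)) ▸
      mem_ker_dl.2 e))⟩
  obtain ⟨γ, hγ⟩ := exists_mark ![1, t]
  refine ⟨(finSuccEquiv 2).symm ∘ γ, fun a f hf h1 => ?_⟩
  have h2 : ∀ q, γ (a * f q) = γ q := fun q => (finSuccEquiv 2).symm.injective (h1 q)
  have h3 : a = 1 := by simpa using hγ _ 0 (h2 _)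
  exact ⟨h3, ht f hf (by simpa [h3] using hγ _ 1 (h2 _))⟩

theorem pow_eq_one_of_irr (hi : ∀ X : Subgroup Q, (∀ f ∈ Γ, ∀ x ∈ X, f x ∈ X) → X = ⊥ ∨ X = ⊤)
    {r : ℕ} (hr : r.Prime) (h : r ∣ Nat.card Q) (x : Q) : x ^ r = 1 := by
  have := Fact.mk hr
  obtain ⟨y, hy⟩ := exists_prime_orderOf_dvd_card' r h
  refine (((hi (powMonoidHom r).ker fun f _ x hx => ?_).resolve_left fun e => ?_).ge (mem_top x) :)
  · rw [MonoidHom.mem_ker, powMonoidHom_apply] at hx ⊢
    rw [← map_pow, hx, map_one]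
  · rw [mem_bot.1 (e ▸ (hy ▸ pow_orderOf_eq_one y : y ^ r = 1) : y ∈ (⊥ : Subgroup Q)),
      orderOf_one] at hy
    exact hr.ne_one hy.symm

theorem pCore_of_irr (hi : ∀ X : Subgroup Q, (∀ f ∈ Γ, ∀ x ∈ X, f x ∈ X) → X = ⊥ ∨ X = ⊤)
    {r : ℕ} [hr : Fact r.Prime] (h : r ∣ Nat.card Q) : Cfsg.pCore r Γ = ⊥ := by
  have h1 := card_modEq_fixS ((CF.Loc.isPGroup_pCore r Γ).map Γ.subtype) ⊤ fun _ _ _ _ => trivial
  rw [top_inf_eq, card_top] at h1
  rcases hi (fixS ((Cfsg.pCore r Γ).map Γ.subtype)) (by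
    rintro f hf x hx _ ⟨ρ, hρ, rfl⟩
    have := hx _ ⟨_, (inferInstance : (Cfsg.pCore r Γ).Normal).conj_mem' ρ hρ ⟨f, hf⟩, rfl⟩
    exact (MulEquiv.symm_apply_eq f).1 this) with e | e
  · rw [e, card_bot] at h1
    exact absurd (Nat.dvd_one.1 ((h1.dvd_iff dvd_rfl).1 h)) hr.out.one_lt.ne'
  · exact eq_bot_iff.2 fun ρ hρ => Subtype.ext (MulEquiv.ext fun x => e.ge (mem_top x) _ ⟨ρ, hρ, rfl⟩)

theorem num_three (n : ℕ) (h : 25 ≤ n) : n ^ 7 * 3 ^ (n / 4) < 25 * 3 ^ n := by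
  induction n using Nat.strong_induction_on with | h n ih =>
  rcases lt_or_ge n 29 with h1 | h1
  · interval_cases n <;> norm_num
  obtain ⟨m, rfl⟩ := Nat.exists_eq_add_of_le' (show 4 ≤ n by omega)
  have h2 := ih m (by omega) (by omega)
  have h3 := Nat.pow_le_pow_left (show 5 * (m + 4) ≤ 6 * m by omega) 7
  rw [Nat.add_div_right _ four_pos, pow_succ 3, pow_add 3]
  rw [mul_pow, mul_pow] at h3
  generalize (m + 4) ^ 7 = x at *
  generalize m ^ 7 = y at *
  have h4 : x * 3 ^ (m / 4) ≤ 4 * (y * 3 ^ (m / 4)) := by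
    rw [← mul_assoc]; exact Nat.mul_le_mul_right _ (by omega)
  rw [← mul_assoc]
  omega

theorem col_three [Group.IsSolvable Γ] (h3 : ¬ 3 ∣ Nat.card Γ) (h3' : ¬ 3 ∣ Nat.card Q)
    (hi : ∀ X : Subgroup Q, (∀ f ∈ Γ, ∀ x ∈ X, f x ∈ X) → X = ⊥ ∨ X = ⊤)
    (hB : Nontrivial Q → 25 * Nat.card Γ ^ 2 ≤ Nat.card Q ^ 5) :
    ∃ γ : Q → Fin 3, ∀ a, ∀ f ∈ Γ, (∀ q, γ (a * f q) = γ q) → a = 1 ∧ f = 1 := by
  rcases subsingleton_or_nontrivial Q with h0 | h0
  · exact col_semi fun f _ _ => Finite.card_le_one_iff_subsingleton.2 inferInstance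
  obtain ⟨r, hr, h1⟩ := Nat.exists_prime_and_dvd (Finite.one_lt_card (α := Q)).ne'
  have := Fact.mk hr
  have hx := pow_eq_one_of_irr hi hr h1
  obtain ⟨k, hk⟩ := (IsPGroup.iff_card (p := r) (G := Q)).1 fun x => ⟨1, by rw [pow_one, hx]⟩
  have h2 : ∀ f : MulAut Q, f ≠ 1 → r * Nat.card (dl f).ker ≤ Nat.card Q := fun f hf => by
    obtain ⟨j, -, hj⟩ := (Nat.dvd_prime_pow hr).1 (hk ▸ card_subgroup_dvd_card (dl f).ker)
    have := card_ker_lt hf
    rw [hj, hk, Nat.pow_lt_pow_iff_right hr.one_lt] at this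
    rw [hj, hk, ← pow_succ']
    exact Nat.pow_le_pow_right hr.pos this
  have h5 : r = 2 ∨ 5 ≤ r := by
    have := hr.two_le
    have : r ≠ 3 := by rintro rfl; exact h3' h1
    have : r ≠ 4 := by rintro rfl; exact absurd hr (by decide)
    omega
  have h4 : ∀ f ∈ Γ, f ≠ 1 → 4 * Nat.card (dl f).ker ≤ Nat.card Q := fun f hf e => by
    rcases h5 with rfl | h5
    · exact four_mul_le hk (pCore_of_irr hi h1) h3 hf e
    · exact le_trans (Nat.mul_le_mul_right _ (by omega)) (h2 f e)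
  rcases le_or_gt 25 (Nat.card Q) with h6 | h6
  · refine col_count (m := Nat.card Q / 4) (fun f hf e => by have := h4 f hf e; omega) ?_
    refine Nat.lt_of_mul_lt_mul_left (a := 25) (lt_of_le_of_lt ?_ (num_three _ h6))
    calc _ = Nat.card Q ^ 2 * (25 * Nat.card Γ ^ 2) * 3 ^ (Nat.card Q / 4) := by ring
      _ ≤ Nat.card Q ^ 2 * Nat.card Q ^ 5 * 3 ^ (Nat.card Q / 4) := by gcongr; exact hB h0
      _ = _ := by ring
  rcases le_or_gt k 1 with h7 | h7
  · exact col_semi fun f _ e => Nat.le_of_mul_le_mul_left ((h2 f e).trans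
      (hk ▸ Nat.pow_le_pow_right hr.pos h7 |>.trans_eq (by ring))) hr.pos
  obtain rfl : r = 2 := h5.resolve_right fun h8 => by
    have := (Nat.pow_le_pow_left h8 2).trans (Nat.pow_le_pow_right hr.pos h7)
    omega
  have h8 : k < 5 := (Nat.pow_lt_pow_iff_right one_lt_two).1 (by omega)
  obtain rfl | rfl | rfl : k = 2 ∨ k = 3 ∨ k = 4 := by omega
  · exact col_semi fun f hf e => by have := h4 f hf e; omega
  · refine col_semi fun f hf e => ?_
    obtain ⟨n, hn⟩ := exists_pow_prime (g := (⟨f, hf⟩ : Γ)) fun e' => e (congrArg Subtype.val e')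
    refine (card_le_of_le (ker_le_pow f n)).trans ?_
    rw [show f ^ n = ((⟨f, hf⟩ : Γ) ^ n).1 from rfl]
    generalize (⟨f, hf⟩ : Γ) ^ n = g at *
    have g1 : g.1 ≠ 1 := fun e => hn.ne_one (by rw [show g = 1 from Subtype.ext e, orderOf_one])
    have g2 : g.1 ^ orderOf g = 1 := by rw [← coe_pow, pow_orderOf_eq_one]; rfl
    by_cases h9 : orderOf g = 2
    · have a1 := card_le_of_le (show (dl g.1).range ≤ (dl g.1).ker by
        rintro _ ⟨y, rfl⟩
        have : g.1 (g.1 y) = y := by rw [← MulAut.mul_apply, ← sq, ← h9, g2]; rfl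
        rw [mem_ker_dl, dl_apply, map_mul, map_inv, this, eq_comm, ← mul_inv_eq_one, mul_inv,
          inv_inv, mul_comm y⁻¹, ← sq, hx])
      have a2 := card_ker_mul g.1
      have a3 := h4 _ g.2 g1
      nlinarith
    · have := eight_mul_le hk hn h9 (fun e => h3 (e ▸ orderOf_dvd_natCard g)) g2 g1
      omega
  · refine col_count (m := 4) (fun f hf e => by have := h4 f hf e; omega) ?_
    have := Nat.le_of_dvd (by norm_num) (irr16 hk (pCore_of_irr hi h1) (pCore_three h3) hi)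
    rw [hk]
    calc _ ≤ (2 ^ 4 * 20) ^ 2 * 3 ^ 4 := by gcongr
      _ < _ := by norm_num

end aff

theorem exists_col_three {G : Type u} [Group G] [Finite G] [Group.IsSolvable G]
    (hG : (Nat.card G).Coprime 3) (H : Subgroup G) : ∃ c : G → Fin 3, Col ⊤ H c := by
  refine exists_col H fun L K h1 _ => ?_
  obtain ⟨Q, _, _, φ, π, h3, h4, h5⟩ := exists_aff (covBy_coatom h1)
  have h6 : ¬ 3 ∣ Nat.card L := fun e => Nat.prime_three.one_lt.ne'
    (hG.symm.eq_one_of_dvd (e.trans (card_subgroup_dvd_card L)))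
  have := Group.isSolvable_of_surjective φ.rangeRestrict_surjective
  obtain ⟨γ, hγ⟩ := col_three (Γ := φ.range) (fun e => h6 (e.trans (card_range_dvd φ)))
    (fun e => h6 (e.trans (h3 ▸ index_dvd_card _))) (fun X hX => h4 X fun g => hX _ ⟨g, rfl⟩)
    fun _ => (p_sol _).2.mul φ (cr_of_irr h4) (Nat.lt_succ_self _)
  obtain ⟨d, hd⟩ := (h5 _ γ fun x hx => hγ _ _ ⟨x, rfl⟩ hx).of_sub h1.le
  exact hd.three hG

/-- solvable groups of order coprime to the module -/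
def CCop (G : Type u) [Group G] (m : ℕ) : Prop := Group.IsSolvable G ∧ (Nat.card G).Coprime m

theorem cls_cop : Cls CCop.{u} where
  inj f hf _ _ hm h := ⟨have := h.1; Group.isSolvable_of_isSolvable_injective hf,
    (h.2.coprime_dvd_left (card_dvd_of_injective f hf)).coprime_dvd_right hm⟩
  surj f hf _ h := ⟨have := h.1; Group.isSolvable_of_surjective hf,
    h.2.coprime_dvd_left (card_dvd_of_surjective f hf)⟩

theorem many_reg {G V : Type*} [Group G] [Finite G] [AddCommGroup V] [DistribMulAction G V]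
    {p : ℕ} (hp : p.Prime) (hV : ∀ v : V, p • v = 0) (hc : (Nat.card G).Coprime p) {H : Subgroup G}
    {W : AddSubgroup V} (hW : W ≠ ⊥) {t : Fin 2 → V} (h : RegOn H W t) {k : ℕ} (hk : k ≤ p) :
    ∃ s : Fin k → Fin 2 → V, (∀ j, RegOn H W (s j)) ∧
      ∀ i j, ∀ n ∈ H, (∀ l, n • s i l = s j l) → i = j := by
  obtain ⟨x, y, hx, h⟩ : ∃ x y, x ≠ 0 ∧ RegOn H W ![x, y] := by
    obtain ⟨⟨w, hw⟩, h1⟩ := AddSubgroup.ne_bot_iff_exists_ne_zero.1 hW
    by_cases h2 : t 0 = 0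
    · by_cases h3 : t 1 = 0
      · exact ⟨w, w, fun e => h1 (Subtype.ext e), fun i => by fin_cases i <;> exact hw,
          fun g hg _ => h.2 g hg fun i => by fin_cases i <;> simp [h2, h3]⟩
      · exact ⟨t 1, t 0, h3, fun i => by fin_cases i <;> exact h.1 _,
          fun g hg e => h.2 g hg fun i => by fin_cases i; exacts [e 1, e 0]⟩
    · exact ⟨t 0, t 1, h2, fun i => by fin_cases i <;> exact h.1 _,
        fun g hg e => h.2 g hg fun i => by fin_cases i; exacts [e 0, e 1]⟩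
  refine ⟨fun j => ![x, y + j.1 • x], fun j => ⟨fun i => ?_, fun g hg e => h.2 g hg fun i => ?_⟩,
    fun i j g _ e => ?_⟩
  · fin_cases i
    exacts [h.1 0, W.add_mem (h.1 1) (W.nsmul_mem (h.1 0) _)]
  · have e0 : g • x = x := e 0
    fin_cases i
    exacts [e0, by simpa [smul_comm g, e0] using e 1]
  have e0 : g • x = x := e 0
  have e1 : g • y + i.1 • x = y + j.1 • x := by simpa [smul_comm g, e0] using e 1
  have h1 : ∀ n : ℕ, g ^ n • y + n • i.1 • x = y + n • j.1 • x := fun n => by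
    induction n with
    | zero => simp
    | succ n ih =>
      have := congrArg (g • ·) ih
      simp only [smul_add, smul_comm g, e0] at this
      rw [pow_succ', mul_smul, succ_nsmul, succ_nsmul, ← add_assoc, this, add_right_comm, e1]
      abel
  obtain ⟨m, hm⟩ := exists_pow_eq_self_of_coprime (x := g) (n := p)
    (hc.symm.coprime_dvd_right (orderOf_dvd_natCard g))
  have h2 : g ∈ MulAction.stabilizer G y := hm ▸ pow_mem (by simpa [hV] using h1 p) m
  rw [show g • y = y from h2, add_right_inj] at e1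
  have := Fact.mk hp
  refine Fin.ext (nsmul_injOn_Iio_addOrderOf ?_ ?_ e1) <;>
    rw [addOrderOf_eq_prime (hV x) hx]
  exacts [i.2.trans_le hk, j.2.trans_le hk]

theorem p_cop (n : ℕ) : P CCop.{u} (Fin 2) n := by
  induction n with
  | zero => intro G V _ _ _ _ _ _ _ h; omega
  | succ n ih =>
    refine ih.succ cls_cop fun G V _ _ _ _ _ _ _ hG hn hirr => ?_
    subst hn
    have := hG.1
    by_cases h2 : 2 ∣ Nat.card V
    · exact p_odd _ G V ⟨Nat.coprime_two_right.1 (hG.2.coprime_dvd_right h2), hG.1⟩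
        (hirr.cr fun _ _ _ _ => trivial) (Nat.lt_succ_self _)
    obtain ⟨A, hA1, hA2, hA3⟩ := exists_max_abelian (G := G)
    obtain ⟨M, hM⟩ := exists_AM A hA3
    rcases fs_or_imp hirr A hA2 with ⟨K, _, _, _, σ, h⟩ | ⟨W, hW⟩
    · obtain ⟨Q, _, φ, β, p, h⟩ := exists_QP h hM
      have : Finite Q := Finite.of_surjective p h.surj
      by_cases hQ : Nat.card Q = 1
      · exact h.reg_one hQ
      refine h.reg2 hQ (h.bound (p_sol _).2 hQ) hG.2 (Nat.two_dvd_ne_zero.1 fun e => h2 ?_)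
      rw [Module.natCard_eq_pow_finrank (K := K) (V := V)]
      exact e.trans (dvd_pow_self _ Module.finrank_pos.ne')
    obtain ⟨p, hp, h1⟩ := Nat.exists_prime_and_dvd (Finite.one_lt_card (α := V)).ne'
    have := Fact.mk hp
    have hV : ∀ v : V, p • v = 0 := fun v => by
      obtain ⟨y, hy⟩ := exists_prime_addOrderOf_dvd_card' p h1
      refine (((hirr (nsmulAddMonoidHom p).ker le_top fun g _ x hx => ?_).resolve_left
        fun e => ?_).ge (AddSubgroup.mem_top v) :)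
      · rw [AddMonoidHom.mem_ker, nsmulAddMonoidHom_apply] at hx ⊢
        rw [smul_comm, hx, smul_zero]
      · rw [AddSubgroup.mem_bot.1 (e ▸ (hy ▸ addOrderOf_nsmul_eq_zero y : p • y = 0) :
          y ∈ (⊥ : AddSubgroup V)), addOrderOf_zero] at hy
        exact hp.ne_one hy.symm
    obtain ⟨t, ht⟩ := ih.rel cls_cop hG (invOn_stab W) ((hW.irr hirr).cr (invOn_stab W)) hW.card_lt
    have hc := hG.2.coprime_dvd_right h1
    by_cases h3 : p = 3
    · obtain ⟨c, hc'⟩ := exists_col_three (h3 ▸ hc) (MulAction.stabilizer G W)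
      obtain ⟨s, h4, h5⟩ := many_reg hp hV hc hW.ne_bot ht h3.ge
      exact hW.reg hirr hc' s h4 h5
    obtain ⟨c, hc'⟩ := exists_col_sol (p_sol _).1 (MulAction.stabilizer G W) (Nat.lt_succ_self _)
    obtain ⟨s, h4, h5⟩ := many_reg hp hV hc hW.ne_bot ht
      (hp.five_le_of_ne_two_of_ne_three (fun e => h2 (e ▸ h1)) h3)
    exact hW.reg hirr hc' s h4 h5

end CF.Fgs2.Base
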