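import Cfsg.Agent.Fgs2.Base17
import Cfsg.Agent.Coprime.PGroup

/-! Dolfi's theorem: a solvable group acting coprimely on a finite group has a base of size two. -/

set_option autoImplicit false

namespace CF.Fgs2.Base

open Subgroup CF.Coprime
open scoped Pointwise commutatorElement

universe u

theorem card_le_eq_sum {α Z : Type*} [PartialOrder α] [Finite Z] (f : Z → α) (B : α)
    [Fintype {C // B ≤ C}] :
    Nat.card {z // B ≤ f z} = ∑ C : {C // B ≤ C}, Nat.card {z // f z = C} := by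
  rw [← Nat.card_sigma]
  exact Nat.card_congr ⟨fun z => ⟨⟨_, z.2⟩, z.1, rfl⟩, fun z => ⟨z.2.1, z.1.2.trans_eq z.2.2.symm⟩,
    fun _ => rfl, fun ⟨⟨_, _⟩, _, h⟩ => by cases h; rfl⟩

theorem marks {α X Y : Type*} [PartialOrder α] [Finite α] [Finite X] [Finite Y] (s : X → α)
    (t : Y → α) (h : ∀ B, Nat.card {x // B ≤ s x} = Nat.card {y // B ≤ t y}) (B : α) :
    Nat.card {x // s x = B} = Nat.card {y // t y = B} := by
  classical
  induction B using WellFoundedGT.induction with | ind B ih =>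
  have := Fintype.ofFinite {C // B ≤ C}
  have h1 := h B
  rw [card_le_eq_sum, card_le_eq_sum, ← Finset.add_sum_erase _ _ (Finset.mem_univ ⟨B, le_rfl⟩),
    ← Finset.add_sum_erase _ _ (Finset.mem_univ ⟨B, le_rfl⟩),
    Finset.sum_congr rfl fun (C : {C // B ≤ C}) hC =>
      ih C (C.2.lt_of_ne fun e => Finset.ne_of_mem_erase hC (Subtype.ext e.symm))] at h1
  exact Nat.add_right_cancel h1

variable {G : Type u} [Group G] [Finite G]

theorem dolfi_p (A P : Subgroup G) [Group.IsSolvable A] {p : ℕ} [Fact p.Prime] (hP : IsPGroup p P)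
    (hAP : A ≤ normalizer (P : Set G)) (hc : (Nat.card A).Coprime (Nat.card P)) :
    ∃ t : Fin 2 → P, ∀ a ∈ A, (∀ i, Commute a (t i)) → a ∈ centralizer (P : Set G) := by
  have h1 := CF.Solv.isElementaryAbelian_quotient_frattini hP
  letI : CommGroup (P ⧸ frattini P) := { (inferInstance : Group (P ⧸ frattini P)) with
    mul_comm := (CF.Solv.isElementaryAbelian_top_iff.1 h1).1.is_comm.comm }
  let φ := quotAct (conjAct A P hAP) (frattini P) fun a m hm =>
    (characteristic_iff_le_comap.1 inferInstance (conjAct A P hAP a) hm :)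
  have h2 := hc.coprime_dvd_right (card_quotient_dvd_card (frattini P))
  obtain ⟨t, ht⟩ := (p_cop _).mul φ ⟨inferInstance, h2⟩ (fun X hX => by
    obtain ⟨W, -, h3, h4⟩ := CF.Solv.exists_complement_of_isElementaryAbelian h1 (le_top (a := X))
    obtain ⟨W', h5, h6⟩ := exists_invariant_isCompl φ X W
      (h2.coprime_dvd_right (card_subgroup_dvd_card X)) hX (IsCompl.of_eq h3 h4)
    exact ⟨W', h6, h5.inf_eq_bot, h5.sup_eq_top⟩) (Nat.lt_succ_self _)
  refine ⟨fun i => (t i).out, fun a ha h3 => le_centralizer_of_commutator_le_frattiniOf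
    (φ.ker.map A.subtype) P ((map_subtype_le _).trans hAP)
    (coprime_of_le hc (map_subtype_le _) le_rfl) (commutator_le.2 ?_) ⟨⟨a, ha⟩, ht _ fun i => ?_, rfl⟩⟩
  · rintro x hx _ ⟨b, hb, rfl⟩
    refine ⟨_, QuotientGroup.eq.1 (DFunLike.congr_fun hb ((⟨x, hx⟩⁻¹ : P) : P ⧸ frattini P)).symm, ?_⟩
    simp [commutatorElement_def, mul_assoc]
  · conv_lhs => rw [← (t i).out_eq]
    conv_rhs => rw [← (t i).out_eq]
    exact congrArg _ (Subtype.ext (h3 i).mul_inv_cancel)

theorem dolfi (A K : Subgroup G) [Group.IsSolvable A] (hAK : A ≤ normalizer (K : Set G))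
    (hc : (Nat.card A).Coprime (Nat.card K)) :
    ∃ t : Fin 2 → K, ∀ a ∈ A, (∀ i, Commute a (t i)) → a ∈ centralizer (K : Set G) := by
  have h1 : ∀ p : (Nat.card K).primeFactors, ∃ P, IsSylowOf p P K ∧ A ≤ normalizer (P : Set G) :=
    fun p => have := Fact.mk (Nat.prime_of_mem_primeFactors p.2)
      exists_invariant_isSylowOf A K hAK hc (Or.inl inferInstance) p
  choose P h1 h2 using h1
  have h3 := fun p : (Nat.card K).primeFactors => have := Fact.mk (Nat.prime_of_mem_primeFactors p.2)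
    dolfi_p A (P p) (h1 p).isPGroup (h2 p) (coprime_of_le hc le_rfl (h1 p).le)
  choose t ht using h3
  have h4 := marks (fun x : K => A ⊓ centralizer {x.1})
    (fun y : ∀ p, P p => A ⊓ ⨅ p, centralizer {(y p).1}) fun B => by
      by_cases hB : B ≤ A
      swap
      · rw [Nat.card_eq_zero.2 (Or.inl ⟨fun x => hB (x.2.trans inf_le_left)⟩),
          Nat.card_eq_zero.2 (Or.inl ⟨fun x => hB (x.2.trans inf_le_left)⟩)]
      have h5 : ∀ (x : G), B ≤ centralizer {x} ↔ x ∈ centralizer (B : Set G) := fun x =>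
        ⟨fun h b hb => (h hb x rfl).symm, fun h b hb _ e => e ▸ (h b hb).symm⟩
      simp only [le_inf_iff, hB, true_and, le_iInf_iff, h5]
      rw [Nat.card_congr (Equiv.subtypePiEquivPi (p := fun p (y : P p) =>
        y.1 ∈ centralizer (B : Set G))), Nat.card_pi]
      have h6 : ∀ H : Subgroup G, Nat.card {x : H // x.1 ∈ centralizer (B : Set G)} =
          Nat.card (H ⊓ centralizer (B : Set G) : Subgroup G) := fun H =>
        Nat.card_congr (Equiv.subtypeSubtypeEquivSubtypeInter _ _)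
      have h7 := fun p : (Nat.card K).primeFactors =>
        have := Fact.mk (Nat.prime_of_mem_primeFactors p.2)
        (h6 _).trans (IsSylowOf.inf_centralizer B K (hB.trans hAK) (coprime_of_le hc hB le_rfl)
          (Or.inl (isSolvable_of_le hB)) p (h1 p) (hB.trans (h2 p))).card_eq
      rw [h6, Finset.prod_congr rfl fun p _ => h7 p,
        Finset.prod_coe_sort _ fun p => p ^ Nat.factorization _ p]
      conv_lhs => rw [← Nat.factorization_prod_pow_eq_self (Nat.card_pos (α :=
        (K ⊓ centralizer (B : Set G) : Subgroup G))).ne']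
      exact Finsupp.prod_of_support_subset _ (Nat.primeFactors_mono
        (card_dvd_of_le inf_le_left) Nat.card_pos.ne') _ fun _ _ => pow_zero _
  have h5 : ∀ i, ∃ x : K, A ⊓ centralizer {x.1} = A ⊓ ⨅ p, centralizer {(t p i).1} := fun i => by
    obtain ⟨x⟩ := (Nat.card_pos_iff.1 ((Nat.card_pos_iff.2 ⟨⟨⟨fun p => t p i, rfl⟩⟩,
      inferInstance⟩).trans_eq (h4 _).symm)).1
    exact ⟨_, x.2⟩
  choose x hx using h5
  refine ⟨x, fun a ha h6 k hk => ?_⟩
  refine (le_of_forall_isSylowOf (L := centralizer {a}) (fun p hp h7 => ?_) hk a rfl).symm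
  let q : (Nat.card K).primeFactors := ⟨p, Nat.mem_primeFactors.2 ⟨hp, h7, Nat.card_pos.ne'⟩⟩
  refine ⟨P q, h1 q, fun y hy _ e => e ▸ (ht q a ha (fun i => ?_) y hy).symm⟩
  exact (mem_iInf.1 ((hx i).le ⟨ha, fun _ e => e ▸ (h6 i).symm⟩).2 q _ rfl).symm

open SemidirectProduct in
theorem dolfi_aut {A K : Type*} [Group A] [Finite A] [Group K] [Finite K] [Group.IsSolvable A]
    (φ : A →* MulAut K) (hc : (Nat.card A).Coprime (Nat.card K)) :
    ∃ x y : K, ∀ a, φ a x = x → φ a y = y → φ a = 1 := by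
  have : Finite (K ⋊[φ] A) := Finite.of_equiv _ equivProd.symm
  have := Group.isSolvable_of_surjective (inr : A →* K ⋊[φ] A).rangeRestrict_surjective
  have : (inl : K →* K ⋊[φ] A).range.Normal := range_inl_eq_ker_rightHom (φ := φ) ▸ inferInstance
  obtain ⟨t, ht⟩ := dolfi (inr : A →* K ⋊[φ] A).range inl.range le_normalizer_of_normal
    ((hc.coprime_dvd_left (card_range_dvd _)).coprime_dvd_right (card_range_dvd _))
  choose x hx using fun i => (t i).2
  refine ⟨x 0, x 1, fun a h0 h1 => MulEquiv.ext fun k => inl_injective (φ := φ) ?_⟩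
  have := ht _ ⟨a, rfl⟩ (fun i => ?_) _ ⟨k, rfl⟩
  · rw [inl_aut, ← this, map_inv, mul_inv_cancel_right]; rfl
  · rw [← hx i, commute_iff_eq, ← mul_inv_eq_iff_eq_mul, ← map_inv, ← inl_aut]
    fin_cases i
    exacts [congrArg _ h0, congrArg _ h1]

end CF.Fgs2.Base
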