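import Cfsg.Agent.Fgs2.Base1

/-! Bases for linear groups: imprimitive modules and distinguishing colourings. -/

set_option autoImplicit false

namespace CF.Fgs2.Base

open Subgroup CF.Perm
open scoped Pointwise commutatorElement

universe u

/-- `c` is a colouring of `L / H` whose stabiliser in `L` acts trivially -/
def Col {G : Type*} [Group G] (L H : Subgroup G) {κ : Type*} (c : G → κ) : Prop :=
  (∀ g, ∀ h ∈ H, c (g * h) = c g) ∧
    ∀ x ∈ L, (∀ g ∈ L, c (x * g) = c g) → ∀ g ∈ L, g⁻¹ * x * g ∈ H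

theorem eq_zero_of_sum {V κ : Type*} [AddCommGroup V] [Fintype κ] {D : κ → AddSubgroup V}
    (h : iSupIndep D) (a : κ → V) (ha : ∀ i, a i ∈ D i) (h0 : ∑ i, a i = 0) (i : κ) : a i = 0 := by
  classical
  rw [← Finset.add_sum_erase _ _ (Finset.mem_univ i), add_eq_zero_iff_eq_neg] at h0
  refine AddSubgroup.mem_bot.1 ((h i).le_bot ⟨ha i, ?_⟩)
  rw [h0]
  refine AddSubgroup.neg_mem _ (AddSubgroup.sum_mem _ fun j hj => ?_)
  exact (le_iSup₂_of_le (f := fun j (_ : j ≠ i) => D j) j (Finset.ne_of_mem_erase hj) le_rfl) (ha j)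

section imp

variable {G V : Type*} [Group G] [AddCommGroup V] [DistribMulAction G V] {W : AddSubgroup V}

theorem invOn_stab (W : AddSubgroup V) : InvOn (MulAction.stabilizer G W) W := fun g hg v hv => by
  rw [← MulAction.mem_stabilizer_iff.1 hg]
  exact AddSubgroup.smul_mem_pointwise_smul _ _ _ hv

theorem sup_orbit (hirr : IrrOn (⊤ : Subgroup G) (⊤ : AddSubgroup V)) {X : AddSubgroup V}
    (hX : X ≠ ⊥) : ⨆ g : G, g • X = ⊤ := by
  refine (hirr _ le_top fun g _ v hv => ?_).resolve_left fun e => hX (eq_bot_iff.2 (e ▸ ?_))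
  · induction hv using AddSubgroup.iSup_induction' with
    | hp k v hv =>
      exact (le_iSup (fun g : G => g • X) (g * k)) (mul_smul g k X ▸
        AddSubgroup.smul_mem_pointwise_smul _ _ _ hv)
    | h1 => rw [smul_zero]; exact zero_mem _
    | hadd x y _ _ hx hy => rw [smul_add]; exact add_mem hx hy
  · exact le_iSup_of_le 1 (one_smul G X).ge

theorem Imp.irr (h : Imp G W) (hirr : IrrOn (⊤ : Subgroup G) (⊤ : AddSubgroup V)) :
    IrrOn (MulAction.stabilizer G W) W := fun X hX hi => or_iff_not_imp_left.2 fun h0 => by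
  refine le_antisymm hX fun w hw => ?_
  have key : ∀ v ∈ ⨆ g : G, g • X, ∃ x ∈ X, v - x ∈
      ⨆ j, ⨆ (_ : j ≠ (⟨W, MulAction.mem_orbit_self W⟩ : MulAction.orbit G W)),
        (j : AddSubgroup V) := by
    intro v hv
    induction hv using AddSubgroup.iSup_induction' with
    | hp g v hv =>
      by_cases hg : g • W = W
      · refine ⟨v, ?_, by rw [sub_self]; exact zero_mem _⟩
        rw [← smul_inv_smul g v]
        exact hi g hg _ (mem_smul.1 hv)
      · refine ⟨0, zero_mem _, ?_⟩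
        rw [sub_zero]
        exact (le_iSup₂_of_le (f := fun (j : MulAction.orbit G W)
          (_ : j ≠ ⟨W, MulAction.mem_orbit_self W⟩) => (j : AddSubgroup V)) ⟨g • W, g, rfl⟩
          (fun e => hg (congrArg Subtype.val e)) le_rfl) (mem_smul.2 (hX (mem_smul.1 hv)))
    | h1 => exact ⟨0, zero_mem _, by rw [sub_zero]; exact zero_mem _⟩
    | hadd x y _ _ hx hy =>
      obtain ⟨a, h1, h2⟩ := hx
      obtain ⟨b, h3, h4⟩ := hy
      exact ⟨a + b, add_mem h1 h3, by rw [add_sub_add_comm]; exact add_mem h2 h4⟩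
  obtain ⟨x, h1, h2⟩ := key w (sup_orbit hirr h0 ▸ trivial)
  have h3 := AddSubgroup.mem_bot.1 ((h.ind ⟨W, MulAction.mem_orbit_self W⟩).le_bot
    ⟨W.sub_mem hw (hX h1), h2⟩)
  rwa [sub_eq_zero.1 h3]

theorem Imp.card_lt [Finite V] (h : Imp G W) : Nat.card W < Nat.card V :=
  (AddSubgroup.card_le_card_addGroup W).lt_of_ne fun e => h.ne_top (W.eq_top_of_card_eq e)

theorem Imp.pow_le [Finite V] (h : Imp G W) :
    Nat.card W ^ (MulAction.stabilizer G W).index ≤ Nat.card V := by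
  classical
  haveI : Finite (AddSubgroup V) := Finite.of_injective _ SetLike.coe_injective
  haveI := Fintype.ofFinite (MulAction.orbit G W)
  rw [MulAction.index_stabilizer, ← Nat.card_coe_set_eq,
    Nat.card_eq_fintype_card (α := MulAction.orbit G W), ← Finset.card_univ, ← Finset.prod_const]
  have h1 : ∏ _X : MulAction.orbit G W, Nat.card W =
      Nat.card (∀ X : MulAction.orbit G W, (X : AddSubgroup V)) := by
    rw [Nat.card_pi]
    exact Finset.prod_congr rfl fun ⟨_, g, rfl⟩ _ => (card_smul g W).symm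
  rw [h1]
  refine Nat.card_le_card_of_injective (fun a => ∑ X, (a X : V)) fun a b e => funext fun X =>
    Subtype.ext (sub_eq_zero.1 (eq_zero_of_sum h.ind (fun X => (a X : V) - b X)
      (fun X => AddSubgroup.sub_mem _ (a X).2 (b X).2) ?_ X))
  rw [Finset.sum_sub_distrib]
  exact sub_eq_zero.2 e

theorem Imp.index_lt [Finite V] (h : Imp G W) :
    (MulAction.stabilizer G W).index < Nat.card V :=
  (Nat.lt_pow_self ((W.one_lt_card_iff_ne_bot).2 h.ne_bot)).trans_le h.pow_le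

theorem Imp.reg [Finite V] (h : Imp G W) (hirr : IrrOn (⊤ : Subgroup G) (⊤ : AddSubgroup V))
    {κ ι : Type*} {c : G → κ} (hc : Col ⊤ (MulAction.stabilizer G W) c) (t : κ → ι → V)
    (ht : ∀ j, RegOn (MulAction.stabilizer G W) W (t j))
    (hne : ∀ i j, ∀ n ∈ MulAction.stabilizer G W, (∀ l, n • t i l = t j l) → i = j) :
    ∃ s : ι → V, RegOn (⊤ : Subgroup G) ⊤ s := by
  classical
  haveI : Finite (AddSubgroup V) := Finite.of_injective _ SetLike.coe_injective
  haveI := Fintype.ofFinite (MulAction.orbit G W)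
  choose r hr using fun X : MulAction.orbit G W => X.2
  replace hr : ∀ X, r X • W = X := hr
  have hm : ∀ (X : MulAction.orbit G W) j l, r X • t j l ∈ (X : AddSubgroup V) := fun X j l => by
    rw [← hr X]; exact AddSubgroup.smul_mem_pointwise_smul _ _ _ ((ht j).1 l)
  refine ⟨fun l => ∑ X, r X • t (c (r X)) l, fun _ => trivial, fun g _ hg => ?_⟩
  have h1 : ∀ X l, g • r X • t (c (r X)) l = r (g • X) • t (c (r (g • X))) l := fun X l => by
    have h2 := hg l
    rw [Finset.smul_sum, ← Equiv.sum_comp (MulAction.toPerm g⁻¹), ← sub_eq_zero,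
      ← Finset.sum_sub_distrib] at h2
    have h3 := eq_zero_of_sum h.ind _ (fun Y => AddSubgroup.sub_mem _ ?_ (hm Y _ l)) h2 (g • X)
    · simpa only [MulAction.toPerm_apply, inv_smul_smul, sub_eq_zero] using h3
    · have h4 := mem_smul.1 (hm (g⁻¹ • Y) (c (r (g⁻¹ • Y))) l)
      rwa [inv_inv] at h4
  have hn : ∀ X, (r (g • X))⁻¹ * g * r X ∈ MulAction.stabilizer G W := fun X => by
    rw [MulAction.mem_stabilizer_iff, mul_smul, mul_smul, hr, inv_smul_eq_iff, hr]; rfl
  have h2 : ∀ X l, ((r (g • X))⁻¹ * g * r X) • t (c (r X)) l = t (c (r (g • X))) l := fun X l => by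
    rw [mul_smul, mul_smul, h1, inv_smul_smul]
  have h3 : ∀ X, c (r X) = c (r (g • X)) := fun X => hne _ _ _ (hn X) (h2 X)
  have h4 : ∀ k : G, c (r ⟨k • W, k, rfl⟩) = c k := fun k => by
    rw [← hc.1 k (k⁻¹ * r ⟨k • W, k, rfl⟩) (by
      rw [MulAction.mem_stabilizer_iff, mul_smul, hr, inv_smul_smul]), mul_inv_cancel_left]
  have h5 := hc.2 g trivial fun k _ => by
    rw [← h4 (g * k), ← h4 k, h3 ⟨k • W, k, rfl⟩]
    exact congrArg (fun X => c (r X)) (Subtype.ext (mul_smul g k W))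
  have h6 : ∀ X : MulAction.orbit G W, g • X = X := fun X => Subtype.ext (by
    have := MulAction.mem_stabilizer_iff.1 (h5 (r X) trivial)
    rwa [mul_smul, mul_smul, hr, inv_smul_eq_iff, hr] at this)
  intro v hv
  rw [← sup_orbit hirr h.ne_bot] at hv
  induction hv using AddSubgroup.iSup_induction' with
  | hp k v hv =>
    let X : MulAction.orbit G W := ⟨k • W, k, rfl⟩
    have h7 := (ht (c (r X))).2 _ (hn X) (fun l => by rw [h2, h6]) ((r X)⁻¹ • v)
      (mem_smul.1 (by rw [hr]; exact hv))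
    rwa [h6, mul_smul, mul_smul, smul_inv_smul, smul_left_cancel_iff] at h7
  | h1 => exact smul_zero g
  | hadd x y _ _ hx hy => rw [smul_add, hx, hy]

end imp

section perm

variable {G : Type*} [Group G]

theorem Col.wreath {L H : Subgroup G} (hHL : H ≤ L) {κ κ' : Type*} {c : G → κ} (hc : Col ⊤ L c)
    (d : κ → G → κ') (hd : ∀ j, Col L H (d j))
    (hne : ∀ i j, ∀ x ∈ L, (∀ g ∈ L, d i (x * g) = d j g) → i = j) :
    ∃ e : G → κ', Col ⊤ H e := by
  let r : G → G := fun g => (g : G ⧸ L).out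
  have hr : ∀ g, (r g)⁻¹ * g ∈ L := fun g => QuotientGroup.eq.1 (QuotientGroup.out_eq' _)
  have hr' : ∀ g, ∀ l ∈ L, r (g * l) = r g := fun g l hl => by
    simp only [r, QuotientGroup.mk_mul_of_mem g hl]
  refine ⟨fun g => d (c g) ((r g)⁻¹ * g), fun g h hh => ?_, fun x _ hx => ?_⟩
  · simp only
    rw [hr' g h (hHL hh), hc.1 g h (hHL hh), ← mul_assoc, (hd _).1 _ h hh]
  have h1 : ∀ g, ∀ l ∈ L, d (c (x * g)) ((r (x * g))⁻¹ * (x * g) * ((r g)⁻¹ * g)⁻¹ * l) =
      d (c g) l := fun g l hl => by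
    have h2 := hx (g * (((r g)⁻¹ * g)⁻¹ * l)) trivial
    have h3 := L.mul_mem (L.inv_mem (hr g)) hl
    simp only at h2
    rw [← mul_assoc x, hr' _ _ h3, hr' _ _ h3, hc.1 _ _ h3, hc.1 _ _ h3] at h2
    convert h2 using 2 <;> group
  have h2 := hc.2 x trivial fun g _ =>
    hne _ _ _ (L.mul_mem (hr (x * g)) (L.inv_mem (hr g))) (h1 g)
  intro g _
  have h3 : x * g = g * (g⁻¹ * x * g) := by group
  have h4 := (hd (c g)).2 _ (L.mul_mem (hr (x * g)) (L.inv_mem (hr g))) (fun l hl => by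
    have := h1 g l hl
    rwa [show c (x * g) = c g by rw [h3, hc.1 _ _ (h2 g trivial)]] at this) _ (hr g)
  rw [show r (x * g) = r g by rw [h3, hr' _ _ (h2 g trivial)]] at h4
  convert h4 using 1
  group

theorem Col.of_sub {L H : Subgroup G} (hHL : H ≤ L) {κ : Type*} {c : L → κ}
    (hc : Col ⊤ (H.subgroupOf L) c) : ∃ e : G → κ, Col L H e := by
  classical
  refine ⟨fun g => if h : g ∈ L then c ⟨g, h⟩ else c 1, fun g h hh => ?_, fun x hx h1 g hg => ?_⟩
  · by_cases hg : g ∈ L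
    · simp only [dif_pos hg, dif_pos (L.mul_mem hg (hHL hh))]
      exact hc.1 ⟨g, hg⟩ ⟨h, hHL hh⟩ hh
    · simp only [dif_neg hg, dif_neg (mt (L.mul_mem_cancel_right (hHL hh)).1 hg)]
  · refine hc.2 ⟨x, hx⟩ trivial (fun k _ => ?_) ⟨g, hg⟩ trivial
    have := h1 k k.2
    simp only [dif_pos k.2, dif_pos (L.mul_mem hx k.2)] at this
    exact this

/-- colourings of all coset spaces from colourings for maximal subgroups -/
theorem exists_col [Finite G] {κ : Type*} [Nonempty κ] (H : Subgroup G)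
    (h : ∀ L K : Subgroup G, K ⋖ L → H ≤ K → ∃ d : κ → G → κ, (∀ j, Col L K (d j)) ∧
      ∀ i j, ∀ x ∈ L, (∀ g ∈ L, d i (x * g) = d j g) → i = j) : ∃ c : G → κ, Col ⊤ H c := by
  induction H using WellFoundedGT.induction with | ind H ih =>
  by_cases hH : H = ⊤
  · exact ⟨fun _ => Classical.arbitrary κ, fun _ _ _ => rfl, fun _ _ _ _ _ => hH ▸ trivial⟩
  obtain ⟨L, hL, -⟩ := exists_covBy_le_of_lt (lt_top_iff_ne_top.2 hH)
  obtain ⟨c, hc⟩ := ih L hL.lt fun L' K h1 h2 => h L' K h1 (hL.le.trans h2)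
  obtain ⟨d, h1, h2⟩ := h L H hL le_rfl
  exact hc.wreath hL.le d h1 h2

end perm

/-- affine coordinates on the cosets of a maximal subgroup of a solvable group -/
theorem exists_aff {G : Type u} [Group G] [Finite G] [Group.IsSolvable G] {H : Subgroup G}
    (hH : IsCoatom H) : ∃ (Q : Type u) (_ : CommGroup Q) (_ : Finite Q) (φ : G →* MulAut Q)
      (π : G → Q), Nat.card Q = H.index ∧
      (∀ X : Subgroup Q, (∀ g, ∀ x ∈ X, φ g x ∈ X) → X = ⊥ ∨ X = ⊤) ∧
      ∀ (κ : Type) (γ : Q → κ), (∀ x, (∀ q, γ (π x * φ x q) = γ q) → π x = 1 ∧ φ x = 1) →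
        Col ⊤ H (γ ∘ π) := by
  let p := QuotientGroup.mk' H.normalCore
  have hp : Function.Surjective p := QuotientGroup.mk'_surjective _
  have hm : ∀ g, p g ∈ H.map p → g ∈ H := fun g hg => by
    have := mem_comap.2 hg
    rwa [comap_map_eq, QuotientGroup.ker_mk', sup_eq_left.2 H.normalCore_le] at this
  have hcore : ∀ B : Subgroup (G ⧸ H.normalCore), B.Normal → B ≤ H.map p → B = ⊥ :=
    fun B hB h1 => eq_bot_iff.2 fun b hb => by
      obtain ⟨b, rfl⟩ := hp b
      exact (QuotientGroup.eq_one_iff b).2 ((normal_le_normalCore (N := B.comap p)).2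
        (fun x hx => hm x (h1 hx)) hb)
  obtain ⟨N, ⟨hN, hN0⟩, hmin⟩ := exists_minimal_of_wellFoundedLT
    (fun N : Subgroup (G ⧸ H.normalCore) => N.Normal ∧ N ≠ ⊥) ⟨⊤, inferInstance, fun e =>
      hH.1 (eq_top_iff.2 fun g _ => hm g ((e ▸ bot_le : (⊤ : Subgroup _) ≤ H.map p) trivial))⟩
  have hmin' : ∀ B : Subgroup (G ⧸ H.normalCore), B.Normal → B ≤ N → B = ⊥ ∨ B = N :=
    fun B hB h1 => or_iff_not_imp_left.2 fun h2 => le_antisymm h1 (hmin ⟨hB, h2⟩ h1)
  have hab : ∀ a ∈ N, ∀ b ∈ N, a * b = b * a := fun a ha b hb =>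
    commutator_eq_bot_iff_le_centralizer.1 ((hmin' _ inferInstance (commutator_le_left N N)).resolve_right
      (Group.IsSolvable.commutator_lt_of_ne_bot hN0).ne) hb a ha
  have hsup : ∀ x, ∃ n ∈ N, n⁻¹ * x ∈ H.map p := fun x => by
    have h1 : N.comap p ⊔ H = ⊤ := hH.2 _ (right_lt_sup.2 fun h1 => hN0 (hcore N hN fun n hn => by
      obtain ⟨n, rfl⟩ := hp n
      exact mem_map_of_mem p (h1 hn)))
    obtain ⟨x, rfl⟩ := hp x
    have h2 : x ∈ ((N.comap p ⊔ H : Subgroup G) : Set G) := h1 ▸ trivial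
    rw [normal_mul] at h2
    obtain ⟨n, hn, h, hh, rfl⟩ := h2
    exact ⟨p n, hn, h, hh, by simp⟩
  have hinf : ∀ n ∈ N, n ∈ H.map p → n = 1 := fun n h1 h2 => by
    refine mem_bot.1 (hcore (N ⊓ H.map p) ⟨fun y hy x => ?_⟩ inf_le_right ▸ ⟨h1, h2⟩)
    obtain ⟨m, h3, h4⟩ := hsup x
    have h5 := hN.conj_mem y hy.1 (m⁻¹ * x)
    have h6 : x * y * x⁻¹ = m⁻¹ * x * y * (m⁻¹ * x)⁻¹ := by
      rw [← mul_right_inj m⁻¹, hab _ (N.inv_mem h3) _ (hN.conj_mem y hy.1 x)]
      have := hab _ h3 _ (hN.conj_mem y hy.1 x)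
      calc x * y * x⁻¹ * m⁻¹ = m⁻¹ * (m * (x * y * x⁻¹)) * m⁻¹ := by group
        _ = m⁻¹ * (x * y * x⁻¹ * m) * m⁻¹ := by rw [this]
        _ = m⁻¹ * (m⁻¹ * (m * (x * y * x⁻¹)) * m) * m⁻¹ := by group
        _ = m⁻¹ * (m⁻¹ * (x * y * x⁻¹ * m) * m) * m⁻¹ := by rw [this]
        _ = _ := by group
    rw [h6]
    exact ⟨h5, (H.map p).mul_mem ((H.map p).mul_mem h4 hy.2) ((H.map p).inv_mem h4)⟩
  choose n h1 h2 using hsup
  have huniq : ∀ x, ∀ m ∈ N, m⁻¹ * x ∈ H.map p → n x = m := fun x m h3 h4 => by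
    have := hinf (m⁻¹ * n x) (mul_mem (inv_mem h3) (h1 x)) (by
      convert mul_mem h4 (inv_mem (h2 x)) using 1; group)
    exact (inv_mul_eq_one.1 this).symm
  letI : CommGroup N := { mul_comm := fun a b => Subtype.ext (hab a a.2 b b.2) }
  have hsurj : ∀ q : N, ∃ g, n (p g) = q := fun q => by
    obtain ⟨g, hg⟩ := hp q
    exact ⟨g, huniq _ _ q.2 (by rw [hg, inv_mul_cancel]; exact one_mem _)⟩
  refine ⟨N, inferInstance, inferInstance, MulAut.conjNormal.comp p, fun g => ⟨n (p g), h1 _⟩,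
    ?_, fun X hX => ?_, fun κ γ hγ => ⟨fun g h hh => ?_, fun x _ hx g _ => ?_⟩⟩
  · refine (Nat.card_congr (Equiv.ofBijective (Quotient.lift (fun g => (⟨n (p g), h1 _⟩ : N))
      fun a b hab => Subtype.ext (huniq _ _ (h1 _) ?_).symm) ⟨fun a b => ?_, fun q => ?_⟩)).symm
    · convert mul_mem (h2 (p a)) (mem_map_of_mem p (QuotientGroup.leftRel_apply.1 hab)) using 1
      simp
    · induction a using QuotientGroup.induction_on
      induction b using QuotientGroup.induction_on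
      rename_i a b
      intro e
      refine QuotientGroup.eq.2 (hm _ ?_)
      have e' : n (p a) = n (p b) := congrArg Subtype.val e
      convert mul_mem (inv_mem (h2 (p a))) (h2 (p b)) using 1
      simp [e']
    · obtain ⟨g, hg⟩ := hsurj q
      exact ⟨QuotientGroup.mk g, Subtype.ext hg⟩
  · rcases hmin' (X.map N.subtype) ⟨by
      rintro _ ⟨x, hx, rfl⟩ g
      obtain ⟨g, rfl⟩ := hp g
      exact ⟨_, hX g x hx, rfl⟩⟩ (map_subtype_le X) with h3 | h3
    · exact Or.inl ((Subgroup.map_eq_bot_iff_of_injective X N.subtype_injective).1 h3)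
    · exact Or.inr (eq_top_iff.2 fun x _ => by
        obtain ⟨y, hy, e⟩ := h3.ge x.2
        exact (Subtype.ext e : y = x) ▸ hy)
  · refine congrArg γ (Subtype.ext (huniq _ _ (h1 _) ?_))
    rw [map_mul, ← mul_assoc]
    exact mul_mem (h2 _) (mem_map_of_mem p hh)
  · have hco : ∀ g, n (p (x * g)) = n (p x) * (p x * n (p g) * (p x)⁻¹) := fun g => by
      refine huniq _ _ (mul_mem (h1 _) (hN.conj_mem _ (h1 _) _)) ?_
      rw [hab _ (h1 _) _ (hN.conj_mem _ (h1 _) _)]
      have h3 := mul_mem (h2 (p x)) (h2 (p g))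
      convert h3 using 1
      rw [map_mul]; group
    obtain ⟨h3, h4⟩ := hγ x fun q => by
      obtain ⟨k, hk⟩ := hsurj q
      refine Eq.trans (congrArg γ (Subtype.ext ?_)) ((hx k trivial).trans
        (congrArg γ (Subtype.ext hk)))
      exact (hk ▸ hco k).symm
    have h5 : n (p x) = 1 := congrArg Subtype.val h3
    have h6 : p x * n (p g) * (p x)⁻¹ = n (p g) :=
      congrArg Subtype.val (DFunLike.congr_fun h4 (⟨n (p g), h1 _⟩ : N))
    have h7 := h2 (p (x * g))
    rw [hco, h5, h6, one_mul] at h7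
    refine hm _ ?_
    convert mul_mem (inv_mem (h2 (p g))) h7 using 1
    simp only [map_mul, map_inv]; group

end CF.Fgs2.Base
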