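import Cfsg.Agent.Fgs2.Base2

/-! Bases for linear groups: fixed points and the symplectic section in the quasi-primitive case. -/

set_option autoImplicit false

namespace CF.Fgs2.Base

open Subgroup CF.Perm CF.Transfer
open scoped Pointwise commutatorElement

universe u

section fix

variable {G V : Type*} [Group G] [AddCommGroup V] [DistribMulAction G V]

/-- the fixed points of an element -/
def fx (V : Type*) [AddCommGroup V] [DistribMulAction G V] (g : G) : AddSubgroup V where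
  carrier := {v | g • v = v}
  add_mem' {a b} ha hb := by rw [Set.mem_setOf_eq, smul_add, ha, hb]
  zero_mem' := smul_zero g
  neg_mem' {a} ha := by rw [Set.mem_setOf_eq, smul_neg, ha]

theorem mem_fx {g : G} {v : V} : v ∈ fx V g ↔ g • v = v := Iff.rfl

theorem fx_le_pow (g : G) (n : ℕ) : fx V g ≤ fx V (g ^ n) := fun v hv => by
  induction n with
  | zero => exact mem_fx.2 (by rw [pow_zero, one_smul])
  | succ n ih => exact mem_fx.2 (by rw [pow_succ, mul_smul, hv, ih])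

theorem fx_conj (g y : G) : fx V (y * g * y⁻¹) = y • fx V g := by
  ext v
  rw [mem_smul, mem_fx, mem_fx, mul_smul, mul_smul, smul_eq_iff_eq_inv_smul]

theorem card_fx_conj (g y : G) : Nat.card (fx V (y * g * y⁻¹)) = Nat.card (fx V g) := by
  rw [fx_conj, card_smul]

theorem card_mul_le [Finite V] (U W : AddSubgroup V) :
    Nat.card U * Nat.card W ≤ Nat.card V * Nat.card (U ⊓ W : AddSubgroup V) := by
  have h1 : Nat.card (U ⊓ W : AddSubgroup V) * W.relIndex U = Nat.card U := by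
    rw [← AddSubgroup.relIndex_bot_left, ← AddSubgroup.relIndex_bot_left,
      ← AddSubgroup.inf_relIndex_left U W, AddSubgroup.relIndex_mul_relIndex _ _ _ bot_le inf_le_left]
  have h2 : W.relIndex U ≤ W.index := by
    rw [← AddSubgroup.relIndex_top_right]
    exact AddSubgroup.relIndex_le_of_le_right le_top (by
      rw [AddSubgroup.relIndex_top_right]; exact AddSubgroup.index_ne_zero_of_finite)
  rw [← h1, ← W.card_mul_index]
  calc _ ≤ Nat.card (U ⊓ W : AddSubgroup V) * W.index * Nat.card W := by gcongr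
    _ = _ := by ring

theorem card_fx_sq_le [Finite V] (g y : G) :
    Nat.card (fx V g) ^ 2 ≤ Nat.card V * Nat.card (fx V ⁅g, y⁆) := by
  have h1 := card_mul_le (fx V g) (fx V (y * g * y⁻¹))
  rw [card_fx_conj, ← sq] at h1
  refine h1.trans (Nat.mul_le_mul_left _ (AddSubgroup.card_le_of_le fun v hv => ?_))
  rw [mem_fx, show ⁅g, y⁆ = g * (y * g * y⁻¹)⁻¹ by rw [commutatorElement_def]; group, mul_smul,
    inv_smul_eq_iff.2 hv.2.symm, hv.1]

theorem exists_reg_of_sum [Finite V] (ι : Type) [Fintype ι] (S : Finset G)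
    (hS : ∀ g : G, (∀ s ∈ S, ¬ fx V g ≤ fx V s) → ∀ v : V, g • v = v)
    (h : ∑ s ∈ S, Nat.card (fx V s) ^ Fintype.card ι < Nat.card V ^ Fintype.card ι) :
    ∃ t : ι → V, RegOn (⊤ : Subgroup G) ⊤ t := by
  classical
  haveI := Fintype.ofFinite V
  by_contra h1
  refine h.not_ge ?_
  have h2 : (Finset.univ : Finset (ι → V)) ⊆ S.biUnion fun s =>
      Fintype.piFinset fun _ => Finset.univ.filter (· ∈ fx V s) := fun t _ => by
    by_contra h3
    refine h1 ⟨t, fun _ => trivial, fun g _ hg v _ => hS g (fun s hs h4 => h3 ?_) v⟩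
    exact Finset.mem_biUnion.2 ⟨s, hs, Fintype.mem_piFinset.2 fun i =>
      Finset.mem_filter.2 ⟨Finset.mem_univ _, h4 (hg i)⟩⟩
  have h3 := (Finset.card_le_card h2).trans Finset.card_biUnion_le
  rw [Finset.card_univ, Fintype.card_fun, ← Nat.card_eq_fintype_card] at h3
  refine h3.trans (Finset.sum_le_sum fun s _ => ?_)
  rw [Fintype.card_piFinset, Finset.prod_const, Finset.card_univ, ← Fintype.card_subtype,
    Nat.card_eq_fintype_card]

theorem pow_le_of_inj [Finite V] (U : AddSubgroup V) {s : ℕ} (f : Fin s → V →+ V)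
    (h : ∀ a : Fin s → V, (∀ i, a i ∈ U) → ∑ i, f i (a i) = 0 → ∀ i, a i = 0) :
    Nat.card U ^ s ≤ Nat.card V := by
  have h1 : Nat.card U ^ s = Nat.card (Fin s → U) := by rw [Nat.card_fun, Nat.card_fin]
  rw [h1]
  refine Nat.card_le_card_of_injective (fun a => ∑ i, f i (a i)) fun a b e => funext fun i =>
    Subtype.ext (sub_eq_zero.1 (h (fun i => (a i : V) - b i) (fun i => U.sub_mem (a i).2 (b i).2) ?_ i))
  simp only [map_sub, Finset.sum_sub_distrib]
  exact sub_eq_zero.2 e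

variable {K : Type*} [Field K] [Module K V]

theorem vander₁ {s : ℕ} {f : Fin s → K} (hf : Function.Injective f) {a : Fin s → V}
    (h : ∀ j, ∑ i : Fin s, f j ^ (i : ℕ) • a i = 0) (i : Fin s) : a i = 0 :=
  (Module.forall_dual_apply_eq_zero_iff K _).1 fun φ =>
    congrFun (Matrix.eq_zero_of_forall_index_sum_pow_mul_eq_zero hf (v := fun i => φ (a i))
      fun j => by simpa [map_sum] using congrArg φ (h j)) i

theorem vander₂ {s : ℕ} {f : Fin s → K} (hf : Function.Injective f) {a : Fin s → V}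
    (h : ∀ j : Fin s, ∑ i, f i ^ (j : ℕ) • a i = 0) (i : Fin s) : a i = 0 :=
  (Module.forall_dual_apply_eq_zero_iff K _).1 fun φ =>
    congrFun (Matrix.eq_zero_of_forall_pow_sum_mul_pow_eq_zero hf (v := fun i => φ (a i))
      fun j => by simpa [map_sum, mul_comm] using congrArg φ (h j)) i

variable {A : Subgroup G} {σ : G →* RingAut K}

theorem fx_eq_bot (h : FS V K A σ) [FaithfulSMul G V] {a : G} (ha : a ∈ A) (h1 : a ≠ 1) :
    fx V a = ⊥ := eq_bot_iff.2 fun v hv => by_contra fun h0 => by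
  obtain ⟨k, hk⟩ := h.scal a ha
  have h2 : k = 1 := smul_left_injective K h0 (by simpa [← hk] using mem_fx.1 hv)
  exact h1 (eq_of_smul_eq_smul (α := V) fun w => by rw [hk, h2, one_smul, one_smul])

theorem exists_gen (K : Type*) [Field K] [Finite K] :
    ∃ k : K, ∀ τ : RingAut K, τ k = k → τ = 1 := by
  obtain ⟨k, hk⟩ := IsCyclic.exists_monoid_generator (α := Kˣ)
  refine ⟨k, fun τ hτ => RingEquiv.ext fun x => ?_⟩
  by_cases hx : x = 0
  · simp [hx]
  · obtain ⟨n, hn⟩ := hk (Units.mk0 x hx)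
    have : x = (k : K) ^ n := by simpa using (congrArg Units.val hn).symm
    rw [this, map_pow, hτ]; rfl

theorem card_fx_pow_semi [Finite K] [Finite V] (h : FS V K A σ) (g : G) {s : ℕ}
    (hs : s ≤ orderOf (σ g)) : Nat.card (fx V g) ^ s ≤ Nat.card V := by
  obtain ⟨k, hk⟩ := exists_gen K
  refine pow_le_of_inj _ (fun i => DistribSMul.toAddMonoidHom V (k ^ (i : ℕ))) fun a ha h0 =>
    vander₁ (f := fun j : Fin s => σ (g ^ (j : ℕ)) k) (fun i j e => ?_) fun j => ?_
  · have h1 := hk ((σ (g ^ (j : ℕ)))⁻¹ * σ (g ^ (i : ℕ))) (by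
      rw [RingAut.mul_apply, show σ (g ^ (i : ℕ)) k = _ from e, ← RingAut.mul_apply,
        inv_mul_cancel]; rfl)
    rw [inv_mul_eq_one, map_pow, map_pow] at h1
    exact Fin.ext (pow_injOn_Iio_orderOf (i.2.trans_le hs) (j.2.trans_le hs) h1.symm)
  · have h1 := congrArg (g ^ (j : ℕ) • ·) h0
    simp only [Finset.smul_sum, smul_zero, DistribSMul.toAddMonoidHom_apply, h.semi, map_pow] at h1
    rw [← h1]
    exact Finset.sum_congr rfl fun i _ => by rw [fx_le_pow g j (ha i), map_pow]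

theorem card_fx_pow_comm [Finite V] (h : FS V K A σ) {x y : G} (hx : x ∈ centralizer (A : Set G))
    (hy : y ∈ centralizer (A : Set G)) {c : Kˣ} (hc : ∀ v : V, x • y • v = (c : K) • y • x • v)
    {s : ℕ} (hs : s ≤ orderOf c) : Nat.card (fx V x) ^ s ≤ Nat.card V := by
  have h1 : ∀ v ∈ fx V x, ∀ i : ℕ, x • y ^ i • v = (c : K) ^ i • y ^ i • v := fun v hv i => by
    induction i with
    | zero => simpa using mem_fx.1 hv
    | succ i ih => rw [pow_succ', mul_smul, hc, ih, h.comm hy, pow_succ', mul_smul]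
  have h2 : ∀ v ∈ fx V x, ∀ i j : ℕ, x ^ j • y ^ i • v = ((c : K) ^ i) ^ j • y ^ i • v :=
    fun v hv i j => by
    induction j with
    | zero => simp
    | succ j ih => rw [pow_succ', mul_smul, ih, h.comm hx, h1 v hv, pow_succ, mul_smul]
  refine pow_le_of_inj _ (fun i => DistribSMul.toAddMonoidHom V (y ^ (i : ℕ))) fun a ha h0 i =>
    (smul_eq_zero_iff_eq (y ^ (i : ℕ))).1 (vander₂ (f := fun j : Fin s => (c : K) ^ (j : ℕ))
      (a := fun i => y ^ (i : ℕ) • a i) (fun i j e => ?_) (fun j => ?_) i)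
  · exact Fin.ext (pow_injOn_Iio_orderOf (i.2.trans_le hs) (j.2.trans_le hs)
      (Units.ext (by simpa using e)))
  · have h1 := congrArg (x ^ (j : ℕ) • ·) h0
    simp only [Finset.smul_sum, smul_zero, DistribSMul.toAddMonoidHom_apply] at h1
    rw [← h1]
    exact Finset.sum_congr rfl fun i _ => (h2 _ (ha i) _ _).symm

theorem reg_of_cent_le [Finite K] [Nontrivial V] [FaithfulSMul G V] (h : FS V K A σ)
    (hC : centralizer (A : Set G) ≤ A) :
    ∃ v w : V, ∀ g : G, g • v = v → g • w = w → g = 1 := by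
  obtain ⟨k, hk⟩ := exists_gen K
  obtain ⟨v, hv⟩ := exists_ne (0 : V)
  refine ⟨v, k • v, fun g h1 h2 => by_contra fun h3 => hv ?_⟩
  rw [h.semi, h1] at h2
  have h4 : g ∈ A := hC (h.ker.le (hk _ (smul_left_injective K hv h2)))
  exact AddSubgroup.mem_bot.1 (fx_eq_bot h h4 h3 ▸ (h1 : v ∈ fx V g))

end fix

section symp

variable {G Q K : Type*} [Group G] [CommGroup Q] [Field K]

/-- an alternating form on `Q`, invariant under `C`, semi-invariant under `G`, without
invariant isotropic subgroups -/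
structure Sy (C : Subgroup G) (φ : G →* MulAut Q) (β : Q →* Q →* Kˣ) : Prop where
  alt : ∀ x, β x x = 1
  inv : ∀ c ∈ C, ∀ x y, β (φ c x) (φ c y) = β x y
  inv' : ∀ g x y, β x y = 1 → β (φ g x) (φ g y) = 1
  aniso : ∀ X : Subgroup Q, (∀ g, ∀ x ∈ X, φ g x ∈ X) → (∀ x ∈ X, ∀ y ∈ X, β x y = 1) → X = ⊥

/-- orthogonal complement -/
def perp (β : Q →* Q →* Kˣ) (X : Subgroup Q) : Subgroup Q where
  carrier := {y | ∀ x ∈ X, β x y = 1}
  one_mem' x _ := map_one _
  mul_mem' {a b} ha hb x hx := by rw [map_mul, ha x hx, hb x hx, one_mul]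
  inv_mem' {a} ha x hx := by rw [map_inv, ha x hx, inv_one]

theorem card_le_index_of_chars [Finite Q] {ι : Type*} [Finite ι] (ψ : ι → Q →* Kˣ)
    (hψ : Function.Injective ψ) (Y : Subgroup Q) (h : ∀ i, ∀ y ∈ Y, ψ i y = 1) :
    Nat.card ι ≤ Y.index := by
  haveI := Fintype.ofFinite ι
  haveI := Fintype.ofFinite (Q ⧸ Y)
  have h1 := ((linearIndependent_monoidHom (Q ⧸ Y) K).comp
    (fun i => (Units.coeHom K).comp (QuotientGroup.lift Y (ψ i) (h i))) fun i j e => hψ
      (MonoidHom.ext fun q => Units.ext (DFunLike.congr_fun e (q : Q ⧸ Y)))).fintype_card_le_finrank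
  rwa [Module.finrank_fintype_fun_eq_card, ← Nat.card_eq_fintype_card,
    ← Nat.card_eq_fintype_card] at h1

namespace Sy

variable {C : Subgroup G} {φ : G →* MulAut Q} {β : Q →* Q →* Kˣ} (h : Sy C φ β)
include h

theorem symm (x y : Q) : β x y * β y x = 1 := by
  have h1 := h.alt (x * y)
  simpa only [map_mul, MonoidHom.mul_apply, h.alt, one_mul, mul_one, mul_comm] using h1

theorem symm' {x y : Q} (h1 : β x y = 1) : β y x = 1 := by
  have := h.symm x y
  rwa [h1, one_mul] at this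

theorem perp_inv {X : Subgroup Q} (hX : ∀ g, ∀ x ∈ X, φ g x ∈ X) :
    ∀ g, ∀ x ∈ perp β X, φ g x ∈ perp β X := fun g y hy x hx => by
  have := h.inv' g _ _ (hy _ (hX g⁻¹ x hx))
  rwa [map_inv, MulAut.apply_inv_self] at this

theorem perp_top : perp β ⊤ = ⊥ :=
  h.aniso _ (h.perp_inv fun _ _ _ => trivial) fun x _ _ hy => hy x trivial

theorem nondeg {x : Q} (hx : ∀ y, β x y = 1) : x = 1 :=
  mem_bot.1 (h.perp_top ▸ fun y _ => h.symm' (hx y))

theorem index_perp [Finite Q] (X : Subgroup Q) : (perp β X).index = Nat.card X := by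
  refine le_antisymm ?_ (card_le_index_of_chars (fun x : X => β x) (fun x y e => Subtype.ext
    (inv_mul_eq_one.1 (h.nondeg fun z => ?_))) _ fun x y hy => hy x x.2)
  · have h1 := card_le_index_of_chars (Q := X) (ι := Q ⧸ perp β X)
      (fun q => (β.flip q.out).comp X.subtype) (fun q r e => ?_) ⊥
      fun i y hy => by rw [mem_bot.1 hy, map_one]
    · rwa [index_bot] at h1
    · rw [← q.out_eq, ← r.out_eq]
      refine QuotientGroup.eq.2 fun x hx => ?_
      have : β x q.out = β x r.out := DFunLike.congr_fun e ⟨x, hx⟩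
      rw [map_mul, map_inv, this, inv_mul_cancel]
  · have : β x = β y := e
    rw [map_mul, map_inv, this, inv_mul_cancel]; rfl

theorem card_mul_perp [Finite Q] (X : Subgroup Q) :
    Nat.card X * Nat.card (perp β X) = Nat.card Q := by
  rw [← h.index_perp, index_mul_card]

theorem isCompl_of_inf [Finite Q] {X : Subgroup Q} (hX : X ⊓ perp β X = ⊥) :
    X ⊔ perp β X = ⊤ := by
  have h1 := relIndex_mul_index (le_sup_right : perp β X ≤ X ⊔ perp β X)
  rw [relIndex_sup_right, ← inf_relIndex_left, hX, relIndex_bot_left, h.index_perp] at h1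
  exact index_eq_one.1 ((Nat.mul_eq_left Nat.card_pos.ne').1 h1)

theorem cr [Finite Q] (X : Subgroup Q) (hX : ∀ g, ∀ x ∈ X, φ g x ∈ X) : ∃ W : Subgroup Q,
    (∀ g, ∀ x ∈ W, φ g x ∈ W) ∧ X ⊓ W = ⊥ ∧ X ⊔ W = ⊤ := by
  have h1 : X ⊓ perp β X = ⊥ := h.aniso _ (fun g x hx => ⟨hX g x hx.1, h.perp_inv hX g x hx.2⟩)
    fun x hx y hy => hy.2 x hx.1
  exact ⟨_, h.perp_inv hX, h1, h.isCompl_of_inf h1⟩

theorem exists_sq [Finite Q] : ∃ e, Nat.card Q = e ^ 2 := by
  obtain ⟨B, h1, h2⟩ := exists_maximal_of_wellFoundedGT (fun B : Subgroup Q => B ≤ perp β B)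
    ⟨⊥, bot_le⟩
  have h3 : perp β B = B := le_antisymm (fun y hy => h2 (y := B ⊔ zpowers y) (by
    have h4 : ∀ z ∈ B ⊔ zpowers y, z ∈ perp β B ⊓ perp β (zpowers y) := by
      refine sup_le (le_inf h1 ?_) (zpowers_le.2 ⟨hy, ?_⟩)
      · rintro b hb _ ⟨n, rfl⟩
        simp [h.symm' (hy b hb)]
      · rintro _ ⟨n, rfl⟩
        simp [h.alt]
    intro z hz x hx
    obtain ⟨a, ha, b, hb, rfl⟩ := mem_sup.1 hx
    rw [map_mul, MonoidHom.mul_apply, (h4 z hz).1 a ha, (h4 z hz).2 b hb, one_mul]) le_sup_left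
      (mem_sup_right (mem_zpowers y))) h1
  exact ⟨Nat.card B, by rw [← h.card_mul_perp B, h3, sq]⟩

end Sy

end symp

theorem exists_Sy {G : Type u} {V K : Type*} [Group G] [AddCommGroup V] [DistribMulAction G V]
    [Field K] [Module K V] {A M : Subgroup G} {σ : G →* RingAut K} [Nontrivial V]
    [FaithfulSMul G V] (h : FS V K A σ) (hM : AM A M) :
    ∃ (Q : Type u) (_ : CommGroup Q) (φ : G →* MulAut Q) (β : Q →* Q →* Kˣ) (p : M →* Q),
      Function.Surjective p ∧ (∀ m, p m = 1 ↔ (m : G) ∈ A) ∧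
      (∀ g (m : M), φ g (p m) = p ⟨g * m * g⁻¹, hM.Mn.conj_mem _ m.2 g⟩) ∧
      Sy (centralizer (A : Set G)) φ β ∧
      (∀ (x y : M) (v : V), (x : G) • (y : G) • v = (β (p x) (p y) : K) • (y : G) • (x : G) • v) ∧
      (∀ c ∈ centralizer (A : Set G), φ c = 1 ↔ c ∈ M) ∧ Nat.card Q = A.relIndex M := by
  have := hM.An
  have := hM.Mn
  obtain ⟨χ, h1, h2⟩ := h.exists_chi
  let π := QuotientGroup.mk' A
  have := hM.Mn.map π (QuotientGroup.mk'_surjective A)
  let p : M →* M.map π := π.subgroupMap M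
  have hp : Function.Surjective p := π.subgroupMap_surjective M
  have hp1 : ∀ m, p m = 1 ↔ (m : G) ∈ A := fun m =>
    Subtype.ext_iff.trans (QuotientGroup.eq_one_iff _)
  letI : CommGroup (M.map π) :=
    { mul_comm := fun a b => by
        obtain ⟨a, rfl⟩ := hp a
        obtain ⟨b, rfl⟩ := hp b
        rw [← commutatorElement_eq_one_iff_mul_comm, ← map_commutatorElement, hp1]
        exact hM.comm _ a.2 _ b.2 }
  let b₀ : M →* M →* Kˣ := MonoidHom.mk' (fun x => χ.comp (hM.br x.2)) fun x y =>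
    MonoidHom.ext fun z => by
      rw [MonoidHom.mul_apply, MonoidHom.comp_apply, MonoidHom.comp_apply, MonoidHom.comp_apply,
        mul_comm, ← map_mul]
      refine congrArg χ (Subtype.ext ?_)
      change ⁅(x : G) * y, (z : G)⁆ = ⁅(y : G), (z : G)⁆ * ⁅(x : G), (z : G)⁆
      rw [commutatorElement_mul_left', (hM.commute (hM.comm _ y.2 _ z.2) x.2).mul_inv_cancel]
  have hb : ∀ x y : M, b₀ x y = 1 ↔ ⁅(x : G), (y : G)⁆ = 1 := fun x y =>
    ((injective_iff_map_eq_one' χ).1 h1 _).trans Subtype.ext_iff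
  have lift : ∀ {T : Type _} [Group T] (f : M →* T), (∀ x : M, (x : G) ∈ A → f x = 1) →
      ∃ f' : M.map π →* T, ∀ x, f' (p x) = f x := fun f hf =>
    ⟨p.liftOfSurjective hp ⟨f, fun x hx => hf x ((hp1 x).1 hx)⟩,
      p.liftOfRightInverse_comp_apply _ _ _⟩
  obtain ⟨b₁, hb₁⟩ := lift b₀.flip fun y hy => MonoidHom.ext fun x => (hb x y).2
    (commutatorElement_eq_one_iff_commute.2 (hM.commute hy x.2))
  obtain ⟨β, hβ'⟩ := lift b₁.flip fun x hx => MonoidHom.ext fun y => by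
    obtain ⟨y, rfl⟩ := hp y
    exact (DFunLike.congr_fun (hb₁ y) x).trans ((hb x y).2 (commutatorElement_eq_one_iff_commute.2
      (hM.commute hx y.2).symm))
  have hβ : ∀ x y, β (p x) (p y) = b₀ x y := fun x y =>
    (DFunLike.congr_fun (hβ' x) _).trans (DFunLike.congr_fun (hb₁ y) x)
  have hφ : ∀ g (m : M), (MulAut.conjNormal.comp π) g (p m) =
      p ⟨g * m * g⁻¹, hM.Mn.conj_mem _ m.2 g⟩ := fun g m => rfl
  have hcj : ∀ g x y : G, ⁅g * x * g⁻¹, g * y * g⁻¹⁆ = g * ⁅x, y⁆ * g⁻¹ := fun g x y => by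
    simp only [commutatorElement_def]; group
  refine ⟨M.map π, inferInstance, MulAut.conjNormal.comp π, β, p, hp, hp1, hφ,
    ⟨fun x => ?_, fun c hc x y => ?_, fun g x y hxy => ?_, fun X h3 h4 => ?_⟩, fun x y v => ?_,
    fun c hc => ⟨fun h3 => hM.Mmax c hc fun m hm => ?_, fun h3 => MulEquiv.ext fun x => ?_⟩,
    by rw [← relIndex_ker, QuotientGroup.ker_mk']⟩
  · obtain ⟨x, rfl⟩ := hp x
    rw [hβ, hb, commutatorElement_self]
  · obtain ⟨x, rfl⟩ := hp x
    obtain ⟨y, rfl⟩ := hp y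
    rw [hφ, hφ, hβ, hβ]
    refine congrArg χ (Subtype.ext ?_)
    change ⁅c * x * c⁻¹, c * y * c⁻¹⁆ = ⁅(x : G), (y : G)⁆
    rw [hcj, ← hc _ (hM.comm _ x.2 _ y.2), mul_inv_cancel_right]
  · obtain ⟨x, rfl⟩ := hp x
    obtain ⟨y, rfl⟩ := hp y
    rw [hβ, hb] at hxy
    rw [hφ, hφ, hβ, hb]
    change ⁅g * x * g⁻¹, g * y * g⁻¹⁆ = 1
    rw [hcj, hxy, mul_one, mul_inv_cancel]
  · have h5 := hM.Amax ((X.comap p).map M.subtype) ⟨by
      rintro _ ⟨x, hx, rfl⟩ g
      exact ⟨_, show p _ ∈ X from hφ g x ▸ h3 g _ hx, rfl⟩⟩ ⟨⟨by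
      rintro ⟨_, x, hx, rfl⟩ ⟨_, y, hy, rfl⟩
      exact Subtype.ext (commutatorElement_eq_one_iff_mul_comm.1
        ((hb x y).1 ((hβ x y).symm.trans (h4 _ hx _ hy))))⟩⟩ fun a ha =>
      ⟨⟨a, hM.le ha⟩, show p _ ∈ X from ((hp1 ⟨a, hM.le ha⟩).2 ha).symm ▸ X.one_mem, rfl⟩
    refine eq_bot_iff.2 fun x hx => ?_
    obtain ⟨x, rfl⟩ := hp x
    exact (hp1 x).2 (h5 ⟨x, hx, rfl⟩)
  · rw [hβ]
    change _ = (χ (hM.br x.2 y) : K) • _
    rw [← h2]
    simp [AM.br, ← mul_smul, commutatorElement_def]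
  · exact (QuotientGroup.eq_one_iff _).1
      (mul_inv_eq_one.2 (congrArg Subtype.val (DFunLike.congr_fun h3 (p ⟨m, hm⟩))))
  · obtain ⟨x, rfl⟩ := hp x
    rw [hφ, show (⟨c * x * c⁻¹, _⟩ : M) = ⟨c, h3⟩ * x * ⟨c, h3⟩⁻¹ from rfl, map_mul, map_mul,
      map_inv, mul_inv_cancel_comm]
    rfl

end CF.Fgs2.Base
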