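import Cfsg.Agent.Fgs2.Base3

/-! Bases for linear groups: automorphisms of the symplectic section; groups of odd order. -/

set_option autoImplicit false

namespace CF.Fgs2.Base

open Subgroup CF.Perm CF.Transfer
open scoped Pointwise commutatorElement

universe u

section aut

variable {Q : Type*} [Group Q] [Finite Q]

theorem card_modEq_inv {r : ℕ} [Fact r.Prime] {R : Subgroup (MulAut Q)} (hR : IsPGroup r R)
    (S : Set Q) (hS : ∀ ρ ∈ R, ∀ x ∈ S, ρ x ∈ S) :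
    Nat.card S ≡ Nat.card {x | x ∈ S ∧ ∀ ρ ∈ R, ρ x = x} [MOD r] := by
  let T : SubMulAction R Q := ⟨S, fun ρ x hx => hS ρ ρ.2 x hx⟩
  have h1 := hR.card_modEq_card_fixedPoints T
  rwa [Nat.card_congr (β := {x | x ∈ S ∧ ∀ ρ ∈ R, ρ x = x}) (α := MulAction.fixedPoints R T)
    ⟨fun x => ⟨x.1.1, x.1.2, fun ρ hρ => congrArg Subtype.val (x.2 ⟨ρ, hρ⟩)⟩,
      fun x => ⟨⟨x.1, x.2.1⟩, fun ρ => Subtype.ext (x.2.2 ρ ρ.2)⟩, fun _ => rfl, fun _ => rfl⟩] at h1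

theorem card_dvd_sub_one (R : Subgroup (MulAut Q))
    (h : ∀ ρ ∈ R, ∀ x : Q, x ≠ 1 → ρ x = x → ρ = 1) : Nat.card R ∣ Nat.card Q - 1 := by
  classical
  let T : SubMulAction R Q := ⟨{x | x ≠ 1}, fun ρ x hx => by
    change (ρ : MulAut Q) x ≠ 1
    simpa using hx⟩
  have e := MulAction.selfEquivOrbitsQuotientProd (G := R) (X := T) fun b => by
    rw [eq_bot_iff]
    intro k hk
    exact Subtype.ext (h k k.2 b b.2 (congrArg Subtype.val hk))
  rw [← Nat.card_congr (Equiv.optionSubtypeNe (1 : Q)), Finite.card_option, Nat.add_sub_cancel]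
  exact (Nat.card_congr e).trans (Nat.card_prod _ _) ▸ dvd_mul_left _ _

/-- fixed points of a group of automorphisms -/
def fixS (R : Subgroup (MulAut Q)) : Subgroup Q where
  carrier := {x | ∀ ρ ∈ R, ρ x = x}
  one_mem' ρ _ := map_one ρ
  mul_mem' {a b} ha hb ρ hρ := by rw [map_mul, ha ρ hρ, hb ρ hρ]
  inv_mem' {a} ha ρ hρ := by rw [map_inv, ha ρ hρ]

theorem card_modEq_fixS {r : ℕ} [Fact r.Prime] {R : Subgroup (MulAut Q)} (hR : IsPGroup r R)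
    (W : Subgroup Q) (hW : ∀ ρ ∈ R, ∀ x ∈ W, ρ x ∈ W) :
    Nat.card W ≡ Nat.card (W ⊓ fixS R : Subgroup Q) [MOD r] := card_modEq_inv hR W hW

omit [Finite Q] in
theorem mem_fixS_zpowers {f : MulAut Q} {x : Q} : x ∈ fixS (zpowers f) ↔ f x = x :=
  ⟨fun h => h f (mem_zpowers f), fun h =>
    fun _ hρ => (zpowers_le (H := MulAction.stabilizer (MulAut Q) x)).2 h hρ⟩

end aut

namespace Sy

variable {G Q K : Type*} [Group G] [CommGroup Q] [Finite Q] [Field K]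
  {C : Subgroup G} {φ : G →* MulAut Q} {β : Q →* Q →* Kˣ} (h : Sy C φ β)
include h

theorem eq_bot_of_pgroup {r : ℕ} [hr : Fact r.Prime] (hQ : IsPGroup r Q) {R : Subgroup (MulAut Q)}
    (hR : IsPGroup r R) (h1 : R ≤ φ.range) (h2 : ∀ g, ∀ ρ ∈ R, φ g * ρ * (φ g)⁻¹ ∈ R) : R = ⊥ := by
  obtain ⟨W, h3, h4, h5⟩ := h.cr (fixS R) fun g x hx ρ hρ => by
    have := hx _ (h2 g⁻¹ ρ hρ)
    rw [map_inv, inv_inv, MulAut.mul_apply, MulAut.mul_apply, MulAut.inv_apply,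
      MulEquiv.symm_apply_eq] at this
    exact this
  have h6 := card_modEq_fixS hR W fun ρ hρ => by obtain ⟨g, rfl⟩ := h1 hρ; exact h3 g
  rw [inf_comm, h4, card_bot] at h6
  obtain ⟨k, hk⟩ := (hQ.to_subgroup W).exists_card_eq
  have h7 : W = ⊥ := by
    rcases k with _ | k
    · exact (eq_bot_iff_card W).2 (by simpa using hk)
    · rw [hk] at h6
      exact absurd (Nat.dvd_one.1 ((h6.dvd_iff dvd_rfl).1 (dvd_pow_self r k.succ_ne_zero)))
        hr.out.one_lt.ne'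
  rw [h7, sup_bot_eq] at h5
  exact eq_bot_iff.2 fun ρ hρ => MulEquiv.ext fun x => (h5.ge (mem_top x)) ρ hρ

theorem fixS_nondeg {s : ℕ} [Fact s.Prime] (hs : ¬ s ∣ Nat.card Q) {R : Subgroup (MulAut Q)}
    (hR : IsPGroup s R) (h1 : R ≤ C.map φ) : fixS R ⊓ perp β (fixS R) = ⊥ := by
  have h2 : fixS R ⊔ perp β (fixS R) = ⊤ := eq_top_iff.2 fun y _ => by
    have h3 := card_modEq_inv hR {z | z * y⁻¹ ∈ perp β (fixS R)} fun ρ hρ z hz d hd => by
      obtain ⟨c, hc, rfl⟩ := h1 hρ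
      rw [map_mul, ← hd _ hρ, h.inv c hc, hd _ hρ, ← map_mul]
      exact hz d hd
    rw [Nat.card_congr (α := {z | z * y⁻¹ ∈ perp β (fixS R)}) (β := perp β (fixS R))
      ((Equiv.mulRight y⁻¹).subtypeEquiv fun _ => Iff.rfl)] at h3
    obtain ⟨⟨z, h4, h5⟩⟩ := (Nat.card_ne_zero.1 fun e => hs
      (((h3.dvd_iff dvd_rfl).2 (e ▸ dvd_zero s)).trans (card_subgroup_dvd_card _))).1
    exact mem_sup.2 ⟨z, h5, _, inv_mem h4, by simp⟩
  have h3 := relIndex_sup_right (fixS R) (perp β (fixS R))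
  rw [h2, relIndex_top_right, h.index_perp, ← inf_relIndex_left,
    ← card_mul_relIndex (inf_le_left : fixS R ⊓ perp β (fixS R) ≤ _)] at h3
  exact (eq_bot_iff_card _).2 ((Nat.mul_eq_right index_ne_zero_of_finite).1 h3)

theorem card_fixS_ne_prime {s : ℕ} [Fact s.Prime] (hs : ¬ s ∣ Nat.card Q) {R : Subgroup (MulAut Q)}
    (hR : IsPGroup s R) (h1 : R ≤ C.map φ) : ¬ (Nat.card (fixS R)).Prime := fun hp => by
  have := Fact.mk hp
  obtain ⟨d, hd⟩ := (isCyclic_of_prime_card (α := fixS R) rfl).exists_generator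
  have h2 : fixS R ≤ perp β (fixS R) := fun x hx y hy => by
    obtain ⟨i, hi⟩ := hd ⟨x, hx⟩
    obtain ⟨j, hj⟩ := hd ⟨y, hy⟩
    rw [show x = (d : Q) ^ i from (congrArg Subtype.val hi).symm,
      show y = (d : Q) ^ j from (congrArg Subtype.val hj).symm]
    simp [h.alt]
  have h3 := h.fixS_nondeg hs hR h1
  rw [inf_eq_left.2 h2] at h3
  rw [h3, card_bot] at hp
  exact Nat.not_prime_one hp

theorem small [C.Normal] (hodd : Odd (Nat.card (C.map φ)))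
    (hQ : Nat.card Q = 9 ∨ Nat.card Q = 25 ∨ Nat.card Q = 49 ∨ Nat.card Q = 81) :
    Nat.card (C.map φ) ≤ 5 ∧ (Nat.card Q = 9 → Nat.card (C.map φ) = 1) := by
  obtain ⟨r, k, hr, hk, hrk⟩ : ∃ r k : ℕ, r.Prime ∧ Nat.card Q = r ^ k ∧
      ((r = 3 ∧ k = 2) ∨ (r = 5 ∧ k = 2) ∨ (r = 7 ∧ k = 2) ∨ (r = 3 ∧ k = 4)) := by
    rcases hQ with e | e | e | e
    exacts [⟨3, 2, by norm_num, e, by simp⟩, ⟨5, 2, by norm_num, e, by simp⟩,
      ⟨7, 2, by norm_num, e, by simp⟩, ⟨3, 4, by norm_num, e, by simp⟩]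
  have := Fact.mk hr
  obtain ⟨P⟩ : Nonempty (Sylow r (C.map φ)) := inferInstance
  have h1 : (P : Subgroup (C.map φ)).index ∣ Nat.card Q - 1 := by
    refine (Nat.dvd_iff_prime_pow_dvd_dvd _ _).2 fun s j hs hj => ?_
    rcases j with _ | j
    · simp
    have := Fact.mk hs
    have hsr : s ≠ r := fun e => P.not_dvd_index
      ((show r ∣ s ^ (j + 1) from e ▸ dvd_pow_self s j.succ_ne_zero).trans hj)
    have hs2 : s ≠ 2 := fun e => (Nat.not_even_iff_odd.2 hodd) (even_iff_two_dvd.2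
      (e ▸ ((dvd_pow_self s j.succ_ne_zero).trans hj).trans (index_dvd_card _)))
    have hsQ : ¬ s ∣ Nat.card Q := fun e =>
      hsr ((Nat.prime_dvd_prime_iff_eq hs hr).1 (hs.dvd_of_dvd_pow (hk ▸ e)))
    obtain ⟨S, hS⟩ := Sylow.exists_subgroup_card_pow_prime s (hj.trans (index_dvd_card _))
    rw [← hS, ← card_map_of_injective (C.map φ).subtype_injective]
    refine card_dvd_sub_one _ fun ρ hρ x hx e => by_contra fun h1 => ?_
    have h2 : IsPGroup s (zpowers ρ) := ((IsPGroup.of_card hS).map _).to_le (zpowers_le.2 hρ)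
    have h3 := h.card_fixS_ne_prime hsQ h2 ((zpowers_le.2 hρ).trans (map_subtype_le S))
    have h4 := card_modEq_fixS h2 ⊤ fun _ _ _ _ => trivial
    rw [top_inf_eq, card_top] at h4
    obtain ⟨i, h5, h6⟩ := (Nat.dvd_prime_pow hr).1 (hk ▸ card_subgroup_dvd_card (fixS (zpowers ρ)))
    have h7 : i ≠ 0 := fun e' => hx (mem_bot.1 ((eq_bot_iff_card _).2 (by rw [h6, e', pow_zero]) ▸
      mem_fixS_zpowers.2 e))
    have h8 : i ≠ k := fun e' => h1 (MulEquiv.ext fun y => mem_fixS_zpowers.1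
      ((eq_top_of_card_eq _ (by rw [h6, e', hk])).ge (mem_top y)))
    have h9 : i ≠ 1 := fun e' => h3 (by rwa [h6, e', pow_one])
    have h10 := (Nat.modEq_iff_dvd' (Nat.pow_le_pow_right hr.pos h5)).1 (hk ▸ h6 ▸ h4.symm)
    have h11 : ∀ a b, s ∣ 2 ^ a * 3 ^ b → s = 3 := fun a b h => (hs.dvd_mul.1 h).elim
      (fun h => absurd ((Nat.prime_dvd_prime_iff_eq hs Nat.prime_two).1 (hs.dvd_of_dvd_pow h)) hs2)
      fun h => (Nat.prime_dvd_prime_iff_eq hs Nat.prime_three).1 (hs.dvd_of_dvd_pow h)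
    rcases hrk with ⟨rfl, rfl⟩ | ⟨rfl, rfl⟩ | ⟨rfl, rfl⟩ | ⟨rfl, rfl⟩
    · omega
    · omega
    · omega
    · obtain rfl | rfl : i = 2 ∨ i = 3 := by omega
      exacts [hsr (h11 3 2 h10), hsr (h11 1 3 h10)]
  have h2 : Odd (P : Subgroup (C.map φ)).index := hodd.of_dvd_nat (index_dvd_card _)
  have h3 := P.card_dvd_index
  have h4 := card_sylow_modEq_one r (C.map φ)
  have h5 : (P : Subgroup (C.map φ)).index ≤ 5 ∧ (k = 2 → r = 3 →
      (P : Subgroup (C.map φ)).index = 1) ∧ Nat.card (Sylow r (C.map φ)) = 1 := by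
    rw [hk] at h1
    generalize (P : Subgroup (C.map φ)).index = m at *
    generalize Nat.card (Sylow r (C.map φ)) = l at *
    have h6 : m ≤ 80 := by
      rcases hrk with ⟨rfl, rfl⟩ | ⟨rfl, rfl⟩ | ⟨rfl, rfl⟩ | ⟨rfl, rfl⟩ <;>
        exact (Nat.le_of_dvd (by norm_num) h1).trans (by norm_num)
    have h7 := Nat.le_of_dvd h2.pos h3
    have h8 := Nat.odd_iff.1 h2
    have k1 : ∀ m ≤ 80, ∀ l ≤ m, (m % 2 = 1 ∧ l ∣ m ∧ m ∣ 8 ∧ l % 3 = 1) → m ≤ 1 ∧ l = 1 := by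
      decide +kernel
    have k2 : ∀ m ≤ 80, ∀ l ≤ m, (m % 2 = 1 ∧ l ∣ m ∧ m ∣ 24 ∧ l % 5 = 1) → m ≤ 5 ∧ l = 1 := by
      decide +kernel
    have k3 : ∀ m ≤ 80, ∀ l ≤ m, (m % 2 = 1 ∧ l ∣ m ∧ m ∣ 48 ∧ l % 7 = 1) → m ≤ 5 ∧ l = 1 := by
      decide +kernel
    have k4 : ∀ m ≤ 80, ∀ l ≤ m, (m % 2 = 1 ∧ l ∣ m ∧ m ∣ 80 ∧ l % 3 = 1) → m ≤ 5 ∧ l = 1 := by
      decide +kernel
    rcases hrk with ⟨rfl, rfl⟩ | ⟨rfl, rfl⟩ | ⟨rfl, rfl⟩ | ⟨rfl, rfl⟩
    · have := k1 m h6 l h7 ⟨h8, h3, h1, h4⟩; omega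
    · have := k2 m h6 l h7 ⟨h8, h3, h1, h4⟩; omega
    · have := k3 m h6 l h7 ⟨h8, h3, h1, h4⟩; omega
    · have := k4 m h6 l h7 ⟨h8, h3, h1, h4⟩; omega
  have : Subsingleton (Sylow r (C.map φ)) := (Nat.card_eq_one_iff_unique.1 h5.2.2).1
  have h6 := h.eq_bot_of_pgroup (IsPGroup.of_card hk) (P.isPGroup'.map (C.map φ).subtype)
    ((map_subtype_le _).trans (map_le_range φ C)) fun g ρ hρ => by
      let e : MulAut (C.map φ) :=
        ⟨⟨fun x => ⟨φ g * x * (φ g)⁻¹, by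
            obtain ⟨_, c, hc, rfl⟩ := x
            exact ⟨_, ‹C.Normal›.conj_mem c hc g, by simp⟩⟩,
          fun x => ⟨φ g⁻¹ * x * (φ g⁻¹)⁻¹, by
            obtain ⟨_, c, hc, rfl⟩ := x
            exact ⟨_, ‹C.Normal›.conj_mem c hc g⁻¹, by simp⟩⟩,
          fun x => Subtype.ext (by simp [mul_assoc]), fun x => Subtype.ext (by simp [mul_assoc])⟩,
          fun x y => Subtype.ext (by simp [mul_assoc])⟩
      obtain ⟨x, hx, rfl⟩ := hρ
      exact ⟨e x, (characteristic_iff_map_le.1 inferInstance e) ⟨x, hx, rfl⟩, rfl⟩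
  rw [Subgroup.map_eq_bot_iff_of_injective _ (subtype_injective _)] at h6
  rw [h6, index_bot] at h5
  refine ⟨h5.1, fun e => ?_⟩
  rcases hrk with ⟨rfl, rfl⟩ | ⟨rfl, rfl⟩ | ⟨rfl, rfl⟩ | ⟨rfl, rfl⟩
  · exact h5.2.1 rfl rfl
  all_goals omega

end Sy

end CF.Fgs2.Base
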