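import Cfsg.Agent.Fgs2.Base4

/-! Completely reducible linear groups of odd order have a base of size two. -/

set_option autoImplicit false

namespace CF.Fgs2.Base

open Subgroup CF.Perm CF.Transfer
open scoped Pointwise commutatorElement

universe u

/-- solvable groups of odd order -/
def COdd (G : Type u) [Group G] (_ : ℕ) : Prop := Odd (Nat.card G) ∧ Group.IsSolvable G

theorem cls_odd : Cls COdd.{u} where
  inj f hf _ _ _ h := ⟨h.1.of_dvd_nat (card_dvd_of_injective f hf),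
    have := h.2; Group.isSolvable_of_isSolvable_injective hf⟩
  surj f hf _ h := ⟨h.1.of_dvd_nat (card_dvd_of_surjective f hf),
    have := h.2; Group.isSolvable_of_surjective hf⟩

theorem mem_of_pow_two_pow {G : Type*} [Group G] [Finite G] (h : Odd (Nat.card G)) {x : G}
    {k : ℕ} {H : Subgroup G} (hx : x ^ 2 ^ k ∈ H) : x ∈ H := by
  obtain ⟨m, hm⟩ := exists_pow_eq_self_of_coprime (x := x) (n := 2 ^ k) (Nat.Coprime.pow_left k
    (Nat.coprime_two_left.2 (h.of_dvd_nat (orderOf_dvd_natCard x))))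
  exact hm ▸ H.pow_mem hx m

theorem eq_one_of_pow_two_pow {G : Type*} [Group G] [Finite G] (h : Odd (Nat.card G)) {x : G}
    {k : ℕ} (hx : x ^ 2 ^ k = 1) : x = 1 :=
  mem_bot.1 (mem_of_pow_two_pow h (mem_bot.2 hx))

theorem exists_root (k N : ℕ) (hk : k ≠ 0) : ∃ r, r ^ k ≤ N ∧ ∀ m, m ^ k ≤ N → m ≤ r := by
  classical
  exact ⟨Nat.findGreatest (fun r => r ^ k ≤ N) N, Nat.findGreatest_spec (P := fun r => r ^ k ≤ N)
    (Nat.zero_le N) (by simp [hk]), fun m hm => Nat.le_findGreatest ((Nat.le_self_pow hk m).trans hm) hm⟩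

theorem col_odd {n : ℕ} (h : P COdd.{u} (Fin 2) n) {G : Type u} [Group G] [Finite G]
    (hG : COdd G 0) {H : Subgroup G} (hH : IsCoatom H) (hn : H.index < n) :
    ∃ d : G → Bool, Col ⊤ H d := by
  classical
  have := hG.2
  obtain ⟨Q, _, _, φ, π, h1, h2, h3⟩ := exists_aff hH
  obtain ⟨t, ht⟩ := h.mul φ hG (fun X hX => by
    rcases h2 X hX with rfl | rfl
    · exact ⟨⊤, fun _ _ _ => trivial, bot_inf_eq _, bot_sup_eq _⟩
    · exact ⟨⊥, fun g x hx => by rw [mem_bot.1 hx, map_one]; exact one_mem _, inf_bot_eq _,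
        sup_bot_eq _⟩) (h1 ▸ hn)
  have hQ : Odd (Nat.card Q) := h1 ▸ hG.1.of_dvd_nat H.index_dvd_card
  let D : Finset Q := ({t 0, (t 0)⁻¹, t 1, (t 1)⁻¹} : Finset Q).erase 1
  by_cases hD : D = ∅
  · refine ⟨_, h3 Bool (fun q => decide (q = 1)) fun x hx => ⟨by simpa using hx 1, ht x ?_⟩⟩
    have h4 : ∀ i, t i = 1 := fun i => by_contra fun h5 => by
      have : t i ∈ D := Finset.mem_erase.2 ⟨h5, by fin_cases i <;> simp⟩
      simp [hD] at this
    simp [h4]
  refine ⟨_, h3 Bool (fun q => decide (q ∈ D)) fun x hx => ?_⟩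
  replace hx : ∀ q, π x * φ x q ∈ D ↔ q ∈ D := fun q => by simpa using hx q
  have hinv : ∀ q ∈ D, q⁻¹ ∈ D := fun q hq => by
    simp only [D, Finset.mem_erase, Finset.mem_insert, Finset.mem_singleton, ne_eq] at hq ⊢
    refine ⟨mt inv_eq_one.1 hq.1, ?_⟩
    rcases hq.2 with e | e | e | e <;> simp [e]
  have hne : ∀ q ∈ D, q⁻¹ ≠ q := fun q hq e => (Finset.mem_erase.1 hq).1
    (eq_one_of_pow_two_pow hQ (k := 1) (by rw [pow_one, sq]; exact eq_inv_iff_mul_eq_one.1 e.symm))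
  have h4 : ∏ q ∈ D, q = 1 := Finset.prod_involution (fun q _ => q⁻¹) (fun q _ => mul_inv_cancel q)
    (fun q hq _ => hne q hq) hinv fun q _ => inv_inv q
  have h5 : ∏ _q ∈ D, (-1 : ℤˣ) = 1 := Finset.prod_involution (fun q _ => q⁻¹) (fun q _ => by simp)
    (fun q hq _ => hne q hq) hinv fun q _ => inv_inv q
  have h6 := Finset.prod_equiv (s := D) (t := D) (f := fun q => π x * φ x q) (g := fun q => q)
    ((φ x).toEquiv.trans (Equiv.mulLeft (π x))) (fun q => (hx q).symm) fun _ _ => rfl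
  rw [Finset.prod_mul_distrib, ← map_prod, h4, map_one, mul_one, Finset.prod_const] at h6
  rw [Finset.prod_const, neg_one_pow_eq_one_iff_even (by decide)] at h5
  have h7 : D.card ≤ 4 := Finset.card_erase_le.trans Finset.card_le_four
  have h8 : D.card ≠ 0 := mt Finset.card_eq_zero.1 hD
  have h9 : π x = 1 := eq_one_of_pow_two_pow hQ (k := 2) (by
    obtain e | e : D.card = 2 ∨ D.card = 4 := by obtain ⟨k, hk⟩ := h5; omega
    · rw [show 2 ^ 2 = 2 * 2 from rfl, pow_mul, ← e, h6, one_pow]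
    · rw [show 2 ^ 2 = 4 from rfl, ← e, h6])
  refine ⟨h9, ht x ?_⟩
  simp only [h9, one_mul] at hx
  have key : ∀ v w : Q, (∀ q ∈ D, q = v ∨ q = v⁻¹ ∨ q = w ∨ q = w⁻¹) → (v ≠ 1 → v ∈ D) →
      (w ≠ 1 → w ∈ D) → φ x v = v := fun v w a1 a2 a3 => by
    by_cases hv : v = 1
    · rw [hv, map_one]
    have b1 : φ (x ^ 2 ^ 2) v = v := by
      have c0 : φ (x ^ 2 ^ 2) v = φ x (φ x (φ x (φ x v))) := by
        rw [map_pow]; rfl
      have c1 : ∀ u, (φ x (φ x u) = u ∨ φ x (φ x u) = u⁻¹) → φ x (φ x (φ x (φ x u))) = u := by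
        rintro u (e | e)
        · rw [e, e]
        · rw [e, map_inv, map_inv, e, inv_inv]
      rw [c0]
      refine c1 v ?_
      rcases a1 _ ((hx v).2 (a2 hv)) with e | e | e | e
      · left; rw [e, e]
      · left; rw [e, map_inv, e, inv_inv]
      · have hw : w ≠ 1 := fun e' => hv ((φ x).injective (by rw [e, e', map_one]))
        rcases a1 _ ((hx w).2 (a3 hw)) with e' | e' | e' | e'
        · left; rw [e, e']
        · right; rw [e, e']
        · left; rw [e, e', (φ x).injective (e.trans e'.symm)]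
        · left
          have : v = w⁻¹ := (φ x).injective (by rw [e, map_inv, e', inv_inv])
          rw [e, e', this]
      · have hw : w ≠ 1 := fun e' => hv ((φ x).injective (by rw [e, e', map_one, inv_one]))
        rcases a1 _ ((hx w).2 (a3 hw)) with e' | e' | e' | e'
        · right; rw [e, map_inv, e']
        · left; rw [e, map_inv, e', inv_inv]
        · left
          have : v = w⁻¹ := (φ x).injective (by rw [e, map_inv, e'])
          rw [e, map_inv, e', this]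
        · left; rw [e, map_inv, e', inv_inv, (φ x).injective (e.trans e'.symm)]
    have b2 : x ∈ (MulAction.stabilizer (MulAut Q) v).comap φ :=
      mem_of_pow_two_pow hG.1 b1
    exact b2
  have a0 : ∀ q ∈ D, q = t 0 ∨ q = (t 0)⁻¹ ∨ q = t 1 ∨ q = (t 1)⁻¹ := fun q hq => by
    simpa using (Finset.mem_erase.1 hq).2
  have a1 : ∀ i, t i ≠ 1 → t i ∈ D := fun i h5 =>
    Finset.mem_erase.2 ⟨h5, by fin_cases i <;> simp⟩
  intro i
  fin_cases i
  · exact key _ _ a0 (a1 0) (a1 1)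
  · exact key _ _ (fun q hq => by have := a0 q hq; tauto) (a1 1) (a1 0)

theorem num_big (e : ℕ) (he : 23 ≤ e) : 8 * e ^ 18 < 4 ^ (2 * e - 3) := by
  induction e, he using Nat.le_induction with
  | base => norm_num
  | succ e he ih =>
    have h1 : 23 * (e + 1) ≤ 24 * e := by omega
    have h2 := Nat.pow_le_pow_left h1 18
    rw [mul_pow, mul_pow] at h2
    rw [show 2 * (e + 1) - 3 = 2 * e - 3 + 2 by omega, pow_add 4]
    generalize (e + 1) ^ 18 = x at *
    generalize e ^ 18 = y at *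
    omega

theorem num_odd {w n e c a : ℕ} (he : Odd e) (hen : e ≤ n) (he3 : 5 ≤ e) (ha : a < w) (h6 : w ≠ 6)
    (h2 : 2 ≤ w) (hp : ∀ r, r.Prime → r ∣ e → r ∣ w - 1) (hc : c ≤ e ^ 4) (hc' : e ≤ 9 → c ≤ 5) :
    8 * (c * (e ^ 2 * a)) ^ 3 < (w ^ n) ^ 2 := by
  have h1 : ∀ r, r.Prime → r ∣ e → r + 1 ≤ w := fun r hr h => by
    have := Nat.le_of_dvd (by omega) (hp r hr h)
    omega
  have key : ∀ b w₀, c ≤ b → w₀ ≤ w → 8 * (b * e ^ 2) ^ 3 < w₀ ^ (2 * e - 3) →
      8 * (c * (e ^ 2 * a)) ^ 3 < (w ^ n) ^ 2 := fun b w₀ h3 h4 h5 => by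
    calc 8 * (c * (e ^ 2 * a)) ^ 3 ≤ 8 * (b * (e ^ 2 * w)) ^ 3 := by gcongr
      _ = 8 * (b * e ^ 2) ^ 3 * w ^ 3 := by ring
      _ < w ^ (2 * e - 3) * w ^ 3 := by
        gcongr
        exact h5.trans_le (Nat.pow_le_pow_left h4 _)
      _ ≤ (w ^ n) ^ 2 := by
        rw [← pow_add, ← pow_mul]
        exact Nat.pow_le_pow_right (by omega) (by omega)
  have h5 : 5 ∣ e → 11 ≤ w := fun h => by
    have := hp 5 (by norm_num) h
    omega
  by_cases h23 : 23 ≤ e
  · have h3 := h1 _ (Nat.minFac_prime (by omega)) e.minFac_dvd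
    have h4 : e.minFac ≠ 2 := fun h => Nat.not_even_iff_odd.2 he (even_iff_two_dvd.2 (h ▸ e.minFac_dvd))
    have h7 := (Nat.minFac_prime (show e ≠ 1 by omega)).two_le
    refine key _ 4 hc (by omega) ?_
    convert num_big e h23 using 2
    ring
  obtain ⟨k, rfl⟩ := he
  have hk : k ≤ 10 := by omega
  interval_cases k
  · omega
  · omega
  · exact key 5 11 (hc' (by norm_num)) (h5 (by norm_num)) (by norm_num)
  · exact key 5 8 (hc' (by norm_num)) (h1 7 (by norm_num) (by norm_num)) (by norm_num)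
  · exact key 5 4 (hc' (by norm_num)) (h1 3 (by norm_num) (by norm_num)) (by norm_num)
  · exact key _ 12 hc (h1 11 (by norm_num) (by norm_num)) (by norm_num)
  · exact key _ 14 hc (h1 13 (by norm_num) (by norm_num)) (by norm_num)
  · exact key _ 11 hc (h5 (by norm_num)) (by norm_num)
  · exact key _ 18 hc (h1 17 (by norm_num) (by norm_num)) (by norm_num)
  · exact key _ 20 hc (h1 19 (by norm_num) (by norm_num)) (by norm_num)
  · exact key _ 8 hc (h1 7 (by norm_num) (by norm_num)) (by norm_num)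

theorem index_ker_le {G Q ι : Type*} [Group G] [Group Q] [Finite Q] [Fintype ι]
    (φ : G →* MulAut Q) (t : ι → Q) (ht : ∀ g, (∀ i, φ g (t i) = t i) → φ g = 1) :
    Nat.card φ.range ≤ Nat.card Q ^ Fintype.card ι := by
  rw [← Nat.card_eq_fintype_card, ← Nat.card_fun]
  refine Nat.card_le_card_of_injective (fun f i => f.1 (t i)) ?_
  rintro ⟨_, g, rfl⟩ ⟨_, k, rfl⟩ e
  refine Subtype.ext (inv_mul_eq_one.1 ((map_inv φ g ▸ map_mul φ g⁻¹ k).symm.trans (ht _ fun i => ?_)))
  rw [map_mul, map_inv, MulAut.mul_apply, ← show φ g (t i) = φ k (t i) from congrFun e i,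
    MulAut.inv_apply_self]

theorem three_le_of_odd {G : Type*} [Group G] {x : G} {n : ℕ} (hn : Odd n) (h : x ^ n = 1)
    (h1 : x ≠ 1) : 3 ≤ orderOf x := by
  obtain ⟨k, hk⟩ := hn.of_dvd_nat (orderOf_dvd_of_pow_eq_one h)
  have := mt orderOf_eq_one_iff.1 h1
  omega

theorem cube_le (f : ℕ) : f ^ 3 ≤ (2 ^ f) ^ 2 := by
  induction f with
  | zero => norm_num
  | succ f ih =>
    rcases f with _ | _ | f
    · norm_num
    · norm_num
    · rw [pow_succ 2, mul_pow]; nlinarith [Nat.zero_le f, Nat.zero_le (f ^ 2), Nat.zero_le (f ^ 3)]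

theorem qp_odd {G V : Type u} {K : Type*} [Group G] [Finite G] [AddCommGroup V] [Finite V]
    [Nontrivial V] [DistribMulAction G V] [FaithfulSMul G V] [Field K] [Finite K] [Module K V]
    {A M : Subgroup G} {σ : G →* RingAut K} (h : FS V K A σ) (hM : AM A M) (hG : COdd G 0)
    (IH : P COdd.{u} (Fin 2) (Nat.card V)) : ∃ t : Fin 2 → V, RegOn (⊤ : Subgroup G) ⊤ t := by
  classical
  have := hM.An
  have := hM.Mn
  by_cases hMA : M ≤ A
  · obtain ⟨v, w, h1⟩ := reg_of_cent_le h fun c hc => hMA (hM.Mmax c hc fun m hm =>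
      commutatorElement_eq_one_iff_mul_comm.2 (hc m (hMA hm)).symm ▸ one_mem A)
    exact ⟨![v, w], fun _ => trivial, fun g _ hg u _ => by rw [h1 g (hg 0) (hg 1), one_smul]⟩
  obtain ⟨Q, _, φ, β, p, p1, p2, -, hS, p4, p5, p6⟩ := exists_Sy h hM
  have : Finite Q := Finite.of_surjective p p1
  obtain ⟨e, he⟩ := hS.exists_sq
  set C := centralizer (A : Set G) with hC
  have hN : Nat.card V = Nat.card K ^ Module.finrank K V := Module.natCard_eq_pow_finrank
  have hQ : Odd (Nat.card Q) := hG.1.of_dvd_nat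
    ((card_dvd_of_surjective p p1).trans M.card_subgroup_dvd_card)
  have he0 : Odd e := (Nat.odd_pow_iff two_ne_zero).1 (he ▸ hQ)
  have he1 : e ≠ 1 := fun e1 => hMA (relIndex_eq_one.1 (by rw [← p6, he, e1]; rfl))
  have hen : e ≤ Module.finrank K V := (Nat.pow_le_pow_iff_left two_ne_zero).1
    (he ▸ p6 ▸ h.relIndex_le_sq hM)
  have hw2 : 2 ≤ Nat.card K := Finite.one_lt_card
  have hp : ∀ r, r.Prime → r ∣ e → r ∣ Nat.card K - 1 := fun r hr h1 =>
    (hr.dvd_of_dvd_pow ((h1.trans (dvd_pow_self e two_ne_zero)).trans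
      (he ▸ p6 ▸ hM.relIndex_dvd_pow))).trans h.card_dvd
  have ha : Nat.card A < Nat.card K := by
    have := Nat.le_of_dvd (by omega) h.card_dvd
    omega
  have hw4 : 4 ≤ Nat.card K := by
    have h1 := Nat.le_of_dvd (by omega) (hp _ (Nat.minFac_prime he1) e.minFac_dvd)
    have h2 : e.minFac ≠ 2 := fun h => Nat.not_even_iff_odd.2 he0
      (even_iff_two_dvd.2 (h ▸ e.minFac_dvd))
    have h3 := (Nat.minFac_prime he1).two_le
    omega
  have hw6 : Nat.card K ≠ 6 := fun e6 => by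
    have := Fintype.ofFinite K
    have h1 := FiniteField.isPrimePow_card K
    rw [← Nat.card_eq_fintype_card, e6] at h1
    exact absurd h1 (by decide +kernel)
  have hc0 : Nat.card (C.map φ) = M.relIndex C := by
    rw [← relIndex_ker, ← inf_relIndex_right, ← inf_relIndex_right M]
    congr 1
    exact Subgroup.ext fun c => and_congr_left fun hc => p5 c hc
  have he3 : 3 ≤ e := by obtain ⟨k, hk⟩ := he0; omega
  obtain ⟨t, ht⟩ := IH.mul φ hG hS.cr (by
    rw [he, hN]
    calc e ^ 2 < (2 ^ e) ^ 2 := Nat.pow_lt_pow_left Nat.lt_two_pow_self two_ne_zero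
      _ = 4 ^ e := by rw [← pow_mul, mul_comm, pow_mul]; rfl
      _ ≤ _ := Nat.pow_le_pow_left hw4 e |>.trans (Nat.pow_le_pow_right (by omega) hen))
  have hc1 : M.relIndex C ≤ e ^ 4 := by
    rw [← hc0]
    refine (card_le_of_le (map_le_range φ C)).trans ((index_ker_le φ t ht).trans ?_)
    rw [he, ← pow_mul]; rfl
  have hc2 : e ≤ 9 → M.relIndex C ≤ 5 ∧ (e = 3 → M.relIndex C = 1) := fun h9 => by
    have := hS.small (hc0 ▸ hG.1.of_dvd_nat ((relIndex_dvd_card _ _).trans C.card_subgroup_dvd_card))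
      (by
        rw [he]
        obtain rfl | rfl | rfl | rfl : e = 3 ∨ e = 5 ∨ e = 7 ∨ e = 9 := by
          obtain ⟨k, hk⟩ := he0; omega
        all_goals norm_num)
    exact hc0 ▸ ⟨this.1, fun e3 => this.2 (by rw [he, e3]; rfl)⟩
  -- fixed points
  have b2 : ∀ x ∈ M, x ≠ 1 → Nat.card (fx V x) ^ 3 ≤ Nat.card V := fun x hx h1 => by
    by_cases hA : x ∈ A
    · rw [fx_eq_bot h hA h1, AddSubgroup.card_bot]; exact Nat.card_pos
    obtain ⟨y, hy⟩ := not_forall.1 (mt hS.nondeg (mt (p2 ⟨x, hx⟩).1 hA))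
    obtain ⟨y, rfl⟩ := p1 y
    exact card_fx_pow_comm h (hM.cen hx) (hM.cen y.2) (p4 ⟨x, hx⟩ y) (three_le_of_odd hQ
      (by rw [← map_pow, pow_card_eq_one', map_one]) hy)
  have b3 : ∀ x ∈ C, x ∉ M → Nat.card (fx V x) ^ 3 ≤ Nat.card V ^ 2 := fun x hx h1 => by
    obtain ⟨m, hm, h2⟩ : ∃ m ∈ M, ⁅x, m⁆ ∉ A := by
      by_contra! h2
      exact h1 (hM.Mmax x hx h2)
    have h3 := b2 ⁅x, m⁆ (M.mul_mem (hM.Mn.conj_mem m hm x) (M.inv_mem hm))
      fun e => h2 (e ▸ A.one_mem)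
    have h4 := Nat.pow_le_pow_left (card_fx_sq_le (V := V) x m) 3
    refine (Nat.pow_le_pow_iff_left two_ne_zero).1 ?_
    calc _ = (Nat.card (fx V x) ^ 2) ^ 3 := by ring
      _ ≤ Nat.card V ^ 3 * Nat.card V := h4.trans (by rw [mul_pow]; gcongr)
      _ = _ := by ring
  have b4 : ∀ x ∉ C, Nat.card (fx V x) ^ 3 ≤ Nat.card V := fun x hx =>
    card_fx_pow_semi h x (three_le_of_odd hG.1 (by rw [← map_pow, pow_card_eq_one', map_one])
      fun e => hx (h.ker.le e))
  obtain ⟨r, hr1, hr2⟩ := exists_root 3 (Nat.card V) (by norm_num)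
  obtain ⟨R, hR1, hR2⟩ := exists_root 3 (Nat.card V ^ 2) (by norm_num)
  have := Fintype.ofFinite G
  refine exists_reg_of_sum (Fin 2) (Finset.univ.erase 1) (fun g hg v => by
    rw [show g = 1 from by_contra fun h1 => hg g (by simpa using h1) le_rfl, one_smul]) ?_
  rw [Fintype.card_fin]
  have hsum : ∑ s ∈ Finset.univ.erase (1 : G), Nat.card (fx V s) ^ 2 ≤ Nat.card G * r ^ 2 +
      (Finset.univ.filter fun s => s ∈ C ∧ s ∉ M).card * R ^ 2 := by
    calc _ ≤ ∑ s ∈ Finset.univ.erase (1 : G), (r ^ 2 + if s ∈ C ∧ s ∉ M then R ^ 2 else 0) :=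
          Finset.sum_le_sum fun s hs => by
            split_ifs with h1
            · exact le_add_left (Nat.pow_le_pow_left (hR2 _ (b3 s h1.1 h1.2)) 2)
            · refine Nat.pow_le_pow_left (hr2 _ ?_) 2
              by_cases h2 : s ∈ C
              · exact b2 s (not_not.1 fun h3 => h1 ⟨h2, h3⟩) (Finset.ne_of_mem_erase hs)
              · exact b4 s h2
      _ ≤ ∑ s : G, (r ^ 2 + if s ∈ C ∧ s ∉ M then R ^ 2 else 0) :=
          Finset.sum_le_sum_of_subset (Finset.subset_univ _)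
      _ = _ := by
          rw [Finset.sum_add_distrib, ← Finset.sum_filter, Finset.sum_const, Finset.sum_const,
            Finset.card_univ, Nat.card_eq_fintype_card, smul_eq_mul, smul_eq_mul]
  refine hsum.trans_lt (not_le.1 fun hcon => ?_)
  have hcard := hM.card_eq
  rw [← hC, ← p6, he] at hcard
  have hCc : Nat.card C = M.relIndex C * (e ^ 2 * Nat.card A) :=
    Nat.eq_of_mul_eq_mul_left (Nat.pos_of_ne_zero index_ne_zero_of_finite)
      ((index_mul_card C).trans hcard)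
  obtain ⟨k, hk1, hk2⟩ := h.exists_pow_index
  rw [← hC] at hk2
  have hf : 2 ^ C.index ≤ Nat.card K := hk2 ▸ Nat.pow_le_pow_left hk1 _
  have hKV : Nat.card K ≤ Nat.card V := hN ▸ Nat.le_self_pow (by omega) _
  have hV0 : 0 < Nat.card V := Nat.card_pos
  have hr3 : (r ^ 2) ^ 3 ≤ Nat.card V ^ 2 := by
    rw [← pow_mul, mul_comm, pow_mul]; exact Nat.pow_le_pow_left hr1 2
  rcases he3.eq_or_lt with rfl | he5
  · have h1 := (hc2 (by norm_num)).2 rfl
    rw [Finset.filter_eq_empty_iff.2 fun s _ hs => hs.2 (relIndex_eq_one.1 h1 hs.1),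
      Finset.card_empty, zero_mul, add_zero] at hcon
    have h2 : (Nat.card V ^ 2) ^ 2 * Nat.card V ^ 2 ≤ Nat.card G ^ 3 * Nat.card V ^ 2 :=
      calc _ = (Nat.card V ^ 2) ^ 3 := by ring
        _ ≤ _ := (Nat.pow_le_pow_left hcon 3).trans (by rw [mul_pow]; gcongr)
    have h3 := Nat.le_of_mul_le_mul_right h2 (by positivity)
    have h4 : C.index < Nat.card K := Nat.lt_two_pow_self.trans_le hf
    have h5 : Nat.card K ^ 3 ≤ Nat.card V := hN ▸ Nat.pow_le_pow_right (by omega) hen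
    have h6 : Nat.card G ≤ 9 * Nat.card K ^ 2 := by
      rw [hcard, h1]
      calc _ ≤ Nat.card K * (1 * (3 ^ 2 * Nat.card K)) := by gcongr
        _ = _ := by ring
    have h7 : Nat.card K ^ 6 * Nat.card K ^ 6 ≤ 729 * Nat.card K ^ 6 :=
      calc _ = ((Nat.card K ^ 3) ^ 2) ^ 2 := by ring
        _ ≤ (Nat.card V ^ 2) ^ 2 := by gcongr
        _ ≤ (9 * Nat.card K ^ 2) ^ 3 := h3.trans (Nat.pow_le_pow_left h6 3)
        _ = _ := by ring
    have h8 := Nat.le_of_mul_le_mul_right h7 (by positivity)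
    have h9 := Nat.pow_le_pow_left hw4 6
    omega
  have h1 := num_odd he0 hen (by obtain ⟨k, hk⟩ := he0; omega) ha hw6 hw2 hp hc1
    fun h9 => (hc2 h9).1
  rw [← hCc, ← hN] at h1
  have h2 : (Finset.univ.filter fun s => s ∈ C ∧ s ∉ M).card ≤ Nat.card C := by
    rw [Nat.card_eq_fintype_card, Fintype.card_subtype]
    exact Finset.card_le_card fun s hs =>
      Finset.mem_filter.2 ⟨Finset.mem_univ _, (Finset.mem_filter.1 hs).2.1⟩
  have h3 : C.index ^ 3 ≤ Nat.card V ^ 2 := by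
    exact (cube_le _).trans (Nat.pow_le_pow_left (hf.trans hKV) 2)
  replace h2 := Nat.mul_le_mul_right (R ^ 2) h2
  refine h1.not_ge ?_
  rcases le_total (Nat.card G * r ^ 2) (Nat.card C * R ^ 2) with h4 | h4
  · have h5 : Nat.card V ^ 2 ≤ 2 * (Nat.card C * R ^ 2) := by omega
    refine Nat.le_of_mul_le_mul_right (c := (Nat.card V ^ 2) ^ 2) ?_ (by positivity)
    calc _ = (Nat.card V ^ 2) ^ 3 := by ring
      _ ≤ (2 * (Nat.card C * R ^ 2)) ^ 3 := Nat.pow_le_pow_left h5 3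
      _ = 8 * Nat.card C ^ 3 * (R ^ 3) ^ 2 := by ring
      _ ≤ _ := by gcongr
  · have h5 : Nat.card V ^ 2 ≤ 2 * (Nat.card G * r ^ 2) := by omega
    refine Nat.le_of_mul_le_mul_right (c := (Nat.card V ^ 2) ^ 2) ?_ (by positivity)
    calc _ = (Nat.card V ^ 2) ^ 3 := by ring
      _ ≤ (2 * (Nat.card G * r ^ 2)) ^ 3 := Nat.pow_le_pow_left h5 3
      _ = 8 * Nat.card C ^ 3 * (C.index ^ 3 * (r ^ 2) ^ 3) := by rw [← index_mul_card C]; ring
      _ ≤ 8 * Nat.card C ^ 3 * (Nat.card V ^ 2 * Nat.card V ^ 2) := by gcongr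
      _ = _ := by ring

theorem covBy_coatom {G : Type*} [Group G] {K L : Subgroup G} (h : K ⋖ L) :
    IsCoatom (K.subgroupOf L) :=
  ⟨fun e => h.lt.not_ge (subgroupOf_eq_top.1 e), fun X hX => by
    have h1 : K ≤ X.map L.subtype := fun k hk => ⟨⟨k, h.le hk⟩, hX.le hk, rfl⟩
    rcases h.eq_or_eq h1 (map_subtype_le X) with e | e
    · exact absurd (fun x hx => e.le ⟨x, hx, rfl⟩) hX.not_ge
    · exact eq_top_iff.2 fun x _ => by
        obtain ⟨y, hy, e'⟩ := e.ge x.2
        exact (Subtype.ext e' : y = x) ▸ hy⟩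

theorem exists_col_odd {n : ℕ} (h : P COdd.{u} (Fin 2) n) {G : Type u} [Group G] [Finite G]
    (hG : COdd G 0) (H : Subgroup G) (hn : H.index < n) : ∃ c : G → Bool, Col ⊤ H c := by
  refine exists_col H fun L K h1 h2 => ?_
  obtain ⟨d, hd⟩ := col_odd h (cls_odd.inj L.subtype L.subtype_injective dvd_rfl hG)
    (covBy_coatom h1) (lt_of_le_of_lt (Nat.le_of_dvd (Nat.pos_of_ne_zero index_ne_zero_of_finite)
      ((relIndex_dvd_index_of_le h1.le).trans (index_dvd_of_le h2))) hn)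
  obtain ⟨d, hd⟩ := hd.of_sub h1.le
  have key : ∀ x ∈ L, ¬ ∀ g ∈ L, d (x * g) = !d g := fun x hx h3 => by
    have h4 := hd.2 (x ^ 2 ^ 1) (L.pow_mem hx _) (fun g hg => by
      rw [pow_one, sq, mul_assoc, h3 _ (L.mul_mem hx hg), h3 g hg, Bool.not_not]) 1 L.one_mem
    have h5 := h3 1 L.one_mem
    rw [mul_one, ← one_mul x, hd.1 1 x (mem_of_pow_two_pow hG.1 (k := 1) (by simpa using h4))] at h5
    simp at h5
  refine ⟨fun j g => xor j (d g), fun j => ⟨fun g k hk => by simp only [hd.1 g k hk],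
    fun x hx h3 => hd.2 x hx fun g hg => by simpa using h3 g hg⟩, fun i j x hx h3 => ?_⟩
  by_contra h4
  refine key x hx fun g hg => ?_
  have : xor i (d (x * g)) = xor j (d g) := h3 g hg
  revert this h4
  cases i <;> cases j <;> cases d (x * g) <;> cases d g <;> simp

theorem p_odd (n : ℕ) : P COdd.{u} (Fin 2) n := by
  induction n with
  | zero => intro G V _ _ _ _ _ _ _ h; omega
  | succ n ih =>
    refine ih.succ cls_odd fun G V _ _ _ _ _ _ _ hG hn hirr => ?_
    subst hn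
    have := hG.2
    obtain ⟨A, hA1, hA2, hA3⟩ := exists_max_abelian (G := G)
    obtain ⟨M, hM⟩ := exists_AM A hA3
    rcases fs_or_imp hirr A hA2 with ⟨K, _, _, _, σ, h⟩ | ⟨W, hW⟩
    · exact qp_odd h hM hG ih
    obtain ⟨c, hc⟩ := exists_col_odd ih hG _ hW.index_lt
    obtain ⟨t, ht⟩ := ih.rel cls_odd hG (invOn_stab W) ((hW.irr hirr).cr (invOn_stab W)) hW.card_lt
    obtain ⟨v, w, hvw, h1⟩ : ∃ v w, v ≠ w ∧ RegOn (MulAction.stabilizer G W) W ![v, w] := by
      by_cases h1 : t 0 = t 1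
      · obtain ⟨⟨u, hu⟩, h2⟩ := AddSubgroup.ne_bot_iff_exists_ne_zero.1 hW.ne_bot
        by_cases h3 : t 0 = 0
        · refine ⟨u, 0, fun e => h2 (Subtype.ext e), fun i => ?_, fun g hg _ => ht.2 g hg fun i => ?_⟩
          · fin_cases i
            exacts [hu, W.zero_mem]
          · fin_cases i
            · simp [h3]
            · simp [← h1, h3]
        · refine ⟨t 0, 0, h3, fun i => ?_, fun g hg h4 => ht.2 g hg fun i => ?_⟩
          · fin_cases i
            exacts [ht.1 0, W.zero_mem]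
          · fin_cases i
            exacts [h4 0, h1 ▸ h4 0]
      · refine ⟨t 0, t 1, h1, fun i => ?_, fun g hg h4 => ht.2 g hg fun i => ?_⟩
        · fin_cases i
          exacts [ht.1 0, ht.1 1]
        · fin_cases i
          exacts [h4 0, h4 1]
    have key : ∀ g ∈ MulAction.stabilizer G W, g • v = w → g • w = v → False := fun g hg a b => by
      have h2 : g ∈ MulAction.stabilizer G v := mem_of_pow_two_pow hG.1 (k := 1) (by
        rw [MulAction.mem_stabilizer_iff, pow_one, sq, mul_smul, a, b])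
      exact hvw (h2.symm.trans a)
    refine hW.reg hirr hc (fun j => cond j ![v, w] ![w, v]) (fun j => ?_) fun i j g hg h2 => ?_
    · cases j
      · refine ⟨fun i => ?_, fun g hg h4 => h1.2 g hg fun i => ?_⟩
        · fin_cases i
          exacts [h1.1 1, h1.1 0]
        · fin_cases i
          exacts [h4 1, h4 0]
      · exact h1
    · cases i <;> cases j
      · rfl
      · exact (key g hg (h2 1) (h2 0)).elim
      · exact (key g hg (h2 0) (h2 1)).elim
      · rfl

end CF.Fgs2.Base
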