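import Cfsg.Agent.Fgs2.Base5
import Cfsg.Agent.Classical.MaxL2

/-! Bases for linear groups: five regular orbits for free, and colourings with few colours. -/

set_option autoImplicit false

namespace CF.Fgs2.Base

open Subgroup CF.Perm CF.Transfer
open scoped Pointwise commutatorElement

universe u

theorem five_of_perfect {L S T : Type*} [Group L] [Group.IsSolvable L] [Group S] [Finite S]
    [MulAction L T] [MulAction S T] (hc : ∀ (g : L) (σ : S) (t : T), g • σ • t = σ • g • t)
    (hS : _root_.commutator S = ⊤) {t : T} (ht : ∃ σ : S, σ • t ≠ t) :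
    ∃ s : Fin 5 → S, ∀ i j, ∀ g : L, g • s i • t = s j • t → i = j := by
  let R : Subgroup S :=
    { carrier := {σ | ∃ g : L, σ • t = g • t}
      one_mem' := ⟨1, by simp⟩
      mul_mem' := by
        rintro a b ⟨g, hg⟩ ⟨k, hk⟩
        exact ⟨k * g, by rw [mul_smul, hk, ← hc, hg, mul_smul]⟩
      inv_mem' := by
        rintro a ⟨g, hg⟩
        exact ⟨g⁻¹, by rw [eq_inv_smul_iff, hc, ← hg, inv_smul_smul]⟩ }
  have := Fintype.ofFinite (S ⧸ R)
  have hd : ∀ n, derivedSeries S n = ⊤ := fun n => by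
    induction n with
    | zero => rfl
    | succ n ih => rw [derivedSeries_succ, ih]; exact hS
  rcases le_or_gt 5 (Fintype.card (S ⧸ R)) with h | h
  · obtain ⟨e⟩ := Function.Embedding.nonempty_of_card_le (α := Fin 5) (by simpa using h)
    refine ⟨fun i => (e i).out, fun i j g hg => e.injective ?_⟩
    rw [← (e i).out_eq, ← (e j).out_eq]
    exact QuotientGroup.eq.2 ⟨g, by rw [mul_smul, ← hg, hc, inv_smul_smul]⟩
  obtain ⟨e⟩ := Function.Embedding.nonempty_of_card_le (α := S ⧸ R) (β := Fin 4)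
    (by simpa using Nat.lt_succ_iff.1 h)
  obtain ⟨n, hn⟩ := CF.Classical.isSolvable_S4.solvable
  have h1 : ∀ σ, σ ∈ R := fun σ => by
    have h2 := map_derivedSeries_le_derivedSeries
      ((Equiv.Perm.viaEmbeddingHom e).comp (MulAction.toPermHom S (S ⧸ R))) n ⟨σ, hd n ▸ trivial, rfl⟩
    rw [hn, mem_bot, MonoidHom.comp_apply, map_eq_one_iff _
      (Equiv.Perm.viaEmbeddingHom_injective e)] at h2
    have h3 : ((σ * 1 : S) : S ⧸ R) = (1 : S) := DFunLike.congr_fun h2 ((1 : S) : S ⧸ R)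
    simpa using QuotientGroup.eq.1 h3
  have h2 : ∀ n, ∀ σ : S, ∃ g ∈ derivedSeries L n, σ • t = g • t := fun n => by
    induction n with
    | zero => exact fun σ => (h1 σ).imp fun g hg => ⟨trivial, hg⟩
    | succ n ih =>
      intro σ
      have h3 : σ ∈ _root_.commutator S := hS ▸ trivial
      rw [commutator_eq_closure] at h3
      induction h3 using closure_induction with
      | mem x hx =>
        obtain ⟨a, b, rfl⟩ := hx
        obtain ⟨g, h4, h5⟩ := ih a
        obtain ⟨k, h6, h7⟩ := ih b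
        refine ⟨⁅k⁻¹, g⁻¹⁆, commutator_mem_commutator (inv_mem h6) (inv_mem h4), ?_⟩
        have h8 : a⁻¹ • t = g⁻¹ • t := by rw [eq_inv_smul_iff, hc, ← h5, inv_smul_smul]
        have h9 : b⁻¹ • t = k⁻¹ • t := by rw [eq_inv_smul_iff, hc, ← h7, inv_smul_smul]
        simp only [commutatorElement_def, mul_smul, h9, ← hc, h8, h7, h5, inv_inv]
      | one => exact ⟨1, one_mem _, by simp⟩
      | mul x y _ _ hx hy =>
        obtain ⟨g, h4, h5⟩ := hx
        obtain ⟨k, h6, h7⟩ := hy
        exact ⟨k * g, mul_mem h6 h4, by rw [mul_smul, h7, ← hc, h5, mul_smul]⟩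
      | inv x _ hx =>
        obtain ⟨g, h4, h5⟩ := hx
        exact ⟨g⁻¹, inv_mem h4, by rw [eq_inv_smul_iff, hc, ← h5, inv_smul_smul]⟩
  obtain ⟨σ, hσ⟩ := ht
  obtain ⟨m, hm⟩ := ‹Group.IsSolvable L›.solvable
  obtain ⟨g, h3, h4⟩ := h2 m σ
  rw [hm, mem_bot] at h3
  exact absurd (by rw [h4, h3, one_smul]) hσ

section triples

variable {G V : Type*} [Group G] [AddCommGroup V] [DistribMulAction G V]

/-- an elementary operation on triples -/
def el (V : Type*) [AddCommGroup V] {i j : Fin 3} (h : i ≠ j) : Equiv.Perm (Fin 3 → V) where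
  toFun t := Function.update t i (t i + t j)
  invFun t := Function.update t i (t i - t j)
  left_inv t := by simp [Function.update_of_ne h.symm]
  right_inv t := by simp [Function.update_of_ne h.symm]

theorem five_reg [Finite V] {H : Subgroup G} [Group.IsSolvable H] {W : AddSubgroup V} (hW : W ≠ ⊥)
    {t : Fin 3 → V} (h : RegOn H W t) : ∃ s : Fin 5 → Fin 3 → V, (∀ j, RegOn H W (s j)) ∧
      ∀ i j, ∀ n ∈ H, (∀ l, n • s i l = s j l) → i = j := by
  wlog ht : t ≠ 0 generalizing t
  · obtain ⟨⟨w, hw⟩, h1⟩ := AddSubgroup.ne_bot_iff_exists_ne_zero.1 hW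
    refine this (t := fun _ => w) ⟨fun _ => hw, fun g hg _ => h.2 g hg fun i => ?_⟩
      fun e => h1 (Subtype.ext (congrFun e 0))
    rw [not_not.1 ht, Pi.zero_apply, smul_zero]
  let E : Set (Equiv.Perm (Fin 3 → V)) := {σ | ∃ i j, ∃ h : i ≠ j, σ = el V h}
  have h1 : ∀ σ ∈ closure E, (∀ (g : G) t, g • σ t = σ (g • t)) ∧
      ∀ t, (∀ i, t i ∈ W) ↔ ∀ i, σ t i ∈ W := fun σ hσ => by
    induction hσ using closure_induction with
    | mem x hx =>
      obtain ⟨i, j, h, rfl⟩ := hx
      refine ⟨fun g t => funext fun l => ?_, fun t => ⟨fun h2 l => ?_, fun h2 l => ?_⟩⟩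
      · by_cases e : l = i <;> simp [el, e]
      · by_cases e : l = i
        · simpa [el, e] using W.add_mem (h2 i) (h2 j)
        · simpa [el, e] using h2 l
      · by_cases e : l = i
        · simpa [el, e, h.symm] using W.sub_mem (h2 i) (h2 j)
        · simpa [el, e] using h2 l
    | one => exact ⟨fun _ _ => rfl, fun _ => Iff.rfl⟩
    | mul x y _ _ hx hy =>
      exact ⟨fun g t => (hx.1 g _).trans (congrArg x (hy.1 g t)), fun t => (hy.2 t).trans (hx.2 _)⟩
    | inv x _ hx =>
      refine ⟨fun g t => x.injective ?_, fun t => ?_⟩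
      · rw [← hx.1]; simp
      · rw [hx.2 (x⁻¹ t)]; simp
  obtain ⟨s, hs⟩ := five_of_perfect (L := H) (S := closure E) (t := t)
    (fun g σ t => (h1 σ σ.2).1 g t) (by
      refine eq_top_iff.2 ((closure_closure_coe_preimage (k := E)).ge.trans ((closure_le _).2 ?_))
      rintro ⟨_, hx⟩ ⟨i, j, h, rfl⟩
      obtain ⟨k, h2, h3⟩ : ∃ k, i ≠ k ∧ k ≠ j := by clear hx; revert i j; decide
      refine Set.mem_of_eq_of_mem ?_ <| commutator_mem_commutator (mem_top (⟨el V h2, subset_closure
        ⟨_, _, h2, rfl⟩⟩ : Subgroup.closure E)) (mem_top ⟨el V h3, subset_closure ⟨_, _, h3, rfl⟩⟩)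
      refine Subtype.ext (Equiv.ext fun t => funext fun l => ?_)
      change el V h t l = el V h2 (el V h3 ((el V h2).symm ((el V h3).symm t))) l
      by_cases e : l = i
      · simp [el, e, h2, h2.symm, h3.symm, h.symm]; abel
      by_cases e' : l = k <;> simp [el, e, e', h2, h2.symm, h3.symm, h.symm]) (by
      obtain ⟨j, hj⟩ := Function.ne_iff.1 ht
      obtain ⟨i, hi⟩ := exists_ne j
      exact ⟨⟨el V hi, subset_closure ⟨_, _, hi, rfl⟩⟩, fun e => hj (by
        simpa [el] using (show el V hi t i = t i from congrFun e i))⟩)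
  refine ⟨fun j => (s j).1 t, fun j => ⟨((h1 _ (s j).2).2 t).1 h.1, fun g hg h2 => h.2 g hg fun i =>
    congrFun ((s j).1.injective (((h1 _ (s j).2).1 g t).symm.trans (funext h2))) i⟩,
      fun i j n hn h2 => hs i j ⟨n, hn⟩ (funext h2)⟩

end triples

section col

variable {G : Type*} [Group G]

theorem Col.comp {L H : Subgroup G} {κ κ' : Type*} {c : G → κ} (h : Col L H c) {f : κ → κ'}
    (hf : Function.Injective f) : Col L H (f ∘ c) :=
  ⟨fun g k hk => congrArg f (h.1 g k hk), fun x hx h1 => h.2 x hx fun g hg => hf (h1 g hg)⟩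

theorem Col.five {L H : Subgroup G} [Group.IsSolvable L] {c : G → Fin 5} (h : Col L H c) :
    ∃ d : Fin 5 → G → Fin 5, (∀ j, Col L H (d j)) ∧
      ∀ i j, ∀ x ∈ L, (∀ g ∈ L, d i (x * g) = d j g) → i = j := by
  letI : MulAction L (L → Fin 5) := arrowAction
  obtain ⟨s, hs⟩ := five_of_perfect (L := L) (S := alternatingGroup (Fin 5)) (t := fun g : L => c g)
    (fun _ _ _ => rfl) (commutator_alternatingGroup_eq_top (by simp)) (by
      obtain ⟨σ, h1⟩ : ∃ σ : alternatingGroup (Fin 5), σ.1 (c 1) ≠ c 1 := by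
        generalize c 1 = x
        exact ⟨⟨finRotate 5, Equiv.Perm.mem_alternatingGroup.2 (by decide)⟩, by revert x; decide⟩
      exact ⟨σ, fun e => h1 (congrFun e 1)⟩)
  exact ⟨fun j => (s j).1 ∘ c, fun j => h.comp (s j).1.injective, fun i j x hx h1 =>
    hs i j ⟨x, hx⟩⁻¹ (funext fun g => by
      change (s i).1 (c (x⁻¹⁻¹ * g)) = _
      rw [inv_inv]
      exact h1 g g.2)⟩

theorem Col.three [Finite G] (hG : (Nat.card G).Coprime 3) {L H : Subgroup G} {c : G → Fin 3}
    (h : Col L H c) : ∃ d : Fin 3 → G → Fin 3, (∀ j, Col L H (d j)) ∧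
      ∀ i j, ∀ x ∈ L, (∀ g ∈ L, d i (x * g) = d j g) → i = j := by
  refine ⟨fun j => (j + ·) ∘ c, fun j => h.comp (add_right_injective j), fun i j x hx h1 => ?_⟩
  have h2 : ∀ n : ℕ, c (x ^ n) = c 1 + n • (j - i) := fun n => by
    induction n with
    | zero => simp
    | succ n ih =>
      have := h1 _ (L.pow_mem hx n)
      simp only [Function.comp] at this
      rw [pow_succ', succ_nsmul, ← add_assoc, ← ih, eq_sub_of_add_eq' this]
      abel
  have h3 := h2 (Nat.card G)
  rw [pow_card_eq_one', left_eq_add] at h3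
  have h4 := (hG.coprime_dvd_right (by simpa using addOrderOf_dvd_card (x := j - i))).symm
    |>.eq_one_of_dvd (addOrderOf_dvd_of_nsmul_eq_zero h3)
  exact (sub_eq_zero.1 (AddMonoid.addOrderOf_eq_one_iff.1 h4)).symm

theorem Col.index_core [Finite G] [Group.IsSolvable G] {H : Subgroup G} {c : G → Fin 5}
    (h : Col ⊤ H c) : 5 * H.normalCore.index ≤ 5 ^ H.index := by
  obtain ⟨d, h1, h2⟩ := h.five
  have key : ∀ j (x g : G), d j (x * (g : G ⧸ H).out) = d j (x * g) := fun j x g => by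
    obtain ⟨k, hk⟩ := QuotientGroup.mk_out_eq_mul H g
    rw [hk, ← mul_assoc, (h1 j).1 _ _ k.2]
  have := Nat.card_le_card_of_injective (α := Fin 5 × G ⧸ H.normalCore) (β := G ⧸ H → Fin 5)
    (fun x y => d x.1 (x.2.out⁻¹ * y.out)) fun ⟨i, x⟩ ⟨j, y⟩ e => by
      have h3 : ∀ g ∈ (⊤ : Subgroup G), d i (x.out⁻¹ * y.out * g) = d j g := fun g _ => by
        simpa only [key, mul_assoc, inv_mul_cancel_left] using congrFun e (y.out * g : G)
      obtain rfl := h2 i j _ trivial h3
      refine Prod.ext rfl ?_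
      rw [← x.out_eq, ← y.out_eq]
      exact QuotientGroup.eq.2 fun g => by simpa using (h1 i).2 _ trivial h3 g⁻¹ trivial
  rwa [Nat.card_prod, Nat.card_fun, Nat.card_fin] at this

end col

theorem card_inv_fun {Q κ : Type*} [Finite Q] [Finite κ] [Nonempty κ] (T : Equiv.Perm Q) :
    Nat.card {γ : Q → κ // ∀ q, γ (T q) = γ q} ^ 2 ≤
      Nat.card κ ^ (Nat.card Q + Nat.card {q // T q = q}) := by
  classical
  let O := Quotient (MulAction.orbitRel (zpowers T) Q)
  have h1 : Nat.card {γ : Q → κ // ∀ q, γ (T q) = γ q} ≤ Nat.card κ ^ Nat.card O := by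
    rw [← Nat.card_fun]
    refine Nat.card_le_card_of_injective (fun γ ω => γ.1 ω.out) fun γ γ' e => Subtype.ext
      (funext fun q => ?_)
    have key : ∀ γ : {γ : Q → κ // ∀ q, γ (T q) = γ q}, γ.1 (⟦q⟧ : O).out = γ.1 q := fun γ => by
      obtain ⟨⟨σ, hσ⟩, e⟩ := Quotient.mk_out (s := MulAction.orbitRel (zpowers T) Q) q
      rw [← e]
      obtain ⟨n, rfl⟩ := mem_powers_iff_mem_zpowers.2 hσ
      change γ.1 ((T ^ n) q) = _
      clear e hσ
      induction n with
      | zero => rfl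
      | succ n ih => rw [pow_succ', Equiv.Perm.mul_apply, γ.2, ih]
    rw [← key, ← key γ']
    exact congrFun e _
  have h2 : ∀ ω : O, (⟦T ω.out⟧ : O) = ω := fun ω =>
    (Quotient.sound (MulAction.orbitRel_apply.2 ⟨⟨T, mem_zpowers T⟩, rfl⟩)).trans ω.out_eq
  have h3 := Nat.card_le_card_of_injective (α := O ⊕ O) (β := Q ⊕ {q // T q = q})
    (Sum.elim (fun ω => .inl ω.out) fun ω =>
      if h : T ω.out = ω.out then .inr ⟨_, h⟩ else .inl (T ω.out)) (by
    rintro (ω | ω) (ω' | ω') e <;> simp only [Sum.elim_inl, Sum.elim_inr] at e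
    · exact congrArg _ (Quotient.out_injective (Sum.inl.inj e))
    · split_ifs at e with h
      have e' := Sum.inl.inj e
      obtain rfl : ω = ω' := by rw [← h2 ω', ← e', ω.out_eq]
      exact absurd e'.symm h
    · split_ifs at e with h
      have e' := Sum.inl.inj e
      obtain rfl : ω = ω' := by rw [← h2 ω, e', ω'.out_eq]
      exact absurd e' h
    · split_ifs at e
      · exact congrArg _ (Quotient.out_injective (congrArg Subtype.val (Sum.inr.inj e)))
      · exact congrArg _ (Quotient.out_injective (T.injective (Sum.inl.inj e))))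
  rw [Nat.card_sum, Nat.card_sum] at h3
  calc _ ≤ (Nat.card κ ^ Nat.card O) ^ 2 := by gcongr
    _ ≤ _ := by rw [← pow_mul]; exact Nat.pow_le_pow_right Nat.card_pos (by omega)

end CF.Fgs2.Base
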