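import Cfsg.Agent.Fgs2.Base6
import Cfsg.Agent.Fgs2.AutP

/-! Bases for linear groups: isometries of finite symplectic groups. -/

set_option autoImplicit false

namespace CF.Fgs2.Base

open Subgroup CF.Perm CF.Transfer
open scoped Pointwise commutatorElement

variable {Q K : Type*} [CommGroup Q] [Field K] {β : Q →* Q →* Kˣ} {f t t' : MulAut Q} {x y : Q}
  {X U W : Subgroup Q}

/-- alternating forms -/
def Alt (β : Q →* Q →* Kˣ) : Prop := ∀ x, β x x = 1

theorem mem_perp : y ∈ perp β X ↔ ∀ x ∈ X, β x y = 1 := Iff.rfl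

theorem perp_anti (h : X ≤ U) : perp β U ≤ perp β X := fun _ hy x hx => hy x (h hx)

theorem mem_perp_zpowers : y ∈ perp β (zpowers x) ↔ β x y = 1 :=
  ⟨fun h => h x (mem_zpowers x), by rintro h _ ⟨n, rfl⟩; simp [h]⟩

namespace Alt

variable (h : Alt β)
include h

theorem symm (x y : Q) : β x y * β y x = 1 := by
  have h1 := h (x * y)
  simpa only [map_mul, MonoidHom.mul_apply, h x, h y, one_mul, mul_one, mul_comm] using h1

theorem symm' (h1 : β x y = 1) : β y x = 1 := by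
  have := h.symm x y
  rwa [h1, one_mul] at this

theorem le_perp_comm (h1 : X ≤ perp β U) : U ≤ perp β X := fun _ hu _ hx => h.symm' (h1 hx _ hu)

theorem index_perp [Finite Q] (X : Subgroup Q) : (perp β X).index = (perp β ⊤).relIndex X := by
  refine le_antisymm ?_ (card_le_index_of_chars (ι := X ⧸ (perp β ⊤).subgroupOf X)
    (fun q => β q.out) (fun q r e => ?_) _ fun q y hy => hy _ q.out.2)
  · refine card_le_index_of_chars (Q := X) (ι := Q ⧸ perp β X)
      (fun q => (β.flip q.out).comp X.subtype) (fun q r e => ?_) _ fun i y hy => h.symm' (hy _ trivial)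
    rw [← q.out_eq, ← r.out_eq]
    refine QuotientGroup.eq.2 fun x hx => ?_
    have : β x q.out = β x r.out := DFunLike.congr_fun e ⟨x, hx⟩
    rw [map_mul, map_inv, this, inv_mul_cancel]
  · rw [← q.out_eq, ← r.out_eq]
    refine QuotientGroup.eq.2 fun z _ => h.symm' ?_
    have : β q.out = β r.out := e
    rw [map_mul, map_inv, subtype_apply, subtype_apply, map_mul, map_inv, this, inv_mul_cancel]; rfl

theorem exists_lag [Finite Q] : ∃ B, perp β B = B := by
  obtain ⟨B, h1, h2⟩ := exists_maximal_of_wellFoundedGT (fun B : Subgroup Q => B ≤ perp β B)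
    ⟨⊥, bot_le⟩
  refine ⟨B, le_antisymm (fun y hy => h2 (y := B ⊔ zpowers y) (fun z hz x hx => ?_) le_sup_left
      (mem_sup_right (mem_zpowers y))) h1⟩
  have h4 : B ⊔ zpowers y ≤ perp β B ⊓ perp β (zpowers y) := sup_le (le_inf h1
    (h.le_perp_comm (zpowers_le.2 hy))) (zpowers_le.2 ⟨hy, mem_perp_zpowers.2 (h y)⟩)
  obtain ⟨a, ha, b, hb, rfl⟩ := mem_sup.1 hx
  rw [map_mul, MonoidHom.mul_apply, (h4 hz).1 a ha, (h4 hz).2 b hb, one_mul]

theorem sq [Finite Q] : ∃ e, (perp β ⊤).index = e ^ 2 := by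
  obtain ⟨B, hB⟩ := h.exists_lag
  refine ⟨B.index, ?_⟩
  rw [← relIndex_mul_index ((perp_anti le_top).trans hB.le), ← h.index_perp, hB, pow_two]

theorem sq_of_inf [Finite Q] (hX : X ⊓ perp β X = ⊥) : ∃ e, Nat.card X = e ^ 2 := by
  obtain ⟨e, he⟩ := Alt.sq (Q := X) (β := (β.compl₂ (X.subtype : X →* Q)).comp (M := X) X.subtype)
    fun x => h x
  refine ⟨e, he ▸ (index_bot (G := X)).symm.trans (congrArg _ (eq_bot_iff.2 fun x hx => ?_).symm)⟩
  exact Subtype.ext (mem_bot.1 (hX.le ⟨x.2, fun y hy => hx ⟨y, hy⟩ trivial⟩))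

end Alt

/-- non-degenerate alternating forms -/
structure ND (β : Q →* Q →* Kˣ) : Prop where
  alt : Alt β
  top : perp β ⊤ = ⊥

theorem Sy.nd {G : Type*} [Group G] {C : Subgroup G} {φ : G →* MulAut Q} (h : Sy C φ β) : ND β :=
  ⟨h.alt, h.perp_top⟩

/-- isometries -/
def Iso (β : Q →* Q →* Kˣ) (f : MulAut Q) : Prop := ∀ x y, β (f x) (f y) = β x y

theorem Iso.mul (h : Iso β f) (k : Iso β t) : Iso β (f * t) := fun x y => (h _ _).trans (k x y)

theorem Iso.inv (h : Iso β f) : Iso β f⁻¹ := fun x y => by rw [← h]; simp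

theorem Iso.pow (h : Iso β f) (n : ℕ) : Iso β (f ^ n) := by
  induction n with
  | zero => exact fun _ _ => rfl
  | succ n ih => exact pow_succ f n ▸ ih.mul h

theorem Iso.perp_inv (h : Iso β f) (hX : ∀ x ∈ X, f⁻¹ x ∈ X) (hy : y ∈ perp β X) :
    f y ∈ perp β X := fun x hx => by
  rw [← h.inv, MulAut.inv_apply_self, hy _ (hX x hx)]

/-- the commutator map of an automorphism -/
def dl (f : MulAut Q) : Q →* Q where
  toFun y := f y * y⁻¹
  map_one' := by simp
  map_mul' a b := by rw [map_mul, mul_inv, mul_mul_mul_comm]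

theorem dl_apply (f : MulAut Q) (y : Q) : dl f y = f y * y⁻¹ := rfl

theorem apply_eq (f : MulAut Q) (y : Q) : f y = dl f y * y := by simp [dl_apply]

theorem dl_eq_one : dl f y = 1 ↔ f y = y := mul_inv_eq_one

theorem mem_ker_dl : y ∈ (dl f).ker ↔ f y = y := dl_eq_one

theorem card_ker_mul [Finite Q] (f : MulAut Q) :
    Nat.card (dl f).ker * Nat.card (dl f).range = Nat.card Q := by
  rw [← index_ker, card_mul_index]

theorem eq_one_of_ker (h : (dl f).ker = ⊤) : f = 1 :=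
  MulEquiv.ext fun y => mem_ker_dl.1 (h.ge (mem_top y))

theorem dl_conj (g f : MulAut Q) (y : Q) : dl (g * f * g⁻¹) y = g (dl f (g⁻¹ y)) := by
  simp [dl_apply]

theorem range_conj (g f : MulAut Q) :
    (dl (g * f * g⁻¹)).range = (dl f).range.map g.toMonoidHom := by
  ext y
  exact ⟨by rintro ⟨y, rfl⟩; exact ⟨_, ⟨_, rfl⟩, (dl_conj g f y).symm⟩,
    by rintro ⟨_, ⟨y, rfl⟩, rfl⟩; exact ⟨g y, by simp [dl_conj]⟩⟩

theorem card_range_conj (g f : MulAut Q) :
    Nat.card (dl (g * f * g⁻¹)).range = Nat.card (dl f).range := by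
  rw [range_conj, card_map_of_injective g.injective]

theorem card_ker_conj [Finite Q] (g f : MulAut Q) :
    Nat.card (dl (g * f * g⁻¹)).ker = Nat.card (dl f).ker :=
  Nat.eq_of_mul_eq_mul_right (Nat.card_pos (α := (dl f).range))
    (by rw [card_ker_mul, ← card_range_conj g, card_ker_mul])

theorem pow_apply_of_fix (h : f (dl f y) = dl f y) (n : ℕ) : (f ^ n) y = dl f y ^ n * y := by
  induction n with
  | zero => simp
  | succ n ih => rw [pow_succ', MulAut.mul_apply, ih, map_mul, map_pow, h, apply_eq f y, pow_succ,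
      mul_assoc]

theorem fix_of_coprime {m n : ℕ} (h : f (dl f y) = dl f y) (h1 : f ^ n = 1) (h2 : dl f y ^ m = 1)
    (c : m.Coprime n) : f y = y := by
  have h3 := pow_apply_of_fix h n
  rw [h1, MulAut.one_apply, eq_comm, mul_eq_right] at h3
  rw [← dl_eq_one, ← pow_one (dl f y), ← c.gcd_eq_one]
  exact pow_gcd_eq_one.2 ⟨h2, h3⟩

theorem le_of_four {G : Type*} [Group G] {U W : Subgroup G} {a b : G} (hU : Nat.card U = 4)
    (ha : a ∈ U) (hb : b ∈ U) (a1 : a ≠ 1) (b1 : b ≠ 1) (ab : a ≠ b) (ha' : a ∈ W) (hb' : b ∈ W) :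
    U ≤ W := by
  have : Finite U := Nat.finite_of_card_ne_zero (by omega)
  have h1 := card_dvd_of_le (inf_le_left : U ⊓ W ≤ U)
  have : Finite (U ⊓ W : Subgroup G) := Nat.finite_of_card_ne_zero fun e => by
    rw [e, hU] at h1; omega
  have h2 : 2 < Nat.card (U ⊓ W : Subgroup G) := (Set.two_lt_ncard_iff (Set.toFinite _)).2
    ⟨1, a, b, one_mem _, ⟨ha, ha'⟩, ⟨hb, hb'⟩, a1.symm, b1.symm, ab⟩
  refine inf_eq_left.1 (eq_of_le_of_card_ge inf_le_left ?_)
  rw [hU] at h1 ⊢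
  have := Nat.le_of_dvd (by norm_num) h1
  generalize Nat.card (U ⊓ W : Subgroup G) = c at *
  interval_cases c <;> simp_all

namespace ND

variable [Finite Q] (h : ND β)
include h

omit [Finite Q] in
theorem nondeg (hx : ∀ y, β x y = 1) : x = 1 :=
  mem_bot.1 (h.top ▸ fun y _ => h.alt.symm' (hx y))

theorem index_perp (X : Subgroup Q) : (perp β X).index = Nat.card X := by
  rw [h.alt.index_perp, h.top, relIndex_bot_left]

theorem card_mul_perp (X : Subgroup Q) : Nat.card X * Nat.card (perp β X) = Nat.card Q := by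
  rw [← h.index_perp, index_mul_card]

theorem perp_perp (X : Subgroup Q) : perp β (perp β X) = X :=
  (eq_of_le_of_card_ge (h.alt.le_perp_comm le_rfl) (Nat.le_of_mul_le_mul_left
    (by rw [h.card_mul_perp, mul_comm, h.card_mul_perp]) (Nat.card_pos (α := perp β X)))).symm

omit [Finite Q] in
theorem perp_range (i : Iso β f) : perp β (dl f).range = (dl f).ker := by
  ext y
  refine ⟨fun hy => h.nondeg fun z => h.alt.symm' ?_, ?_⟩
  · have := hy _ ⟨f⁻¹ z, rfl⟩
    rw [dl_apply, map_mul, map_inv, MonoidHom.mul_apply, MonoidHom.inv_apply, ← i (f⁻¹ z),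
      MulAut.apply_inv_self, mul_inv_eq_one] at this
    rw [dl_apply, map_mul, map_inv, this, mul_inv_cancel]
  · rintro hy _ ⟨z, rfl⟩
    rw [dl_apply, map_mul, map_inv, MonoidHom.mul_apply, MonoidHom.inv_apply, ← i z,
      mem_ker_dl.1 hy, mul_inv_cancel]

theorem perp_ker (i : Iso β f) : perp β (dl f).ker = (dl f).range := by
  rw [← h.perp_range i, h.perp_perp]

theorem sup_perp (hX : X ⊓ perp β X = ⊥) : X ⊔ perp β X = ⊤ := by
  have h1 := relIndex_mul_index (le_sup_right : perp β X ≤ X ⊔ perp β X)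
  rw [relIndex_sup_right, ← inf_relIndex_left, hX, relIndex_bot_left, h.index_perp] at h1
  exact index_eq_one.1 ((Nat.mul_eq_left Nat.card_pos.ne').1 h1)

theorem ker_inf (i : Iso β f) {n : ℕ} (h1 : f ^ n = 1) (c : (Nat.card Q).Coprime n) :
    (dl f).ker ⊓ perp β (dl f).ker = ⊥ := by
  rw [h.perp_ker i, eq_bot_iff]
  rintro _ ⟨h2, y, rfl⟩
  exact dl_eq_one.2 (fix_of_coprime (mem_ker_dl.1 h2) h1 pow_card_eq_one' c)

theorem sq_ker (i : Iso β f) {n : ℕ} (h1 : f ^ n = 1) (c : (Nat.card Q).Coprime n) :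
    ∃ e, Nat.card (dl f).ker = e ^ 2 := h.alt.sq_of_inf (h.ker_inf i h1 c)

theorem sq_range (i : Iso β f) (a : ∀ y, β y (dl f y) = 1) : ∃ e, Nat.card (dl f).range = e ^ 2 := by
  obtain ⟨e, he⟩ := Alt.sq (β := β.compl₂ (dl f)) a
  refine ⟨e, ?_⟩
  rw [← he, ← index_ker]
  congr 1
  exact Subgroup.ext fun y => ⟨fun hy z _ => (congrArg (β z) hy).trans (map_one _),
    fun hy => mem_bot.1 (h.top ▸ hy)⟩

theorem card_prime_lt (T : Finset (MulAut Q))
    (hT : ∀ f ∈ T, Iso β f ∧ (Nat.card (dl f).range).Prime) : T.card < Nat.card Q := by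
  classical
  have := Fintype.ofFinite Q
  have h1 : ∀ U : Subgroup Q, ∃ y, U ≠ ⊥ → y ∉ perp β U := fun U => by
    by_contra! h1
    exact (h1 1).1 (by rw [← h.perp_perp U, (eq_top_iff (a := perp β U)).2 fun y _ => (h1 y).2, h.top])
  choose y hy using h1
  have h2 : ∀ f ∈ T, dl f (y (dl f).range) ≠ 1 := fun f hf e => hy _ (fun e' =>
    (hT f hf).2.ne_one (by rw [e', card_bot])) ((h.perp_range (hT f hf).1).ge e)
  have h3 : ∀ f ∈ T, zpowers (dl f (y (dl f).range)) = (dl f).range := fun f hf =>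
    eq_of_le_of_card_ge (zpowers_le.2 ⟨_, rfl⟩) (((Nat.dvd_prime (hT f hf).2).1
      (card_dvd_of_le (zpowers_le.2 ⟨_, rfl⟩))).resolve_left (mt (eq_bot_iff_card _).2
        (mt zpowers_eq_bot.1 (h2 f hf)))).ge
  refine (Finset.card_le_card_of_injOn (t := Finset.univ.erase 1) (fun f => dl f (y (dl f).range))
    (fun f hf => by simpa using h2 f hf) fun f hf g hg e => ?_).trans_lt (by
      rw [Nat.card_eq_fintype_card]; exact Finset.card_erase_lt_of_mem (Finset.mem_univ _))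
  have e' : (dl f).range = (dl g).range := by rw [← h3 f hf, ← h3 g hg]; exact congrArg _ e
  have h4 : (dl f).ker ≤ (dl f).eqLocus (dl g) := fun z hz => by
    have := (h.perp_range (hT g hg).1).le (e' ▸ (h.perp_range (hT f hf).1).ge hz)
    exact (MonoidHom.mem_ker.1 hz).trans (MonoidHom.mem_ker.1 this).symm
  have h5 := (Nat.dvd_prime (hT f hf).2).1 (index_ker (dl f) ▸ index_dvd_of_le h4)
  have h6 : (dl f).eqLocus (dl g) = ⊤ := index_eq_one.1 (h5.resolve_right fun e2 => h2 f hf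
    ((eq_of_le_of_card_ge h4 (Nat.le_of_mul_le_mul_right (by
      rw [← e2, card_mul_index, e2, card_ker_mul]) (hT f hf).2.pos)).ge
        (show dl f _ = dl g (y (dl f).range) from e.trans (by rw [e']))))
  exact MulEquiv.ext fun z => by rw [apply_eq f, apply_eq g, show dl f z = dl g z from h6.ge trivial]

theorem exists_pair {e : ℕ} (he : Nat.card Q = e ^ 2) (hs : Squarefree e) :
    ∃ x y : Q, Nat.card (perp β (zpowers x)) = e ∧ (e ≠ 1 → x ≠ 1) ∧
      ∀ f g : MulAut Q, f x = g x → f y = g y → f = g := by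
  obtain ⟨B, hB⟩ := h.alt.exists_lag
  have h1 : Nat.card B = e := by
    have := h.card_mul_perp B
    rwa [hB, he, ← pow_two, Nat.pow_left_inj two_ne_zero] at this
  have h2 : Nat.card (Q ⧸ B) = e := by rw [← h1, ← h.index_perp, hB]; rfl
  have := IsZGroup.of_squarefree (h1 ▸ hs)
  have := IsZGroup.of_squarefree (h2 ▸ hs)
  obtain ⟨x, hx⟩ := (IsCyclic.exists_generator (α := B))
  obtain ⟨y, hy⟩ := (IsCyclic.exists_generator (α := Q ⧸ B))
  have h3 : zpowers (x : Q) = B := le_antisymm (zpowers_le.2 x.2) fun b hb => by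
    obtain ⟨n, hn⟩ := hx ⟨b, hb⟩
    exact ⟨n, congrArg Subtype.val hn⟩
  obtain ⟨y, rfl⟩ := QuotientGroup.mk_surjective y
  refine ⟨x, y, by rw [h3, hB, h1], fun e1 e2 => e1 (by rw [← h1, ← h3, e2]; simp),
    fun f g a b => MulEquiv.ext fun z => ?_⟩
  obtain ⟨n, hn⟩ := hy z
  obtain ⟨m, hm⟩ := h3.ge (QuotientGroup.eq.1 ((QuotientGroup.mk_zpow B y n).trans hn))
  rw [← mul_inv_cancel_left (y ^ n) z, ← hm]
  simp [a, b]

theorem card_le_of_squarefree {e : ℕ} (he : Nat.card Q = e ^ 2) (hs : Squarefree e) (e1 : e ≠ 1)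
    (Γ : Subgroup (MulAut Q)) (hΓ : ∀ f ∈ Γ, Iso β f) : Nat.card Γ ≤ (e ^ 2 - 1) * e := by
  obtain ⟨x, y, h1, h2, h3⟩ := h.exists_pair he hs
  rw [← (MulAction.stabilizer Γ x).index_mul_card, MulAction.index_stabilizer]
  refine Nat.mul_le_mul ?_ (h1 ▸ Nat.card_le_card_of_injective (fun f => ⟨dl f.1 y,
    mem_perp_zpowers.2 ?_⟩) fun f g e => Subtype.ext (Subtype.ext (h3 _ _ (f.2.trans g.2.symm) ?_)))
  · rw [← he, ← Set.ncard_univ, ← Set.ncard_diff_singleton_of_mem (Set.mem_univ 1)]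
    refine Set.ncard_le_ncard ?_
    rintro _ ⟨f, rfl⟩
    exact ⟨trivial, fun e => h2 e1 (f.1.injective (e.trans (map_one _).symm))⟩
  · rw [dl_apply, map_mul, map_inv, ← hΓ _ f.1.2 x y, show f.1.1 x = x from f.2, mul_inv_cancel]
  · rw [apply_eq f.1.1, apply_eq g.1.1, show dl f.1.1 y = dl g.1.1 y from congrArg Subtype.val e]

end ND

/-- alternating involutions with commutator space of order four -/
structure A2 (β : Q →* Q →* Kˣ) (f : MulAut Q) : Prop where
  iso : Iso β f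
  alt : ∀ y, β y (dl f y) = 1
  two : ∀ y, dl f y * dl f y = 1
  card : Nat.card (dl f).range = 4

namespace A2

variable [Finite Q] (h : ND β) (a : A2 β t)
include h a

omit [Finite Q] in
theorem dl_dl (y : Q) : dl t (dl t y) = 1 := by
  refine MonoidHom.mem_ker.1 ((h.perp_range a.iso).le ?_)
  rintro _ ⟨x, rfl⟩
  have h1 := a.iso x y
  have h2 := a.alt (x * y)
  have h3 := h.alt.symm y (dl t x)
  have h4 : β x (dl t y) * β x (dl t y) = 1 := by rw [← map_mul, a.two, map_one]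
  simp only [apply_eq t x, apply_eq t y, map_mul, MonoidHom.mul_apply, a.alt, one_mul,
    mul_one] at h1 h2
  rw [mul_left_cancel (h3.trans h2.symm), mul_assoc, ← mul_assoc (β x _), h4, one_mul] at h1
  exact mul_eq_right.1 h1

omit [Finite Q] in
theorem sq : t * t = 1 := MulEquiv.ext fun y => by
  rw [MulAut.mul_apply, apply_eq t (t y), apply_eq t y, map_mul, a.dl_dl h, one_mul, ← mul_assoc,
    a.two, one_mul, MulAut.one_apply]

omit [Finite Q] h in
theorem ne_one : t ≠ 1 := fun e => by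
  have := a.card
  rw [(eq_bot_iff (a := (dl t).range)).2 (by rintro _ ⟨y, rfl⟩; simp [e, dl_apply]), card_bot] at this
  omega

omit [Finite Q] h in
theorem conj (i : Iso β f) : A2 β (f * t * f⁻¹) :=
  ⟨(i.mul a.iso).mul i.inv, fun y => by rw [dl_conj, ← i.inv, MulAut.inv_apply_self, a.alt],
    fun y => by rw [dl_conj, ← map_mul, a.two, map_one], (card_range_conj f t).trans a.card⟩

omit [Finite Q] in
theorem eq_of {u : Q} (hu : u ∈ (dl t).range) (u1 : u ≠ 1) (e : β y u = 1) (h1 : dl t y ≠ 1) :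
    dl t y = u := by_contra fun h2 => h1 ((h.perp_range a.iso).le (h.alt.le_perp_comm
      (le_of_four a.card ⟨y, rfl⟩ hu h1 u1 h2 (mem_perp_zpowers.2 (a.alt y))
        (mem_perp_zpowers.2 e)) (mem_zpowers y)))

omit [Finite Q] in
theorem ext (b : A2 β t') (e : (dl t).range = (dl t').range) : t = t' := MulEquiv.ext fun y => by
  have h1 : (dl t).ker = (dl t').ker := by rw [← h.perp_range a.iso, e, h.perp_range b.iso]
  rw [apply_eq t, apply_eq t']
  by_cases h2 : dl t y = 1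
  · rw [h2, MonoidHom.mem_ker.1 (h1.le h2)]
  rw [a.eq_of h (e.ge ⟨y, rfl⟩) (fun h3 => h2 (h1.ge h3)) (b.alt y) h2]

omit [Finite Q] in
theorem cube (b : A2 β t') {n : ℕ} (hn : Odd n) (e : (t * t') ^ n = 1) : (t * t') ^ 3 = 1 := by
  have d : ∀ y, dl (t * t') y = dl t (dl t' y) * dl t y * dl t' y := fun y => by
    rw [dl_apply, MulAut.mul_apply, apply_eq t, apply_eq t' y, map_mul, ← mul_assoc,
      mul_inv_cancel_right]
  have key : (∀ y, dl (t * t') (dl (t * t') (dl (t * t') (dl (t * t') y))) = 1) →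
      (t * t') ^ 3 = 1 := fun h1 => by
    have h2 : ∀ y, dl (t * t') (dl (t * t') y) = 1 → dl (t * t') y = 1 := fun y h3 =>
      dl_eq_one.2 (fix_of_coprime (m := 2) (dl_eq_one.1 h3) e (by
        rw [d, mul_pow, mul_pow, pow_two, pow_two, pow_two, a.two, a.two, b.two]; simp)
          (Nat.coprime_two_left.2 hn))
    rw [MulEquiv.ext (g := 1) fun y => dl_eq_one.1 (h2 _ (h2 _ (h2 _ (h1 y)))), one_pow]
  have deg : ∀ {t t' : MulAut Q}, A2 β t → A2 β t' → ∀ u ∈ (dl t').range, u ≠ 1 → dl t u = 1 →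
      ∀ y, dl t (dl t' (dl t y)) = 1 := fun {t t'} a b u hu u1 h1 y => by
    by_cases h2 : dl t' (dl t y) = 1
    · rw [h2, map_one]
    rw [b.eq_of h hu u1 ((h.perp_range a.iso).ge h1 _ ⟨y, rfl⟩) h2, h1]
  have nd : ∀ {t t' : MulAut Q}, A2 β t → (∀ u ∈ (dl t').range, u ≠ 1 → dl t u ≠ 1) →
      (∀ u ∈ (dl t).range, u ≠ 1 → dl t' u ≠ 1) → A2 β t' → ∀ y, dl t (dl t' (dl t y)) = dl t y :=
    fun {t t'} a h1 h2 b y => by
    by_cases h3 : dl t y = 1
    · rw [h3, map_one, map_one]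
    exact a.eq_of h ⟨y, rfl⟩ h3 (h.alt.symm' (b.alt _)) (h1 _ ⟨_, rfl⟩ (h2 _ ⟨y, rfl⟩ h3))
  by_cases h1 : ∀ u ∈ (dl t').range, u ≠ 1 → dl t u ≠ 1
  swap
  · push Not at h1
    obtain ⟨u, h1, h2, h3⟩ := h1
    exact key fun y => by simp [d, a.dl_dl h, b.dl_dl h, deg a b u h1 h2 h3]
  by_cases h2 : ∀ u ∈ (dl t).range, u ≠ 1 → dl t' u ≠ 1
  swap
  · push Not at h2
    obtain ⟨u, h1, h2, h3⟩ := h2
    exact key fun y => by simp [d, a.dl_dl h, b.dl_dl h, deg b a u h1 h2 h3]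
  have h3 : t * t' * t = t' * t * t' := MulEquiv.ext fun y => by
    simp only [MulAut.mul_apply]
    rw [apply_eq t, apply_eq t' (t y), apply_eq t y, apply_eq t' (t _), apply_eq t (t' y),
      apply_eq t' y]
    simp only [map_mul, a.dl_dl h, b.dl_dl h, nd a h1 h2 b, nd b h2 h1 a, one_mul]
    calc _ = dl t y * dl t y * (dl t y * dl t' y * dl t (dl t' y) * dl t' (dl t y) * y) := by ac_rfl
      _ = dl t' y * dl t' y * (dl t y * dl t' y * dl t (dl t' y) * dl t' (dl t y) * y) := by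
        rw [a.two, b.two]
      _ = _ := by ac_rfl
  calc _ = t * t' * t * (t' * t * t') := by rw [pow_three]; group
    _ = t' * (t * (t' * t') * t) * t' := by rw [h3]; group
    _ = 1 := by rw [b.sq h, mul_one, a.sq h, mul_one, b.sq h]

end A2

theorem exists_inv_fitting {Γ : Type*} [Group Γ] [Finite Γ] [Group.IsSolvable Γ]
    (h : Cfsg.pCore 2 Γ = ⊥) {t : Γ} (h1 : t * t = 1) (h2 : t ≠ 1) :
    ∃ y ∈ Cfsg.fittingSubgroup Γ, (orderOf y).Prime ∧ orderOf y ≠ 2 ∧ t * y * t⁻¹ = y⁻¹ := by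
  have key : ∀ y ∈ Cfsg.fittingSubgroup Γ, orderOf y ≠ 2 := fun y hy e => by
    have := CF.Solv.le_pCore_of_le_fitting (p := 2) (IsPGroup.of_card (n := 1)
      ((Nat.card_zpowers y).trans e)) (zpowers_le.2 hy) (mem_zpowers y)
    rw [h, mem_bot] at this
    simp [this] at e
  obtain ⟨x, hx, e⟩ : ∃ x ∈ Cfsg.fittingSubgroup Γ, x * t ≠ t * x := by
    by_contra! e
    exact key t (CF.Solv.centralizer_fitting_le e) (orderOf_eq_prime (by rwa [pow_two]) h2)
  have h3 : x⁻¹ * (t * x * t⁻¹) ≠ 1 := fun e' => e (by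
    rw [inv_mul_eq_one, eq_mul_inv_iff_mul_eq] at e'; exact e')
  obtain ⟨p, hp, k, hk⟩ := Nat.exists_prime_and_dvd (mt orderOf_eq_one_iff.1 h3)
  have h4 := pow_mem (mul_mem (inv_mem hx) ((CF.Solv.fitting_normal Γ).conj_mem x hx t)) k
  refine ⟨_, h4, ?_, key _ h4, ?_⟩
  · rwa [orderOf_pow, hk, Nat.gcd_mul_left_left, Nat.mul_div_cancel _ (Nat.pos_of_ne_zero fun e =>
      (orderOf_pos _).ne' (by rw [hk, e, mul_zero]))]
  · rw [← conj_pow, ← inv_pow]
    congr 1
    calc _ = t * x⁻¹ * t⁻¹ * (t * t) * x * (t * t)⁻¹ := by group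
      _ = _ := by rw [h1]; group

namespace ND

variable [Finite Q] (h : ND β)
include h

omit [Finite Q] in
theorem three_fit {Γ : Subgroup (MulAut Q)} [Finite Γ] [Group.IsSolvable Γ] (i : ∀ f ∈ Γ, Iso β f)
    (o : Cfsg.pCore 2 Γ = ⊥) (ht : t ∈ Γ) (a : A2 β t) :
    ∃ y ∈ Cfsg.fittingSubgroup Γ, orderOf y = 3 := by
  obtain ⟨y, h0, h1, h2, h3⟩ := exists_inv_fitting o (t := ⟨t, ht⟩) (Subtype.ext (a.sq h))
    fun e => a.ne_one (congrArg Subtype.val e)
  have h4 : t * (y.1⁻¹ * t * y.1⁻¹⁻¹) = y.1 ^ 2 := by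
    have h5 : t * y * t⁻¹ = y.1⁻¹ := congrArg Subtype.val h3
    calc _ = (t * y * t⁻¹)⁻¹ * (t * t) * y := by group
      _ = _ := by rw [h5, a.sq h, inv_inv, mul_one, pow_two]
  have h5 := a.cube h (a.conj (i _ y.2).inv) (h1.odd_of_ne_two h2) (by
    rw [h4, ← pow_mul, mul_comm, pow_mul, ← coe_pow, pow_orderOf_eq_one]; simp)
  rw [h4, ← pow_mul, ← coe_pow, OneMemClass.coe_eq_one, ← orderOf_dvd_iff_pow_eq_one,
    h1.dvd_mul, Nat.prime_dvd_prime_iff_eq h1 Nat.prime_two,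
    Nat.prime_dvd_prime_iff_eq h1 Nat.prime_three] at h5
  exact ⟨y, h0, h5.resolve_left h2⟩

omit [Finite Q] in
theorem three_dvd {Γ : Subgroup (MulAut Q)} [Finite Γ] [Group.IsSolvable Γ] (i : ∀ f ∈ Γ, Iso β f)
    (o : Cfsg.pCore 2 Γ = ⊥) (ht : t ∈ Γ) (a : A2 β t) : 3 ∣ Nat.card Γ := by
  obtain ⟨y, -, h1⟩ := h.three_fit i o ht a
  exact h1 ▸ orderOf_dvd_natCard y

theorem card_A2 (T : Finset (MulAut Q)) (P : Finset (Q × Q)) (hT : ∀ f ∈ T, A2 β f ∧
    ∀ a ∈ (dl f).range, ∀ b ∈ (dl f).range, a ≠ 1 → b ≠ 1 → a ≠ b → (a, b) ∈ P) :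
    T.card * 6 ≤ P.card := by
  classical
  have := Fintype.ofFinite Q
  rw [← mul_one P.card]
  refine Finset.card_mul_le_card_mul (fun f z => z.1 ∈ (dl f).range ∧ z.2 ∈ (dl f).range ∧
    z.1 ≠ 1 ∧ z.2 ≠ 1 ∧ z.1 ≠ z.2) (fun f hf => ?_) fun z _ => Finset.card_le_one.2 fun f hf g hg => ?_
  · have h1 : ((Finset.univ.filter (· ∈ (dl f).range)).erase 1).card = 3 := by
      rw [Finset.card_erase_of_mem (Finset.mem_filter.2 ⟨Finset.mem_univ _, one_mem _⟩),
        ← Fintype.card_subtype, ← Nat.card_eq_fintype_card, (hT f hf).1.card]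
    refine le_trans (by rw [Finset.offDiag_card, h1]) (Finset.card_le_card (s := Finset.offDiag
      ((Finset.univ.filter (· ∈ (dl f).range)).erase 1)) fun z hz => ?_)
    simp only [Finset.mem_offDiag, Finset.mem_erase, Finset.mem_filter] at hz
    exact (Finset.mem_bipartiteAbove _).2 ⟨(hT f hf).2 _ hz.1.2.2 _ hz.2.1.2.2 hz.1.1 hz.2.1.1 hz.2.2,
      hz.1.2.2, hz.2.1.2.2, hz.1.1, hz.2.1.1, hz.2.2⟩
  · obtain ⟨hf, a1, a2, a3, a4, a5⟩ := (Finset.mem_bipartiteBelow _).1 hf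
    obtain ⟨hg, b1, b2, -⟩ := (Finset.mem_bipartiteBelow _).1 hg
    exact (hT f hf).1.ext h (hT g hg).1 (le_antisymm (le_of_four (hT f hf).1.card a1 a2 a3 a4 a5 b1 b2)
      (le_of_four (hT g hg).1.card b1 b2 a3 a4 a5 a1 a2))

theorem card_A2_le (T : Finset (MulAut Q)) (hT : ∀ f ∈ T, A2 β f) :
    T.card * 6 ≤ Nat.card Q ^ 2 := by
  have := Fintype.ofFinite Q
  simpa [pow_two] using h.card_A2 T Finset.univ fun f hf => ⟨hT f hf, by simp⟩

theorem card_A2_sixteen (hX : X ⊓ perp β X = ⊥) (c : Nat.card X = 16) (T : Finset (MulAut Q))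
    (hT : ∀ f ∈ T, A2 β f ∧ (dl f).range ≤ X) : T.card ≤ 15 := by
  classical
  have := Fintype.ofFinite Q
  have h1 := h.card_A2 T (((Finset.univ.filter (· ∈ X)).erase 1).biUnion fun a =>
    (((Finset.univ.filter (· ∈ X ⊓ perp β (zpowers a))).erase 1).erase a).image (a, ·))
    fun f hf => ⟨(hT f hf).1, fun a ha b hb a1 b1 ab => by
      obtain ⟨b, rfl⟩ := hb
      simpa [a1, b1, ab.symm, (hT f hf).2 ha, (hT f hf).2 ⟨b, rfl⟩, mem_perp_zpowers] using
        (h.perp_range (hT f hf).1.iso).ge ((hT f hf).1.dl_dl h b) a ha⟩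
  have h2 := h1.trans (Finset.card_biUnion_le_card_mul _ _ 6 fun a ha => Finset.card_image_le.trans (by
    simp only [Finset.mem_erase, Finset.mem_filter] at ha
    rw [Finset.card_erase_of_mem (by simp [ha.1, ha.2.2, mem_perp_zpowers, h.alt a]),
      Finset.card_erase_of_mem (by simp), ← Fintype.card_subtype, ← Nat.card_eq_fintype_card]
    have h3 := card_dvd_of_le (inf_le_left : X ⊓ perp β (zpowers a) ≤ X)
    have h4 : Nat.card (X ⊓ perp β (zpowers a) : Subgroup Q) ≠ 16 := fun e => ha.1 (mem_bot.1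
      (hX.le ⟨ha.2.2, h.alt.le_perp_comm (inf_eq_left.1 (eq_of_le_of_card_ge inf_le_left
        (c.trans e.symm).le)) (mem_zpowers a)⟩))
    rw [c] at h3
    have := Nat.le_of_dvd (by norm_num) h3
    generalize Nat.card (X ⊓ perp β (zpowers a) : Subgroup Q) = m at *
    interval_cases m <;> simp_all))
  rw [Finset.card_erase_of_mem (by simp), ← Fintype.card_subtype, ← Nat.card_eq_fintype_card, c] at h2
  omega

end ND

end CF.Fgs2.Base
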