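import Cfsg.Agent.Fgs2.Base7

/-! Bases for linear groups: solvable groups of automorphisms of small elementary 2-groups. -/

set_option autoImplicit false

namespace CF.Fgs2.Base

open Subgroup CF.Perm CF.Transfer
open scoped Pointwise commutatorElement

theorem exists_pow_prime {G : Type*} [Group G] [Finite G] {g : G} (h : g ≠ 1) :
    ∃ k, (orderOf (g ^ k)).Prime := by
  obtain ⟨p, hp, k, hk⟩ := Nat.exists_prime_and_dvd (mt orderOf_eq_one_iff.1 h)
  refine ⟨k, ?_⟩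
  rwa [orderOf_pow, hk, Nat.gcd_mul_left_left, Nat.mul_div_cancel _ (Nat.pos_of_ne_zero fun e =>
    (orderOf_pos g).ne' (by rw [hk, e, mul_zero]))]

theorem card_dvd_fit (Γ : Type*) [Group Γ] [Finite Γ] [Group.IsSolvable Γ] : Nat.card Γ ∣
    Nat.card (Cfsg.fittingSubgroup Γ) * Nat.card (MulAut (Cfsg.fittingSubgroup Γ)) := by
  rw [← card_mul_index (MulAut.conjNormal (H := Cfsg.fittingSubgroup Γ)).ker, index_ker]
  refine mul_dvd_mul (card_dvd_of_le fun x hx => CF.Solv.centralizer_fitting_le fun y hy => ?_)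
    (card_subgroup_dvd_card _)
  exact (mul_inv_eq_iff_eq_mul.1 (congrArg Subtype.val (DFunLike.congr_fun hx ⟨y, hy⟩))).symm

theorem card_dvd_totient (Γ : Type*) [Group Γ] [Finite Γ] [Group.IsSolvable Γ]
    (h : Squarefree (Nat.card (Cfsg.fittingSubgroup Γ))) : Nat.card Γ ∣
    Nat.card (Cfsg.fittingSubgroup Γ) * (Nat.card (Cfsg.fittingSubgroup Γ)).totient := by
  have := IsZGroup.of_squarefree h
  exact IsCyclic.card_mulAut (Cfsg.fittingSubgroup Γ) ▸ card_dvd_fit Γ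

theorem card_le_of_fit (Γ : Type*) [Group Γ] [Finite Γ] [Group.IsSolvable Γ]
    (h : Nat.card (Cfsg.fittingSubgroup Γ) = 25) : Nat.card Γ ≤ 15625 := by
  have : Fact (Nat.Prime 5) := ⟨by norm_num⟩
  have h1 := Nat.le_of_dvd (Nat.mul_pos Nat.card_pos Nat.card_pos) (card_dvd_fit Γ)
  by_cases h2 : IsCyclic (Cfsg.fittingSubgroup Γ)
  · rw [IsCyclic.card_mulAut, h] at h1
    exact h1.trans ((Nat.mul_le_mul_left _ (Nat.totient_le _)).trans (by norm_num))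
  have := IsPGroup.isMulCommutative_of_card_eq_prime_sq (p := 5) h
  rw [card_mulAut_of_pow_eq_one (p := 5) (r := 2) (fun x => Monoid.exponent_dvd_iff_forall_pow_eq_one.1
    ((not_isCyclic_iff_exponent_eq_prime (by norm_num) h).1 h2).dvd x) h, h] at h1
  exact h1.trans (by decide)

theorem pCore_ne_bot {Γ : Type*} [Group Γ] [Finite Γ] {y : Γ} (hy : y ∈ Cfsg.fittingSubgroup Γ)
    (h : (orderOf y).Prime) : Cfsg.pCore (orderOf y) Γ ≠ ⊥ := fun e => by
  have := Fact.mk h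
  have := CF.Solv.le_pCore_of_le_fitting (IsPGroup.of_card (n := 1)
    ((Nat.card_zpowers y).trans (pow_one _).symm)) (zpowers_le.2 hy) (mem_zpowers y)
  rw [e, mem_bot] at this
  exact h.ne_one (by rw [this, orderOf_one])

theorem card_dvd_of_free {Q : Type*} [Group Q] [Finite Q] (R : Subgroup (MulAut Q)) (S : Set Q)
    (hS : ∀ ρ ∈ R, ∀ x ∈ S, ρ x ∈ S) (h : ∀ ρ ∈ R, ∀ x ∈ S, ρ x = x → ρ = 1) :
    Nat.card R ∣ Nat.card S := by
  let T : SubMulAction R Q := ⟨S, fun ρ x hx => hS ρ ρ.2 x hx⟩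
  have e := MulAction.selfEquivOrbitsQuotientProd (G := R) (X := T) fun b => by
    rw [eq_bot_iff]
    intro k hk
    exact Subtype.ext (h k k.2 b b.2 (congrArg Subtype.val hk))
  exact (Nat.card_congr e).trans (Nat.card_prod _ _) ▸ dvd_mul_left _ _

variable {Q K : Type*} [CommGroup Q] [Finite Q] [Field K] {β : Q →* Q →* Kˣ} {f t y z : MulAut Q}
  {X U W : Subgroup Q} {Γ : Subgroup (MulAut Q)}

omit [Finite Q] in
theorem pow_mem_inv (hW : ∀ x ∈ W, f x ∈ W) (n : ℕ) : ∀ x ∈ W, (f ^ n) x ∈ W := by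
  induction n with
  | zero => exact fun _ h => h
  | succ n ih => exact fun x hx => pow_succ' f n ▸ hW _ (ih x hx)

theorem inv_mem_inv (hW : ∀ x ∈ W, f x ∈ W) : ∀ x ∈ W, f⁻¹ x ∈ W := by
  obtain ⟨n, hn⟩ := mem_powers_iff_mem_zpowers.2 (inv_mem (mem_zpowers f))
  exact hn ▸ pow_mem_inv hW n

theorem card_modEq_ker {l : ℕ} (hl : l.Prime) (h1 : f ^ l = 1) (hW : ∀ x ∈ W, f x ∈ W) :
    Nat.card W ≡ Nat.card (W ⊓ (dl f).ker : Subgroup Q) [MOD l] := by
  have := Fact.mk hl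
  have h2 := card_modEq_fixS (r := l) (R := zpowers f) (CF.Solv.isPGroup_of_forall_pow_eq_one (by
    rintro _ ⟨n, rfl⟩; rw [← zpow_natCast, ← zpow_mul, mul_comm, zpow_mul, zpow_natCast, h1,
      one_zpow])) W fun ρ hρ => by
    obtain ⟨n, rfl⟩ := mem_powers_iff_mem_zpowers.2 hρ
    exact pow_mem_inv hW n
  rwa [show fixS (zpowers f) = (dl f).ker from
    Subgroup.ext fun x => mem_fixS_zpowers.trans mem_ker_dl.symm] at h2

theorem dvd_sub_ker {l : ℕ} (hl : l.Prime) (h1 : f ^ l = 1) :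
    l ∣ Nat.card Q - Nat.card (dl f).ker := by
  have := card_modEq_ker hl h1 (W := ⊤) fun _ _ => trivial
  rw [top_inf_eq, card_top] at this
  exact (Nat.modEq_iff_dvd' (card_le_card_group _)).1 this.symm

theorem card_ker_lt (h : f ≠ 1) : Nat.card (dl f).ker < Nat.card Q :=
  CF.Solv.card_lt_of_ne_top (mt eq_one_of_ker h)

omit [Finite Q] in
theorem ker_inv_of_comm (h : Commute y z) : ∀ x ∈ (dl y).ker, z x ∈ (dl y).ker := fun x hx =>
  mem_ker_dl.2 (by rw [← MulAut.mul_apply, h.eq, MulAut.mul_apply, mem_ker_dl.1 hx])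

omit [Finite Q] in
theorem range_inv_of_comm (h : Commute y z) : ∀ x ∈ (dl y).range, z x ∈ (dl y).range := by
  rintro _ ⟨x, rfl⟩
  exact ⟨z x, by rw [dl_apply, dl_apply, map_mul, map_inv, ← MulAut.mul_apply, h.eq]; rfl⟩

omit [Finite Q] in
theorem ker_le_pow (f : MulAut Q) (n : ℕ) : (dl f).ker ≤ (dl (f ^ n)).ker := fun _ hx =>
  mem_ker_dl.2 (mem_fixS_zpowers.2 (mem_ker_dl.1 hx) _ (npow_mem_zpowers f n))

theorem card_ker_sq_le (h : t * y * t⁻¹ = y⁻¹) (hy : Odd (orderOf y)) :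
    Nat.card (dl t).ker ^ 2 ≤ Nat.card Q * Nat.card (dl y).ker := by
  have h1 := CF.Solv.card_sup_mul_card_inf (dl t).ker (dl (y * t * y⁻¹)).ker
  rw [card_ker_conj, ← pow_two] at h1
  refine h1 ▸ Nat.mul_le_mul (card_le_card_group _) (card_le_of_le fun x hx => ?_)
  obtain ⟨k, hk⟩ := exists_pow_eq_self_of_coprime (x := y) (Nat.coprime_two_left.2 hy)
  refine hk ▸ ker_le_pow _ k (mem_ker_dl.2 ?_)
  rw [show y ^ 2 = y * t * y⁻¹ * t⁻¹ by
    rw [mul_assoc, mul_assoc, ← mul_assoc t, ← conj_inv, h, inv_inv, pow_two],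
    MulAut.mul_apply, show t⁻¹ x = x from t.symm_apply_eq.2 (mem_ker_dl.1 hx.1).symm,
    mem_ker_dl.1 hx.2]

/-- an odd prime order `≥ 5` on a 2-group -/
theorem eight_mul_le {k l : ℕ} (hQ : Nat.card Q = 2 ^ k) (hl : l.Prime) (l2 : l ≠ 2) (l3 : l ≠ 3)
    (h1 : f ^ l = 1) (h2 : f ≠ 1) : 8 * Nat.card (dl f).ker ≤ Nat.card Q := by
  have h3 := dvd_sub_ker hl h1
  have h4 := card_ker_lt h2
  obtain ⟨j, -, hj⟩ := (Nat.dvd_prime_pow Nat.prime_two).1 (hQ ▸ card_subgroup_dvd_card (dl f).range)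
  obtain ⟨i, -, hi⟩ := (Nat.dvd_prime_pow Nat.prime_two).1 (hQ ▸ card_subgroup_dvd_card (dl f).ker)
  rw [← card_ker_mul f, hj] at h3 h4 ⊢
  rw [← Nat.mul_sub_one, hi] at h3
  have h5 := (hl.dvd_mul.1 h3).resolve_left fun e =>
    l2 ((Nat.prime_dvd_prime_iff_eq hl Nat.prime_two).1 (hl.dvd_of_dvd_pow e))
  rw [mul_comm]
  refine Nat.mul_le_mul_left _ (Nat.pow_le_pow_right (n := 2) (i := 3) two_pos (not_lt.1 fun h6 => ?_))
  interval_cases j
  · omega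
  · exact hl.ne_one (Nat.dvd_one.1 h5)
  · exact l3 ((Nat.prime_dvd_prime_iff_eq hl Nat.prime_three).1 h5)

theorem four_mul_le [Group.IsSolvable Γ] {k : ℕ} (hQ : Nat.card Q = 2 ^ k)
    (o2 : Cfsg.pCore 2 Γ = ⊥) (o3 : ¬ 3 ∣ Nat.card Γ) (hf : f ∈ Γ) (h1 : f ≠ 1) :
    4 * Nat.card (dl f).ker ≤ Nat.card Q := by
  have key : ∀ y : Γ, (orderOf y).Prime → orderOf y ≠ 2 → 8 * Nat.card (dl y.1).ker ≤ Nat.card Q :=
    fun y hy h2 => eight_mul_le hQ hy h2 (fun e => o3 (e ▸ orderOf_dvd_natCard y))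
      (by rw [← coe_pow, pow_orderOf_eq_one]; rfl) fun e => hy.ne_one (by
        rw [show y = 1 from Subtype.ext e, orderOf_one])
  obtain ⟨n, hn⟩ := exists_pow_prime (g := (⟨f, hf⟩ : Γ)) fun e => h1 (congrArg Subtype.val e)
  refine (Nat.mul_le_mul_left _ (card_le_of_le (ker_le_pow f n))).trans ?_
  rw [show f ^ n = ((⟨f, hf⟩ : Γ) ^ n).1 from rfl]
  generalize (⟨f, hf⟩ : Γ) ^ n = g at *
  by_cases h2 : orderOf g = 2
  swap
  · exact (Nat.mul_le_mul_right _ (by norm_num)).trans (key _ hn h2)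
  obtain ⟨y, -, h3, h4, h5⟩ := exists_inv_fitting o2 (t := g)
    ((pow_two _).symm.trans (h2 ▸ pow_orderOf_eq_one g)) fun e => by simp [e] at h2
  have h6 := card_ker_sq_le (t := g.1) (y := y.1) (congrArg Subtype.val h5)
    (by rw [orderOf_coe]; exact h3.odd_of_ne_two h4)
  have h7 := key y h3 h4
  obtain ⟨j, -, hj⟩ := (Nat.dvd_prime_pow Nat.prime_two).1
    (hQ ▸ card_subgroup_dvd_card (dl g.1).range)
  have h8 := card_ker_mul g.1
  have h9 : 0 < Nat.card (dl g.1).ker := Nat.card_pos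
  rw [← h8, hj, mul_comm]
  refine Nat.mul_le_mul_left _ (Nat.pow_le_pow_right (n := 2) (i := 2) two_pos (not_lt.1 fun h6 => ?_))
  rw [hj] at h8
  interval_cases j <;> nlinarith

theorem fit_dvd (hW : ∀ y ∈ Cfsg.fittingSubgroup Γ, ∀ x ∈ W, y.1 x ∈ W)
    (h : ∀ y ∈ Cfsg.fittingSubgroup Γ, (orderOf y).Prime → (dl y.1).ker ≤ W) :
    Nat.card (Cfsg.fittingSubgroup Γ) ∣ Nat.card Q - Nat.card W := by
  rw [← card_map_of_injective Γ.subtype_injective, show Nat.card Q - Nat.card W =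
    Nat.card ((W : Set Q)ᶜ : Set Q) from (Set.ncard_compl _).symm]
  refine card_dvd_of_free _ _ ?_ ?_
  · rintro _ ⟨y, hy, rfl⟩ x hx h1
    exact hx (by simpa using hW _ (inv_mem hy) _ h1)
  · rintro _ ⟨y, hy, rfl⟩ x hx h1
    by_contra h2
    obtain ⟨n, hn⟩ := exists_pow_prime (g := y) fun e => h2 (by rw [e, map_one])
    exact hx (h _ (pow_mem hy n) hn (ker_le_pow y.1 n (mem_ker_dl.2 h1)))

theorem fit_dvd' (h : ∀ y ∈ Cfsg.fittingSubgroup Γ, (orderOf y).Prime → Nat.card (dl y.1).ker = 1) :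
    Nat.card (Cfsg.fittingSubgroup Γ) ∣ Nat.card Q - 1 := by
  simpa using fit_dvd (Γ := Γ) (W := ⊥) (fun y _ x hx => by simpa using hx)
    fun y h1 h2 => ((eq_bot_iff_card _).2 (h y h1 h2)).le

theorem fit_coprime {G : Type*} [Group G] [Finite G] {F : Subgroup G} {m : ℕ}
    (h : ∀ y ∈ F, (orderOf y).Prime → ¬ orderOf y ∣ m) : (Nat.card F).Coprime m :=
  Nat.coprime_of_dvd fun r hr h1 => by
    have := Fact.mk hr
    obtain ⟨y, hy⟩ := exists_prime_orderOf_dvd_card' r h1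
    rw [← hy, ← orderOf_coe] at hr ⊢
    exact h _ y.2 hr

theorem dvd_twenty [Group.IsSolvable Γ] (hQ : Nat.card Q = 16) (o2 : Cfsg.pCore 2 Γ = ⊥)
    (o3 : Cfsg.pCore 3 Γ = ⊥)
    (h : ∀ y ∈ Cfsg.fittingSubgroup Γ, (orderOf y).Prime → Nat.card (dl y.1).ker = 1) :
    Nat.card Γ ∣ 20 ∧ ∀ T : Finset (MulAut Q), (∀ f ∈ T, f ∈ Γ ∧ f * f = 1 ∧ f ≠ 1) →
      T.card ≤ 5 := by
  have h1 : Nat.card (Cfsg.fittingSubgroup Γ) ∣ 5 := (fit_coprime (m := 3) fun y h1 h2 h3 =>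
    pCore_ne_bot h1 h2 ((Nat.prime_dvd_prime_iff_eq h2 Nat.prime_three).1 h3 ▸ o3)).dvd_of_dvd_mul_left
      (by simpa [hQ] using fit_dvd' h)
  have h2 := card_dvd_totient Γ ((Nat.prime_five).squarefree.squarefree_of_dvd h1)
  refine ⟨?_, fun T hT => ?_⟩
  · rcases (Nat.dvd_prime Nat.prime_five).1 h1 with e | e <;> rw [e] at h2
    · exact h2.trans (by decide)
    · rwa [Nat.totient_prime Nat.prime_five] at h2
  have key : ∀ f : Γ, f.1 ∈ T → ∀ z ∈ Cfsg.fittingSubgroup Γ, f * z * f⁻¹ = z⁻¹ := fun f hf z hz => by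
    obtain ⟨y, h3, h4, -, h5⟩ := exists_inv_fitting o2 (t := f) (Subtype.ext (hT _ hf).2.1)
      fun e => (hT _ hf).2.2 (congrArg Subtype.val e)
    have h6 := card_dvd_of_le (zpowers_le.2 h3)
    obtain ⟨n, rfl⟩ := (eq_of_le_of_card_ge (zpowers_le.2 h3) ((Nat.le_of_dvd (by norm_num) h1).trans
      (((Nat.dvd_prime Nat.prime_five).1 (h6.trans h1)).resolve_left
        (Nat.card_zpowers y ▸ h4.ne_one)).ge)).ge hz
    simp only [← conj_zpow, h5, inv_zpow]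
  rcases T.eq_empty_or_nonempty with rfl | ⟨t, ht⟩
  · simp
  refine le_trans ?_ (Nat.le_of_dvd (by norm_num) h1)
  rw [← Nat.card_eq_finsetCard]
  refine Nat.card_le_card_of_injective (fun f => ⟨(⟨t, (hT t ht).1⟩ : Γ) * ⟨f, (hT f f.2).1⟩,
    CF.Solv.centralizer_fitting_le fun z hz => ?_⟩) fun f g e => Subtype.ext
      (mul_left_cancel (a := t) (congrArg (fun x => x.1.1) e))
  have h3 := key ⟨t, (hT t ht).1⟩ ht _ (inv_mem hz)
  rw [inv_inv, ← key ⟨f, (hT f f.2).1⟩ f.2 z hz] at h3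
  rw [eq_comm, ← mul_inv_eq_iff_eq_mul]
  exact Eq.trans (by group) h3

namespace ND

variable (h : ND β)
include h

theorem ker_cases {k : ℕ} (hQ : Nat.card Q = 2 ^ k) (i : ∀ f ∈ Γ, Iso β f) (y : Γ)
    (h1 : (orderOf y).Prime) (h2 : orderOf y ≠ 2) : ∃ j, Nat.card (dl y.1).ker = 4 ^ j ∧
      4 ^ j < 2 ^ k ∧ (orderOf y ≠ 3 → 8 * 4 ^ j ≤ 2 ^ k) ∧ orderOf y ∣ 2 ^ k - 4 ^ j := by
  have h3 : y.1 ^ orderOf y = 1 := by rw [← coe_pow, pow_orderOf_eq_one]; rfl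
  have h4 : y.1 ≠ 1 := fun e => h1.ne_one (by rw [show y = 1 from Subtype.ext e, orderOf_one])
  obtain ⟨e, he⟩ := h.sq_ker (i _ y.2) h3 (hQ ▸ ((Nat.coprime_primes Nat.prime_two h1).2
    h2.symm).pow_left k)
  obtain ⟨j, -, rfl⟩ := (Nat.dvd_prime_pow Nat.prime_two).1 ((dvd_pow_self e two_ne_zero).trans
    (he ▸ hQ ▸ card_subgroup_dvd_card (dl y.1).ker))
  rw [← pow_mul, mul_comm, pow_mul] at he
  exact ⟨j, he, he ▸ hQ ▸ card_ker_lt h4, fun h5 => he ▸ hQ ▸ eight_mul_le hQ h1 h2 h5 h3 h4,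
    he ▸ hQ ▸ dvd_sub_ker h1 h3⟩

theorem twenty [Group.IsSolvable Γ] (hQ : Nat.card Q = 16) (i : ∀ f ∈ Γ, Iso β f)
    (o2 : Cfsg.pCore 2 Γ = ⊥) (o3 : Cfsg.pCore 3 Γ = ⊥) :
    Nat.card Γ ∣ 20 ∧ ∀ T : Finset (MulAut Q), (∀ f ∈ T, f ∈ Γ ∧ f * f = 1 ∧ f ≠ 1) →
      T.card ≤ 5 := dvd_twenty hQ o2 o3 fun y h1 h2 => by
  obtain ⟨j, h3, -, h4, -⟩ := h.ker_cases (k := 4) hQ i y h2 fun e => pCore_ne_bot h1 h2 (e ▸ o2)
  have h5 := h4 fun e => pCore_ne_bot h1 h2 (e ▸ o3)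
  rcases j with _ | j
  · exact h3
  · have := Nat.one_le_pow j 4 (by norm_num)
    rw [pow_succ] at h5; omega

theorem le_fortytwo [Group.IsSolvable Γ] (hQ : Nat.card Q = 64) (hx : ∀ x : Q, x ^ 2 = 1)
    (i : ∀ f ∈ Γ, Iso β f) (o2 : Cfsg.pCore 2 Γ = ⊥) (o3 : Cfsg.pCore 3 Γ = ⊥) :
    Nat.card Γ ≤ 42 := by
  have key : ∀ y ∈ Cfsg.fittingSubgroup Γ, (orderOf y).Prime → (orderOf y = 7 ∧
      Nat.card (dl y.1).ker = 1) ∨ (orderOf y = 5 ∧ Nat.card (dl y.1).ker = 4) := fun y h1 h2 => by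
    have h6 : orderOf y ≠ 2 := fun e => pCore_ne_bot h1 h2 (e ▸ o2)
    have h7 : orderOf y ≠ 3 := fun e => pCore_ne_bot h1 h2 (e ▸ o3)
    obtain ⟨j, h3, -, h4, h5⟩ := h.ker_cases (k := 6) hQ i y h2 h6
    have h8 := h4 h7
    have h9 : j < 2 := (Nat.pow_lt_pow_iff_right (a := 4) (by norm_num)).1 (by omega)
    have : ∀ l ≤ 63, l.Prime ∧ l ≠ 2 ∧ l ≠ 3 → (l ∣ 63 → l = 7) ∧ (l ∣ 60 → l = 5) := by
      decide +kernel
    interval_cases j
    · exact Or.inl ⟨(this _ (Nat.le_of_dvd (by norm_num) h5) ⟨h2, h6, h7⟩).1 h5, h3⟩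
    · exact Or.inr ⟨(this _ ((Nat.le_of_dvd (by norm_num) h5).trans (by norm_num))
        ⟨h2, h6, h7⟩).2 h5, h3⟩
  have fin : Nat.card (Cfsg.fittingSubgroup Γ) ∣ 5 ∨ Nat.card (Cfsg.fittingSubgroup Γ) ∣ 7 := by
    by_cases h1 : ∀ y ∈ Cfsg.fittingSubgroup Γ, (orderOf y).Prime → Nat.card (dl y.1).ker = 1
    · refine Or.inr ((fit_coprime (m := 9) fun y h2 h3 => ?_).dvd_of_dvd_mul_left
        (by simpa [hQ] using fit_dvd' h1))
      rcases key y h2 h3 with e | e <;> rw [e.1] <;> norm_num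
    push Not at h1
    obtain ⟨z, h1, h2, h3⟩ := h1
    replace h3 := (key z h1 h2).resolve_left fun e => h3 e.2
    refine Or.inl ((fit_coprime (m := 2 ^ 15 * 3 ^ 4 * 7 ^ 2 * 31) fun y h4 h5 => ?_).dvd_of_dvd_mul_left
      (((card_subgroup_dvd_card _).trans (card_subgroup_dvd_card Γ)).trans (by
        rw [card_mulAut_of_pow_eq_one (r := 6) hx hQ]; decide)))
    rcases key y h4 h5 with e | e
    · have h6 := card_modEq_ker h5 (f := y.1) (by rw [← coe_pow, pow_orderOf_eq_one]; rfl)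
        (ker_inv_of_comm ((CF.Solv.commute_of_coprime_orderOf h1 h4 (by
          rw [e.1, h3.1]; norm_num)).map Γ.subtype))
      rw [(eq_bot_iff_card _).2 e.2, inf_bot_eq, card_bot, e.1] at h6
      exact absurd (h3.2 ▸ h6) (by decide)
    · rw [e.1]; norm_num
  have : ∀ m ≤ 7, m ∣ 5 ∨ m ∣ 7 → Squarefree m ∧ m * m.totient ≤ 42 ∧ 0 < m * m.totient := by
    decide +kernel
  obtain ⟨h1, h2, h3⟩ := this _ (by rcases fin with e | e <;> linarith [Nat.le_of_dvd (by norm_num) e]) fin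
  exact (Nat.le_of_dvd h3 (card_dvd_totient Γ h1)).trans h2

theorem le_big [Group.IsSolvable Γ] (hQ : Nat.card Q = 256) (hx : ∀ x : Q, x ^ 2 = 1)
    (i : ∀ f ∈ Γ, Iso β f) (o2 : Cfsg.pCore 2 Γ = ⊥) (o3 : Cfsg.pCore 3 Γ = ⊥) :
    Nat.card Γ ≤ 15625 := by
  have key : ∀ y ∈ Cfsg.fittingSubgroup Γ, (orderOf y).Prime → ((orderOf y = 5 ∨ orderOf y = 17) ∧
      Nat.card (dl y.1).ker = 1) ∨ (orderOf y = 7 ∧ Nat.card (dl y.1).ker = 4) ∨
        (orderOf y = 5 ∧ Nat.card (dl y.1).ker = 16) := fun y h1 h2 => by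
    have h6 : orderOf y ≠ 2 := fun e => pCore_ne_bot h1 h2 (e ▸ o2)
    have h7 : orderOf y ≠ 3 := fun e => pCore_ne_bot h1 h2 (e ▸ o3)
    obtain ⟨j, h3, -, h4, h5⟩ := h.ker_cases (k := 8) hQ i y h2 h6
    have h8 := h4 h7
    have h9 : j < 3 := (Nat.pow_lt_pow_iff_right (a := 4) (by norm_num)).1 (by omega)
    have : ∀ l ≤ 255, l.Prime ∧ l ≠ 2 ∧ l ≠ 3 → (¬ l ∣ 255 ∨ l = 5 ∨ l = 17) ∧ (¬ l ∣ 252 ∨ l = 7) ∧
      (¬ l ∣ 240 ∨ l = 5) := by decide +kernel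
    replace this := this _ ((Nat.le_of_dvd (by omega) h5).trans (by
      have := Nat.one_le_pow j 4 (by norm_num); omega)) ⟨h2, h6, h7⟩
    interval_cases j
    exacts [Or.inl ⟨this.1.neg_resolve_left h5, h3⟩, Or.inr (Or.inl ⟨this.2.1.neg_resolve_left h5, h3⟩),
      Or.inr (Or.inr ⟨this.2.2.neg_resolve_left h5, h3⟩)]
  have md : ∀ y z : Γ, (orderOf y).Prime → Commute z y → Nat.card (dl z.1).ker ≡
      Nat.card ((dl z.1).ker ⊓ (dl y.1).ker : Subgroup Q) [MOD orderOf y] := fun y z h1 h2 =>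
    card_modEq_ker h1 (by rw [← coe_pow, pow_orderOf_eq_one]; rfl) (ker_inv_of_comm (h2.map Γ.subtype))
  have le4 : ∀ y z : Γ, (orderOf y).Prime → 5 ≤ orderOf y → Commute z y →
      Nat.card (dl z.1).ker = 4 → (dl z.1).ker ≤ (dl y.1).ker := fun y z h1 h2 h3 h4 => by
    have h5 := card_le_of_le (inf_le_left : (dl z.1).ker ⊓ (dl y.1).ker ≤ _)
    exact inf_eq_left.1 (eq_of_le_of_card_ge inf_le_left ((md y z h1 h3).eq_of_lt_of_lt
      (by omega) (by omega)).le)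
  have gl : Nat.card (Cfsg.fittingSubgroup Γ) ∣ (2 ^ 28 * 3 ^ 5 * 31 * 127) * (7 ^ 2 * (25 * 17)) :=
    ((card_subgroup_dvd_card _).trans (card_subgroup_dvd_card Γ)).trans (by
        rw [card_mulAut_of_pow_eq_one (r := 8) hx hQ]; decide)
  have fin : Nat.card (Cfsg.fittingSubgroup Γ) ∣ 7 ∨ Nat.card (Cfsg.fittingSubgroup Γ) ∣ 85 ∨
      Nat.card (Cfsg.fittingSubgroup Γ) ∣ 25 := by
    by_cases h1 : ∃ z ∈ Cfsg.fittingSubgroup Γ, orderOf z = 7
    · obtain ⟨z, h1, h2⟩ := h1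
      have h3 : Nat.card (dl z.1).ker = 4 := by
        have := key z h1 (h2 ▸ Nat.prime_seven); omega
      have h4 : ∀ y ∈ Cfsg.fittingSubgroup Γ, (orderOf y).Prime → orderOf y = 7 := fun y h4 h5 => by
        by_contra h6
        have h7 := CF.Solv.commute_of_coprime_orderOf h1 h4
          (h2 ▸ (Nat.coprime_primes Nat.prime_seven h5).2 (Ne.symm h6))
        have h8 := key y h4 h5
        have h9 := le4 y z h5 (by omega) h7 h3
        have h10 := card_le_of_le h9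
        have h11 := md z y (h2 ▸ Nat.prime_seven) h7.symm
        rw [inf_eq_right.2 h9, h3, h2, show Nat.card (dl y.1).ker = 16 by omega] at h11
        exact absurd h11 (by decide)
      have h5 : Nat.card (Cfsg.fittingSubgroup Γ) ∣ 7 ^ 2 := (fit_coprime fun y a b => by
        rw [h4 y a b]; norm_num).dvd_of_dvd_mul_right ((fit_coprime fun y a b => by
          rw [h4 y a b]; norm_num).dvd_of_dvd_mul_left gl)
      obtain ⟨j, h6, h7⟩ := (Nat.dvd_prime_pow Nat.prime_seven).1 h5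
      left
      rcases h6.lt_or_eq with h6 | rfl
      · exact h7 ▸ (pow_dvd_pow 7 (Nat.lt_succ_iff.1 h6)).trans (by norm_num)
      have := Fact.mk Nat.prime_seven
      have h8 := IsPGroup.isMulCommutative_of_card_eq_prime_sq h7
      have h9 : ∀ y ∈ Cfsg.fittingSubgroup Γ, Commute z y := fun y hy =>
        congrArg Subtype.val (h8.is_comm.comm ⟨z, h1⟩ ⟨y, hy⟩)
      have h10 := fit_dvd (W := (dl z.1).ker) (fun y hy => ker_inv_of_comm ((h9 y hy).map Γ.subtype))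
        fun y a b => (eq_of_le_of_card_ge (le4 y z b (by rw [h4 y a b]; norm_num) (h9 y a) h3) (by
          have := key y a b
          have := h4 y a b
          omega)).ge
      rw [h7, hQ, h3] at h10
      exact absurd h10 (by decide)
    push Not at h1
    have h2 : Nat.card (Cfsg.fittingSubgroup Γ) ∣ 25 * 17 := (fit_coprime fun y a b => by
      have := h1 y a
      rcases key y a b with ⟨e | e, -⟩ | e | e
      exacts [by rw [e]; norm_num, by rw [e]; norm_num, absurd e.1 this, by rw [e.1]; norm_num]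
      ).dvd_of_dvd_mul_left ((fit_coprime fun y a b => by
        rcases key y a b with ⟨e | e, -⟩ | ⟨e, -⟩ | ⟨e, -⟩ <;> rw [e] <;> norm_num).dvd_of_dvd_mul_left gl)
    by_cases h3 : ∃ z ∈ Cfsg.fittingSubgroup Γ, orderOf z = 17
    · obtain ⟨z, h3, h4⟩ := h3
      have h5 : Nat.card (dl z.1).ker = 1 := by
        have := key z h3 (by rw [h4]; norm_num); omega
      have h6 := fit_dvd' (Γ := Γ) fun y a b => by
        rcases key y a b with e | e | e
        exacts [e.2, absurd e.1 (h1 y a), by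
          have h7 := md z y (by rw [h4]; norm_num) (CF.Solv.commute_of_coprime_orderOf a h3 (by
            rw [h4, e.1]; norm_num))
          rw [(eq_bot_iff_card _).2 h5, inf_bot_eq, card_bot, e.2, h4] at h7
          exact absurd h7 (by decide)]
      exact Or.inr (Or.inl (by simpa [hQ] using Nat.dvd_gcd h2 h6))
    push Not at h3
    exact Or.inr (Or.inr ((fit_coprime fun y a b e => h3 y a
      ((Nat.prime_dvd_prime_iff_eq b (by norm_num)).1 e)).dvd_of_dvd_mul_right h2))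
  have : ∀ m ≤ 85, m ∣ 7 ∨ m ∣ 85 ∨ m ∣ 25 → m = 25 ∨ (Squarefree m ∧ m * m.totient ≤ 15625 ∧
      0 < m * m.totient) := by decide +kernel
  rcases this _ (by rcases fin with e | e | e <;> linarith [Nat.le_of_dvd (by norm_num) e]) fin with
    e | ⟨h1, h2, h3⟩
  exacts [card_le_of_fit Γ e, (Nat.le_of_dvd h3 (card_dvd_totient Γ h1)).trans h2]

end ND

end CF.Fgs2.Base
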