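import Cfsg.Agent.Fgs2.Base8

/-! Bases for linear groups: invariant planes in symplectic spaces of order 16 and 64. -/

set_option autoImplicit false

namespace CF.Fgs2.Base

open Subgroup CF.Perm CF.Transfer
open scoped Pointwise commutatorElement

variable {Q K : Type*} [CommGroup Q] [Finite Q] [Field K] {β : Q →* Q →* Kˣ} {f g t y z : MulAut Q}
  {X Y U W : Subgroup Q} {Γ : Subgroup (MulAut Q)} {a b c : Q}

/-- non-degenerate planes -/
def Pl (β : Q →* Q →* Kˣ) (X : Subgroup Q) : Prop := Nat.card X = 4 ∧ X ⊓ perp β X = ⊥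

theorem four_cases (hx : ∀ x : Q, x ^ 2 = 1) (hU : Nat.card U = 4) (ha : a ∈ U) (hb : b ∈ U)
    (a1 : a ≠ 1) (b1 : b ≠ 1) (ab : a ≠ b) (hc : c ∈ U) : c = 1 ∨ c = a ∨ c = b ∨ c = a * b := by
  have h1 : a * b ≠ 1 := fun e => ab (mul_right_cancel (e.trans ((pow_two b).symm.trans (hx b)).symm))
  have h2 := Set.eq_of_subset_of_ncard_le (s := {1, a, b, a * b}) (t := U) (by
    rintro x (rfl | rfl | rfl | rfl)
    exacts [one_mem _, ha, hb, mul_mem ha hb]) (by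
    rw [Set.ncard_insert_of_notMem (by simp [a1.symm, b1.symm, h1.symm]),
      Set.ncard_insert_of_notMem (by simp [ab, b1]), Set.ncard_pair (by simp [a1])]
    exact hU.le)
  exact h2.ge hc

omit [Finite Q] in
theorem exists_two (hU : Nat.card U = 4) : ∃ a ∈ U, ∃ b ∈ U, a ≠ 1 ∧ b ≠ 1 ∧ a ≠ b := by
  have : Finite U := Nat.finite_of_card_ne_zero (by omega)
  obtain ⟨a, b, c, h1, h2, h3, h4, h5, h6⟩ := (Set.two_lt_ncard_iff (s := (U : Set Q))
    (Set.toFinite _)).1 (show 2 < Nat.card U by omega)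
  by_cases ha : a = 1
  · exact ⟨b, h2, c, h3, ha ▸ h4.symm, ha ▸ h5.symm, h6⟩
  by_cases hb : b = 1
  exacts [⟨a, h1, c, h3, ha, hb ▸ h6.symm, h5⟩, ⟨a, h1, b, h2, ha, hb, h4⟩]

theorem le_ker_or_range (h3 : y ^ 3 = 1) (hX : Nat.card X = 4) (hi : ∀ x ∈ X, y x ∈ X) :
    X ≤ (dl y).ker ∨ X ≤ (dl y).range := by
  have h1 := card_modEq_ker Nat.prime_three h3 hi
  have h2 := card_dvd_of_le (inf_le_left : X ⊓ (dl y).ker ≤ X)
  refine or_iff_not_imp_left.2 fun h4 => (eq_of_le_of_card_ge (H := X.map (dl y)) (by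
    rintro _ ⟨x, hx, rfl⟩; exact mul_mem (hi x hx) (inv_mem hx)) ?_).ge.trans (map_le_range _ _)
  have h5 := CF.Solv.card_map_mul_card_inf_ker (dl y) X
  have h6 : Nat.card (X ⊓ (dl y).ker : Subgroup Q) ≠ 4 := fun e =>
    h4 (inf_eq_left.1 (eq_of_le_of_card_ge inf_le_left (hX.trans e.symm).le))
  rw [inf_comm] at h5
  rw [hX] at h1 h2
  have := Nat.le_of_dvd (by norm_num) h2
  unfold Nat.ModEq at h1
  generalize Nat.card (X ⊓ (dl y).ker : Subgroup Q) = m at *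
  interval_cases m <;> omega

omit [Finite Q] in
theorem norm_three (h3 : z ^ 3 = 1) (hz : (dl z).ker = ⊥) (x : Q) : z (z x) * z x * x = 1 := by
  have h1 : z (z (z x)) = x := by simpa [pow_three] using DFunLike.congr_fun h3 x
  exact mem_bot.1 (hz ▸ mem_ker_dl.2 (by rw [map_mul, map_mul, h1]; ac_rfl))

omit [Finite Q] in
theorem card_map_aut (f : MulAut Q) (X : Subgroup Q) :
    Nat.card (X.map f.toMonoidHom) = Nat.card X := card_map_of_injective f.injective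

omit [Finite Q] in
theorem ker_conj (g f : MulAut Q) : (dl (g * f * g⁻¹)).ker = (dl f).ker.map g.toMonoidHom := by
  ext y
  rw [mem_map_equiv, MonoidHom.mem_ker, dl_conj, map_eq_one_iff _ g.injective]
  rfl

omit [Finite Q] in
theorem Iso.perp_map (i : Iso β f) (X : Subgroup Q) :
    perp β (X.map f.toMonoidHom) = (perp β X).map f.toMonoidHom := by
  ext y
  rw [mem_map_equiv]
  refine ⟨fun h x hx => ?_, ?_⟩
  · rw [← i, f.apply_symm_apply]; exact h _ ⟨x, hx, rfl⟩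
  · rintro h _ ⟨x, hx, rfl⟩
    rw [← h x hx, ← i x, f.apply_symm_apply]; rfl

omit [Finite Q] in
theorem Pl.ne_one (h : Alt β) (p : Pl β X) (ha : a ∈ X) (hb : b ∈ X) (a1 : a ≠ 1) (b1 : b ≠ 1)
    (ab : a ≠ b) : β a b ≠ 1 := fun e => a1 (mem_bot.1 (p.2.le ⟨ha, h.le_perp_comm
  (le_of_four p.1 ha hb a1 b1 ab (mem_perp_zpowers.2 (h a)) (mem_perp_zpowers.2 e)) (mem_zpowers a)⟩))

theorem A2.range_le (h : ND β) (hx : ∀ x : Q, x ^ 2 = 1) (a : A2 β t) (p : Pl β Y)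
    (hi : ∀ x ∈ Y, t x ∈ Y) : (dl t).range ≤ perp β Y := by
  rw [← h.perp_ker a.iso]
  refine perp_anti fun x hx' => by_contra fun h1 => ?_
  have h2 : x ≠ 1 := fun e => h1 (e ▸ one_mem _)
  refine p.ne_one h.alt hx' (mul_mem (hi x hx') (inv_mem hx')) h2 h1 (fun e => h2 (t.injective ?_))
    (a.alt x)
  rw [apply_eq t, dl_apply, ← e, ← pow_two, hx, map_one]

namespace ND

variable (h : ND β)
include h

theorem pl_perp (hX : X ⊓ perp β X = ⊥) (c : Nat.card X * 4 = Nat.card Q) : Pl β (perp β X) :=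
  ⟨Nat.eq_of_mul_eq_mul_left Nat.card_pos ((h.card_mul_perp X).trans c.symm), by
    rw [h.perp_perp, inf_comm, hX]⟩

theorem sup_nd (p : Pl β X) (q : Pl β Y) (hY : Y ≤ perp β X) :
    (X ⊔ Y) ⊓ perp β (X ⊔ Y) = ⊥ ∧ Nat.card (X ⊔ Y : Subgroup Q) = 16 := by
  refine ⟨eq_bot_iff.2 fun u hu => ?_, ?_⟩
  · obtain ⟨x, hx, y, hy, rfl⟩ := mem_sup.1 hu.1
    have h1 : x = 1 := mem_bot.1 (p.2.le ⟨hx, by
      simpa using mul_mem (perp_anti le_sup_left hu.2) (inv_mem (hY hy))⟩)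
    rw [h1, one_mul] at hu ⊢
    exact q.2.le ⟨hy, perp_anti le_sup_right hu.2⟩
  · have := CF.Solv.card_sup_mul_card_inf X Y
    rwa [eq_bot_iff.2 ((inf_le_inf_left X hY).trans p.2.le), card_bot, mul_one, p.1, q.1] at this

theorem planes [Group.IsSolvable Γ] {k : ℕ} (hQ : Nat.card Q = 2 ^ k) (hk : k = 4 ∨ k = 6)
    (i : ∀ f ∈ Γ, Iso β f) (o3 : Cfsg.pCore 3 Γ ≠ ⊥) :
    (∃ z ∈ Γ, z ^ 3 = 1 ∧ z ≠ 1 ∧ (dl z).ker = ⊥ ∧ ∀ f ∈ Γ, f * z * f⁻¹ = z ∨ f * z * f⁻¹ = z⁻¹) ∨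
      ∃ S : Set (Subgroup Q), S.Nonempty ∧ ∀ X ∈ S, Pl β X ∧ (∀ f ∈ Γ, X.map f.toMonoidHom ∈ S) ∧
        ∀ Y ∈ S, Y = X ∨ Y ≤ perp β X := by
  obtain ⟨R, r, hr, h1, h2, h3, h4⟩ := CF.Solv.exists_isMinNormal_pGroup_le _ o3
  have hn := h1.1
  have hc := h1.isMulCommutative
  obtain ⟨s, hs, h5⟩ := h1.exists_prime_pow_eq_one
  obtain ⟨⟨z, hz⟩, hz1⟩ := ne_bot_iff_exists_ne_one.1 h1.2.1
  replace hz1 : z ≠ 1 := fun e => hz1 (Subtype.ext e)
  obtain rfl : s = 3 := by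
    obtain ⟨n, e⟩ := CF.Loc.isPGroup_pCore 3 Γ ⟨z, h2 hz⟩
    have := Fact.mk hs
    exact (Nat.prime_dvd_prime_iff_eq hs Nat.prime_three).1 (hs.dvd_of_dvd_pow
      (orderOf_eq_prime (h5 z hz) hz1 ▸ orderOf_dvd_of_pow_eq_one (congrArg Subtype.val e)))
  have h6 : ∀ y ∈ R, y.1 ^ 3 = 1 := fun y hy => congrArg Subtype.val (h5 y hy)
  have h7 : ∀ y ∈ R, ∀ z ∈ R, Commute y.1 z.1 := fun y hy z hz =>
    congrArg (fun x : R => x.1.1) (hc.is_comm.comm ⟨y, hy⟩ ⟨z, hz⟩)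
  by_cases h8 : ∀ y ∈ R, y ≠ 1 → (dl y.1).ker = ⊥
  · refine Or.inl ⟨z, z.2, h6 z hz, fun e => hz1 (Subtype.ext e), h8 z hz hz1, fun f hf => ?_⟩
    have h9 := hn.conj_mem z hz ⟨f, hf⟩
    have h10 : (⟨f, hf⟩ : Γ) * z * ⟨f, hf⟩⁻¹ ≠ 1 := by simpa using hz1
    change ((⟨f, hf⟩ : Γ) * z * ⟨f, hf⟩⁻¹).1 = z ∨ ((⟨f, hf⟩ : Γ) * z * ⟨f, hf⟩⁻¹).1 = z.1⁻¹
    generalize (⟨f, hf⟩ : Γ) * z * ⟨f, hf⟩⁻¹ = y at *
    refine or_iff_not_imp_left.2 fun e => eq_inv_of_mul_eq_one_left (MulEquiv.ext fun x => ?_)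
    have h11 := h8 _ (mul_mem (inv_mem hz) h9) fun e' => e (congrArg _ (inv_mul_eq_one.1 e').symm)
    have h12 : ∀ u, y.1 (z.1 u) = z.1 (y.1 u) := fun u => DFunLike.congr_fun (h7 y h9 z hz).eq u
    refine dl_eq_one.1 (mem_bot.1 (h11 ▸ mem_ker_dl.2 (z.1.symm_apply_eq.2 ?_)))
    have h13 := norm_three (h6 y h9) (h8 y h9 h10) (z.1 x)
    have h14 := congrArg y.1 (norm_three (h6 z hz) (h8 z hz hz1) x)
    change y.1 (y.1 (z.1 x) * x⁻¹) = z.1 (y.1 (z.1 x) * x⁻¹)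
    rw [map_mul, map_mul, map_one] at h14
    rw [map_mul, map_mul, map_inv, map_inv, ← h12, mul_inv_eq_iff_eq_mul, mul_right_comm,
      eq_mul_inv_iff_mul_eq, ← mul_right_inj (y.1 (z.1 x)), ← mul_assoc, ← mul_assoc,
      mul_comm (y.1 (z.1 x)), h13, mul_comm (y.1 (z.1 x)), h14]
  push Not at h8
  obtain ⟨y, h8, h9, h10⟩ := h8
  have hco : (Nat.card Q).Coprime 3 := hQ ▸ Nat.Coprime.pow_left k (by norm_num)
  refine Or.inr ⟨{X | Nat.card X = 4 ∧ ∃ y ∈ R, X = (dl y.1).ker ∨ X = (dl y.1).range}, ?_, ?_⟩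
  · have h11 := orderOf_eq_prime (h5 y h8) h9
    obtain ⟨j, a1, a2, -⟩ := h.ker_cases hQ i y (h11 ▸ Nat.prime_three) (by omega)
    have a3 := card_ker_mul y.1
    have a4 : j ≠ 0 := fun e => h10 ((eq_bot_iff_card _).2 (by rw [a1, e, pow_zero]))
    have a5 : j < 3 := (Nat.pow_lt_pow_iff_right (a := 4) (by norm_num)).1 (by
      rcases hk with rfl | rfl <;> omega)
    interval_cases j
    · omega
    · exact ⟨_, a1, y, h8, Or.inl rfl⟩
    · rw [a1, hQ] at a3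
      exact ⟨_, by rcases hk with rfl | rfl <;> omega, y, h8, Or.inr rfl⟩
  rintro X ⟨a1, y, a2, a3⟩
  have a4 := h.ker_inf (i _ y.2) (h6 y a2) hco
  refine ⟨⟨a1, ?_⟩, fun f hf => ⟨(card_map_aut f X).trans a1, _, hn.conj_mem y a2 ⟨f, hf⟩, ?_⟩, ?_⟩
  · rcases a3 with rfl | rfl
    · exact a4
    · rwa [h.perp_range (i _ y.2), inf_comm, ← h.perp_ker (i _ y.2)]
  · rcases a3 with rfl | rfl
    exacts [Or.inl (ker_conj f y).symm, Or.inr (range_conj f y).symm]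
  rintro Y ⟨b1, u, b2, b3⟩
  have b4 := le_ker_or_range (h6 y a2) b1 (by
    rcases b3 with rfl | rfl
    exacts [ker_inv_of_comm (h7 u b2 y a2), range_inv_of_comm (h7 u b2 y a2)])
  rcases a3 with rfl | rfl
  · exact b4.imp (fun e => eq_of_le_of_card_ge e (by omega)) fun e => (h.perp_ker (i _ y.2)).symm ▸ e
  · exact b4.symm.imp (fun e => eq_of_le_of_card_ge e (by omega))
      fun e => (h.perp_range (i _ y.2)).symm ▸ e

theorem planes16 [Group.IsSolvable Γ] (hQ : Nat.card Q = 16) (hx : ∀ x : Q, x ^ 2 = 1)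
    (i : ∀ f ∈ Γ, Iso β f) (o3 : Cfsg.pCore 3 Γ ≠ ⊥) :
    ∃ X, Pl β X ∧ ∀ f ∈ Γ, X.map f.toMonoidHom = X ∨ X.map f.toMonoidHom = perp β X := by
  rcases h.planes (k := 4) hQ (Or.inl rfl) i o3 with ⟨z, hz, h3, z1, h4, h5⟩ | ⟨S, ⟨X, hX⟩, hS⟩
  swap
  · obtain ⟨a1, a2, a3⟩ := hS X hX
    exact ⟨X, a1, fun f hf => (a3 _ (a2 f hf)).imp_right fun e => eq_of_le_of_card_ge e (by
      rw [(h.pl_perp a1.2 (by rw [a1.1, hQ])).1, card_map_aut, a1.1])⟩
  have hf : ∀ x, z x = x → x = 1 := fun x e => mem_bot.1 (h4 ▸ mem_ker_dl.2 e)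
  obtain ⟨v, hv⟩ : ∃ v, β v (z v) ≠ 1 := by
    by_contra! hv
    suffices e : z * z = 1 from z1 (by rw [← h3, pow_three, e, mul_one])
    refine MulEquiv.ext fun w => mul_inv_eq_one.1 (h.nondeg fun u => h.alt.symm' ?_)
    have h6 := hv (u * z w)
    simp only [map_mul, MonoidHom.mul_apply, hv, one_mul, mul_one, i z hz w u] at h6
    have h7 := h.alt.symm w u
    rw [map_mul, map_inv, MulAut.mul_apply, MulAut.one_apply, mul_inv_eq_one]
    exact mul_left_cancel (h6.trans h7.symm)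
  have v1 : v ≠ 1 := fun e => hv (by simp [e])
  have hz2 : z (z v) = v * z v := by
    have := norm_three h3 h4 v
    rw [mul_assoc, mul_eq_one_iff_eq_inv, mul_comm] at this
    rw [this, inv_eq_iff_mul_eq_one, ← pow_two, hx]
  have o2 : ∀ x : Q, x ≠ 1 → Nat.card (zpowers x) = 2 := fun x e =>
    (Nat.card_zpowers x).trans (orderOf_eq_prime (hx x) e)
  have hX : ∀ x ∈ zpowers v ⊔ zpowers (z v), z x ∈ zpowers v ⊔ zpowers (z v) :=
    (sup_le (zpowers_le.2 (mem_sup_right (mem_zpowers _))) (zpowers_le.2 (by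
      rw [mem_comap]; exact hz2 ▸ mul_mem_sup (mem_zpowers _) (mem_zpowers _))) :
      _ ≤ (zpowers v ⊔ zpowers (z v)).comap z.toMonoidHom)
  have zv : z v ≠ 1 := by simpa using v1
  have c4 : Nat.card (zpowers v ⊔ zpowers (z v) : Subgroup Q) = 4 := by
    have h6 := CF.Solv.card_sup_mul_card_inf (zpowers v) (zpowers (z v))
    have h7 := card_dvd_of_le (inf_le_left : zpowers v ⊓ zpowers (z v) ≤ _)
    rw [o2 v v1, Nat.dvd_prime Nat.prime_two] at h7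
    rw [o2 v v1, o2 _ zv, h7.resolve_right fun e => hv ?_] at h6
    · omega
    have h7 := inf_eq_right.1 (eq_of_le_of_card_ge inf_le_right ((o2 _ zv).trans e.symm).le)
    exact (zpowers_le.2 (mem_perp_zpowers.2 (h.alt v)) : zpowers v ≤ _) (h7 (mem_zpowers _)) v
      (mem_zpowers v)
  have hv1 : v ∈ zpowers v ⊔ zpowers (z v) := mem_sup_left (mem_zpowers v)
  have hle : ∀ Y : Subgroup Q, v ∈ Y → z v ∈ Y → zpowers v ⊔ zpowers (z v) ≤ Y := fun Y a b =>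
    sup_le (zpowers_le.2 a) (zpowers_le.2 b)
  generalize zpowers v ⊔ zpowers (z v) = X at *
  have hY : ∀ x ∈ perp β X, z x ∈ perp β X := fun x => (i z hz).perp_inv (inv_mem_inv hX)
  have p : Pl β X := ⟨c4, by
    have h6 := card_modEq_ker Nat.prime_three h3 (W := X ⊓ perp β X)
      fun x hx => ⟨hX x hx.1, hY x hx.2⟩
    have h7 := c4 ▸ card_dvd_of_le (inf_le_left : X ⊓ perp β X ≤ X)
    have h8 : Nat.card (X ⊓ perp β X : Subgroup Q) ≠ 4 := fun e => hv ((inf_eq_left.1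
      (eq_of_le_of_card_ge inf_le_left (c4.trans e.symm).le)) (hX v hv1) v hv1)
    rw [h4, inf_bot_eq, card_bot] at h6
    rw [eq_bot_iff_card]
    have := Nat.le_of_dvd (by norm_num) h7
    unfold Nat.ModEq at h6
    generalize Nat.card (X ⊓ perp β X : Subgroup Q) = m at *
    interval_cases m <;> omega⟩
  have q := h.pl_perp p.2 (by rw [c4, hQ])
  have neg : ∀ {Y}, Pl β Y → (∀ x ∈ Y, z x ∈ Y) → ∀ a ∈ Y, a ≠ 1 → (β a (z a) : K) = -1 :=
    fun p h1 a ha a1 => (sq_eq_one_iff.1 (by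
      rw [← Units.val_pow_eq_pow_val, ← map_pow, hx, map_one, Units.val_one])).resolve_left
        (mt Units.val_eq_one.1 (p.ne_one h.alt ha (h1 a ha) a1 (by simpa using a1)
          fun e => a1 (hf a e.symm)))
  have key : ∀ u, β u (z u) ≠ 1 → u ∈ X ∨ u ∈ perp β X := fun u hu => by
    obtain ⟨a, ha, b, hb, rfl⟩ := mem_sup.1 ((h.sup_perp p.2).ge (mem_top u))
    by_contra! h6
    refine hu (Units.ext ?_)
    simp only [map_mul, MonoidHom.mul_apply, hY b hb a ha, h.alt.symm' (hb _ (hX a ha)), one_mul,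
      mul_one, Units.val_mul, neg p hX a ha fun e => h6.2 (by simpa [e] using hb),
      neg q hY b hb fun e => h6.1 (by simpa [e] using ha)]
    simp
  refine ⟨X, p, fun f hf => ?_⟩
  have h6 : ∀ Y : Subgroup Q, Nat.card Y = 4 → (∀ x ∈ Y, z x ∈ Y) → f v ∈ Y →
      X.map f.toMonoidHom = Y := fun Y a b c => eq_of_le_of_card_ge (map_le_iff_le_comap.2 (hle _ c (by
    have h7 : f (z v) = (f * z * f⁻¹) (f v) := by simp
    rw [mem_comap]
    rcases h5 f hf with e | e <;> rw [e] at h7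
    exacts [h7 ▸ b _ c, h7 ▸ inv_mem_inv b _ c]))) (by rw [a, card_map_aut, c4])
  refine (key (f v) ?_).imp (h6 X c4 hX) (h6 _ q.1 hY)
  have h7 : z (f v) = f ((f⁻¹ * z * f⁻¹⁻¹) v) := by simp
  rw [h7, i f hf]
  rcases h5 _ (inv_mem hf) with e | e <;> rw [e]
  exacts [hv, fun e => hv (h.alt.symm' (by rwa [← i z hz, MulAut.apply_inv_self] at e))]

theorem card_fifteen (hQ : Nat.card Q = 64) (p : Pl β Y) (T : Finset (MulAut Q))
    [DecidablePred fun f => (dl f).range ≤ perp β Y] (hT : ∀ f ∈ T, A2 β f) : (T.filter fun f => (dl f).range ≤ perp β Y).card ≤ 15 :=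
  h.card_A2_sixteen (by rw [h.perp_perp, inf_comm, p.2]) (by
    have := h.card_mul_perp Y
    rw [p.1, hQ] at this
    omega) _ fun f hf => ⟨hT f (Finset.mem_filter.1 hf).1, (Finset.mem_filter.1 hf).2⟩

theorem card_A2_64 [Group.IsSolvable Γ] (hQ : Nat.card Q = 64) (hx : ∀ x : Q, x ^ 2 = 1)
    (i : ∀ f ∈ Γ, Iso β f) (o2 : Cfsg.pCore 2 Γ = ⊥) (T : Finset (MulAut Q))
    (hT : ∀ f ∈ T, f ∈ Γ ∧ A2 β f) : T.card ≤ 45 := by
  classical
  have := Fintype.ofFinite Q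
  rcases T.eq_empty_or_nonempty with rfl | ⟨t, ht⟩
  · simp
  obtain ⟨y, h1, h2⟩ := h.three_fit i o2 (hT t ht).1 (hT t ht).2
  rcases h.planes (k := 6) hQ (Or.inr rfl) i (h2 ▸ pCore_ne_bot h1 (h2 ▸ Nat.prime_three)) with
    ⟨z, hz, h3, z1, h4, h5⟩ | ⟨S, ⟨X, hX⟩, hS⟩
  · have h6 := h.card_A2 T (Finset.univ.biUnion fun a => {(a, z a), (a, a * z a)}) fun f hf =>
      ⟨(hT f hf).2, fun a ha b hb a1 b1 ab => by
        have h6 : Commute f z := mul_inv_eq_iff_eq_mul.1 ((h5 f (hT f hf).1).resolve_right fun e => by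
          have h6 := card_ker_sq_le e (by rw [orderOf_eq_prime h3 z1]; decide)
          have h7 := card_ker_mul f
          rw [(hT f hf).2.card, hQ] at h7
          rw [h4, card_bot, hQ, show Nat.card (dl f).ker = 16 by omega] at h6
          omega)
        have := four_cases hx (hT f hf).2.card ha (range_inv_of_comm h6 a ha) a1 (by simpa using a1)
          (fun e => a1 (mem_bot.1 (h4 ▸ mem_ker_dl.2 e.symm))) hb
        exact Finset.mem_biUnion.2 ⟨a, Finset.mem_univ _, by simpa [b1, ab.symm] using this⟩⟩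
    have h7 := h6.trans (Finset.card_biUnion_le_card_mul _ _ 2 fun a _ => Finset.card_le_two)
    rw [Finset.card_univ, ← Nat.card_eq_fintype_card, hQ] at h7
    omega
  obtain ⟨p, a2, a3⟩ := hS X hX
  have pl : ∀ {Y}, Pl β Y → Y ≤ perp β X → Pl β (perp β (X ⊔ Y)) := fun q e =>
    h.pl_perp (h.sup_nd p q e).1 (by rw [(h.sup_nd p q e).2, hQ])
  have key : ∀ f ∈ T, (dl f).range ≤ perp β X ∨ ∃ Y ∈ S, Y ≤ perp β X ∧
      (dl f).range ≤ perp β (perp β (X ⊔ Y)) := fun f hf => by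
    rcases a3 _ (a2 f (hT f hf).1) with e | e
    · exact Or.inl ((hT f hf).2.range_le h hx p fun x hx => e.le ⟨x, hx, rfl⟩)
    refine Or.inr ⟨_, a2 f (hT f hf).1, e, (hT f hf).2.range_le h hx (pl (hS _ (a2 f (hT f hf).1)).1 e)
      fun x => (hT f hf).2.iso.perp_inv (inv_mem_inv fun x hx => ?_)⟩
    obtain ⟨a, ha, _, ⟨b, hb, rfl⟩, rfl⟩ := mem_sup.1 hx
    rw [map_mul, show f (f.toMonoidHom b) = b from DFunLike.congr_fun ((hT f hf).2.sq h) b, mul_comm]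
    exact mul_mem_sup hb ⟨a, ha, rfl⟩
  have c0 := h.card_fifteen hQ p T fun f hf => (hT f hf).2
  by_cases h3 : ∃ Y ∈ S, Y ≤ perp β X
  swap
  · exact ((Finset.card_le_card fun f hf => Finset.mem_filter.2 ⟨hf,
      (key f hf).resolve_right fun ⟨Y, a, b, _⟩ => h3 ⟨Y, a, b⟩⟩).trans c0).trans (by norm_num)
  obtain ⟨Y, b1, b2⟩ := h3
  have q := pl (hS Y b1).1 b2
  have c1 := h.card_fifteen hQ q T fun f hf => (hT f hf).2
  have c2 := h.card_fifteen hQ (pl q (perp_anti le_sup_left)) T fun f hf => (hT f hf).2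
  refine le_trans (Finset.card_le_card fun f hf => ?_) ((Finset.card_union_le _ _).trans
    (add_le_add c0 ((Finset.card_union_le _ _).trans (add_le_add c1 c2))))
  simp only [Finset.mem_union, Finset.mem_filter, hf, true_and]
  refine (key f hf).imp_right fun ⟨Z, d1, d2, d3⟩ => ((hS Y b1).2.2 Z d1).imp
    (fun e => by rwa [← e]) fun e => ?_
  rwa [← eq_of_le_of_card_ge (h.alt.le_perp_comm (sup_le (h.alt.le_perp_comm d2)
    (h.alt.le_perp_comm e))) (q.1.trans (hS Z d1).1.1.symm).le]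

theorem count16 (hQ : Nat.card Q = 16) (hx : ∀ x : Q, x ^ 2 = 1) (i : ∀ f ∈ Γ, Iso β f) (p : Pl β X)
    (hX : ∀ f ∈ Γ, X.map f.toMonoidHom = X ∨ X.map f.toMonoidHom = perp β X) :
    Nat.card Γ ≤ 72 ∧ (∀ T : Finset (MulAut Q), (∀ f ∈ T, f ∈ Γ ∧ A2 β f) → T.card ≤ 6) ∧
      ∀ T : Finset (MulAut Q), (∀ f ∈ T, f ∈ Γ ∧ (f * f = 1 ∨ Odd (orderOf f))) → T.card ≤ 42 := by
  classical
  have := Fintype.ofFinite Q
  have q := h.pl_perp p.2 (by rw [p.1, hQ])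
  obtain ⟨a, ha, b, hb, a1, b1, ab⟩ := exists_two p.1
  obtain ⟨c, hc, d, hd, c1, d1, cd⟩ := exists_two q.1
  let D : Subgroup Q → Finset (Q × Q) := fun Y => ((Finset.univ.filter (· ∈ Y)).erase 1).offDiag
  have hD : ∀ Y : Subgroup Q, Nat.card Y = 4 → (D Y).card = 6 := fun Y e => by
    rw [Finset.offDiag_card, Finset.card_erase_of_mem (Finset.mem_filter.2 ⟨Finset.mem_univ _,
      one_mem _⟩), ← Fintype.card_subtype, ← Nat.card_eq_fintype_card, e]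
  have mD : ∀ (f : MulAut Q) {Y Z : Subgroup Q} {a b}, Y.map f.toMonoidHom = Z → a ∈ Y → b ∈ Y →
      a ≠ 1 → b ≠ 1 → a ≠ b → (f a, f b) ∈ D Z := fun f Y Z a b e ha hb a1 b1 ab => by
    simpa [D, a1, b1, ab] using And.intro (e.le ⟨a, ha, rfl⟩) (e.le ⟨b, hb, rfl⟩)
  have ext : ∀ f g : MulAut Q, (∀ x ∈ X, f x = g x) → (∀ x ∈ perp β X, f x = g x) → f = g :=
    fun f g h1 h2 => MulEquiv.ext fun x => (sup_le (a := X) (c := f.toMonoidHom.eqLocus g) h1 h2)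
      ((h.sup_perp p.2).ge (mem_top x))
  have on : ∀ {f g : MulAut Q} {Y : Subgroup Q} {a b}, Nat.card Y = 4 → a ∈ Y → b ∈ Y → a ≠ 1 →
      b ≠ 1 → a ≠ b → f a = g a → f b = g b → ∀ x ∈ Y, f x = g x := fun {f g} _ _ _ e ha hb a1 b1 ab
        h1 h2 => le_of_four (W := f.toMonoidHom.eqLocus g) e ha hb a1 b1 ab h1 h2
  have k1 : ∀ (T : Finset (MulAut Q)) (Y Z : Subgroup Q), Nat.card Y = 4 → Nat.card Z = 4 → (∀ f ∈ T,
      X.map f.toMonoidHom = Y ∧ (perp β X).map f.toMonoidHom = Z) → T.card ≤ 36 :=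
    fun T Y Z e e' hT => (Finset.card_le_card_of_injOn (t := D Y ×ˢ D Z)
      (fun f => ((f a, f b), (f c, f d))) (fun f hf => Finset.mem_coe.2 (Finset.mem_product.2
        ⟨mD f (hT f hf).1 ha hb a1 b1 ab, mD f (hT f hf).2 hc hd c1 d1 cd⟩)) fun f _ g _ e => by
          simp only [Prod.mk.injEq] at e
          exact ext f g (on p.1 ha hb a1 b1 ab e.1.1 e.1.2) (on q.1 hc hd c1 d1 cd e.2.1 e.2.2)).trans
      (by rw [Finset.card_product, hD Y e, hD Z e'])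
  have k2 : ∀ T : Finset (MulAut Q), (∀ f ∈ T, f * f = 1 ∧ X.map f.toMonoidHom = perp β X) →
      T.card ≤ 6 := fun T hT => (Finset.card_le_card_of_injOn (t := D (perp β X))
      (fun f => (f a, f b)) (fun f hf => mD f (hT f hf).2 ha hb a1 b1 ab) fun f hf g hg e => by
        simp only [Prod.mk.injEq] at e
        have h1 := on p.1 ha hb a1 b1 ab e.1 e.2
        refine ext f g h1 fun x hx => ?_
        obtain ⟨u, hu, rfl⟩ := (hT f hf).2.ge hx
        exact (DFunLike.congr_fun (hT f hf).1 u).trans ((DFunLike.congr_fun (hT g hg).1 u).symm.trans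
          (congrArg g (h1 u hu).symm))).trans (hD _ q.1).le
  have k3 : ∀ T : Finset (MulAut Q), (∀ f ∈ T, f ∈ Γ) →
      (T.filter fun f => X.map f.toMonoidHom = X).card ≤ 36 := fun T hT =>
    k1 _ X _ p.1 q.1 fun f hf => ⟨(Finset.mem_filter.1 hf).2, by
      rw [← (i f (hT f (Finset.mem_filter.1 hf).1)).perp_map, (Finset.mem_filter.1 hf).2]⟩
  have hne : ∀ f : MulAut Q, (∀ x ∈ X, f x ∈ X) → X.map f.toMonoidHom = X := fun f h1 =>
    eq_of_le_of_card_ge (map_le_iff_le_comap.2 h1) (card_map_aut f X).ge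
  refine ⟨?_, fun T hT => k2 T fun f hf => ⟨(hT f hf).2.sq h, (hX f (hT f hf).1).resolve_left
    fun e => (hT f hf).2.ne_one (eq_one_of_ker ?_)⟩, fun T hT => ?_⟩
  · have := Fintype.ofFinite (MulAut Q)
    rw [Nat.card_eq_fintype_card, Fintype.card_subtype, ← Finset.card_filter_add_card_filter_not
      fun f => X.map f.toMonoidHom = X]
    refine add_le_add (k3 _ fun f hf => (Finset.mem_filter.1 hf).2) (k1 _ _ X q.1 p.1 fun f hf => ?_)
    simp only [Finset.mem_filter] at hf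
    have h1 := (hX f hf.1.2).resolve_left hf.2
    exact ⟨h1, by rw [← (i f hf.1.2).perp_map, h1, h.perp_perp]⟩
  · have h1 : (perp β X).map f.toMonoidHom = perp β X := by rw [← (i f (hT f hf).1).perp_map, e]
    exact eq_top_iff.2 fun y _ => q.2.le (le_inf ((hT f hf).2.range_le h hx p
      fun x hx => e.le ⟨x, hx, rfl⟩) ((hT f hf).2.range_le h hx q fun x hx => h1.le ⟨x, hx, rfl⟩)
        ⟨y, rfl⟩)
  rw [← Finset.card_filter_add_card_filter_not fun f => X.map f.toMonoidHom = X]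
  refine add_le_add (k3 _ fun f hf => (hT f hf).1) (k2 _ fun f hf => ?_)
  simp only [Finset.mem_filter] at hf
  have h1 := (hX f (hT f hf.1).1).resolve_left hf.2
  refine ⟨(hT f hf.1).2.resolve_right fun e => hf.2 (hne f ?_), h1⟩
  obtain ⟨k, hk⟩ := exists_pow_eq_self_of_coprime (x := f) (Nat.coprime_two_left.2 e)
  refine hk ▸ pow_mem_inv (fun x hx => ?_) k
  have h2 : (perp β X).map f.toMonoidHom = X := by
    rw [← (i f (hT f hf.1).1).perp_map, h1, h.perp_perp]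
  exact pow_two f ▸ h2.le ⟨_, h1.le ⟨x, hx, rfl⟩, rfl⟩

end ND

theorem irr16 [Group.IsSolvable Γ] (hQ : Nat.card Q = 16) (o2 : Cfsg.pCore 2 Γ = ⊥)
    (o3 : Cfsg.pCore 3 Γ = ⊥) (hi : ∀ X : Subgroup Q, (∀ f ∈ Γ, ∀ x ∈ X, f x ∈ X) → X = ⊥ ∨ X = ⊤) :
    Nat.card Γ ∣ 20 := (dvd_twenty hQ o2 o3 fun y h1 h2 => by
  have := Fact.mk h2
  have h3 := CF.Solv.le_pCore_of_le_fitting (IsPGroup.of_card (n := 1)
    ((Nat.card_zpowers y).trans (pow_one _).symm)) (zpowers_le.2 h1) (mem_zpowers y)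
  have h0 : y.1 ≠ 1 := fun e => h2.ne_one (by rw [show y = 1 from Subtype.ext e, orderOf_one])
  have h4 := card_modEq_fixS ((CF.Loc.isPGroup_pCore (orderOf y) Γ).map Γ.subtype) ⊤
    fun _ _ _ _ => trivial
  rw [top_inf_eq, card_top, (hi (fixS ((Cfsg.pCore (orderOf y) Γ).map Γ.subtype)) fun f hf x hx => by
    rintro _ ⟨u, hu, rfl⟩
    have h5 := hx _ ⟨_, (inferInstance : (Cfsg.pCore (orderOf y) Γ).Normal).conj_mem u hu
      ⟨f, hf⟩⁻¹, rfl⟩
    exact f.symm_apply_eq.1 h5).resolve_right fun e => h0 (MulEquiv.ext fun x =>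
      e.ge (mem_top x) _ ⟨y, h3, rfl⟩), card_bot, hQ] at h4
  have h5 : y.1 ^ orderOf y = 1 := by rw [← coe_pow, pow_orderOf_eq_one]; rfl
  have h6 := dvd_sub_ker h2 h5
  have h7 := eight_mul_le (k := 4) hQ h2 (fun e => pCore_ne_bot h1 h2 (e ▸ o2))
    (fun e => pCore_ne_bot h1 h2 (e ▸ o3)) h5 h0
  have h8 : 0 < Nat.card (dl y.1).ker := Nat.card_pos
  by_contra h9
  rw [hQ] at h6 h7
  rw [show Nat.card (dl y.1).ker = 2 by omega] at h6
  exact h2.ne_one (Nat.dvd_one.1 (Nat.dvd_sub ((Nat.modEq_iff_dvd' (by norm_num)).1 h4.symm) h6))).1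

end CF.Fgs2.Base
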