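import Cfsg.Agent.Fgs1.L2cs

/-! Groups with the class sizes of `PSL₂(q)`: the order of the centre. -/

set_option autoImplicit false
set_option linter.unusedSectionVars false

namespace CF.Fgs2.Cs
open Subgroup CF.BG CF.SolvStr CF.Fgs1

variable {G : Type*} [Group G] [Finite G] {x y w : G} {q u v d s : ℕ}

/-- the centralizer of `x` is comparable with no other centralizer of a non-central element -/
def Iso (x : G) : Prop :=
  x ∉ center G ∧ ∀ y, y ∉ center G → (𝐂₁ x ≤ 𝐂₁ y ∨ 𝐂₁ y ≤ 𝐂₁ x) → 𝐂₁ y = 𝐂₁ x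

theorem Iso.le_of_pi {π : Set ℕ} (h : Iso x) (px : PiElt π x) (hw : w ∈ 𝐂₁ x) (pw : PiElt πᶜ w) :
    𝐂₁ x ≤ 𝐂₁ w := by
  have e := cent1_mul (mem_cent1.1 hw).symm (px.coprime pw)
  have := h.2 (x * w) (fun k => h.1 (cent1_eq_top.1 (top_le_iff.1
    ((cent1_eq_top.2 k).ge.trans (e.le.trans inf_le_left))))) (Or.inr (e.le.trans inf_le_left))
  exact this.ge.trans (e.le.trans inf_le_right)

theorem Iso.of_eq (h : Iso x) (e : 𝐂₁ y = 𝐂₁ x) : Iso y :=
  ⟨fun k => h.1 (cent1_eq_top.1 (e ▸ cent1_eq_top.2 k)), fun z hz l => by rw [e] at l ⊢; exact h.2 z hz l⟩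

theorem Iso.cases (h : Iso x) :
    Abel (𝐂₁ x) ∨ ∃ r, r.Prime ∧ ∀ w ∈ 𝐂₁ x, PiElt {r}ᶜ w → w ∈ center G := by
  obtain ⟨r, hr, y, hy, py, ny⟩ := exists_prime_part h.1
  have e := h.2 y ny (Or.inl (Fgs1.cent1_le_of_mem_zpowers hy))
  have k := h.of_eq e
  rw [← e]
  by_cases c : ∀ w ∈ 𝐂₁ y, PiElt {r}ᶜ w → w ∈ center G
  · exact Or.inr ⟨r, hr, c⟩
  push Not at c
  obtain ⟨w, hw, pw, nw⟩ := c
  have e2 := k.2 w nw (Or.inl (k.le_of_pi py hw pw))
  refine Or.inl fun z hz => ?_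
  rw [← constt_mul_constt {r} z]
  refine mul_mem (le_cent1_iff.1 ?_) (le_cent1_iff.1 (k.le_of_pi py (constt_mem_of_mem _ hz)
    (constt_pi _ _)))
  rw [← e2]
  exact (k.of_eq e2).le_of_pi pw (e2.ge (constt_mem_of_mem _ hz)) (constt_pi _ _).compl_compl

theorem Iso.sep (h : Iso x) (a : Abel (𝐂₁ x)) (hy : y ∉ center G) (n : ind y ≠ ind x) :
    𝐂₁ x ⊓ 𝐂₁ y ≤ center G := fun w hw => by
  by_contra nw
  have e := h.2 w nw (Or.inl (le_cent1_iff.2 (a hw.1)))
  have := h.2 y hy (Or.inl (le_cent1_iff.2 (a (e.le (mem_cent1_comm.1 hw.2)))))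
  exact n (by rw [ind, this])

/-- `x` and `y` have no non-central element commuting with conjugates of both -/
def Sep (x y : G) : Prop := ∀ g, 𝐂₁ x ⊓ 𝐂₁ (g * y * g⁻¹) ≤ center G

theorem Sep.symm (h : Sep x y) : Sep y x := fun g w hw => by
  have : g⁻¹ * w * g⁻¹⁻¹ ∈ center G := h g⁻¹ ⟨by
    have := hw.2
    rw [← cj_cent1] at this
    simpa using mem_cj.1 this, by rw [← cj_cent1]; exact conj_mem_cj.2 hw.1⟩
  simpa [mul_assoc] using (inferInstance : (center G).Normal).conj_mem _ this g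

theorem Iso.sep' (h : Iso x) (a : Abel (𝐂₁ x)) (hy : y ∉ center G) (n : ind y ≠ ind x) : Sep x y :=
  fun g => h.sep a (fun k => hy (ind_eq_one.1 (by rw [← ind_conj g, ind_eq_one.2 k])))
    (by rwa [ind_conj])

theorem Sep.good (h : Sep x y) (hs : s.Prime) (n : ¬ s ∣ ind y) :
    ¬ s ∣ (center G).relIndex (𝐂₁ x) := by
  obtain ⟨Q, hQ⟩ := exists_syl s (𝐂₁ x)
  obtain ⟨S, hS⟩ := exists_syl s (𝐂₁ y)
  obtain ⟨g, -, l⟩ := (syl_top_of_not_dvd hS ((piNat_compl_single hs).2 n)).syl_le_cj le_top hQ.pi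
  have : Q ≤ center G := (le_inf hQ.le (l.trans (by rw [← cj_cent1]; exact cj_mono g hS.le))).trans (h g)
  exact (hQ.idx_of_le this).not_dvd' hs rfl

theorem good_of_pi {r : ℕ} (h : ∀ w ∈ 𝐂₁ x, PiElt {r}ᶜ w → w ∈ center G) (hs : s.Prime) (n : s ≠ r) :
    ¬ s ∣ (center G).relIndex (𝐂₁ x) := by
  obtain ⟨Q, hQ⟩ := exists_syl s (𝐂₁ x)
  exact (hQ.idx_of_le (K := center G) fun w hw =>
    h w (hQ.le hw) ((hQ.pi.of_single_ne n).elt hw)).not_dvd' hs rfl

theorem rel_mul_ind (x : G) : (center G).relIndex (𝐂₁ x) * ind x = (center G).index :=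
  relIndex_mul_index (center_le_cent1 x)

structure Nm (q u v d : ℕ) : Prop where
  qu : q.Coprime u
  qv : q.Coprime v
  uv : u.Coprime v
  dv : d ∣ v
  q1 : 1 < q
  u1 : 1 < u
  v1 : 1 < v

theorem Nm.swap (h : Nm q u v d) : Nm u q v d := ⟨h.qu.symm, h.uv, h.qv, h.dv, h.u1, h.q1, h.v1⟩

theorem Nm.d0 (h : Nm q u v d) : 0 < d := Nat.pos_of_dvd_of_pos h.dv (by have := h.v1; omega)

theorem Nm.cop (h : Nm q u v d) : q.Coprime (d * u * v) :=
  ((h.qv.coprime_dvd_right h.dv).mul_right h.qu).mul_right h.qv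

theorem Nm.nd (h : Nm q u v d) {n : ℕ} (k : q ∣ n) : ¬ n ∣ d * u * v := fun e => by
  have := h.q1
  have := h.cop.eq_one_of_dvd (k.trans e)
  omega

/-- the class sizes of `PSL₂(q)` -/
structure Cl (G : Type*) [Group G] (q u v d : ℕ) : Prop extends Nm q u v d where
  all : ∀ x : G, ind x = 1 ∨ ind x = d * u * v ∨ ind x = d * q * v ∨ ind x = d * q * u ∨ ind x = q * u
  exA : ∃ x : G, ind x = d * u * v
  exB : ∃ x : G, ind x = d * q * v
  exD : ∃ x : G, ind x = q * u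

namespace Cl
variable (h : Cl G q u v d)
include h

theorem swap : Cl G u q v d := by
  refine ⟨h.toNm.swap, fun x => ?_, h.exB, h.exA, mul_comm q u ▸ h.exD⟩
  rcases h.all x with e | e | e | e | e <;> simp [e, mul_comm, mul_left_comm]

theorem iso (e : ind x = d * u * v) : Iso x := by
  have := h.u1
  have := h.v1
  have := h.d0
  refine ⟨fun k => ?_, fun y hy l => ?_⟩
  · rw [← ind_eq_one, e] at k
    exact absurd (Nat.eq_one_of_mul_eq_one_left k) (by omega)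
  have ey : ind y = ind x := by
    have c : ∀ n, ind y = n → q ∣ n → ¬ d * u * v ∣ n → False := fun n en k k' => by
      rcases l with l | l
      · exact h.toNm.nd k (en ▸ e ▸ ind_dvd_of_le l)
      · exact k' (en ▸ e ▸ ind_dvd_of_le l)
    rcases h.all y with k | k | k | k | k
    · exact absurd (ind_eq_one.1 k) hy
    · rw [k, e]
    · refine (c _ k ⟨d * v, by ring⟩ fun k => h.toNm.swap.nd (n := d * u * v) ⟨d * v, by ring⟩ k).elim
    · refine (c _ k ⟨d * u, by ring⟩ fun k => ?_).elim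
      have : v ∣ q * u := Nat.dvd_of_mul_dvd_mul_left h.d0 ((Dvd.intro u (by ring)).trans (mul_assoc d q u ▸ k))
      have := (h.qv.symm.mul_right h.uv.symm).eq_one_of_dvd this
      omega
    · refine (c _ k ⟨u, rfl⟩ fun k => ?_).elim
      have := (h.qv.symm.mul_right h.uv.symm).eq_one_of_dvd ((Dvd.intro_left _ rfl).trans k)
      omega
  rcases l with l | l
  · exact (cent1_eq_of_le l ey.ge).symm
  · exact cent1_eq_of_le l ey.le

theorem good (e : ind x = d * u * v) (a : Abel (𝐂₁ x)) (hs : s.Prime) :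
    ∃ y : G, ¬ s ∣ (center G).relIndex (𝐂₁ y) := by
  obtain ⟨y, ey⟩ := h.exB
  obtain ⟨z, ez⟩ := h.exD
  have i := h.iso e
  have sp : ∀ y : G, q ∣ ind y → Sep x y := fun y k => i.sep' a
    (fun c => by rw [ind_eq_one.2 c] at k; exact h.q1.ne' (Nat.dvd_one.1 k))
    fun c => h.toNm.nd k (c ▸ e ▸ dvd_rfl)
  have sy := sp y (ey ▸ ⟨d * v, by ring⟩)
  by_cases c1 : s ∣ ind y
  · by_cases c2 : s ∣ ind z
    · refine ⟨y, sy.symm.good hs fun k => ?_⟩
      rw [ez] at c2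
      rcases (Nat.Prime.dvd_mul hs).1 c2 with c | c
      · exact not_dvd_of_coprime h.toNm.cop hs c (e ▸ k)
      · exact not_dvd_of_coprime h.toNm.swap.cop hs c (ey ▸ c1)
    · exact ⟨x, (sp z (ez ▸ ⟨u, rfl⟩)).good hs c2⟩
  · exact ⟨x, sy.good hs c1⟩

theorem dvd_of_pi {r : ℕ} (e : ind x = d * u * v)
    (k : ∀ w ∈ 𝐂₁ x, PiElt {r}ᶜ w → w ∈ center G) : r ∣ q := by
  obtain ⟨y, ey⟩ := h.exB
  obtain ⟨s, hs, sq⟩ := Nat.exists_prime_and_dvd h.q1.ne'
  by_contra c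
  have n := good_of_pi k hs (by rintro rfl; exact c sq)
  have : s ∣ (center G).index := by
    rw [← rel_mul_ind y, ey]
    exact Dvd.dvd.mul_left (sq.trans ⟨d * v, by ring⟩) _
  rw [← rel_mul_ind x, e] at this
  exact not_dvd_of_coprime h.toNm.cop hs sq (((Nat.Prime.dvd_mul hs).1 this).resolve_left n)

theorem ind_dvd (x : G) : ind x ∣ d * q * u * v := by
  rcases h.all x with e | e | e | e | e <;> rw [e]
  exacts [one_dvd _, ⟨q, by ring⟩, ⟨u, by ring⟩, ⟨v, by ring⟩, ⟨d * v, by ring⟩]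

theorem index : (center G).index = d * q * u * v := by
  obtain ⟨x, ex⟩ := h.exA
  obtain ⟨y, ey⟩ := h.exB
  have g : ∀ s, s.Prime → ∃ y : G, ¬ s ∣ (center G).relIndex (𝐂₁ y) := fun s hs => by
    rcases (h.iso ex).cases with a | ⟨r, hr, k⟩
    · exact h.good ex a hs
    rcases (h.swap.iso ey).cases with a | ⟨r', -, k'⟩
    · exact h.swap.good ey a hs
    by_cases c : s = r
    · refine ⟨y, good_of_pi k' hs fun c' => ?_⟩
      exact not_dvd_of_coprime h.qu hs (c ▸ h.dvd_of_pi ex k) (c' ▸ h.swap.dvd_of_pi ey k')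
    · exact ⟨x, good_of_pi k hs c⟩
  refine Nat.dvd_antisymm ((Nat.dvd_iff_prime_pow_dvd_dvd _ _).2 fun s k hs l => ?_) ?_
  · obtain ⟨z, hz⟩ := g s hs
    rw [← rel_mul_ind z] at l
    exact (((Nat.Prime.coprime_iff_not_dvd hs).2 hz).pow_left k).dvd_of_dvd_mul_left l |>.trans (h.ind_dvd z)
  · have h1 : d * u * v ∣ (center G).index := ex ▸ Dvd.intro_left _ (rel_mul_ind x)
    have h2 : q ∣ (center G).index := (Dvd.intro (d * v) (by rw [ey]; ring)).trans (Dvd.intro_left _ (rel_mul_ind y))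
    have := h.toNm.cop.mul_dvd_of_dvd_of_dvd h2 h1
    rwa [show q * (d * u * v) = d * q * u * v by ring] at this

end Cl

end CF.Fgs2.Cs
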