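import Cfsg.Agent.Fgs2.Cs1
import Cfsg.Agent.Perm.EqF
import Cfsg.Agent.PLocal.FusSC
import Cfsg.Agent.PLocal.ZJSC
import Cfsg.Agent.CIT.Spec

/-! Groups of order `|PSL₂(q)|` with three isolated sets of primes. -/

set_option autoImplicit false
set_option linter.unusedSectionVars false

namespace CF.Fgs2.Cs
open Subgroup CF.BG CF.SolvStr CF.Fgs1 MulAction Cfsg
open scoped MatrixGroups

universe w
variable {G : Type w} [Group G] [Finite G] {x y : G} {P N : Subgroup G} {q u v d s p : ℕ} {π : Set ℕ}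

/-- control of fusion in a group without elements of order `2p` -/
theorem exists_zj (hp : p.Prime) (h2 : p ≠ 2) (h : ∀ x : G, ¬ 2 * p ∣ orderOf x) (hP : Syl p P ⊤)
    (P1 : P ≠ ⊥) : ∃ W, W ≤ P ∧ W ≠ ⊥ ∧ ∀ A ≤ P, ∀ g, cj g A ≤ P → ∃ n ∈ 𝐍 W, ∃ c ∈ 𝐂 A, g = n * c := by
  haveI : Fact p.Prime := ⟨hp⟩
  let W := CF.PLocal.centerThompsonF.{w} p 0 (dvd_zero p)
  refine ⟨W.W P, W.le P, W.ne_bot P hP.pi.isPGroup P1, fun A hA g hg => ?_⟩
  refine W.ctrl_of_qdFree h2 (CF.PLocal.zjType_centerThompson h2 (Or.inl rfl))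
    (CF.PLocal.not_involves_qd_of_not_involves_SL2 fun k => ?_) (hP.isSylowIn hp)
    ⟨le_rfl, fun _ _ _ k => k⟩ A hA g (mem_top g) hg
  obtain ⟨K, f, hf⟩ := CF.Transfer.involves_iff.1 k
  obtain ⟨x, hx⟩ := hf (-CF.PLocal.upT 1)
  refine h x ?_
  have e : (-CF.PLocal.upT (1 : ZMod p)) ^ orderOf x = 1 := by
    rw [← hx, ← map_pow, pow_orderOf_eq_one, map_one]
  rw [orderOf_coe]
  generalize orderOf x = n at e
  haveI : Fact (2 < p) := ⟨lt_of_le_of_ne hp.two_le h2.symm⟩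
  rw [neg_pow, CF.PLocal.upT_pow] at e
  rcases n.even_or_odd with c | c
  · rw [c.neg_one_pow, one_mul] at e
    have := congrArg (fun m : SL(2, ZMod p) => m.1 0 1) e
    refine ((Nat.coprime_primes Nat.prime_two hp).2 h2.symm).mul_dvd_of_dvd_of_dvd c.two_dvd
      ((ZMod.natCast_eq_zero_iff n p).1 ?_)
    simpa [CF.PLocal.upT] using this
  · rw [c.neg_one_pow] at e
    have := congrArg (fun m : SL(2, ZMod p) => m.1 0 0) e
    rw [neg_one_mul] at this
    simp only [Matrix.SpecialLinearGroup.coe_neg, Matrix.SpecialLinearGroup.coe_one,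
      Matrix.neg_apply, Matrix.one_apply_eq] at this
    exact absurd (by simpa [CF.PLocal.upT] using this) (ZMod.neg_one_ne_one (n := p))

theorem ca_of_cent (hp : p.Prime) (h : p ≠ 2 → ∀ x : G, ¬ 2 * p ∣ orderOf x) (hP : Syl p P ⊤)
    (c : ∀ x : G, x ≠ 1 → PiElt {p} x → ♯(𝐂₁ x) = ♯P) : CA P := by
  have nd : ∀ x : G, PiElt {p} x → ¬ p ∣ ind x := fun x px => by
    by_cases x1 : x = 1
    · rw [x1, ind_eq_one.2 (one_mem _)]; exact hp.one_lt.ne' ∘ Nat.dvd_one.1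
    have := card_mul_ind x
    rw [c x x1 px, ← card_top' (G := G), ← hP.card_mul] at this
    rw [Nat.eq_of_mul_eq_mul_left (BG.card_pos' P) this]
    exact hP.not_dvd hp
  have a : Abel P := by
    by_cases h2 : p = 2
    · subst h2; exact abel_syl_two hP nd
    by_cases P1 : P = ⊥
    · exact P1 ▸ bot_le
    obtain ⟨W, l, W1, k⟩ := exists_zj hp h2 (h h2) hP P1
    have key : ∀ x ∈ P, ∃ n ∈ 𝐍 W, ∃ z ∈ 𝐙 P, x = n * z * n⁻¹ := fun x hx => by
      obtain ⟨g, hg⟩ := exists_mem_cj_cent hP ((piNat_compl_single hp).2 (nd x (hP.pi.elt hx)))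
      have hz := mem_cj.1 hg
      have zP : g⁻¹ * x * g ∈ P := hP.mem_of_norm trivial (cent_le_norm P hz)
        (by simpa using (hP.pi.elt hx).conj g⁻¹)
      obtain ⟨n, hn, e, he, rfl⟩ := k (zpowers (g⁻¹ * x * g)) (zpowers_le.2 zP) g
        (by rw [cj_zpowers]; simpa [mul_assoc] using hx)
      refine ⟨n, hn, _, ⟨zP, hz⟩, ?_⟩
      have := mem_cent.1 he _ (mem_zpowers _)
      calc x = n * (e * ((n * e)⁻¹ * x * (n * e))) * e⁻¹ * n⁻¹ := by group
        _ = _ := by rw [← this]; group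
    have l2 : P ≤ 𝐂 W := fun x hx => by
      obtain ⟨n, hn, z, hz, rfl⟩ := key x hx
      exact conj_mem_of_norm (norm_le_norm_cent W hn) (cent_anti l hz.2)
    obtain ⟨w, hw, w1⟩ := exists_mem_ne_one W1
    have e : 𝐂 W = P := (eq_of_card_le l2 ((BG.card_le (cent_le_cent1 hw)).trans
      (c w w1 (hP.pi.elt (l hw))).le)).symm
    intro x hx
    obtain ⟨n, hn, z, hz, rfl⟩ := key x hx
    exact conj_mem_of_norm (norm_le_norm_cent P (e ▸ norm_le_norm_cent W hn)) hz.2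
  exact fun x hx x1 => (eq_of_card_eq (le_cent1_iff.2 (a hx)) (c x x1 (hP.pi.elt hx)).symm).symm

section
variable (h : CA P) (hP : Hall π P ⊤)
include h hP

theorem fix {a : G} {z : G ⧸ 𝐍 P} (ha : a ∈ P) (a1 : a ≠ 1) (e : a • z = z) :
    z = QuotientGroup.mk 1 := by
  obtain ⟨g, rfl⟩ := QuotientGroup.mk_surjective z
  have k := hP.mem_of_norm trivial (CF.Invol.smul_mk_eq_iff.1 e) (by simpa using (hP.pi.elt ha).conj g⁻¹)
  have := h.ti ha a1 (g := g⁻¹) (by simpa using k)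
  exact QuotientGroup.eq.2 (by simpa using this)

theorem ne_one {a : G} {z : G ⧸ 𝐍 P} (ha : a ∈ 𝐍 P) (z1 : z ≠ QuotientGroup.mk 1) :
    a • z ≠ QuotientGroup.mk 1 := fun e => z1 (by
  rw [← inv_smul_smul a z, e]
  exact CF.Invol.smul_mk_eq_iff.2 (by simpa using ha))

theorem dvd_index : ♯P ∣ (𝐍 P).index - 1 := by
  classical
  let S : SubMulAction P (G ⧸ 𝐍 P) := ⟨{z | z ≠ QuotientGroup.mk 1}, fun c _ hz =>
    ne_one h hP (le_norm_self P c.2) hz⟩
  have := Nat.card_congr (selfEquivOrbitsQuotientProd (G := P) (X := S) fun z => eq_bot_iff.2 fun a ha => by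
    by_contra a1
    exact z.2 (fix h hP a.2 (fun e => a1 (Subtype.ext e)) (congrArg Subtype.val ha)))
  have e := CF.Invol.card_subtype_ne_add_one (p := fun _ : G ⧸ 𝐍 P => True) (a := QuotientGroup.mk 1) trivial
  rw [Nat.card_congr (Equiv.subtypeUnivEquiv fun _ => trivial)] at e
  rw [Nat.card_prod] at this
  rw [index, ← e, Nat.add_sub_cancel]
  exact (Dvd.intro_left _ this.symm).trans
    (Nat.card_congr (Equiv.subtypeEquivRight fun _ => by simp [S]; rfl)).dvd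

variable (i : (𝐍 P).index = ♯P + 1)
include i

theorem trans {y z : G ⧸ 𝐍 P} (y1 : y ≠ QuotientGroup.mk 1) (z1 : z ≠ QuotientGroup.mk 1) :
    ∃ a ∈ P, a • y = z := by
  let f : P → {t : G ⧸ 𝐍 P // True ∧ t ≠ QuotientGroup.mk 1} := fun a =>
    ⟨(a : G) • y, trivial, ne_one h hP (le_norm_self P a.2) y1⟩
  have e := CF.Invol.card_subtype_ne_add_one (p := fun _ : G ⧸ 𝐍 P => True) (a := QuotientGroup.mk 1) trivial
  rw [Nat.card_congr (Equiv.subtypeUnivEquiv fun _ => trivial)] at e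
  have b : Function.Bijective f := (Nat.bijective_iff_injective_and_card f).2 ⟨fun a b k => by
    by_contra n
    have k : (a : G) • y = (b : G) • y := congrArg Subtype.val k
    exact y1 (fix h hP (mul_mem (inv_mem b.2) a.2) (fun c => n (Subtype.ext (inv_mul_eq_one.1 c).symm))
      (by rw [mul_smul, k, inv_smul_smul])), by have : _ = ♯P + 1 := e.trans i; omega⟩
  obtain ⟨a, ha⟩ := b.2 ⟨z, trivial, z1⟩
  exact ⟨a, a.2, congrArg Subtype.val ha⟩

theorem sharp {g : G} {a b c : G ⧸ 𝐍 P} (ab : a ≠ b) (bc : b ≠ c) (ac : a ≠ c) (ga : g • a = a)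
    (gb : g • b = b) (gc : g • c = c) : g = 1 := by
  obtain ⟨t, ht⟩ := exists_smul_eq G a (QuotientGroup.mk 1)
  have key : ∀ x : G ⧸ 𝐍 P, g • x = x → (t * g * t⁻¹) • (t • x) = t • x := fun x hx => by
    rw [← mul_smul, inv_mul_cancel_right, mul_smul, hx]
  have k1 := key _ ga
  have b1 : t • b ≠ QuotientGroup.mk 1 := fun e => ab (MulAction.injective t (ht.trans e.symm))
  obtain ⟨r, hr, e⟩ := trans h hP i b1 fun e => ac (MulAction.injective t (ht.trans e.symm))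
  have k2 := key _ gb
  have k3 := key _ gc
  rw [ht, CF.Invol.smul_mk_eq_iff, inv_one, one_mul, mul_one] at k1
  have r1 : r ≠ 1 := fun c => bc (MulAction.injective t (by rwa [c, one_smul] at e))
  suffices t * g * t⁻¹ = 1 by simpa using this
  generalize t * g * t⁻¹ = k at k1 k2 k3
  by_contra n
  refine b1 (fix h hP (h r hr r1 ▸ mem_cent1.2 ?_) n k2)
  by_contra c
  refine b1 (fix h hP (mul_mem (inv_mem hr) (conj_mem_of_norm k1 hr)) (fun e => c ?_) ?_)
  · rw [inv_mul_eq_one] at e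
    rw [← mul_inv_eq_iff_eq_mul, ← e]
  · rw [mul_smul, mul_smul, mul_smul, inv_smul_eq_iff.2 k2.symm, e]
    exact inv_smul_eq_iff.2 (k3.trans e.symm) ▸ rfl

theorem zass (P1 : P ≠ ⊥) (n : 𝐍 P ≠ P) (nr : ∀ x : G, x ≠ 1 → ♯P < ind x) :
    IsZassenhausGroup G (G ⧸ 𝐍 P) := by
  classical
  letI : Fintype (G ⧸ 𝐍 P) := Fintype.ofFinite _
  have := one_lt_card.mpr P1
  obtain ⟨x, y, z, h1, h2, h3⟩ := Fintype.two_lt_card_iff.mp
    (show 2 < Fintype.card (G ⧸ 𝐍 P) by rw [← Nat.card_eq_fintype_card, ← index, i]; omega)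
  have std : ∀ a b : G ⧸ 𝐍 P, a ≠ b → ∀ c, c ≠ QuotientGroup.mk 1 →
      ∃ g : G, g • a = QuotientGroup.mk 1 ∧ g • b = c := fun a b ab c c1 => by
    obtain ⟨t, ht⟩ := exists_smul_eq G a (QuotientGroup.mk 1)
    obtain ⟨r, hr, e⟩ := trans h hP i (y := t • b) (fun e => ab (MulAction.injective t (ht.trans e.symm))) c1
    exact ⟨r * t, by
      rw [mul_smul, ht]; exact CF.Invol.smul_mk_eq_iff.2 (by simpa using le_norm_self P hr),
      by rw [mul_smul, e]⟩
  obtain ⟨c, c1⟩ : ∃ c : G ⧸ 𝐍 P, c ≠ QuotientGroup.mk 1 := by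
    by_contra k
    push Not at k
    exact h1 ((k x).trans (k y).symm)
  refine ⟨⟨fun {a b} hab => ?_⟩, ⟨fun x y => ?_⟩,
    fun g a b c h1 h2 h3 g1 g2 g3 => sharp h hP i h1 h2 h3 g1 g2 g3, ?_, fun N hN hT => ?_⟩
  · have k : ∀ x : G ⧸ 𝐍 P, (b⁻¹ * a) • x = x := fun x => by rw [mul_smul, hab, inv_smul_smul]
    exact (inv_mul_eq_one.mp (sharp h hP i h1 h3 h2 (k x) (k y) (k z))).symm
  · obtain ⟨a, a1, a2⟩ := std _ _ (x.injective.ne (by decide : (0 : Fin 2) ≠ 1)) c c1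
    obtain ⟨b, b1, b2⟩ := std _ _ (y.injective.ne (by decide : (0 : Fin 2) ≠ 1)) c c1
    refine ⟨b⁻¹ * a, ?_⟩
    ext i
    fin_cases i
    · show (b⁻¹ * a) • x 0 = y 0
      rw [mul_smul, a1, ← b1, inv_smul_smul]
    · show (b⁻¹ * a) • x 1 = y 1
      rw [mul_smul, a2, ← b2, inv_smul_smul]
  · obtain ⟨g, hg, ng⟩ := SetLike.exists_of_lt (lt_of_le_of_ne (le_norm_self P) n.symm)
    obtain ⟨r, hr, e⟩ := trans h hP i (ne_one h hP hg c1) c1
    exact ⟨r * g, fun k => ng (by rw [eq_inv_of_mul_eq_one_right k]; exact inv_mem hr), _, _, c1,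
      by rw [mul_smul, e], CF.Invol.smul_mk_eq_iff.2 (by simpa using mul_mem (le_norm_self P hr) hg)⟩
  · by_contra hc
    push Not at hc
    obtain ⟨⟨m, hm⟩, e⟩ := hT.exists_smul_eq c (QuotientGroup.mk 1)
    have m1 : m ≠ 1 := by rintro rfl; exact c1 ((one_smul G c).symm.trans e)
    have l := Set.ncard_lt_ncard (show cls m ⊂ (N : Set G) from ⟨by
      intro z hz
      obtain ⟨g, rfl⟩ := mem_cls.1 hz
      exact hN.conj_mem m hm g, fun k => by
        obtain ⟨g, e⟩ := mem_cls.1 (k (one_mem N)); exact m1 (by simpa using e)⟩)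
    have e2 := CF.Perm.card_eq_of_regular N c (hc c)
    have := nr m m1
    rw [ncard_cls, ← Nat.card_coe_set_eq] at l
    change _ < ♯N at l
    rw [← index, i] at e2
    omega

end

end CF.Fgs2.Cs
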