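import Cfsg.Agent.Fgs2.Cs2
import Cfsg.Agent.Transfer.Tate
import Cfsg.Agent.Classical.Four

/-! Groups with the class sizes of `PSL₂(q)`. -/

set_option autoImplicit false
set_option linter.unusedSectionVars false

namespace CF.Fgs2.Cs
open Subgroup CF.BG CF.SolvStr CF.Fgs1 MulAction Cfsg
open scoped MatrixGroups

universe w
variable {G : Type w} [Group G] [Finite G] {x y : G} {P N : Subgroup G} {a b c q u v d s p k : ℕ}

theorem dvd_aux (e : Nat.card G = a * (b * c)) (ab : a.Coprime b) (ac : a.Coprime c)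
    (h : ∀ x : G, orderOf x ∣ a ∨ orderOf x ∣ b ∨ orderOf x ∣ c) (x1 : x ≠ 1) (hx : orderOf x ∣ a) :
    ♯(𝐂₁ x) ∣ a := by
  refine Nat.Coprime.dvd_of_dvd_mul_right (k := ♯(𝐂₁ x)) (n := b * c) (coprime_of_primes fun s hs d1 d2 => ?_)
    (e ▸ Dvd.intro _ (card_mul_ind x))
  obtain ⟨w, hw, ow⟩ := exists_mem_orderOf_eq hs d1
  obtain ⟨r, hr, dr⟩ := Nat.exists_prime_and_dvd (mt orderOf_eq_one_iff.1 x1)
  obtain ⟨y, hy, oy⟩ := exists_mem_orderOf_eq hr (H := zpowers x) (by rwa [Nat.card_zpowers])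
  have n := fun k => not_dvd_of_coprime (ab.mul_right ac) hs k d2
  have ra := dr.trans hx
  have o : orderOf (y * w) = r * s := by
    rw [← oy, ← ow]
    exact Commute.orderOf_mul_eq_mul_orderOf_of_coprime
      (mem_cent1.1 (Fgs1.cent1_le_of_mem_zpowers hy hw)).symm
      (by rw [oy, ow]; exact (Nat.coprime_primes hr hs).2 fun k => n (k ▸ ra))
  rcases h (y * w) with k | k | k <;> rw [o] at k
  · exact n ((Dvd.intro_left _ rfl).trans k)
  · exact not_dvd_of_coprime ab hr ra ((Dvd.intro _ rfl).trans k)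
  · exact not_dvd_of_coprime ac hr ra ((Dvd.intro _ rfl).trans k)

structure Qt (G : Type*) [Group G] (q u v d : ℕ) : Prop extends Nm q u v d where
  card : Nat.card G = d * q * u * v
  all : ∀ x : G, x ≠ 1 → ∃ n, (n = q ∨ n = u ∨ n = v ∨ n = d * v) ∧ orderOf x ∣ n ∧ n ∣ ♯(𝐂₁ x)

theorem Cl.qt (h : Cl G q u v d) : Qt (G ⧸ center G) q u v d := by
  refine ⟨h.toNm, h.index, fun z z1 => ?_⟩
  obtain ⟨x, rfl⟩ := QuotientGroup.mk'_surjective _ z
  have e := rel_mul_ind x
  have e2 := relIndex_ker (𝐂₁ x) (QuotientGroup.mk' (center G))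
  rw [QuotientGroup.ker_mk'] at e2
  refine ⟨_, ?_, e2 ▸ orderOf_dvd_natCard _ (mem_map_of_mem _ (self_mem_cent1 x)),
    e2 ▸ card_dvd_of_le (by rintro _ ⟨y, hy, rfl⟩; rw [mem_cent1, ← map_mul, mem_cent1.1 hy, map_mul])⟩
  have p := ind_pos x
  rw [h.index] at e
  rcases h.all x with k | k | k | k | k
  · exact absurd ((QuotientGroup.eq_one_iff x).2 (ind_eq_one.1 k)) z1
  all_goals rw [k] at e p
  · exact Or.inl (Nat.eq_of_mul_eq_mul_right p (e.trans (by ring)))
  · exact Or.inr (Or.inl (Nat.eq_of_mul_eq_mul_right p (e.trans (by ring))))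
  · exact Or.inr (Or.inr (Or.inl (Nat.eq_of_mul_eq_mul_right p (e.trans (by ring)))))
  · exact Or.inr (Or.inr (Or.inr (Nat.eq_of_mul_eq_mul_right p (e.trans (by ring)))))

theorem Nm.qdv (h : Nm q u v d) : q.Coprime (d * v) := (h.qv.coprime_dvd_right h.dv).mul_right h.qv

namespace Qt
variable (h : Qt G q u v d)
include h

theorem ord (x : G) : orderOf x ∣ q ∨ orderOf x ∣ u ∨ orderOf x ∣ d * v := by
  by_cases x1 : x = 1
  · simp [x1]
  obtain ⟨n, rfl | rfl | rfl | rfl, k, -⟩ := h.all x x1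
  exacts [.inl k, .inr (.inl k), .inr (.inr (k.mul_left d)), .inr (.inr k)]

theorem cq (x1 : x ≠ 1) (hx : orderOf x ∣ q) : ♯(𝐂₁ x) = q := by
  have k := dvd_aux (h.card.trans (by ring)) h.qu h.toNm.qdv h.ord x1 hx
  have := h.u1
  have := h.v1
  obtain ⟨n, rfl | rfl | rfl | rfl, -, l⟩ := h.all x x1
  · exact Nat.dvd_antisymm k l
  · have := h.qu.symm.eq_one_of_dvd (l.trans k); omega
  · have := h.qv.symm.eq_one_of_dvd (l.trans k); omega
  · have := h.qv.symm.eq_one_of_dvd ((Dvd.intro_left _ rfl).trans (l.trans k)); omega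

theorem lt_ind (e : d ^ 2 * u * v + 1 = q ^ 2) (d2 : d ≤ 2) (q4 : 4 ≤ q) (x1 : x ≠ 1) : q < ind x := by
  have k := (card_mul_ind x).trans h.card
  have := h.u1
  have := h.v1
  have := h.toNm.d0
  have key : ∀ m n, ♯(𝐂₁ x) ∣ m → m * n = d * q * u * v → q < n → q < ind x := fun m n l e c => by
    refine c.trans_le (Nat.le_of_mul_le_mul_left (c := ♯(𝐂₁ x)) ?_ (BG.card_pos' _))
    rw [k, ← e]
    refine Nat.mul_le_mul_right _ (Nat.le_of_dvd (Nat.pos_of_ne_zero ?_) l)
    rintro rfl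
    have : 0 < d * q * u * v := by positivity
    omega
  rcases h.ord x with c | c | c
  · refine key q (d * u * v) (h.cq x1 c).dvd (by ring) ?_
    have : d ^ 2 * u * v ≤ 2 * (d * u * v) := by
      rw [show d ^ 2 * u * v = d * (d * u * v) by ring]; exact Nat.mul_le_mul_right _ d2
    nlinarith
  · refine key u (q * (d * v)) (dvd_aux (h.card.trans (by ring)) h.qu.symm h.toNm.swap.qdv
      (fun x => by have := h.ord x; tauto) x1 c) (by ring) ?_
    exact lt_mul_of_one_lt_right (by omega) (by nlinarith)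
  · refine key (d * v) (q * u) (dvd_aux (h.card.trans (by ring)) h.toNm.qdv.symm h.toNm.swap.qdv.symm
      (fun x => by have := h.ord x; tauto) x1 c) (by ring) ?_
    exact lt_mul_of_one_lt_right (by omega) (by omega)

theorem exists_ca (hp : p.Prime) (pq : q = p ^ k) (d2 : p ≠ 2 → 2 ∣ d * v) :
    ∃ P : Subgroup G, Syl p P ⊤ ∧ ♯P = q ∧ CA P := by
  obtain ⟨P, hP⟩ := exists_syl p (⊤ : Subgroup G)
  have dp : p ∣ q := pq ▸ dvd_pow_self p (by rintro rfl; have := h.q1; rw [pow_zero] at pq; omega)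
  have c : ♯P = q := by
    refine Nat.dvd_antisymm ?_ (hP.dvd_card (by rw [card_top', h.card]; exact ⟨d * u * v, by ring⟩)
      (pq ▸ piNat_pow_self hp k))
    refine Nat.Coprime.dvd_of_dvd_mul_right (n := d * u * v) (coprime_of_primes fun s hs l => ?_) ?_
    · obtain rfl : s = p := hP.pi s hs l
      exact not_dvd_of_coprime h.toNm.cop hs dp
    · rw [show q * (d * u * v) = d * q * u * v by ring, ← h.card]
      exact card_subgroup_dvd_card P
  refine ⟨P, hP, c, ca_of_cent hp (fun p2 x l => ?_) hP fun x x1 px => c ▸ h.cq x1 ?_⟩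
  · rcases h.ord x with k | k | k
    · exact p2 ((Nat.prime_dvd_prime_iff_eq Nat.prime_two hp).1 (Nat.prime_two.dvd_of_dvd_pow
        (pq ▸ (Dvd.intro _ rfl).trans (l.trans k)))).symm
    · exact not_dvd_of_coprime h.qu hp dp ((Dvd.intro_left _ rfl).trans (l.trans k))
    · exact not_dvd_of_coprime h.toNm.qdv hp dp ((Dvd.intro_left _ rfl).trans (l.trans k))
  · obtain ⟨g, -, l⟩ := hP.syl_le_cj le_top px.zpowers
    exact c ▸ card_cj g P ▸ orderOf_dvd_natCard _ (l (mem_zpowers x))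

theorem psl (hp : p.Prime) (pq : q = p ^ k) (e : d ^ 2 * u * v + 1 = q ^ 2) (d2 : d ≤ 2) (q4 : 4 ≤ q)
    (d1 : d = 1 → 2 ∣ q) {F : Type*} [Field F] [Fintype F] (hF : Fintype.card F = q) :
    Nonempty (G ≃* PSL(2, F)) := by
  have d0 := h.toNm.d0
  obtain ⟨P, hP, c, ca⟩ := h.exists_ca hp pq fun p2 => by
    refine Dvd.dvd.mul_right (by_contra fun n => p2 ?_) v
    exact ((Nat.prime_dvd_prime_iff_eq Nat.prime_two hp).1 (Nat.prime_two.dvd_of_dvd_pow
        (pq ▸ d1 (by omega)))).symm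
  have P1 : P ≠ ⊥ := one_lt_card.1 (c ▸ h.q1)
  have e1 : P.relIndex (𝐍 P) ∣ q - 1 := by
    have := dvd_ncard_conj (K := 𝐍 P) (S := (P : Set G) \ {1}) (n := P.relIndex (𝐍 P))
      (fun g hg s hs => ⟨conj_mem_of_norm hg hs.1, by simpa using hs.2⟩)
      fun s hs => by rw [ca s hs.1 hs.2]
    rw [Set.ncard_diff_singleton_of_mem (one_mem P), ← Nat.card_coe_set_eq] at this
    exact c ▸ this
  have e2 := dvd_index ca hP
  have e3 := relIndex_mul_index (le_norm_self P)
  have e4 := P.card_mul_index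
  rw [c] at e2 e4
  rw [h.card, ← e3] at e4
  have ip : 0 < (𝐍 P).index := Nat.pos_of_ne_zero index_ne_zero_of_finite
  generalize hn : (𝐍 P).index = n at e2 e4 ip
  generalize hm : P.relIndex (𝐍 P) = m at e1 e4
  have e5 : d * m * n + 1 = q ^ 2 := by
    rw [← e, show d ^ 2 * u * v = d * (d * u * v) by ring, mul_assoc d m,
      Nat.eq_of_mul_eq_mul_left (by omega : 0 < q) (e4.trans (by ring) : q * (m * n) = q * (d * u * v))]
  obtain ⟨t, ht⟩ := e2
  obtain rfl : n = q * t + 1 := by omega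
  have e6 : d * m + 1 = q := by
    have l : q ∣ d * m + 1 := (Nat.dvd_add_right (Dvd.intro (d * m * t) rfl)).1 ⟨q, by rw [← pow_two, ← e5]; ring⟩
    have := Nat.le_of_dvd (by omega) e1
    have : d * m ≤ 2 * m := Nat.mul_le_mul_right _ d2
    obtain ⟨j, hj⟩ := l
    rcases j with _ | _ | j
    · omega
    · omega
    · rw [show q * (j + 1 + 1) = q * j + 2 * q by ring] at hj; omega
  obtain rfl : t = 1 := by
    have : (d * m) * (q * t + 1) = (d * m) * (q * 1 + 1) := by nlinarith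
    have := Nat.eq_of_mul_eq_mul_left (by omega) this
    exact Nat.eq_of_mul_eq_mul_left (by omega : 0 < q) (by omega)
  have i : (𝐍 P).index = ♯P + 1 := by rw [hn, c, mul_one]
  have Z := zass ca hP i P1 (fun k => by rw [k, relIndex_self] at hm; subst hm; omega)
    fun x x1 => c ▸ h.lt_ind e d2 q4 x1
  have := CF.Perm.Zass.nontrivial Z
  obtain ⟨a, b, ab⟩ := exists_pair_ne (G ⧸ 𝐍 P)
  have cΩ : Nat.card (G ⧸ 𝐍 P) = q + 1 := by rw [← c, ← i, index]
  have cG : d * Nat.card G + q = q ^ 3 := by rw [h.card, pow_succ q 2, ← e]; ring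
  obtain ⟨K, _, _, c1, ⟨f⟩⟩ | ⟨K, _, _, m, m1, c1, c2, ⟨f⟩⟩ | ⟨c1, c2⟩ := CF.EqF.zass_cases Z ab
  · exact ⟨f.trans (CF.Classical.pslCongr _ (FiniteField.ringEquivOfCardEq (by omega)))⟩
  · exfalso
    rw [Nat.card_congr f.toEquiv, CF.CIT.card_sz c1, ← c1] at cG
    have : 8 ≤ Fintype.card K := c1 ▸ Nat.pow_le_pow_right two_pos (show 3 ≤ 2 * m + 1 by omega)
    obtain ⟨j, hj⟩ : ∃ j, Fintype.card K = j + 1 := ⟨Fintype.card K - 1, by omega⟩
    rw [show q = Fintype.card K ^ 2 by omega, hj, Nat.add_sub_cancel] at cG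
    have : d * ((j + 1) ^ 2 * j * ((j + 1) ^ 2 + 1)) = (j + 2) * ((j + 1) ^ 2 * j * ((j + 1) ^ 2 + 1)) := by
      nlinarith
    have := Nat.eq_of_mul_eq_mul_right (by have : 0 < j := by omega
                                           positivity) this
    omega
  · exfalso
    obtain ⟨Q, z⟩ := CF.Perm.Zass.exists_zsetup Z a
    have c3 := z.card_eq ab.symm
    rw [z.card_group ab.symm, show ♯Q = q by omega] at cG
    obtain ⟨j, hj⟩ : ∃ j, q = j + 1 := ⟨q - 1, by omega⟩
    have c4 : Nat.card (CF.Small.stab2 G a b) = j := by omega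
    rw [c4] at c1 cG
    have : d * ((q + 1) * q * j) = 1 * ((q + 1) * q * j) := by subst hj; nlinarith
    have := d1 (Nat.eq_of_mul_eq_mul_right (by have : 0 < j := by omega
                                               positivity) this)
    have := c1.two_dvd
    omega

end Qt

end CF.Fgs2.Cs
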