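import Cfsg.Agent.Fgs2.Cs3

/-! Groups with the class sizes of `PSL₂(q)` are direct products `PSL₂(q) × A`. -/

set_option autoImplicit false
set_option linter.unusedSectionVars false

namespace CF.Fgs2.Cs
open Subgroup CF.BG CF.SolvStr CF.Fgs1 CF.Classical
open scoped MatrixGroups commutatorElement

variable {G : Type*} [Group G] [Finite G] {L : Type*} [Group L] [Finite L] {x y : G}
  {A D : Subgroup G} {q u v d : ℕ}

structure L2 (L : Type*) [Group L] (q u v d : ℕ) : Prop extends Cl L q u v d where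
  card : Nat.card L = d * q * u * v
  e : d ^ 2 * u * v + 1 = q ^ 2
  d2 : d ≤ 2
  d1 : d = 1 → 2 ∣ q
  ou : ∃ g : L, orderOf g = u
  ov : ∃ g : L, orderOf g = v
  dih : d = 2 → ∀ t : L, ♯(𝐂₁ t) = 2 * v → ∃ g, orderOf g = v ∧ g ∈ 𝐂₁ t ∧
    ∀ a ∈ zpowers g, 𝐂₁ t ≤ 𝐂₁ a → a = 1 ∨ a = t

theorem l2 {F : Type*} [Field F] [Fintype F]
    (hq : (2 ∣ Fintype.card F ∧ 2 < Fintype.card F) ∨ (¬ 2 ∣ Fintype.card F ∧ 7 ≤ Fintype.card F)) :
    ∃ u v d, L2 PSL(2, F) (Fintype.card F) u v d := by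
  have L := isL2_PSL (F := F) (k := AlgebraicClosure F)
  have i := index_range_pslToPGL F
  have c := L.card_mul_index
  rw [← Nat.card_eq_fintype_card] at hq ⊢
  generalize hd : (Matrix.ProjectiveSpecialLinearGroup.toPGL : PSL(2, F) →* PGL(2, F)).range.index = d at i c
  obtain ⟨u, v, h1, h2, h3, u3, v3, h4, h5⟩ : ∃ u v, (u * d = Nat.card F - 1 ∧ v * d = Nat.card F + 1 ∨
      u * d = Nat.card F + 1 ∧ v * d = Nat.card F - 1) ∧ d ∣ v ∧ ¬ 2 ∣ u ∧ 3 ≤ u ∧ 3 ≤ v ∧
      (d = 1 ∧ 2 ∣ Nat.card F ∨ d = 2 ∧ ¬ 2 ∣ Nat.card F) ∧ u.Coprime v := by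
    rcases hq with hq | hq
    · obtain rfl : d = 1 := i.trans (Nat.prime_two.coprime_iff_not_dvd.2 (by omega))
      refine ⟨Nat.card F - 1, Nat.card F + 1, by omega, one_dvd _, by omega, by omega, by omega, by omega,
        coprime_of_primes fun s hs a b => ?_⟩
      have := (Nat.dvd_add_right a).1 (show s ∣ Nat.card F - 1 + 2 by rwa [show Nat.card F - 1 + 2 = Nat.card F + 1 by omega])
      obtain rfl := (Nat.prime_dvd_prime_iff_eq hs Nat.prime_two).1 this
      omega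
    obtain rfl : d = 2 := i.trans (Nat.gcd_eq_left (by omega))
    obtain ⟨n, hn⟩ : ∃ n, Nat.card F = 2 * n + 1 := ⟨Nat.card F / 2, by omega⟩
    by_cases k : 2 ∣ n
    · exact ⟨n + 1, n, by omega, k, by omega, by omega, by omega, by omega, by simp⟩
    · exact ⟨n, n + 1, by omega, by omega, k, by omega, by omega, by omega, by simp⟩
  have q4 : 4 ≤ Nat.card F := by omega
  have e : d ^ 2 * u * v + 1 = Nat.card F ^ 2 := by
    obtain ⟨n, hn⟩ : ∃ n, Nat.card F = n + 1 := ⟨Nat.card F - 1, by omega⟩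
    rw [show d ^ 2 * u * v = (u * d) * (v * d) by ring]
    rcases h1 with ⟨a, b⟩ | ⟨a, b⟩ <;> rw [a, b, hn, Nat.add_sub_cancel] <;> ring
  have d0 : 0 < d := by omega
  have cG : Nat.card PSL(2, F) = d * Nat.card F * u * v := Nat.eq_of_mul_eq_mul_right d0 (by
    rw [c, ← e, Nat.add_sub_cancel]; ring)
  have cop : (Nat.card F).Coprime (d ^ 2 * u * v) := by
    have : (Nat.card F ^ 2).Coprime (d ^ 2 * u * v) := by rw [← e]; simp
    exact Nat.Coprime.coprime_dvd_left (dvd_pow_self _ two_ne_zero) this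
  have I : ∀ (x : PSL(2, F)) m n, ♯(𝐂₁ x) = m → m * n = d * Nat.card F * u * v → ind x = n :=
    fun x m n a b => Nat.eq_of_mul_eq_mul_left (BG.card_pos' (𝐂₁ x)) (by rw [card_mul_ind, cG, a, b])
  have N : ∀ n, n * d = Nat.card F - 1 ∨ n * d = Nat.card F + 1 ↔ n = u ∨ n = v := fun n => by
    rcases h4 with ⟨rfl, -⟩ | ⟨rfl, -⟩ <;> omega
  have C : ∀ x : PSL(2, F), x ≠ 1 → ♯(𝐂₁ x) = Nat.card F ∨ ♯(𝐂₁ x) = u ∨ ♯(𝐂₁ x) = v ∧ x * x ≠ 1 ∨
      ♯(𝐂₁ x) = d * v ∧ x * x = 1 := fun x x1 => by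
    rcases L.card_centralizer_cases x1 with k | ⟨n, hn, o, k⟩
    · exact Or.inl k
    rw [hd, N] at hn
    split_ifs at k with x2
    · rw [orderOf_eq_prime (p := 2) (by rwa [pow_two]) x1] at o
      rcases hn with rfl | rfl
      · exact absurd o h3
      · exact .inr (.inr (.inr ⟨by rw [k]; rcases h4 with ⟨rfl, -⟩ | ⟨rfl, -⟩ <;> omega, x2⟩))
    · rcases hn with rfl | rfl
      exacts [.inr (.inl k), .inr (.inr (.inl ⟨k, x2⟩))]
  obtain ⟨a, oa, ca⟩ := L.exists_card_centralizer (n := u) (by rw [hd, N]; simp) dvd_rfl (by omega)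
  obtain ⟨b, ob, cb⟩ := L.exists_card_centralizer (n := v) (by rw [hd, N]; simp) dvd_rfl (by omega)
  rw [if_neg (by omega)] at ca cb
  refine ⟨u, v, d, ⟨⟨cop.coprime_dvd_right ⟨d ^ 2 * v, by ring⟩, cop.coprime_dvd_right ⟨d ^ 2 * u, by ring⟩,
    h5, h2, by omega, by omega, by omega⟩, fun x => ?_, ?_, ⟨a, I a _ _ ca (by ring)⟩, ?_⟩, cG, e,
    by omega, by omega, ⟨a, oa⟩, ⟨b, ob⟩, fun d2 t ht => ?_⟩
  · by_cases x1 : x = 1
    · exact Or.inl (ind_eq_one.2 (x1 ▸ one_mem _))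
    rcases C x x1 with k | k | k | k
    · exact .inr (.inl (I x _ _ k (by ring)))
    · exact .inr (.inr (.inl (I x _ _ k (by ring))))
    · exact .inr (.inr (.inr (.inl (I x _ _ k.1 (by ring)))))
    · exact .inr (.inr (.inr (.inr (I x _ _ k.1 (by ring)))))
  · obtain ⟨z, hz⟩ := L.exists_isUnip OnePoint.infty
    exact ⟨z, I z _ _ (L.card_centralizer_of_isUnip hz) (by ring)⟩
  · rcases h4 with ⟨rfl, -⟩ | ⟨rfl, -⟩
    · exact ⟨b, I b _ _ cb (by ring)⟩
    · obtain ⟨z, -, cz⟩ := L.exists_card_centralizer (n := v) (m := 2) (by rw [hd, N]; simp) h2 (by omega)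
      exact ⟨z, I z _ _ cz (by simp; ring)⟩
  · subst d2
    have t1 : t ≠ 1 := by
      rintro rfl
      rw [cent1_one, card_top', cG] at ht
      have : 2 * Nat.card F * u * v = (Nat.card F * u) * (2 * v) := by ring
      nlinarith [Nat.mul_le_mul q4 u3]
    have t2 : t * t = 1 := by rcases C t t1 with k | k | k | k <;> first | exact k.2 | omega
    obtain ⟨x, y, xy, hT⟩ := L.exists_torus_of_mul_self (fun k => by
      have := Fgs3.charP_two k
      have := (prime_dvd_char_iff_dvd_card (R := F) 2).1 (by rw [ringChar.eq F 2])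
      rw [← Nat.card_eq_fintype_card] at this
      omega) t2
    have k := L.card_centralizer_of_mem_torus xy t1 hT
    rw [if_pos t2, ht] at k
    have cy : Cyc (torus PSL(2, F) x y) := isCyclic_torus xy
    obtain ⟨g, hg⟩ := cy.exists_gen
    refine ⟨g, by rw [← Nat.card_zpowers, hg]; omega, mem_cent1.2 (cy.abel.mul_comm (hg.le (mem_zpowers g)) hT),
      fun a ha l => or_iff_not_imp_left.2 fun a1 => ?_⟩
    have k2 := L.card_centralizer_of_mem_torus xy a1 (hg.le ha)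
    have := BG.card_le l
    have a2 : a * a = 1 := by
      by_contra n
      rw [if_neg n] at k2
      omega
    have o : ∀ a : PSL(2, F), a * a = 1 → a ≠ 1 → orderOf a = 2 := fun a a2 a1 =>
      orderOf_eq_prime (p := 2) (by rwa [pow_two]) a1
    obtain ⟨n, rfl⟩ := mem_powers_iff_mem_zpowers.2 (cy.le_of_dvd (zpowers_le.2 (hg.le ha)) (zpowers_le.2 hT)
      (by simp [o a a2 a1, o t t2 t1]) (mem_zpowers a))
    dsimp only at a1 ⊢
    rw [← pow_mod_orderOf, o t t2 t1] at a1 ⊢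
    rcases Nat.mod_two_eq_zero_or_one n with e | e
    · rw [e] at a1; simp at a1
    · rw [e, pow_one]

theorem eq_of_index {H K : Subgroup G} (l : H ≤ K) (e : H.index ∣ K.index) : H = K :=
  eq_of_card_eq l (Nat.eq_of_mul_eq_mul_right (Nat.pos_of_ne_zero (index_ne_zero_of_finite (H := H))) (by
    rw [H.card_mul_index, Nat.dvd_antisymm e (index_dvd_of_le l), K.card_mul_index]))

theorem der_inf_center (a : Abel A) (l : A ≤ D) (i : A.relIndex D = 2)
    (h : ∀ x ∈ A, (∀ y ∈ D, ⁅x, y⁆ ∈ center G) → x ∈ 𝐂 D) (z : center G ≤ A) :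
    ⁅D, D⁆ ⊓ center G = ⊥ := by
  obtain ⟨⟨b, hb⟩, k⟩ := index_eq_two_iff'.1 i
  have nb : b ∉ A := fun c => by simpa [mem_subgroupOf, c] using k 1
  have k : ∀ x ∈ D, x ∈ A ∨ ∃ a ∈ A, x = a * b := fun x hx => or_iff_not_imp_left.2 fun n =>
    ⟨x * b⁻¹, (mul_mem_iff_of_index_two i (a := ⟨x, hx⟩) (b := ⟨b⁻¹, inv_mem hb⟩)).2
      (by simpa [mem_subgroupOf, n] using nb), by simp⟩
  have n : ∀ x ∈ A, b * x * b⁻¹ ∈ A := fun x hx =>
    (normal_of_index_eq_two i).conj_mem ⟨x, l hx⟩ hx ⟨b, hb⟩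
  have c : ∀ x ∈ A, ∀ y ∈ A, ⁅x * y, b⁆ = ⁅x, b⁆ * ⁅y, b⁆ := fun x hx y hy => by
    have e1 := a.mul_comm (n _ (inv_mem hx)) hy
    have e2 := a.mul_comm (n _ (inv_mem hx)) (n _ (inv_mem hy))
    calc ⁅x * y, b⁆ = x * y * (b * y⁻¹ * b⁻¹ * (b * x⁻¹ * b⁻¹)) := by rw [commutatorElement_def]; group
      _ = x * (y * (b * x⁻¹ * b⁻¹)) * (b * y⁻¹ * b⁻¹) := by rw [← e2]; group
      _ = _ := by rw [← e1, commutatorElement_def, commutatorElement_def]; group
  let W : Subgroup G := ⟨⟨⟨{w | ∃ x ∈ A, w = ⁅x, b⁆}, by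
    rintro _ _ ⟨x, hx, rfl⟩ ⟨y, hy, rfl⟩
    exact ⟨_, mul_mem hx hy, (c x hx y hy).symm⟩⟩, ⟨1, one_mem _, by simp⟩⟩, by
    rintro _ ⟨x, hx, rfl⟩
    exact ⟨_, inv_mem hx, inv_eq_of_mul_eq_one_right (by rw [← c x hx _ (inv_mem hx)]; simp)⟩⟩
  have c2 : ∀ x ∈ A, ∀ y ∈ A, ⁅x, y * b⁆ = ⁅x, b⁆ := fun x hx y hy => by
    have e1 := a.mul_comm (n _ (inv_mem hx)) (inv_mem hy)
    have e2 := a.mul_comm hx hy
    calc ⁅x, y * b⁆ = x * y * (b * x⁻¹ * b⁻¹ * y⁻¹) := by rw [commutatorElement_def]; group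
      _ = _ := by rw [e1, commutatorElement_def]; group
  have lw : ⁅D, D⁆ ≤ W := commutator_le.2 fun x hx y hy => by
    rcases k x hx with h1 | ⟨x, h1, rfl⟩ <;> rcases k y hy with h2 | ⟨y, h2, rfl⟩
    · rw [commutatorElement_eq_one_iff_mul_comm.2 (a.mul_comm h1 h2)]; exact one_mem _
    · exact ⟨x, h1, c2 x h1 y h2⟩
    · rw [← commutatorElement_inv]; exact inv_mem ⟨y, h2, c2 y h2 x h1⟩
    · refine ⟨x * y⁻¹, mul_mem h1 (inv_mem h2), ?_⟩
      have e1 := a.mul_comm (n _ (mul_mem h2 (inv_mem h1))) (inv_mem h2)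
      calc ⁅x * b, y * b⁆ = x * (b * (y * x⁻¹) * b⁻¹ * y⁻¹) := by rw [commutatorElement_def]; group
        _ = _ := by rw [e1, commutatorElement_def]; group
  refine eq_bot_of_forall fun w hw => ?_
  obtain ⟨x, hx, rfl⟩ := lw hw.1
  refine commutatorElement_eq_one_iff_mul_comm.2 (mem_cent.1 (h x hx fun y hy => ?_) b hb).symm
  rcases k y hy with h2 | ⟨y, h2, rfl⟩
  · rw [commutatorElement_eq_one_iff_mul_comm.2 (a.mul_comm hx h2)]; exact one_mem _
  · exact c2 x hx y h2 ▸ hw.2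

section
variable {f : G →* L} (hf : Function.Surjective f) (hk : f.ker = center G)
include hf hk

theorem abel_comap (g : L) : Abel ((zpowers g).comap f) := by
  obtain ⟨g, rfl⟩ := hf g
  rw [← MonoidHom.map_zpowers, comap_map_eq, hk]
  exact (abel_zpowers g).sup (center_le_cent _) (cent_symm (center_le_cent _))

theorem der_inf (h : Cl G q u v d) (k : L2 L q u v d) (zL : center L = ⊥) {P : Subgroup L} (cP : ♯P = q)
    (ca : CA P) :
    commutator G ⊓ center G = ⊥ := by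
  refine eq_bot_of_forall fun z hz => ?_
  have T : ∀ H : Subgroup G, center G ≤ H → ⁅H, H⁆ ⊓ center G = ⊥ → orderOf z ∣ H.index := fun H l e =>
    orderOf_dvd_of_pow_eq_one (mem_bot.1 (e.le ⟨CF.Transfer.pow_index_mem_commutator_of_center
      (l hz.2) hz.2 hz.1, pow_mem hz.2 _⟩))
  have Z : ∀ H : Subgroup L, center G ≤ H.comap f := fun H => hk ▸ ker_le_comap f H
  have T2 : ∀ (H : Subgroup L) n, Abel (H.comap f) → ♯H * n = d * q * u * v → orderOf z ∣ n :=
    fun H n a e => by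
      have := T _ (Z H) (by rw [der_eq_bot.2 a, bot_inf_eq])
      rwa [index_comap_of_surjective _ hf, Nat.eq_of_mul_eq_mul_left (BG.card_pos' H)
        (H.card_mul_index.trans (k.card.trans e.symm))] at this
  have lc : ∀ x : G, 𝐂₁ x ≤ (𝐂₁ (f x)).comap f := fun x y hy => by
    rw [mem_comap, mem_cent1, ← map_mul, mem_cent1.1 hy, map_mul]
  obtain ⟨a, oa⟩ := k.ou
  obtain ⟨b, ob⟩ := k.ov
  have h1 := T2 _ (d * q * v) (abel_comap hf hk a) (by rw [Nat.card_zpowers, oa]; ring)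
  have h2 := T2 _ (d * q * u) (abel_comap hf hk b) (by rw [Nat.card_zpowers, ob]; ring)
  have iP : P.index = d * u * v := Nat.eq_of_mul_eq_mul_left (BG.card_pos' P)
    (by rw [P.card_mul_index, k.card, cP]; ring)
  have h3 := T2 P (d * u * v) (fun y hy => by
    by_cases c : y ∈ center G
    · exact center_le_cent _ c
    have y1 : f y ≠ 1 := by rwa [← hk] at c
    have e := ca _ hy y1
    have l := lc y
    rw [e] at l
    refine le_cent1_iff.1 (eq_of_index l ?_).ge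
    rw [index_comap_of_surjective _ hf, iP]
    have n : _ ∣ ind y := index_dvd_of_le l
    rw [index_comap_of_surjective _ hf, iP] at n
    have := h.v1
    rcases h.all y with k | k | k | k | k
    · exact absurd (ind_eq_one.1 k) c
    · exact k.dvd
    · exact (h.toNm.swap.nd (n := d * u * v) ⟨d * v, by ring⟩ (k ▸ n)).elim
    · have : v ∣ q * u := Nat.dvd_of_mul_dvd_mul_left h.toNm.d0
        ((Dvd.intro u (by ring)).trans (mul_assoc d q u ▸ k ▸ n))
      have := (h.qv.symm.mul_right h.uv.symm).eq_one_of_dvd this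
      omega
    · have := (h.qv.symm.mul_right h.uv.symm).eq_one_of_dvd ((Dvd.intro_left _ rfl).trans (k ▸ n))
      omega) (by rw [cP]; ring)
  have h4 : orderOf z ∣ d := by
    have := Nat.dvd_gcd h1 h2
    rw [Nat.gcd_mul_left, h.uv.symm, mul_one] at this
    have := Nat.dvd_gcd this (mul_assoc d u v ▸ h3)
    rwa [Nat.gcd_mul_left, h.qu.mul_right h.qv, mul_one] at this
  by_cases d1 : d = 1
  · exact orderOf_eq_one_iff.1 (Nat.dvd_one.1 (d1 ▸ h4))
  have d2 : d = 2 := by have := k.d2; have := h.toNm.d0; omega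
  obtain ⟨t, et⟩ := h.exD
  have t1 : f t ≠ 1 := fun c => by
    rw [ind_eq_one.2 (hk.le c)] at et
    exact h.u1.ne' (Nat.eq_one_of_mul_eq_one_left et.symm)
  have n : ind (f t) ∣ q * u := et ▸ index_centralizer_map_dvd hf t
  have e : ind (f t) = q * u := by
    have p : 0 < q * u := et ▸ ind_pos t
    have := h.v1
    rcases k.all (f t) with c | c | c | c | c
    · exact absurd (zL.le (ind_eq_one.1 c)) t1
    · have := (h.qv.symm.mul_right h.uv.symm).eq_one_of_dvd ((Dvd.intro_left _ rfl).trans (c ▸ n))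
      omega
    · have := (h.qv.symm.mul_right h.uv.symm).eq_one_of_dvd ((Dvd.intro_left _ rfl).trans (c ▸ n))
      omega
    · have := Nat.le_of_dvd p (c ▸ n)
      rw [d2, mul_assoc] at this
      omega
    · exact c
  have e2 : 𝐂₁ t = (𝐂₁ (f t)).comap f := eq_of_index (lc t)
    (by rw [index_comap_of_surjective _ hf]; exact (et.trans e.symm).dvd)
  have c2 : ♯(𝐂₁ (f t)) = 2 * v := Nat.eq_of_mul_eq_mul_right (ind_pos (f t))
    (by rw [card_mul_ind, k.card, e, d2]; ring)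
  obtain ⟨g, og, hg, kg⟩ := k.dih d2 _ c2
  have h5 := T _ (center_le_cent1 t) (der_inf_center (abel_comap hf hk g)
    (e2 ▸ comap_mono (zpowers_le.2 hg)) ?_ (fun x hx c => ?_) (Z _))
  · exact orderOf_eq_one_iff.1 (Nat.eq_one_of_dvd_coprimes (h.qv.mul_left h.uv) (h5.trans et.dvd)
      (h4.trans h.dv))
  · rw [e2, relIndex_comap, map_comap_eq_self_of_surjective hf]
    refine Nat.eq_of_mul_eq_mul_left (BG.card_pos' (zpowers g)) ?_
    rw [BG.card_mul_relIndex (zpowers_le.2 hg), c2, Nat.card_zpowers, og, mul_comm]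
  · rcases kg _ hx (fun y hy => by
      obtain ⟨y, rfl⟩ := hf y
      rw [mem_cent1_iff_comm, ← map_commutatorElement]
      exact hk.ge (c y (e2.ge hy))) with c | c
    · exact center_le_cent _ (hk.le c)
    · rw [← mul_inv_cancel_left t x]
      exact mul_mem (le_cent1_iff.1 le_rfl) (center_le_cent _ (hk.le (by simp [c])))

end

theorem main {F : Type*} [Field F] [Fintype F]
    (hq : (2 ∣ Fintype.card F ∧ 2 < Fintype.card F) ∨ (¬ 2 ∣ Fintype.card F ∧ 7 ≤ Fintype.card F))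
    (h : Set.range (ind : G → ℕ) = Set.range (ind : PSL(2, F) → ℕ)) :
    ∃ f : G →* PSL(2, F), Function.Surjective f ∧ f.ker = center G ∧
      commutator G ⊓ center G = ⊥ ∧ commutator G ⊔ center G = ⊤ := by
  obtain ⟨u, v, d, k⟩ := l2 hq
  have c : Cl G (Fintype.card F) u v d := ⟨k.toNm, fun x => by
    obtain ⟨y, e⟩ := h.le ⟨x, rfl⟩
    exact e ▸ k.all y, h.ge k.exA, h.ge k.exB, h.ge k.exD⟩
  obtain ⟨p, _⟩ := CharP.exists F
  obtain ⟨n, hp, hn⟩ := FiniteField.card F p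
  obtain ⟨e⟩ := c.qt.psl hp hn k.e k.d2 (by omega) k.d1 rfl
  have := isSimpleGroup_PSL2 (F := F) (by rw [Nat.card_eq_fintype_card]; omega)
  have zL : center PSL(2, F) = ⊥ := (IsSimpleGroup.eq_bot_or_eq_top_of_normal _ inferInstance).resolve_right
    fun e => let ⟨x, hx⟩ := k.exA; (k.toCl.iso hx).1 (e.ge trivial)
  obtain ⟨P, -, cP, ca⟩ := c.qt.exists_ca hp hn fun p2 => by
    refine Dvd.dvd.mul_right (by_contra fun n => p2 ?_) v
    have := k.d2
    have := k.toNm.d0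
    exact ((Nat.prime_dvd_prime_iff_eq Nat.prime_two hp).1 (Nat.prime_two.dvd_of_dvd_pow
        (hn ▸ k.d1 (by omega)))).symm
  let f := e.toMonoidHom.comp (QuotientGroup.mk' (center G))
  have hf : Function.Surjective f := e.surjective.comp (QuotientGroup.mk'_surjective _)
  have hk : f.ker = center G := by
    rw [← MonoidHom.comap_ker, (MonoidHom.ker_eq_bot_iff _).2 e.injective, MonoidHom.comap_bot,
      QuotientGroup.ker_mk']
  refine ⟨f, hf, hk, der_inf hf hk c k zL (P := P.map e.toMonoidHom)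
    ((card_map e.injective).trans cP) ?_, ?_⟩
  · rintro _ ⟨x, hx, rfl⟩ x1
    rw [← ca x hx fun c => x1 (by simp [c])]
    ext y
    obtain ⟨y, rfl⟩ := e.surjective y
    simp [mem_cent1, ← map_mul]
  · rw [← hk, ← comap_map_eq, commutator_def, map_commutator, map_top_of_surjective _ hf, ← commutator_def,
      (IsSimpleGroup.eq_bot_or_eq_top_of_normal (commutator PSL(2, F)) inferInstance).resolve_left
        fun c => ?_, comap_top]
    rw [commutator_eq_bot_iff_center_eq_top, zL] at c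
    exact absurd c bot_ne_top

end CF.Fgs2.Cs
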