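import Cfsg.Agent.Fgs2.Base16
import Cfsg.Agent.Char.Classes
import Cfsg.Agent.SolvStr.Prim

/-! Counting conjugacy classes and orbits of solvable linear groups. -/

set_option autoImplicit false

namespace CF.Fgs2.HK

open Subgroup CF.Fgs2.Base
open scoped Pointwise commutatorElement

universe u

/-- the class number -/
noncomputable abbrev kc (G : Type*) [Group G] : ℕ := Nat.card (ConjClasses G)

/-- the number of orbits -/
noncomputable abbrev ob (G V : Type*) [Group G] [MulAction G V] : ℕ :=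
  Nat.card (Quotient (MulAction.orbitRel G V))

section classes

variable {G : Type*} [Group G] [Finite G]

theorem kc_le_of_surj {H : Type*} [Group H] (f : G →* H) (hf : Function.Surjective f) :
    kc H ≤ kc G := Nat.card_le_card_of_surjective _ (ConjClasses.map_surjective hf)

theorem kc_le_index_mul (H : Subgroup G) : kc H ≤ H.index * kc G := by
  refine Nat.le_of_mul_le_mul_right (c := Nat.card H) ?_ Nat.card_pos
  rw [mul_right_comm, index_mul_card, mul_comm (Nat.card G),
    ← card_comm_eq_card_conjClasses_mul_card, ← card_comm_eq_card_conjClasses_mul_card]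
  exact Nat.card_le_card_of_injective (fun x => ⟨(x.1.1, x.1.2), x.2.map H.subtype⟩)
    fun x y e => Subtype.ext (Prod.ext (Subtype.ext (congrArg (·.1.1) e))
      (Subtype.ext (congrArg (·.1.2) e)))

theorem card_le_kc {A C : Subgroup G} (h : C ≤ centralizer (A : Set G)) :
    Nat.card A ≤ kc G * C.index := by
  refine Nat.le_of_mul_le_mul_right (c := Nat.card C) ?_ Nat.card_pos
  rw [mul_assoc, index_mul_card, ← card_comm_eq_card_conjClasses_mul_card, ← Nat.card_prod]
  exact Nat.card_le_card_of_injective (fun x => ⟨(x.1, x.2), h x.2.2 _ x.1.2⟩)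
    fun x y e => Prod.ext (Subtype.ext (congrArg (·.1.1) e)) (Subtype.ext (congrArg (·.1.2) e))

theorem mul_le_cent {A : Subgroup G} (hA : A ≤ center G) {g : G} {r : ℕ}
    (h : ∀ i, 0 < i → i < r → g ^ i ∉ A) : r * Nat.card A ≤ Nat.card (centralizer {g}) := by
  have key : ∀ (i j : Fin r) (x y : A), i < j → g ^ i.1 * x ≠ g ^ j.1 * y := fun i j x y h1 e =>
    h (j - i) (Nat.sub_pos_of_lt h1) (by omega) (by
      rw [← Nat.add_sub_cancel' h1.le, pow_add, mul_assoc, mul_right_inj, ← mul_inv_eq_iff_eq_mul] at e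
      exact e ▸ mul_mem x.2 (inv_mem y.2))
  have := Nat.card_le_card_of_injective (α := Fin r × A) (β := centralizer {g})
    (fun x => ⟨g ^ x.1.1 * x.2, mul_mem (pow_mem (mem_centralizer_singleton_iff.2 rfl) _)
      (center_le_centralizer _ (hA x.2.2))⟩) fun ⟨i, x⟩ ⟨j, y⟩ e => by
      have e' : g ^ i.1 * x = g ^ j.1 * y := congrArg Subtype.val e
      obtain rfl : i = j := le_antisymm (not_lt.1 fun h1 => key _ _ _ _ h1 e'.symm)
        (not_lt.1 fun h1 => key _ _ _ _ h1 e')
      exact Prod.ext rfl (Subtype.ext (mul_left_cancel e'))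
  rwa [Nat.card_prod, Nat.card_fin] at this

theorem card_filter_mem [Fintype G] (A : Subgroup G) [DecidablePred (· ∈ A)] :
    (Finset.univ.filter (· ∈ A)).card = Nat.card A := (Nat.subtype_card _ (by simp)).symm

theorem sum_center [Fintype G] {A : Subgroup G} (hA : A ≤ center G) [DecidablePred (· ∈ A)] :
    ∑ g ∈ Finset.univ.filter (· ∈ A), Nat.card (centralizer {g}) = Nat.card A * Nat.card G := by
  rw [Finset.sum_congr rfl (g := fun _ => Nat.card G), Finset.sum_const, card_filter_mem, smul_eq_mul]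
  intro g hg
  rw [centralizer_eq_top_iff_subset.2 (Set.singleton_subset_iff.2 (hA (Finset.mem_filter.1 hg).2)),
    card_top]

theorem three_mul_le {A : Subgroup G} (hA : A ≤ center G) :
    Nat.card A * (3 * A.index) ≤ kc G * A.index + 2 * Nat.card A := by
  classical
  have := Fintype.ofFinite G
  have h1 := CF.Char.sum_card_centralizer (G := G)
  rw [← Finset.sum_filter_add_sum_filter_not _ (· ∈ A), sum_center hA] at h1
  have h2 := Finset.card_nsmul_le_sum (Finset.univ.filter (· ∉ A)) _ _ fun g hg =>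
    mul_le_cent hA (g := g) (r := 2) fun i _ _ => by
      rw [show i = 1 by omega, pow_one]; exact (Finset.mem_filter.1 hg).2
  have h3 := Finset.card_filter_add_card_filter_not (s := Finset.univ) (· ∈ A)
  rw [card_filter_mem, Finset.card_univ, ← Nat.card_eq_fintype_card] at h3
  rw [← A.index_mul_card] at h1 h3
  refine Nat.le_of_mul_le_mul_right (c := Nat.card A) ?_ Nat.card_pos
  rw [smul_eq_mul] at h2
  nlinarith

theorem three_le_kc (h : 3 ≤ Nat.card G) : 3 ≤ kc G := by
  have := three_mul_le (G := G) (A := ⊥) bot_le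
  rw [card_bot, index_bot] at this
  by_contra h1
  nlinarith

theorem kc_add_ob (N : Subgroup G) [N.Normal] {V : Type*} [MulAction G V] (ι : V → G)
    (h1 : ∀ v, ι v ∈ N) (h2 : ∀ g v w, g * ι v * g⁻¹ = ι w → g • v = w) :
    kc (G ⧸ N) + ob G V ≤ kc G + 1 := by
  classical
  have : Finite V := Finite.of_injective ι fun v w e => (one_smul G v).symm.trans (h2 1 v w (by simpa))
  have h3 : ∀ C : ConjClasses (G ⧸ N), ∃ g : G, ConjClasses.mk (g : G ⧸ N) = C := fun C => by
    obtain ⟨x, rfl⟩ := ConjClasses.mk_surjective C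
    exact ⟨x.out, congrArg _ x.out_eq⟩
  choose r hr using h3
  have h4 : ∀ g k : G, ConjClasses.mk g = ConjClasses.mk k →
      ConjClasses.mk (g : G ⧸ N) = ConjClasses.mk (k : G ⧸ N) :=
    fun g k e => congrArg (ConjClasses.map (QuotientGroup.mk' N)) e
  have := Nat.card_le_card_of_injective (α := ConjClasses (G ⧸ N) ⊕ Quotient (MulAction.orbitRel G V))
    (β := Option (ConjClasses G)) (Sum.elim (fun C => if C = .mk 1 then none else some (.mk (r C)))
      fun ω => some (.mk (ι ω.out))) (by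
    rintro (C | ω) (D | ω') e <;> simp only [Sum.elim_inl, Sum.elim_inr] at e
    · split_ifs at e with a b
      · rw [a, b]
      · rw [← hr C, h4 _ _ (Option.some.inj e), hr]
    · split_ifs at e with a
      exact absurd (by rw [← hr C, h4 _ _ (Option.some.inj e), (QuotientGroup.eq_one_iff _).2 (h1 _)]) a
    · split_ifs at e with a
      exact absurd (by rw [← hr D, ← h4 _ _ (Option.some.inj e), (QuotientGroup.eq_one_iff _).2 (h1 _)]) a
    · obtain ⟨g, hg⟩ := isConj_iff.1 (ConjClasses.mk_eq_mk_iff_isConj.1 (Option.some.inj e))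
      rw [← ω.out_eq, ← ω'.out_eq]
      exact congrArg _ (Quotient.sound (MulAction.orbitRel_apply.2 ⟨g, h2 _ _ _ hg⟩)).symm)
  rwa [Nat.card_sum, Finite.card_option] at this

end classes

section orbits

variable {G V : Type*} [Group G] [Finite G] [AddCommGroup V] [Finite V] [DistribMulAction G V]

theorem card_le_ob : Nat.card V ≤ 1 + (ob G V - 1) * Nat.card G := by
  classical
  have := Fintype.ofFinite (Quotient (MulAction.orbitRel G V))
  rw [Nat.card_congr (MulAction.selfEquivSigmaOrbits G V), Nat.card_sigma,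
    ← Finset.add_sum_erase _ _ (Finset.mem_univ ⟦0⟧)]
  refine add_le_add ?_ ((Finset.sum_le_card_nsmul _ _ (Nat.card G) fun ω _ => ?_).trans_eq ?_)
  · obtain ⟨g, hg⟩ := Quotient.mk_out (s := MulAction.orbitRel G V) 0
    refine Finite.card_le_one_iff_subsingleton.2 ⟨fun ⟨_, a, ha⟩ ⟨_, b, hb⟩ => Subtype.ext ?_⟩
    simp only [← ha, ← hb, ← hg, smul_zero]
  · exact Nat.card_le_card_of_surjective (fun g : G => ⟨_, g, rfl⟩) fun ⟨_, g, e⟩ => ⟨g, Subtype.ext e⟩
  · rw [Finset.card_erase_of_mem (Finset.mem_univ _), Finset.card_univ, ← Nat.card_eq_fintype_card,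
      smul_eq_mul]

theorem card_le_kc_ob {A C : Subgroup G} (h : C ≤ centralizer (A : Set G)) :
    Nat.card V ≤ 1 + kc G * (ob G V - 1) * (A.index * C.index) := by
  refine (card_le_ob (G := G)).trans (Nat.add_le_add_left ?_ _)
  calc _ = (ob G V - 1) * (A.index * Nat.card A) := by rw [index_mul_card]
    _ ≤ (ob G V - 1) * (A.index * (kc G * C.index)) := by gcongr; exact card_le_kc h
    _ = _ := by ring

omit [Finite G] [Finite V] in
theorem ob_range : (letI := rangeAct G V; ob (MulAction.toPermHom G V).range V) = ob G V :=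
  congrArg (fun s : Setoid V => Nat.card (Quotient s)) (Setoid.ext fun _ _ =>
    ⟨fun ⟨⟨_, g, rfl⟩, e⟩ => ⟨g, e⟩, fun ⟨g, e⟩ => ⟨⟨_, g, rfl⟩, e⟩⟩)

variable {W : AddSubgroup V}

omit [Finite G] in
theorem choose_le_ob (h : Imp G W) {O : Type*} [Finite O] (t : O → V) (ht : ∀ i, t i ∈ W)
    (hne : ∀ i j, ∀ n ∈ MulAction.stabilizer G W, n • t i = t j → i = j) :
    (Nat.card O + (MulAction.stabilizer G W).index - 1).choose (MulAction.stabilizer G W).index ≤
      ob G V := by
  classical
  haveI : Finite (AddSubgroup V) := Finite.of_injective _ SetLike.coe_injective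
  have := Fintype.ofFinite (MulAction.orbit G W)
  have := Fintype.ofFinite O
  rw [MulAction.index_stabilizer, ← Nat.card_coe_set_eq, Nat.card_eq_fintype_card,
    Nat.card_eq_fintype_card, ← Sym.card_sym_eq_choose, ← Nat.card_eq_fintype_card]
  have h1 : ∀ s : Sym O (Fintype.card (MulAction.orbit G W)), ∃ c : MulAction.orbit G W → O,
      Finset.univ.val.map c = s.1 := by
    rintro ⟨⟨l⟩, hl⟩
    let e := Fintype.equivFinOfCardEq (show _ = l.length from hl.symm)
    refine ⟨l.get ∘ e, ?_⟩
    rw [← Multiset.map_map, Multiset.map_univ_val_equiv, Fin.univ_val_map, List.ofFn_get]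
    rfl
  choose c hc using h1
  choose r hr using fun X : MulAction.orbit G W => X.2
  replace hr : ∀ X, r X • W = X := hr
  have hm : ∀ (X : MulAction.orbit G W) j, r X • t j ∈ (X : AddSubgroup V) := fun X j => by
    rw [← hr X]; exact AddSubgroup.smul_mem_pointwise_smul _ _ _ (ht j)
  refine Nat.card_le_card_of_injective (fun s => ⟦∑ X, r X • t (c s X)⟧) fun s s' e => ?_
  obtain ⟨g, h2⟩ := Quotient.exact e
  simp only at h2
  rw [Finset.smul_sum, ← Equiv.sum_comp (MulAction.toPerm g⁻¹), ← sub_eq_zero,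
    ← Finset.sum_sub_distrib] at h2
  refine Subtype.ext ?_
  rw [← hc, ← hc]
  conv_lhs => rw [← Multiset.map_univ_val_equiv (MulAction.toPerm g), Multiset.map_map]
  refine Multiset.map_congr rfl fun X _ => (hne _ _ ((r (g • X))⁻¹ * g * r X) ?_ ?_).symm
  · rw [MulAction.mem_stabilizer_iff, mul_smul, mul_smul, hr, inv_smul_eq_iff, hr]; rfl
  have h3 := eq_zero_of_sum h.ind _ (fun Y => AddSubgroup.sub_mem _ ?_ (hm Y _)) h2 (g • X)
  · simp only [MulAction.toPerm_apply, inv_smul_smul, sub_eq_zero] at h3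
    rw [mul_smul, mul_smul, h3, inv_smul_smul]; rfl
  · have h4 := mem_smul.1 (hm (g⁻¹ • Y) (c s' (g⁻¹ • Y)))
    rwa [inv_inv] at h4

omit [Finite V] in
theorem exists_coarse (h : Imp G W) (hirr : IrrOn (⊤ : Subgroup G) (⊤ : AddSubgroup V))
    {L : Subgroup G} (hL : IsCoatom L) (h1 : MulAction.stabilizer G W ≤ L) :
    ∃ X : AddSubgroup V, Imp G X ∧ MulAction.stabilizer G X = L := by
  let X : AddSubgroup V := ⨆ l : L, l.1 • W
  have h2 : ∀ g : G, g • X = ⨆ l : L, (g * l) • W := fun g => by
    simp only [X, mul_smul]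
    exact (AddSubgroup.gc_map_comap _).l_iSup
  have h3 : L ≤ MulAction.stabilizer G X := fun g hg => (h2 g).trans
    ((Equiv.mulLeft (⟨g, hg⟩ : L)).iSup_comp (g := fun l : L => l.1 • W))
  have h4 : ∀ g : G, Disjoint (g • X) (⨆ k, ⨆ _ : g⁻¹ * k ∉ L, k • W) := fun g => by
    have := Finite.finite_mulAction_orbit (M := G) W |>.to_subtype
    refine (h.ind.disjoint_biSup_biSup' (s := {Z | ∃ l : L, (g * l.1) • W = Z.1})
      disjoint_compl_right (Set.toFinite _)).mono ((h2 g).trans_le (iSup_le fun l => ?_))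
      (iSup₂_le fun k hk => ?_)
    · exact le_iSup₂_of_le ⟨(g * l.1) • W, g * l.1, rfl⟩ ⟨l, rfl⟩ le_rfl
    refine le_iSup₂_of_le ⟨k • W, k, rfl⟩ (fun ⟨l, e⟩ => hk ?_) le_rfl
    have : (g * l)⁻¹ * k ∈ L := h1 (by
      rw [MulAction.mem_stabilizer_iff, mul_smul, inv_smul_eq_iff]; exact e.symm)
    simpa [mul_assoc] using mul_mem l.2 this
  have h5 : X ≠ ⊤ := fun e => hL.1 (eq_top_iff.2 fun k _ => by_contra fun hk => h.ne_bot ?_)
  have h6 : X ≠ ⊥ := fun e => h.ne_bot (eq_bot_iff.2 (e ▸ le_iSup_of_le 1 (one_smul G W).ge))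
  refine ⟨X, ⟨h6, h5, ?_⟩, ((hL.le_iff.1 h3).resolve_left fun e => ?_)⟩
  · rintro ⟨_, g, rfl⟩
    refine (h4 g).mono_right (iSup₂_le ?_)
    rintro ⟨_, k, rfl⟩ hk
    refine (h2 k).trans_le (iSup_le fun l => le_iSup₂_of_le (k * l) (fun e => hk (Subtype.ext ?_))
      le_rfl)
    have := h3 (mul_mem e (inv_mem l.2))
    rw [MulAction.mem_stabilizer_iff, mul_assoc, mul_inv_cancel_right, mul_smul, inv_smul_eq_iff] at this
    exact this
  · exact (hirr X le_top (e ▸ invOn_stab X)).elim h6 h5
  · have := h4 1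
    rw [one_smul, e, top_disjoint] at this
    exact (smul_eq_iff_eq_inv_smul k).1 (eq_bot_iff.2 (this ▸ le_iSup₂_of_le k (by simpa) le_rfl))
      |>.trans (AddSubgroup.map_bot _)

end orbits

theorem prim_bound {G : Type u} [Group G] [Finite G] [Group.IsSolvable G] {H : Subgroup G}
    (hH : IsCoatom H) : 25 * H.normalCore.index ^ 2 ≤ H.index ^ 7 := by
  wlog hc : H.normalCore = ⊥ generalizing G
  · let p := QuotientGroup.mk' H.normalCore
    have hp : Function.Surjective p := QuotientGroup.mk'_surjective _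
    have h1 : (H.map p).comap p = H := by
      rw [comap_map_eq, QuotientGroup.ker_mk', sup_eq_left.2 H.normalCore_le]
    have h2 : (H.map p).normalCore = ⊥ := eq_bot_iff.2 fun b hb => by
      obtain ⟨b, rfl⟩ := hp b
      exact (QuotientGroup.eq_one_iff b).2 ((normal_le_normalCore (N := Subgroup.comap p _)).2
        ((comap_mono (normalCore_le _)).trans h1.le) hb)
    have := this (H := H.map p) (by
      refine ⟨fun e => hH.1 (by rw [← h1, e, comap_top]), fun K hK => comap_injective hp ?_⟩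
      exact hH.2 _ (h1.ge.trans_lt ((comap_lt_comap_of_surjective hp).2 hK))) h2
    rwa [h2, index_bot, ← index_comap_of_surjective _ hp, h1] at this
  have : Nontrivial G := not_subsingleton_iff_nontrivial.1 fun _ => hH.1 (Subsingleton.elim _ _)
  obtain ⟨N, hN⟩ := CF.Solv.exists_isMinNormal (G := G)
  have := hN.1
  have := hN.isMulCommutative
  have := (nontrivial_iff_ne_bot N).2 hN.2.1
  letI : CommGroup N := { mul_comm := mul_comm' }
  have h1 := (p_sol _).2.mul (MulAut.conjNormal (H := N)) (cr_of_irr fun X hX => by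
    rcases hN.2.2 (X.map N.subtype) ⟨by
      rintro _ ⟨x, hx, rfl⟩ g
      exact ⟨_, hX g x hx, rfl⟩⟩ (map_subtype_le X) with h3 | h3
    · exact Or.inl ((Subgroup.map_eq_bot_iff_of_injective X N.subtype_injective).1 h3)
    · exact Or.inr (eq_top_iff.2 fun x _ => by
        obtain ⟨y, hy, e⟩ := h3.ge x.2
        exact (Subtype.ext e : y = x) ▸ hy)) (Nat.lt_succ_self _)
  rw [← index_ker, show (MulAut.conjNormal (H := N)).ker = centralizer (N : Set G) from
    Subgroup.ext fun g => ⟨fun e x hx => (mul_inv_eq_iff_eq_mul.1 (congrArg Subtype.val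
      (DFunLike.congr_fun e (⟨x, hx⟩ : N)))).symm, fun e => MulEquiv.ext fun x => Subtype.ext
        (mul_inv_eq_iff_eq_mul.2 (e _ x.2).symm)⟩,
      CF.SolvStr.corefree_centralizer_eq_of_comm hH hc N hN.2.1] at h1
  rw [hc, index_bot, ← N.index_mul_card,
    (CF.SolvStr.corefree_isComplement'_of_comm hH hc N hN.2.1).index_eq_card]
  calc _ = 25 * N.index ^ 2 * Nat.card N ^ 2 := by ring
    _ ≤ Nat.card N ^ 5 * Nat.card N ^ 2 := by gcongr
    _ = _ := by ring

end CF.Fgs2.HK
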