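import Cfsg.Agent.S0799
import Cfsg.Agent.S0804
import Cfsg.Agent.S3188
import Cfsg.Agent.Fgs3.SL2Even
import Cfsg.Agent.Sig.SftD
import Cfsg.Agent.BG2.P4c

/-! Hall numbers. -/

set_option autoImplicit false
set_option linter.unusedSectionVars false

namespace CF.Fgs2
open Subgroup CF.BG
open scoped commutatorElement MatrixGroups

theorem exists_prime_uv {m u v : ℕ} (hm : m ≠ 0) (co : u.Coprime v) (u0 : u ≠ 0) (v0 : v ≠ 0) (uo : Odd u)
    (h2 : 2 ∣ m → 4 ∣ v) (h2' : 2 ∣ v → 4 ∣ v) (h3 : 3 ∣ m → 3 ∣ u * v) :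
    ∃ r w : ℕ, r.Prime ∧ m < r ∧ 2 < r ∧ u ∣ r - 1 ∧ v ∣ r + 1 ∧ r ^ 2 - 1 = 2 * (u * v * w) ∧ w.Coprime m := by
  obtain ⟨a, t, e, pa, pt⟩ := exists_pi_factor (piOf (u * v)) hm
  have ct : t.Coprime (u * v) := piNat_compl_piOf.1 pt
  have t0 : t ≠ 0 := fun k => hm (by rw [e, k, mul_zero])
  have tm : t ∣ m := ⟨a, by rw [e, mul_comm]⟩
  have t2 : ¬ 2 ∣ t := fun k => not_dvd_of_coprime ct Nat.prime_two k
    (((show 2 ∣ 4 by norm_num).trans (h2 (k.trans tm))).mul_left u)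
  have t3 : ¬ 3 ∣ t := fun k => not_dvd_of_coprime ct Nat.prime_three k (h3 (k.trans tm))
  have c1 : (u ^ 2).Coprime (v ^ 2) := (co.pow_left 2).pow_right 2
  have c2 : (u ^ 2 * v ^ 2).Coprime t := by rw [← mul_pow]; exact (ct.symm.pow_left 2)
  obtain ⟨b, b1, b2⟩ := Nat.chineseRemainder c1 (1 + u) (v - 1)
  obtain ⟨c, c3, c4⟩ := Nat.chineseRemainder c2 b 2
  have d1 : c ≡ 1 + u [MOD u ^ 2] := (c3.of_mul_right _).trans b1
  have d2 : c + 1 ≡ v [MOD v ^ 2] := by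
    have := ((c3.of_mul_left _).trans b2).add_right 1
    rwa [Nat.sub_add_cancel (Nat.pos_of_ne_zero v0)] at this
  have cc : c.Coprime (u ^ 2 * v ^ 2 * t) := by
    refine Nat.Coprime.mul_right (Nat.Coprime.mul_right (Nat.Coprime.pow_right 2 ?_)
      (Nat.Coprime.pow_right 2 ?_)) ?_
    · have := d1.of_dvd (dvd_pow_self u two_ne_zero)
      rw [Nat.Coprime, this.gcd_eq]; simp
    · have := (Nat.modEq_zero_iff_dvd.1 ((d2.of_dvd (dvd_pow_self v two_ne_zero)).trans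
        (Nat.modEq_zero_iff_dvd.2 dvd_rfl)))
      exact (Nat.Coprime.of_dvd_left this (by simp)).symm
    · rw [Nat.Coprime, c4.gcd_eq]
      exact (Nat.Prime.coprime_iff_not_dvd Nat.prime_two).2 t2
  obtain ⟨r, hr, rp, re⟩ := Nat.forall_exists_prime_gt_and_modEq (m + 2)
    (mul_ne_zero (mul_ne_zero (pow_ne_zero 2 u0) (pow_ne_zero 2 v0)) t0) cc
  have f1 : r ≡ 1 + u [MOD u ^ 2] := ((re.of_mul_right _).of_mul_right _).trans d1
  have f2 : r + 1 ≡ v [MOD v ^ 2] := (((re.of_mul_right _).of_mul_left _).add_right 1).trans d2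
  have f3 : r ≡ 2 [MOD t] := (re.of_mul_left _).trans c4
  have ro : ¬ 2 ∣ r := fun k => by have := (Nat.prime_dvd_prime_iff_eq Nat.prime_two rp).1 k; omega
  obtain ⟨s, rfl⟩ : ∃ s, r = s + 1 := ⟨r - 1, by omega⟩
  have g1 : s ≡ u [MOD u ^ 2] := by rw [add_comm 1 u] at f1; exact Nat.ModEq.add_right_cancel' 1 f1
  obtain ⟨x, hx⟩ : u ∣ s := (Nat.modEq_zero_iff_dvd.1 ((g1.of_dvd (dvd_pow_self u two_ne_zero)).trans
    (Nat.modEq_zero_iff_dvd.2 dvd_rfl)))
  obtain ⟨y, hy⟩ : v ∣ s + 1 + 1 := (Nat.modEq_zero_iff_dvd.1 ((f2.of_dvd (dvd_pow_self v two_ne_zero)).trans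
    (Nat.modEq_zero_iff_dvd.2 dvd_rfl)))
  have x1 : x ≡ 1 [MOD u] := by
    rw [hx, pow_two] at g1
    exact Nat.ModEq.mul_left_cancel' u0 (by simpa using g1)
  have y1 : y ≡ 1 [MOD v] := by
    rw [hy, pow_two] at f2
    exact Nat.ModEq.mul_left_cancel' v0 (by simpa using f2)
  obtain ⟨x', rfl⟩ : 2 ∣ x := by
    have : 2 ∣ u * x := by omega
    exact (Nat.Coprime.dvd_of_dvd_mul_left (Nat.coprime_two_left.2 uo) this)
  refine ⟨s + 1, x' * y, rp, by omega, by omega, ⟨2 * x', by simpa using hx⟩, ⟨y, hy⟩, ?_, ?_⟩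
  · have : (s + 1) ^ 2 = s * (s + 1 + 1) + 1 := by ring
    rw [this, hy, hx]; simp; ring
  · refine coprime_of_primes fun p hp hd hpm => ?_
    have k1 : p ∣ x' → p ∣ s := fun k => hx ▸ (k.mul_left 2).mul_left u
    have k2 : p ∣ y → p ∣ s + 1 + 1 := fun k => hy ▸ k.mul_left v
    have k3 : p ∣ s → p ∣ s + 1 + 1 → p = 2 := fun a b =>
      (Nat.prime_dvd_prime_iff_eq hp Nat.prime_two).1 ((Nat.dvd_add_right a).1 b)
    have k4 : ∀ {z n : ℕ}, z ≡ 1 [MOD n] → p ∣ n → ¬ p ∣ z := fun {z n} a b c =>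
      hp.one_lt.ne' (Nat.dvd_one.1 (((a.of_dvd b).dvd_iff dvd_rfl).1 c))
    rw [e] at hpm
    rcases (hp.dvd_mul.1 hpm) with k | k
    · rcases hp.dvd_mul.1 (pa p hp k).2 with k | k
      · rcases hp.dvd_mul.1 hd with l | l
        · exact k4 x1 k (l.mul_left 2)
        · have := k3 (hx ▸ k.mul_right _) (k2 l)
          subst this
          exact (Nat.not_even_iff_odd.2 uo) (even_iff_two_dvd.2 k)
      · rcases hp.dvd_mul.1 hd with l | l
        · have := k3 (k1 l) (hy ▸ k.mul_right _)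
          subst this
          obtain ⟨v', rfl⟩ := h2' k
          obtain ⟨l, rfl⟩ := l
          have e1 : u * (2 * (2 * l)) = 4 * (u * l) := by ring
          have e2 : 4 * v' * y = 4 * (v' * y) := by ring
          omega
        · exact k4 y1 k l
    · have f4 := f3.of_dvd k
      rcases hp.dvd_mul.1 hd with l | l
      · have : s ≡ 1 [MOD p] := Nat.ModEq.add_right_cancel' 1 f4
        exact k4 this dvd_rfl (k1 l)
      · have : p ∣ 3 := ((f4.add_right 1).dvd_iff dvd_rfl).1 (k2 l)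
        exact t3 ((Nat.prime_dvd_prime_iff_eq hp Nat.prime_three).1 this ▸ k)

theorem card_psl_prime {r : ℕ} [Fact r.Prime] (h : 2 < r) :
    2 * Nat.card PSL(2, ZMod r) = r * (r ^ 2 - 1) := by
  have := Classical.card_PSL_two' (F := ZMod r)
  rw [Nat.card_zmod] at this
  have o : 2 ∣ r - 1 := by
    rcases (Fact.out : r.Prime).eq_two_or_odd with e | e <;> omega
  rwa [Nat.gcd_eq_left o] at this

open CF.Classical in
theorem psl_sub_card {r : ℕ} [Fact r.Prime] (h : 2 < r) (H : Subgroup PSL(2, ZMod r)) (c : ¬ r ∣ ♯H) :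
    ♯H ∣ r + 1 ∨ ♯H ∣ r - 1 ∨ ♯H = 12 ∨ ♯H = 24 ∨ ♯H = 60 := by
  have hp : r.Prime := Fact.out
  have o : 2 ∣ r - 1 := by rcases hp.eq_two_or_odd with e | e <;> omega
  have o' : 2 ∣ r + 1 := by omega
  rcases Cfsg.Agent.S0799.result (ZMod.card r) r H with ⟨k, hk, e⟩ | ⟨P, K, hK, ⟨e⟩⟩ | ⟨⟨e⟩⟩ | ⟨⟨e⟩⟩ | ⟨⟨e⟩⟩ |
    ⟨K, _, _, m, hm, e⟩
  · rw [Nat.gcd_eq_left o] at hk
    have : ♯H ∣ 2 * k := by
      rcases e with ⟨-, e⟩ | ⟨⟨e⟩⟩
      · exact e ▸ Dvd.intro_left 2 rfl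
      · rw [Nat.card_congr e.toEquiv, DihedralGroup.nat_card]
    rcases hk with hk | hk
    · exact Or.inl (this.trans (Nat.mul_dvd_of_dvd_div o' hk))
    · exact Or.inr (Or.inl (this.trans (Nat.mul_dvd_of_dvd_div o hk)))
  · have L := isL2_PSL (ZMod r) (AlgebraicClosure (ZMod r))
    obtain ⟨x, hx⟩ := L.sylow_eq_unip r P
    rw [hx, normalizer_unip (L.unip_ratPt_ne_bot x)] at hK
    have i := L.index_stabilizer_ratPt x
    have j := (MulAction.stabilizer PSL(2, ZMod r) (ratPt (AlgebraicClosure (ZMod r)) x)).card_mul_index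
    have l := card_psl_prime h
    rw [Nat.card_zmod] at i
    rw [← j, i, ← mul_assoc, show r ^ 2 - 1 = (r - 1) * (r + 1) by
      rw [mul_comm, ← Nat.sq_sub_sq], ← mul_assoc] at l
    have l' := Nat.eq_of_mul_eq_mul_right (Nat.succ_pos r) l
    have d : ♯H ∣ r * (r - 1) := by
      rw [← l', Nat.card_congr e.toEquiv]
      exact (BG.card_dvd hK).mul_left 2
    exact Or.inr (Or.inl (((Nat.Prime.coprime_iff_not_dvd hp).2 c).symm.dvd_of_dvd_mul_left d))
  · exact Or.inr (Or.inr (Or.inl (by rw [Nat.card_congr e.toEquiv, nat_card_alternatingGroup]; simp; rfl)))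
  · exact Or.inr (Or.inr (Or.inr (Or.inl (by rw [Nat.card_congr e.toEquiv, Nat.card_perm]; simp; rfl))))
  · exact Or.inr (Or.inr (Or.inr (Or.inr (by rw [Nat.card_congr e.toEquiv, nat_card_alternatingGroup]; simp; rfl))))
  · exfalso
    obtain ⟨hK, -⟩ := (Nat.Prime.pow_eq_iff hp).1 hm
    rw [← Nat.card_eq_fintype_card] at hK
    have o2 : Nat.gcd 2 (r - 1) = 2 := Nat.gcd_eq_left o
    rcases e with ⟨⟨e⟩⟩ | ⟨⟨e⟩⟩
    · have := card_PSL_two' (F := K)
      rw [hK, o2, ← Nat.card_congr e.toEquiv] at this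
      exact c (((Nat.coprime_primes hp Nat.prime_two).2 (by omega)).dvd_of_dvd_mul_left ⟨_, this⟩)
    · exact c (by rw [Nat.card_congr e.toEquiv, card_PGL_two, hK]; exact Dvd.intro _ rfl)

theorem not_hall_of_uv {m u v : ℕ} (hm : m ≠ 0) (co : u.Coprime v) (u1 : 1 < u) (v2 : 2 < v) (uo : Odd u)
    (h2 : 2 ∣ m → 4 ∣ v) (h2' : 2 ∣ v → 4 ∣ v) (h3 : 3 ∣ m → 3 ∣ u * v) (d : u * v ∣ m)
    (ne : u * v ≠ 12 ∧ u * v ≠ 24 ∧ u * v ≠ 60) :
    ∃ (G : Type) (_ : Group G) (_ : Finite G), m ∣ Nat.card G ∧ m.Coprime (Nat.card G / m) ∧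
      ∀ H : Subgroup G, Nat.card H ≠ m := by
  obtain ⟨r, w, rp, mr, r2, ur, vr, e, cw⟩ := exists_prime_uv hm co (by omega) (by omega) uo h2 h2' h3
  have := Fact.mk rp
  obtain ⟨k, rfl⟩ := d
  have k0 : k ≠ 0 := fun h => hm (by rw [h, mul_zero])
  have : NeZero k := ⟨k0⟩
  have c1 := card_psl_prime r2
  rw [e, mul_left_comm] at c1
  have c2 := Nat.eq_of_mul_eq_mul_left two_pos c1
  have cr : r.Coprime (u * v * k) := (Nat.Prime.coprime_iff_not_dvd rp).2 fun h => by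
    have := Nat.le_of_dvd (Nat.pos_of_ne_zero hm) h; omega
  have cG : Nat.card (PSL(2, ZMod r) × Multiplicative (ZMod k)) = u * v * k * (r * w) := by
    rw [Nat.card_prod, c2, Nat.card_congr Multiplicative.toAdd, Nat.card_zmod]; ring
  refine ⟨PSL(2, ZMod r) × Multiplicative (ZMod k), inferInstance, inferInstance, ⟨_, cG⟩, ?_, fun H hH => ?_⟩
  · rw [cG, Nat.mul_div_cancel_left _ (Nat.pos_of_ne_zero hm)]
    exact (cr.mul_left cw).symm
  set f := MonoidHom.fst PSL(2, ZMod r) (Multiplicative (ZMod k))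
  have a1 : ♯(H.map f) ∣ u * v * k := hH ▸ H.card_map_dvd f
  have a2 : ♯(H.map f) ∣ u * v := by
    have := (H.map f).card_subgroup_dvd_card
    rw [c2, show r * (u * v * w) = u * v * (r * w) by ring] at this
    exact (Nat.Coprime.coprime_dvd_left a1 (cr.mul_left cw).symm).dvd_of_dvd_mul_right this
  have a3 : ♯H ≤ ♯(H.map f) * k := by
    have := BG.card_le (show H ≤ (H.map f).prod ⊤ from fun x hx => ⟨⟨x, hx, rfl⟩, trivial⟩)
    rwa [Nat.card_congr (prodEquiv _ _).toEquiv, Nat.card_prod, card_top', Nat.card_congr Multiplicative.toAdd,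
      Nat.card_zmod] at this
  have a4 : ♯(H.map f) = u * v := le_antisymm (Nat.le_of_dvd (by positivity) a2)
    (Nat.le_of_mul_le_mul_right (hH ▸ a3) (Nat.pos_of_ne_zero k0))
  have := psl_sub_card r2 (H.map f) fun h => (Nat.Prime.coprime_iff_not_dvd rp).1 cr (h.trans a1)
  rw [a4] at this
  have two : ∀ z, z ∣ r - 1 → z ∣ r + 1 → z ∣ 2 := fun z a b => by
    have := Nat.dvd_sub b a
    rwa [show r + 1 - (r - 1) = 2 by omega] at this
  rcases this with h | h | h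
  · have := Nat.le_of_dvd two_pos (two u ur ((Dvd.intro _ rfl).trans h))
    obtain rfl : u = 2 := by omega
    exact absurd uo (by decide)
  · have := Nat.le_of_dvd two_pos (two v ((Dvd.intro_left _ rfl).trans h) vr)
    omega
  · omega

theorem exists_uv {m : ℕ} (hm : 2 ≤ m)
    (h : ¬ (IsPrimePow m ∨ m % 4 = 2 ∨ m = 12 ∨ m = 24 ∨ m = 60)) :
    ∃ u v : ℕ, u.Coprime v ∧ 1 < u ∧ 2 < v ∧ Odd u ∧ (2 ∣ m → 4 ∣ v) ∧ (2 ∣ v → 4 ∣ v) ∧ (3 ∣ m → 3 ∣ u * v) ∧
      u * v ∣ m ∧ u * v ≠ 12 ∧ u * v ≠ 24 ∧ u * v ≠ 60 := by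
  push Not at h
  obtain ⟨h1, h2, h3⟩ := h
  have other : ∀ p : ℕ, p.Prime → p ∣ m → ∃ q : ℕ, q.Prime ∧ q ∣ m ∧ q ≠ p := fun p hp d => by
    by_contra! k
    exact h1 (isPrimePow_iff_unique_prime_dvd.2 ⟨p, ⟨hp, d⟩, fun q hq => k q hq.1 hq.2⟩)
  have oddp : ∀ q : ℕ, q.Prime → q ≠ 2 → Odd q := fun q hq e => hq.odd_of_ne_two e
  by_cases e2 : 2 ∣ m
  · have e4 : 4 ∣ m := by omega
    by_cases e3 : 3 ∣ m
    · obtain ⟨k, rfl⟩ : 12 ∣ m := by omega
      have fin : ∀ u v k', k = k' * (u * v / 12) → 12 ∣ u * v → u.Coprime v ∧ 1 < u ∧ 2 < v ∧ Odd u ∧ 4 ∣ v ∧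
          3 ∣ u * v ∧ u * v ≠ 12 ∧ u * v ≠ 24 ∧ u * v ≠ 60 →
          ∃ u v : ℕ, u.Coprime v ∧ 1 < u ∧ 2 < v ∧ Odd u ∧ (2 ∣ 12 * k → 4 ∣ v) ∧ (2 ∣ v → 4 ∣ v) ∧
            (3 ∣ 12 * k → 3 ∣ u * v) ∧ u * v ∣ 12 * k ∧ u * v ≠ 12 ∧ u * v ≠ 24 ∧ u * v ≠ 60 :=
        fun u v k' e d ⟨a1, a2, a3, a4, a5, a6, a7⟩ =>
          ⟨u, v, a1, a2, a3, a4, fun _ => a5, fun _ => a5, fun _ => a6,
            ⟨k', by rw [e, mul_left_comm, Nat.mul_div_cancel' d, mul_comm]⟩, a7⟩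
      have pr : ∀ p : ℕ, p.Prime → p ∣ k → p ≠ 2 → p ≠ 5 →
          ∃ u v : ℕ, u.Coprime v ∧ 1 < u ∧ 2 < v ∧ Odd u ∧ (2 ∣ 12 * k → 4 ∣ v) ∧ (2 ∣ v → 4 ∣ v) ∧
            (3 ∣ 12 * k → 3 ∣ u * v) ∧ u * v ∣ 12 * k ∧ u * v ≠ 12 ∧ u * v ≠ 24 ∧ u * v ≠ 60 :=
        fun p hp ⟨k', e⟩ a b => by
          have o := oddp p hp a
          have := hp.two_le
          refine fin (3 * p) 4 k' (by rw [e, mul_comm]; congr 1; omega) ⟨p, by ring⟩
            ⟨?_, by omega, by omega, (by decide : Odd 3).mul o, dvd_rfl, ⟨p * 4, by ring⟩, by omega, by omega, by omega⟩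
          exact Nat.Coprime.pow_right 2 (Nat.coprime_two_right.2 ((by decide : Odd 3).mul o))
      obtain ⟨p, hp, k', rfl⟩ := Nat.exists_prime_and_dvd (show k ≠ 1 by omega)
      by_cases a : p ≠ 2 ∧ p ≠ 5
      · exact pr p hp (Dvd.intro _ rfl) a.1 a.2
      obtain ⟨q, hq, k'', rfl⟩ := Nat.exists_prime_and_dvd (show k' ≠ 1 by rintro rfl; omega)
      by_cases b : q ≠ 2 ∧ q ≠ 5
      · exact pr q hq ⟨p * k'', by ring⟩ b.1 b.2
      have a' : p = 2 ∨ p = 5 := by omega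
      have b' : q = 2 ∨ q = 5 := by omega
      rcases a' with rfl | rfl <;> rcases b' with rfl | rfl
      · exact fin 3 16 k'' (by omega) (by norm_num) (by norm_num)
      · exact fin 15 8 k'' (by omega) (by norm_num) (by norm_num)
      · exact fin 15 8 k'' (by omega) (by norm_num) (by norm_num)
      · exact fin 75 4 k'' (by omega) (by norm_num) (by norm_num)
    · obtain ⟨q, hq, d, e⟩ := other 2 Nat.prime_two e2
      have o := oddp q hq e
      have c : q.Coprime 4 := Nat.Coprime.pow_right 2 (Nat.coprime_two_right.2 o)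
      have q3 : ¬ 3 ∣ q := fun k => e3 (k.trans d)
      exact ⟨q, 4, c, hq.one_lt, by norm_num, o, fun _ => dvd_rfl, fun _ => dvd_rfl, fun k => absurd k e3,
        c.mul_dvd_of_dvd_of_dvd d e4, by omega, by omega, by omega⟩
  · obtain ⟨p, hp, d, k⟩ : ∃ p : ℕ, p.Prime ∧ p ∣ m ∧ (3 ∣ m → p = 3) := by
      by_cases e3 : 3 ∣ m
      · exact ⟨3, Nat.prime_three, e3, fun _ => rfl⟩
      · obtain ⟨p, hp, d⟩ := Nat.exists_prime_and_dvd (show m ≠ 1 by omega)
        exact ⟨p, hp, d, fun k => absurd k e3⟩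
    obtain ⟨q, hq, d', e⟩ := other p hp d
    have c : p.Coprime q := (Nat.coprime_primes hp hq).2 e.symm
    have dd := c.mul_dvd_of_dvd_of_dvd d d'
    have n2 : ¬ 2 ∣ p * q := fun k => e2 (k.trans dd)
    have q2 : q ≠ 2 := fun k => e2 (k ▸ d')
    have := hq.two_le
    exact ⟨p, q, c, hp.one_lt, by omega, oddp p hp fun k => e2 (k ▸ d), fun k => absurd k e2,
      fun k => absurd (k.trans d') e2, fun a => k a ▸ Dvd.intro _ rfl, dd, by omega, by omega, by omega⟩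

section pos
variable {G : Type*} [Group G] [Finite G] {D X S H M : Subgroup G} {t : ℕ}

theorem sol_of_not_four (h : ¬ 4 ∣ ♯H) : Sol H := by
  obtain ⟨S, hS⟩ := exists_syl 2 H
  refine Fgs3.sol_of_cyc_syl hS (hS.pi.cyc_of_logn ?_)
  by_contra! k
  exact h (((pow_dvd_iff_le_logn Nat.prime_two (card_ne_zero' S)).2 k).trans (card_dvd hS.le))

theorem sol_of_idx (hD : D ⊴ H) (s : Sol D) (h : ¬ 4 ∣ D.relIndex H) : Sol H :=
  s.of_qt hD.norm (sol_of_not_four (by rwa [card_qt hD.norm]))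

theorem act8 (ht : t.Prime) (t2 : t ≠ 2) (x : PiGrp {t} X) (n : X ≤ 𝐍 D) (c : ¬ X ≤ 𝐂 D) (d : ♯D ∣ 8) :
    (t = 3 ∧ 4 ∣ ♯D) ∨ (t = 7 ∧ ♯D = 8 ∧ D ⊓ 𝐂 X = ⊥) := by
  have m := BG2.card_modEq_card_cent ht x n
  have l : ♯(D ⊓ 𝐂 X) < ♯D := BG.card_lt (lt_of_le_of_ne inf_le_left fun e =>
    c (cent_symm (e.ge.trans inf_le_right)))
  have d' : ♯(D ⊓ 𝐂 X) ∣ ♯D := card_dvd inf_le_left
  have k := (Nat.modEq_iff_dvd' l.le).1 m.symm
  rw [← card_eq_one']
  have p8 : ∀ a, a ∣ 8 → a = 1 ∨ a = 2 ∨ a = 4 ∨ a = 8 := fun a h => by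
    have := Nat.le_of_dvd (by norm_num) h
    interval_cases a <;> simp_all
  have pt : ∀ a, t ∣ a → 0 < a → a ≤ 7 → t = 3 ∧ (a = 3 ∨ a = 6) ∨ t = 7 ∧ a = 7 ∨ a = 5 := fun a h a0 a7 => by
    have := Nat.le_of_dvd a0 h
    have := ht.two_le
    have t4 : t ≠ 4 := by rintro rfl; exact absurd ht (by decide)
    have t6 : t ≠ 6 := by rintro rfl; exact absurd ht (by decide)
    have : t ≤ 7 := by omega
    interval_cases t <;> omega
  have := pt _ k (by omega) (by rcases p8 _ d with h | h | h | h <;> rcases p8 _ (d'.trans d) with h' | h' | h' | h' <;> omega)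
  rcases p8 _ d with h | h | h | h <;> rcases p8 _ (d'.trans d) with h' | h' | h' | h' <;> omega

theorem psl_arith {F : Type} [Field F] [Fintype F]
    (h : ((Fintype.card F % 8 = 3 ∨ Fintype.card F % 8 = 5) ∧ 5 ≤ Fintype.card F) ∨
      (∃ n : ℕ, 2 ≤ n ∧ Fintype.card F = 2 ^ n)) :
    4 ∣ Nat.card PSL(2, F) ∧ (8 ∣ Nat.card PSL(2, F) → 16 ∣ Nat.card PSL(2, F) ∨ 9 ∣ Nat.card PSL(2, F)) := by
  have e := Classical.card_PSL_two (F := F)
  generalize Nat.card PSL(2, F) = c at e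
  generalize Fintype.card F = q at e h
  rcases h with ⟨h, -⟩ | ⟨n, hn, rfl⟩
  · rw [Nat.gcd_eq_left (by omega)] at e
    obtain ⟨k, hk⟩ : ∃ k, q ^ 2 - 1 = 8 * (2 * k + 1) := by
      rcases h with h | h
      · obtain ⟨a, rfl⟩ : ∃ a, q = 8 * a + 3 := ⟨q / 8, by omega⟩
        exact ⟨4 * a ^ 2 + 3 * a, by rw [show (8 * a + 3) ^ 2 = 8 * (2 * (4 * a ^ 2 + 3 * a) + 1) + 1 by ring]; simp⟩
      · obtain ⟨a, rfl⟩ : ∃ a, q = 8 * a + 5 := ⟨q / 8, by omega⟩
        exact ⟨4 * a ^ 2 + 5 * a + 1, by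
          rw [show (8 * a + 5) ^ 2 = 8 * (2 * (4 * a ^ 2 + 5 * a + 1) + 1) + 1 by ring]; simp⟩
    obtain ⟨b, rfl⟩ : ∃ b, q = 2 * b + 1 := ⟨q / 2, by omega⟩
    rw [hk, show (2 * b + 1) * (8 * (2 * k + 1)) = 8 * (2 * (2 * b * k + b + k) + 1) by ring] at e
    omega
  · have o : ¬ 2 ∣ 2 ^ n - 1 := by
      have : 2 ∣ 2 ^ n := dvd_pow_self 2 (by omega)
      have := Nat.one_le_two_pow (n := n)
      omega
    rw [(Nat.Prime.coprime_iff_not_dvd Nat.prime_two).2 o, one_mul] at e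
    subst e
    refine ⟨(pow_dvd_pow 2 hn).mul_right _, fun h8 => ?_⟩
    rcases (show n = 2 ∨ n = 3 ∨ 4 ≤ n by omega) with rfl | rfl | h4
    · norm_num at h8
    · norm_num
    · exact Or.inl ((pow_dvd_pow 2 h4).mul_right _)

theorem card_comap_mk (O : Subgroup G) [O.Normal] (N : Subgroup (G ⧸ O)) :
    ♯(N.comap (QuotientGroup.mk' O)) = ♯O * ♯N := by
  have a := (N.comap (QuotientGroup.mk' O)).card_mul_index
  rw [index_comap_of_surjective _ (QuotientGroup.mk'_surjective O), ← O.card_mul_index, O.index_eq_card,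
    ← N.card_mul_index, ← mul_assoc] at a
  exact Nat.eq_of_mul_eq_mul_right (Nat.pos_of_ne_zero N.index_ne_zero_of_finite) a

theorem odd_oddCore : ¬ 2 ∣ ♯(Cfsg.oddCore G) := by
  rw [Sig.oddCore_eq]
  exact (O_pi {2}ᶜ ⊤).not_dvd' Nat.prime_two rfl

theorem exists_act (h : ¬ NPC 2 H) (hS : Syl 2 S H) : ∃ D X t, D ≤ S ∧ X ≤ H ∧ t.Prime ∧ t ≠ 2 ∧ PiGrp {t} X ∧
    X ≤ 𝐍 D ∧ ¬ X ≤ 𝐂 D := by
  rw [npc_iff Nat.prime_two] at h
  obtain ⟨P, rfl⟩ := hS.exists_sylow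
  obtain ⟨Q, hQ, t, g, ht, t2, ⟨k, hk⟩, n, c⟩ := Transfer.exists_qElt_not_centralize h P
  refine ⟨Q.map H.subtype, (zpowers g).map H.subtype, t, map_mono hQ, map_subtype_le _, ht, t2,
    (piGrp_zpowers.2 (by rw [PiElt, hk]; exact piNat_pow_self ht k)).map _, map_norm (zpowers_le.2 n) _,
    fun e => c (zpowers_le.1 ((map_cent_iff H.subtype_injective).1 e))⟩

theorem dvd8 (h : ¬ 16 ∣ Nat.card G) (d : PiGrp {2} D) : ♯D ∣ 8 := by
  obtain ⟨k, e⟩ := d.card_pow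
  have : k ≤ 3 := by
    by_contra! l
    exact h ((pow_dvd_pow 2 l).trans (e ▸ D.card_subgroup_dvd_card))
  exact e ▸ pow_dvd_pow 2 this

theorem hall24 (h16 : ¬ 16 ∣ Nat.card G) (h9 : ¬ 9 ∣ Nat.card G) : ∃ H : Subgroup G, Hall {2, 3} H ⊤ := by
  by_cases s : Sol (⊤ : Subgroup G)
  · exact s.exists_hall _
  have key : ∀ D : Subgroup G, PiGrp {2} D → 4 ∣ ♯D → 3 ∣ ♯(𝐍 D) → ∃ H : Subgroup G, Hall {2, 3} H ⊤ := by
    intro D d d4 d3
    obtain ⟨S, hS, l⟩ := exists_syl_le le_top d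
    have n : S ≤ 𝐍 D := hS.pi.norm_of_logn l (by
      have a := logn_le_of_dvd (p := 2) (dvd8 h16 hS.pi) (by norm_num)
      have b := (pow_dvd_iff_le_logn Nat.prime_two (card_ne_zero' D) (k := 2)).1 d4
      rw [show 8 = 2 ^ 3 by norm_num, logn_pow Nat.prime_two] at a
      omega)
    have sN : Sol (𝐍 D) := sol_of_idx (normalIn_norm D) d.sol fun k => h16
      (((mul_dvd_mul d4 k).trans (card_mul_relIndex (le_norm_self D)).dvd).trans (𝐍 D).card_subgroup_dvd_card)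
    obtain ⟨H, hH⟩ := sN.exists_hall {2, 3}
    refine ⟨H, hH.trans_idx le_top fun t _ hd => ?_⟩
    rintro (rfl | rfl)
    · exact hS.idx_of_le n 2 Nat.prime_two hd rfl
    · exact h9 ((mul_dvd_mul d3 hd).trans (card_mul_relIndex le_top).dvd |>.trans card_top'.dvd)
  obtain ⟨S, hS⟩ := exists_syl 2 (⊤ : Subgroup G)
  obtain ⟨D, X, t, l, -, ht, t2, x, n, c⟩ := exists_act (fun k => s (Fgs3.sol_of_npc_two k)) hS
  have x1 : X ≠ ⊥ := fun e => c (e ▸ bot_le)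
  rcases act8 ht t2 x n c (dvd8 h16 (hS.pi.le l)) with ⟨rfl, d4⟩ | ⟨rfl, d8, f⟩
  · exact key D (hS.pi.le l) d4 ((x.dvd_card x1).trans (card_dvd n))
  obtain rfl : D = S := eq_of_card_le l (d8 ▸ Nat.le_of_dvd (by norm_num) (dvd8 h16 hS.pi))
  by_cases d3 : 3 ∣ ♯(𝐍 D)
  · exact key D hS.pi (d8 ▸ by norm_num) d3
  exfalso
  have inv : ∀ W, W ≤ D → X ≤ 𝐍 W → W ≠ ⊥ → W = D := fun W w nW w1 => by
    have a := BG2.dvd_card_sub_one ht x nW (eq_bot_mono f (inf_le_inf_right _ w))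
    have b := one_lt_card.2 w1
    have := BG.card_le w
    exact eq_of_card_le w (by omega)
  have d1 : D ≠ ⊥ := fun e => by rw [e, card_bot] at d8; omega
  have ab : Abel D := (inv _ inf_le_left (n.trans (norm_center D)) (hS.pi.center_ne_bot d1)).ge.trans inf_le_right
  obtain ⟨P, rfl⟩ := hS.exists_sylow_top
  rcases Cfsg.Agent.S3188.result P ab.comm (fun z hz => by
    obtain ⟨g, -, hg⟩ := hS.syl_le_cj (K := zpowers z) le_top
      (piGrp_of_card_prime Nat.prime_two (by rw [Nat.card_zpowers, hz]))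
    have hz' := zpowers_le.1 hg
    have z1 : z ≠ 1 := by rintro rfl; simp at hz
    have s' := (hS.cj_top g).of_le (le_cent1_iff.2 (abel_cj.2 ab hz')) le_top
    refine Fgs3.sol_of_npc_two (s'.burnside (le_of_forall_syl' fun t ht hd Y y => ?_))
    have nY := y.le.trans inf_le_right
    by_cases t2 : t = 2
    · subst t2
      exact (s'.le_of_norm (y.le.trans inf_le_left) y.pi (Or.inl nY)).trans (abel_cj.2 ab)
    by_contra c'
    rcases act8 ht t2 y.pi nY c' (dvd8 h16 s'.pi) with ⟨rfl, -⟩ | ⟨-, -, f'⟩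
    · exact d3 (by rw [← card_cj g, cj_norm]; exact hd.trans (card_dvd inf_le_right))
    · exact z1 (eq_one_of_mem_bot f' ⟨hz', le_cent1_iff.1 (y.le.trans inf_le_left)⟩)) with k | ⟨F, _, _, hF, N, hN, ⟨e⟩, -⟩
  · exact s (Fgs3.sol_top_iff.2 k)
  · obtain ⟨a, b⟩ := psl_arith hF
    rw [← Nat.card_congr e.toEquiv] at a b
    have cN := card_comap_mk _ N
    have sN := hS.inf_normal (normalIn_top.2 (hN.comap (QuotientGroup.mk' _)))
    have := inv _ inf_le_left (norm_inf n (le_top.trans (normalIn_top.2 (hN.comap (QuotientGroup.mk' _))).norm))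
      (sN.syl_ne_bot Nat.prime_two (cN ▸ ((show 2 ∣ 4 by norm_num).trans a).mul_left _))
    have d : 8 ∣ ♯N := by
      have := card_dvd (this.ge.trans inf_le_right)
      rw [d8, cN] at this
      exact (Nat.Coprime.pow_left 3 ((Nat.Prime.coprime_iff_not_dvd Nat.prime_two).2 odd_oddCore)).dvd_of_dvd_mul_left this
    have dG : ♯N ∣ Nat.card G := (Dvd.intro_left _ cN.symm).trans (card_subgroup_dvd_card _)
    exact (b d).elim (fun k => h16 (k.trans dG)) fun k => h9 (k.trans dG)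

theorem hall60 {n : ℕ} (e : Nat.card G = 60 * n) (co : (60 : ℕ).Coprime n) : ∃ H : Subgroup G, ♯H = 60 := by
  have nd : ∀ p, p.Prime → p ∣ 60 → ¬ p ∣ n := fun p hp => not_dvd_of_coprime co hp
  have n2 := nd 2 Nat.prime_two (by norm_num)
  have n3 := nd 3 Nat.prime_three (by norm_num)
  have n5 := nd 5 Nat.prime_five (by norm_num)
  have key : ∀ M : Subgroup G, Sol M → 60 ∣ ♯M → ∃ H : Subgroup G, ♯H = 60 := fun M s d => by
    obtain ⟨H, hH⟩ := s.exists_hall (piOf 60)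
    refine ⟨H, Nat.dvd_antisymm ?_ (hH.dvd_card d (piNat_piOf _))⟩
    have := H.card_subgroup_dvd_card
    rw [e] at this
    exact (coprime_of_primes fun p hp hd => nd p hp (hH.pi p hp hd).2).dvd_of_dvd_mul_right this
  by_cases s : Sol (⊤ : Subgroup G)
  · exact key ⊤ s (by rw [card_top', e]; exact Dvd.intro _ rfl)
  obtain ⟨S, hS⟩ := exists_syl 2 (⊤ : Subgroup G)
  have s4 : ♯S = 4 := by
    have a : 4 ∣ ♯S := hS.dvd_card (by rw [card_top', e]; omega) (piNat_pow_self Nat.prime_two 2)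
    have b := dvd8 (by omega) hS.pi
    have c : ¬ 8 ∣ ♯S := fun k => by have := k.trans S.card_subgroup_dvd_card; omega
    have := Nat.le_of_dvd (by norm_num) b
    have := card_pos' S
    omega
  have ab : Abel S := hS.pi.abel_of_logn (by rw [s4, show 4 = 2 ^ 2 by norm_num, logn_pow Nat.prime_two])
  have d3 : 3 ∣ ♯(𝐍 S) := by
    by_contra k
    refine s (Fgs3.sol_of_npc_two (hS.burnside (le_of_forall_syl' fun t ht hd Y y => ?_)))
    have nY := y.le.trans inf_le_right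
    by_cases t2 : t = 2
    · subst t2
      exact (hS.le_of_norm le_top y.pi (Or.inl nY)).trans ab
    by_contra c'
    rcases act8 ht t2 y.pi nY c' (by rw [s4]; norm_num) with ⟨rfl, -⟩ | ⟨-, f, -⟩
    · exact k (hd.trans (card_dvd inf_le_right))
    · omega
  obtain ⟨P, rfl⟩ := hS.exists_sylow_top
  rcases Cfsg.Agent.S3188.result P ab.comm (fun z hz => by
    have c : ♯(zpowers z) = 2 := by rw [Nat.card_zpowers, hz]
    have l : zpowers z ≤ 𝐂₁ z := zpowers_le.2 (self_mem_cent1 z)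
    refine sol_of_idx (D := zpowers z) ⟨l, norm_of_cent (cent_zpowers z).ge⟩ (cyc_zpowers z).sol fun k => ?_
    have := (mul_dvd_mul_left _ k).trans ((card_mul_relIndex l).dvd.trans (card_subgroup_dvd_card _))
    rw [c, e] at this
    omega) with k | ⟨F, _, _, hF, N, hN, ⟨f⟩, -⟩
  · exact absurd (Fgs3.sol_top_iff.2 k) s
  have a := (psl_arith hF).1
  rw [← Nat.card_congr f.toEquiv] at a
  have cN := card_comap_mk _ N
  have nO : Cfsg.oddCore G ⊴ ⊤ := normalIn_top.2 inferInstance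
  by_cases h5 : 5 ∣ ♯N
  · obtain ⟨B, ⟨g⟩⟩ := (Cfsg.Agent.S0804.result (F := F) rfl).2 (by
      rw [← Classical.card_PSL_two, ← Nat.card_congr f.toEquiv]; exact h5.mul_left _)
    have cB : ♯((B.map f.symm.toMonoidHom).map N.subtype) = 60 := by
      rw [card_map N.subtype_injective, card_map f.symm.injective, Nat.card_congr g.toEquiv,
        nat_card_alternatingGroup]; simp; rfl
    have cK := card_comap_mk _ ((B.map f.symm.toMonoidHom).map N.subtype)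
    set K := ((B.map f.symm.toMonoidHom).map N.subtype).comap (QuotientGroup.mk' (Cfsg.oddCore G))
    have l : Cfsg.oddCore G ≤ K := fun x hx => by
      rw [mem_comap, QuotientGroup.mk'_apply, (QuotientGroup.eq_one_iff x).2 hx]; exact one_mem _
    have r : (Cfsg.oddCore G).relIndex K = 60 :=
      Nat.eq_of_mul_eq_mul_left (card_pos' _) (by rw [card_mul_relIndex l, cK, cB])
    have dO : ♯(Cfsg.oddCore G) ∣ n := by
      have := K.card_subgroup_dvd_card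
      rw [cK, cB, e, mul_comm] at this
      exact Nat.dvd_of_mul_dvd_mul_left (by norm_num) this
    obtain ⟨H, hH⟩ := exists_compl (nO.of_le l le_top) (by rw [r]; exact (co.coprime_dvd_right dO).symm)
    exact ⟨H, by rw [← hH.relIndex_left, r]⟩
  have nN := normalIn_top.2 (hN.comap (QuotientGroup.mk' _))
  have sN := hS.inf_normal nN
  have e1 : (P : Subgroup G) ⊓ N.comap (QuotientGroup.mk' _) = P := eq_of_card_le inf_le_left
    (s4 ▸ Nat.le_of_dvd (card_pos' _) (sN.dvd_card (cN ▸ a.mul_left _) (piNat_pow_self Nat.prime_two 2)))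
  rw [e1] at sN
  have fr := sN.syl_frattini_sup nN
  rw [top_inf_eq] at fr
  have sO : Sol (Cfsg.oddCore G) := sol_of_not_four fun k => odd_oddCore ((show 2 ∣ 4 by norm_num).trans k)
  have sP : Sol (𝐍 (P : Subgroup G)) := Fgs3.sol_of_normal_syl (hS.of_le (le_norm_self _) le_top) le_rfl
  refine key _ (sO.sup' sP (le_top.trans nO.norm)) ?_
  have b4 : 4 ∣ ♯(Cfsg.oddCore G ⊔ 𝐍 (P : Subgroup G)) := s4 ▸ card_dvd ((le_norm_self _).trans le_sup_right)
  have b3 := d3.trans (card_dvd (le_sup_right : _ ≤ Cfsg.oddCore G ⊔ 𝐍 (P : Subgroup G)))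
  have b5 : 5 ∣ ♯(Cfsg.oddCore G ⊔ 𝐍 (P : Subgroup G)) := by
    have := card_sup_dvd (H := N.comap (QuotientGroup.mk' _)) (K := 𝐍 (P : Subgroup G))
      (Or.inr (le_top.trans nN.norm))
    rw [fr, card_top', cN, e] at this
    have k : 5 ∣ _ := (show 5 ∣ 60 * n by omega).trans this
    rcases (Nat.prime_five.dvd_mul).1 k with k | k
    · exact (((Nat.prime_five.dvd_mul).1 k).resolve_right h5).trans (card_dvd le_sup_left)
    · exact k.trans (card_dvd le_sup_right)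
  omega

end pos

end CF.Fgs2
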