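import Cfsg.Agent.Char.Blich
import Cfsg.Agent.Char.Deg3
import Cfsg.Agent.Char.FrobSchur
import Cfsg.Agent.S4464

/-!
Character degrees: prime degrees, the components of the degree graph, and abelian subgroups of
index bounded in terms of the largest degree.
-/

set_option autoImplicit false

namespace CF.Fgs2.Isa

open Cfsg Subgroup CF.BG CF.Clifford CF.Char
open scoped commutatorElement ComplexConjugate

universe u

variable {G : Type u} [Group G] [Finite G] {χ : G → ℂ} {d m n p : ℕ}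

/-- A perfect group with a faithful character of degree two has only central involutions. -/
theorem inv_central (hχ : IsIrrCharacter G χ) (e : χ 1 = 2) (hf : charKer χ = ⊥)
    (c : commutator G = ⊤) {s : G} (hs : s * s = 1) : s ∈ center G := by
  have a := char_altSq (irr_isCharacter hχ)
  have k := commutator_le_charKer_of_one a (by simp only [mul_one, e]; norm_num)
  have := (mem_charKer_iff a).1 (k (c ▸ mem_top s))
  simp only [hs, mul_one, e] at this
  rw [← charCenter_eq_center_of_faithful hχ hf, mem_charCenter_iff (irr_isCharacter hχ), e]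
  have h : χ s ^ 2 = 2 ^ 2 := by linear_combination 2 * this
  have := congrArg norm h
  rw [norm_pow, norm_pow] at this
  exact (pow_left_inj₀ (norm_nonneg _) (norm_nonneg _) two_ne_zero).1 this

/-- All nonlinear degrees are prime. -/
def PD (G : Type*) [Group G] : Prop := ∀ d ∈ 𝐜𝐝 G, d ≠ 1 → d.Prime

theorem PD.normal (h : PD G) (N : Subgroup G) [N.Normal] : PD N := fun d hd e => by
  obtain ⟨k, -, a⟩ := exists_cd_mul hd
  have b := h _ a fun w => e (Nat.eq_one_of_mul_eq_one_left w)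
  exact ((b.eq_one_or_self_of_dvd d (Dvd.intro_left _ rfl)).resolve_left e).symm ▸ b

omit [Finite G] in
theorem PD.quot (h : PD G) (N : Subgroup G) [N.Normal] : PD (G ⧸ N) := fun d hd =>
  h d (cd_quot N hd)

theorem PD.simple (h : PD G) [IsSimpleGroup G] : Group.IsSolvable G := by
  by_contra ns
  have c : commutator G = ⊤ := (Normal.eq_bot_or_eq_top inferInstance).resolve_left fun e =>
    ns (Group.isSolvable_of_comm (comm_of_commutator_eq_bot e))
  have z : center G = ⊥ := (Normal.eq_bot_or_eq_top inferInstance).resolve_right fun e =>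
    ns (Group.isSolvable_of_comm fun a b => mem_center_iff.1 (e ▸ mem_top b) a)
  have f : ∀ {χ : G → ℂ} {d : ℕ}, IsIrrCharacter G χ → χ 1 = d → d ≠ 1 → charKer χ = ⊥ :=
    fun a e w => charKer_eq_bot_of_simple a fun v => w (by
      rw [v] at e; exact Nat.cast_eq_one.1 e.symm)
  have o : ∀ d ∈ 𝐜𝐝 G, d ≠ 1 → Odd d := fun d hd w => (h d hd w).odd_of_ne_two fun e => by
    subst e
    obtain ⟨χ, a, b⟩ := mem_cd.1 hd
    have := Fact.mk Nat.prime_two
    obtain ⟨s, hs⟩ := exists_prime_orderOf_dvd_card' (G := G) 2 (cd_dvd_card hd)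
    have := inv_central a b (f a b w) c (s := s) (by rw [← pow_two, ← hs, pow_orderOf_eq_one])
    rw [z, mem_bot] at this
    simp [this] at hs
  have key : ∀ n ∈ 𝐜𝐝 G, ∀ q ∈ 𝐜𝐝 G, ∀ r ∈ 𝐜𝐝 G, n ≠ 1 → n < q → n < r → q = r := by
    intro n hn q hq r hr n1 l l'
    have := cd_pos hn
    have q1 : q ≠ 1 := by omega
    have r1 : r ≠ 1 := by omega
    obtain ⟨χ, a, b⟩ := mem_cd.1 hn
    obtain ⟨ψ, a', b'⟩ := mem_cd.1 hr
    obtain ⟨H, x, y⟩ := blichfeldt (irr_isCharacter a) (f a b n1) b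
    have lt : ∀ t ∈ 𝐜𝐝 G, n < t → n + 1 < t := fun t ht w => by
      obtain ⟨i, hi⟩ := o n hn n1
      obtain ⟨j, hj⟩ := o t ht (by omega)
      omega
    obtain ⟨g, hg, og⟩ := exists_mem_orderOf_eq (h q hq q1) (x.prime_dvd (h q hq q1) (lt q hq l)
      (card_top' (G := G) ▸ cd_dvd_card hq))
    have g1 : g ≠ 1 := fun w => q1 (by rw [← og, w, orderOf_one])
    have i : ¬ r ∣ (𝐂₁ g).index := fun w => x.idx.not_dvd' (h r hr r1) (lt r hr l')
      (w.trans (relIndex_top_right H ▸ index_dvd_of_le (y.trans (cent_le_cent1 hg))))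
    obtain v | v := irr_eq_zero_or_mem_charCenter a' b' g (((h r hr r1).coprime_iff_not_dvd).2 i)
    · have := dvd_of_gen_eq_zero (gen_of_irr a') (h q hq q1) (k := 1) (g := g)
        (by rw [pow_one, ← og, pow_orderOf_eq_one]) v (d := r) (by rw [b']; rfl)
      exact (Nat.prime_dvd_prime_iff_eq (h q hq q1) (h r hr r1)).1 (by exact_mod_cast this)
    · rw [charCenter_eq_center_of_faithful a' (f a' b' r1), z] at v
      exact absurd v g1
  by_cases e : ∃ n ∈ 𝐜𝐝 G, n ≠ 1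
  · classical
    let n := Nat.find e
    have hn : n ∈ 𝐜𝐝 G ∧ n ≠ 1 := Nat.find_spec e
    have mn : ∀ t ∈ 𝐜𝐝 G, t ≠ 1 → n ≤ t := fun t ht w => Nat.find_min' e ⟨ht, w⟩
    by_cases e' : ∃ q ∈ 𝐜𝐝 G, n < q
    · obtain ⟨q, hq, l⟩ := e'
      refine ns (isSolvable_of_three (m := n) (n := q) fun t ht => ?_)
      by_contra w
      simp only [Set.mem_insert_iff, Set.mem_singleton_iff, not_or] at w
      exact w.2.2 (key n hn.1 t ht q hq hn.2 ((mn t ht w.1).lt_of_ne (Ne.symm w.2.1)) l)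
    · refine ns (isSolvable_of_two (m := n) fun t ht => ?_)
      by_contra w
      simp only [Set.mem_insert_iff, Set.mem_singleton_iff, not_or] at w
      exact e' ⟨t, ht, (mn t ht w.1).lt_of_ne (Ne.symm w.2)⟩
  · push Not at e
    exact ns (isSolvable_of_two (m := 1) fun t ht => Or.inl (e t ht))

theorem PD.solv (k : ℕ) : ∀ (G : Type u) [Group G] [Finite G], Nat.card G = k → PD G →
    Group.IsSolvable G := by
  induction k using Nat.strong_induction_on with
  | _ k ih =>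
  intro G _ _ e h
  by_cases s : ∃ N : Subgroup G, N.Normal ∧ N ≠ ⊥ ∧ N ≠ ⊤
  · obtain ⟨N, _, a, b⟩ := s
    refine isSolvable_of_normal N (ih _ ?_ N rfl (h.normal N)) (ih _ ?_ _ rfl (h.quot N))
    · exact e ▸ card_top' (G := G) ▸ card_lt b.lt_top
    · rw [← e, ← index_eq_card, ← N.card_mul_index]
      exact lt_mul_of_one_lt_left (Nat.pos_of_ne_zero index_ne_zero_of_finite) (one_lt_card.2 a)
  · obtain _ | _ := subsingleton_or_nontrivial G
    · infer_instance
    · have : IsSimpleGroup G := ⟨fun N hN => by by_contra! w; exact s ⟨N, hN, w⟩⟩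
      exact h.simple

theorem PD.three (h : PD G) : ∃ p q, 𝐜𝐝 G ⊆ {1, p, q} := by
  have s := PD.solv _ G rfl h
  by_cases c : commutator G ≤ ⊥
  · exact ⟨1, 1, fun d hd => Or.inl (der_eq_bot_iff_cd.1 (le_bot_iff.1 c) hd)⟩
  obtain ⟨K, _, -, k⟩ := exists_minNA c
  have np : ∀ a b : ℕ, a ≠ 1 → b ≠ 1 → a * b ∉ 𝐜𝐝 G := fun a b x y w =>
    Nat.not_prime_mul x y (h _ w fun v => x (Nat.eq_one_of_mul_eq_one_right v))
  by_cases t : ∃ p, p.Prime ∧ IsPGroup p (G ⧸ K)
  · obtain ⟨p, hp, t⟩ := t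
    obtain ⟨f, x, y⟩ := k.exists_cd
    refine ⟨p, p, fun d hd => or_iff_not_imp_left.2 fun w => Or.inl ?_⟩
    exact ((Nat.prime_dvd_prime_iff_eq hp (h d hd w)).1 (dvd_of_pquot hp t x hd (np _ _ y w))).symm
  · obtain ⟨N, q, r⟩ := k.frobQ inferInstance fun p hp w => t ⟨p, hp, w⟩
    have := normal_of_der_le r.der
    refine ⟨N.index, q, fun d hd => or_iff_not_imp_left.2 fun w => or_iff_not_imp_left.2 fun v => ?_⟩
    obtain ⟨χ, a, b⟩ := mem_cd.1 hd
    have i := irr_res_of_coprime (N := N) a b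
      ((Nat.coprime_primes (h d hd w) (h _ r.mem r.ne)).2 v)
    exact ((Nat.prime_dvd_prime_iff_eq r.prime (h d hd w)).1
      ((r.cd d (cd_of_irr i b)).resolve_left (np _ _ r.ne w))).symm

theorem exists_cd_under {N : Subgroup G} [N.Normal] (h : d ∈ 𝐜𝐝 G) :
    ∃ k e, k ∣ N.index ∧ e ∈ 𝐜𝐝 N ∧ d = k * e := by
  have := Fintype.ofFinite G
  have := Fintype.ofFinite N
  obtain ⟨χ, a, b⟩ := mem_cd.1 h
  obtain ⟨θ, x, y⟩ := exists_irr_under N a
  obtain ⟨k, u, v⟩ := (NormalEmb.sub N).exists_deg_eq_mul x a y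
  obtain ⟨e, w, z⟩ := exists_cd x
  exact ⟨k, e, by simpa using u, w, by rw [b, z] at v; exact_mod_cast v⟩

/-- Every prime of the degree graph of a solvable group is joined to, or equal to, one of two
primes. -/
theorem two_hubs (s : Group.IsSolvable G) : ∃ f q : ℕ, f ∈ 𝐜𝐝 G ∧ ∀ r : ℕ, r.Prime →
    (∃ d ∈ 𝐜𝐝 G, r ∣ d) → (∃ d ∈ 𝐜𝐝 G, r ∣ d ∧ f ∣ d ∧ f ≠ 1) ∨
      q.Prime ∧ ∃ d ∈ 𝐜𝐝 G, r ∣ d ∧ q ∣ d := by
  by_cases c : commutator G ≤ ⊥
  · refine ⟨1, 1, one_mem_cd, fun r hr ⟨d, hd, w⟩ => ?_⟩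
    rw [der_eq_bot_iff_cd.1 (le_bot_iff.1 c) hd] at w
    exact absurd w hr.not_dvd_one
  obtain ⟨K, _, -, k⟩ := exists_minNA c
  by_cases t : ∃ p, p.Prime ∧ IsPGroup p (G ⧸ K)
  · obtain ⟨p, hp, t⟩ := t
    obtain ⟨f, x, y⟩ := k.exists_cd
    refine ⟨f, p, cd_quot K x, fun r hr ⟨d, hd, w⟩ => ?_⟩
    by_cases v : f * d ∈ 𝐜𝐝 G
    · exact Or.inl ⟨_, v, w.mul_left _, Dvd.intro _ rfl, y⟩
    · exact Or.inr ⟨hp, d, hd, w, dvd_of_pquot hp t x hd v⟩
  · obtain ⟨N, q, r⟩ := k.frobQ inferInstance fun p hp w => t ⟨p, hp, w⟩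
    have := normal_of_der_le r.der
    refine ⟨N.index, q, r.mem, fun p hp ⟨d, hd, w⟩ => ?_⟩
    obtain ⟨j, e, x, y, rfl⟩ := exists_cd_under (N := N) hd
    obtain v | v := (Nat.Prime.dvd_mul hp).1 w
    · exact Or.inl ⟨_, r.mem, v.trans x, dvd_rfl, r.ne⟩
    · obtain z | z := r.cd e y
      · exact Or.inl ⟨_, z, v.mul_left _, Dvd.intro _ rfl, r.ne⟩
      · exact Or.inr ⟨r.prime, _, hd, w, z.mul_left _⟩

end CF.Fgs2.Isa
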