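import Cfsg.Agent.Fgs2.Isa4

/-!
Relative degree sets: basic facts and the first Isaacs–Knutson lemmas.
-/

set_option autoImplicit false

namespace CF.Fgs2.Isa

open Cfsg Subgroup CF.BG CF.Clifford CF.Char
open scoped commutatorElement ComplexConjugate

attribute [local instance] Fintype.ofFinite

universe u v

scoped notation "𝐫𝐜" => Cfsg.relCharDegrees

variable {G : Type u} [Group G] [Finite G] {χ : G → ℂ} {a b c d e m n p : ℕ} {N M V H U : Subgroup G}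

theorem mem_rc : d ∈ 𝐫𝐜 N ↔ ∃ χ, IsIrrCharacter G χ ∧ ¬ N ≤ charKer χ ∧ χ 1 = d := by
  constructor
  · rintro ⟨χ, ⟨x, hx, h⟩, rfl⟩
    exact ⟨χ, χ.2, fun w => h ((mem_charKer_iff (irr_isCharacter χ.2)).1 (w hx)),
      (CF.BlockB.irr_charDegree_eq χ).symm⟩
  · rintro ⟨χ, h, k, e⟩
    refine ⟨⟨χ, h⟩, ?_, CF.BlockB.charDegree_of_eq e⟩
    by_contra! w
    exact k fun x hx => (mem_charKer_iff (irr_isCharacter h)).2 (w x hx)

theorem rc_of (h : IsIrrCharacter G χ) (k : ¬ N ≤ charKer χ) (e : χ 1 = d) : d ∈ 𝐫𝐜 N :=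
  mem_rc.2 ⟨χ, h, k, e⟩

theorem rc_mono (h : M ≤ N) : 𝐫𝐜 M ⊆ 𝐫𝐜 N := fun _ hd =>
  let ⟨_, a, b, c⟩ := mem_rc.1 hd
  rc_of a (fun w => b (h.trans w)) c

theorem rc_sub_cd : 𝐫𝐜 N ⊆ 𝐜𝐝 G := fun _ hd =>
  let ⟨_, a, _, c⟩ := mem_rc.1 hd
  cd_of_irr a c

theorem rc_pos (h : d ∈ 𝐫𝐜 N) : 0 < d := cd_pos (rc_sub_cd h)

theorem rc_map {Q : Type v} [Group Q] {f : G →* Q} (hf : Function.Surjective f) :
    𝐫𝐜 (N.map f) ⊆ 𝐫𝐜 N := fun _ hd => by
  have := Finite.of_surjective f hf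
  obtain ⟨χ, a, b, c⟩ := mem_rc.1 hd
  refine rc_of (irr_comp_of_surjective a f hf) (fun w => b ?_) (by rw [map_one]; exact c)
  rwa [charKer_comp χ f hf, ← map_le_iff_le_comap] at w

theorem exists_rc (h : N ≠ ⊥) : ∃ d, d ∈ 𝐫𝐜 N := by
  obtain ⟨g, hg, g1⟩ := exists_mem_ne_one h
  obtain ⟨χ, a, b⟩ := exists_irr_not_mem_charKer g1
  obtain ⟨d, -, e⟩ := exists_cd a
  exact ⟨d, rc_of a (fun w => b (w hg)) e⟩

theorem rc_ne_one (h : N ≤ commutator G) (hd : d ∈ 𝐫𝐜 N) : d ≠ 1 := by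
  rintro rfl
  obtain ⟨χ, a, b, c⟩ := mem_rc.1 hd
  exact b (h.trans ((irr_one_eq_one_iff a).1 (by simpa using c)))

theorem exists_perm [N.Normal] (h : ¬ N ≤ U) : ∃ ξ d, IsIrrCharacter G ξ ∧ ¬ N ≤ charKer ξ ∧
    ξ 1 = (d : ℕ) ∧ d < U.index ∧ ∀ K : Subgroup G, K.Normal → K ≤ U → K ≤ charKer ξ := by
  have c := char_indFun_one U
  have k := charKer_indFun_le U (θ := fun _ => 1) (irr_isCharacter irr_one) one_ne_zero
  obtain ⟨g, hg, g1⟩ := SetLike.not_le_iff_exists.1 h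
  obtain ⟨ξ, x, y, z⟩ : ∃ ξ, IsIrrCharacter G ξ ∧ classInner (indFun U fun _ => 1) ξ ≠ 0 ∧
      g ∉ charKer ξ := by
    by_contra! w
    exact g1 (k (mem_charKer_of_constituents (char_isClassFunction c) w))
  obtain ⟨d, -, e⟩ := exists_cd x
  refine ⟨ξ, d, x, fun w => z (w hg), e, one_le_of_sub_char (b := d + 1) (char_sub_add_of_ne c x
    irr_one (fun w => z (by rw [w, charKer_one]; trivial)) y (by
      rw [inner_indFun_one_one]; exact one_ne_zero)) (by simp [CF.Char.indFun_one]) (by simp [e]),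
    fun K _ l => (le_charKer_indFun U (irr_isCharacter irr_one) K l fun _ _ => rfl).trans
      (charKer_le_of_inner_ne_zero c x y)⟩

theorem le_ker_of_const [N.Normal] (l : N ≤ H) (hχ : IsIrrCharacter G χ) {ψ : H → ℂ}
    (hψ : IsIrrCharacter H ψ) (o : classInner (fun x : H => χ x) ψ ≠ 0)
    (k : N.subgroupOf H ≤ charKer ψ) : N ≤ charKer χ :=
  le_charKer_of_inner_ne_zero hχ N (inner_comp_ne_zero_of_constituent (inclusion l)
    (char_restrict (irr_isCharacter hχ) H) hψ (irr_isCharacter irr_one) o (by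
      rw [show (fun x : N => ψ (inclusion l x)) = ψ 1 • fun _ => 1 from funext fun x => by
        simpa using (mem_charKer_iff (irr_isCharacter hψ)).1 (k x.2),
        CF.Char.inner_smul_left, inner_irr_self irr_one, mul_one]
      exact irr_one_ne_zero hψ))

theorem inertia_dvd {X : Type v} [Group X] [Finite X] (E : NormalEmb X G) {θ : X → ℂ}
    (hθ : IsIrrCharacter X θ) (hχ : IsIrrCharacter G χ)
    (o : classInner (fun x => χ (E.ι x)) θ ≠ 0) (e : χ 1 = d) (t : θ 1 = m) :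
    (E.inertia θ).index * m ∣ d := by
  have c := E.clifford_one hχ hθ o
  obtain ⟨k, hk⟩ := inner_char_eq_nat (char_comp (irr_isCharacter hχ) E.ι) (irr_isCharacter hθ)
  rw [hk, e, t] at c
  exact Dvd.intro_left k (by exact_mod_cast c.symm)

theorem logn_le_of_not_dvd (hp : p.Prime) (h0 : d ≠ 0) (h : ¬ p ^ (n + 1) ∣ d) : logn p d ≤ n :=
  Nat.lt_succ_iff.1 (not_le.1 fun w => h ((pow_dvd_iff_le_logn hp h0).2 w))

theorem not_pow_succ_dvd (hp : p.Prime) (h0 : d ≠ 0) : ¬ p ^ (logn p d + 1) ∣ d := fun w =>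
  Nat.not_succ_le_self _ ((pow_dvd_iff_le_logn hp h0).1 w)

/-- A constituent of an induced character whose degree has small `p`-part. -/
theorem exists_over_logn (hp : p.Prime) {φ : H → ℂ} (hφ : IsCharacter H φ) (t : φ 1 = m)
    (m0 : m ≠ 0) : ∃ ξ e, IsIrrCharacter G ξ ∧ classInner (indFun H φ) ξ ≠ 0 ∧ ξ 1 = (e : ℕ) ∧
      logn p e ≤ logn p H.index + logn p m := by
  have i := index_ne_zero_of_finite (H := H)
  obtain ⟨ξ, e, x, y, z, w⟩ := exists_const_not_dvd (char_indFun H hφ) (d := H.index * m)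
    (by simp [CF.Char.indFun_one, t]) (not_pow_succ_dvd hp (mul_ne_zero i m0))
  exact ⟨ξ, e, x, y, z, logn_mul i m0 ▸ logn_le_of_not_dvd hp (cd_pos (cd_of_irr x z)).ne' w⟩

theorem t1 [N.Normal] (hp : p.Prime) (k : PiGrp {p} N) (h : d ∈ 𝐫𝐜 ⁅N, N⁆) :
    ∃ e ∈ 𝐫𝐜 N, logn p e < logn p d := by
  obtain ⟨P, s, l⟩ := exists_syl_le le_top k
  obtain ⟨χ, a, b, c⟩ := mem_rc.1 h
  obtain ⟨ψ, m, x, y, z, w⟩ := exists_const_not_dvd (char_restrict (irr_isCharacter a) P) c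
    (not_pow_succ_dvd hp (rc_pos h).ne')
  have := s.pi.nil
  obtain ⟨U, μ, rfl⟩ := isMonomial_of_isNilpotent x
  have i : U.index = m := Nat.cast_injective (R := ℂ) (by simpa [CF.Char.indFun_one] using z)
  obtain ⟨φ, j, f1, f2, f3, f4, -⟩ := exists_perm (N := N.subgroupOf P) (U := U) fun v => by
    refine b (le_ker_of_const ((der_le N).trans l) a x y ?_)
    rw [subgroupOf_comm l l]
    refine le_charKer_indFun U (char_linear μ) _ ((der_le _).trans v) fun u hu => ?_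
    have : (⁅N.subgroupOf P, N.subgroupOf P⁆).subgroupOf U ≤ μ.ker := by
      rw [subgroupOf_comm v v]
      exact (commutator_mono le_top le_top).trans (Abelianization.commutator_subset_ker μ)
    rw [MonoidHom.mem_ker.1 (this hu), map_one]
  obtain ⟨ξ, e, x1, x2, x3, x4⟩ := exists_over_logn hp (irr_isCharacter f1) f3
    (cd_pos (cd_of_irr f1 f3)).ne'
  refine ⟨e, rc_of x1 (fun v => f2 (le_trans ?_ (charKer_le_of_inner_ne_zero
    (char_restrict (irr_isCharacter x1) P) f1 ?_))) x3, ?_⟩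
  · rw [charKer_restrict (irr_isCharacter x1)]
    exact fun g hg => v hg
  · rwa [inner_indFun_left _ _ (irr_isClassFunction x1), inner_irr_ne_zero_comm] at x2
  obtain ⟨r, rfl⟩ := cd_pow_of_isPGroup hp s.pi.isPGroup (cd_of_irr f1 f3)
  obtain ⟨t, rfl⟩ := cd_pow_of_isPGroup hp s.pi.isPGroup (cd_of_irr x z)
  have q := logn_eq_zero s.idx
  rw [relIndex_top_right] at q
  rw [q, logn_pow hp, zero_add] at x4
  have := (Nat.pow_lt_pow_iff_right hp.one_lt).1 (i ▸ f4)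
  have := logn_le_of_not_dvd hp (pow_pos hp.pos t).ne' w
  rw [logn_pow hp] at this
  omega

theorem t2 [V.Normal] [N.Normal] {θ : V → ℂ} (hθ : IsIrrCharacter V θ)
    (h : ¬ N ≤ (NormalEmb.sub V).inertia θ) : θ ≠ (fun _ => 1) ∧ ∃ ξ c, IsIrrCharacter G ξ ∧
      ¬ N ≤ charKer ξ ∧ ξ 1 = (c : ℕ) ∧ c < ((NormalEmb.sub V).inertia θ).index ∧ V ≤ charKer ξ := by
  obtain ⟨ξ, c, x1, x2, x3, x4, x5⟩ := exists_perm h
  exact ⟨fun w => h fun g _ => w ▸ rfl, ξ, c, x1, x2, x3, x4, x5 V inferInstance fun v hv =>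
    (NormalEmb.sub V).ι_mem_inertia (irr_isClassFunction hθ) ⟨v, hv⟩⟩

theorem exists_not_inv [V.Normal] (a : Abel V) (h : ¬ N ≤ 𝐂 V) :
    ∃ θ, IsIrrCharacter V θ ∧ ¬ N ≤ (NormalEmb.sub V).inertia θ := by
  by_contra! w
  refine h fun g hg => mem_cent.2 fun v hv => ?_
  obtain ⟨c, e⟩ := isConj_iff.1 ((isConj_iff_irr_eq ((NormalEmb.sub V).c g ⟨v, hv⟩) ⟨v, hv⟩).2
    fun θ => (NormalEmb.mem_inertia' _).1 (w θ θ.2 hg) _)
  have f := congrArg Subtype.val e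
  have := a.mul_comm c.2 ((NormalEmb.sub V).c g ⟨v, hv⟩).2
  rw [coe_mul, coe_mul, this, coe_inv, mul_inv_cancel_right] at f
  exact (mul_inv_eq_iff_eq_mul.1 f).symm

theorem der_le_of_abel_map [M.Normal] (h : Abel (N.map (QuotientGroup.mk' M))) : ⁅N, N⁆ ≤ M := by
  rwa [← der_eq_bot, ← map_commutator, Subgroup.map_eq_bot_iff, QuotientGroup.ker_mk'] at h

/-- A nilpotent normal subgroup is a `p`-group when a nontrivial `p`-group lies in all nontrivial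
normal subgroups. -/
theorem pi_of_min [N.Normal] (k : Nil N) (v : V ≠ ⊥) (hV : PiGrp {p} V)
    (h : ∀ M : Subgroup G, M.Normal → M ≠ ⊥ → V ≤ M) : PiGrp {p} N := by
  have : 𝐎 {p}ᶜ N = ⊥ := by
    by_contra w
    exact v (hV.eq_bot ((O_pi _ N).le (h _ (normalIn_top.1 ((normalIn_top.2 ‹_›).O _)) w)))
  have e := (k.dprod {p}).sup
  rw [this, sup_bot_eq] at e
  exact e ▸ O_pi _ N

theorem b1_aux (k : ℕ) : ∀ (G : Type u) [Group G] [Finite G] (N : Subgroup G) [N.Normal] (a : ℕ),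
    Nat.card G = k → Sol N → 𝐫𝐜 N ⊆ {a} → Abel N := by
  induction k using Nat.strong_induction_on with | _ k ih
  intro G _ _ N _ a e s h
  by_contra w
  have n1 : ⁅N, N⁆ ≠ ⊥ := fun v => w (der_eq_bot.1 v)
  have u : ∀ M : Subgroup G, M.Normal → M ≠ ⊥ → ⁅N, N⁆ ≤ M := fun M _ m1 =>
    have := Normal.map ‹N.Normal› _ (QuotientGroup.mk'_surjective M)
    der_le_of_abel_map (ih _ (e ▸ CF.Solv.card_quotient_lt m1) _ _ a rfl (s.map _)
      ((rc_map (QuotientGroup.mk'_surjective M)).trans h))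
  have mn : MinN ⁅N, N⁆ ⊤ := ⟨n1, (normalIn_top.2 inferInstance).norm, fun K l k1 n =>
    l.antisymm (u K (normalIn_top.1 ⟨le_top, n⟩) k1)⟩
  obtain ⟨p, hp, ab⟩ := mn.exists_abelem (s.mono (der_le N))
  by_cases c : N ≤ 𝐂 ⁅N, N⁆
  · obtain ⟨d, hd⟩ := exists_rc n1
    obtain ⟨e, he, l⟩ := t1 hp (pi_of_min (nil_of_der_le_cent (cent_symm c)) n1 ab.pi u) hd
    rw [h he, h (rc_mono (der_le N) hd)] at l
    exact l.false
  obtain ⟨θ, t, i⟩ := exists_not_inv ab.abel c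
  obtain ⟨t1, ξ, c, x1, x2, x3, x4, -⟩ := t2 t i
  obtain ⟨χ, y1, y2⟩ := CF.Char.exists_irr_over _ t
  obtain ⟨d, hd, y3⟩ := exists_cd y1
  obtain ⟨m, hm, y4⟩ := exists_cd t
  have := Nat.le_of_dvd (cd_pos hd) ((dvd_mul_right _ _).trans (inertia_dvd (NormalEmb.sub _) t y1 y2 y3 y4))
  rw [h (rc_of x1 x2 x3)] at x4
  rw [h (rc_mono (der_le N) (rc_of y1 (not_le_ker_of_over t t1 (irr_isCharacter y1) y2) y3))] at this
  omega

theorem b1 [N.Normal] (s : Sol N) (h : 𝐫𝐜 N ⊆ {a}) : Abel N := b1_aux _ G N a rfl s h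

end CF.Fgs2.Isa
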