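import Cfsg.Agent.Fgs2.Isa12

/-!
Primitive quotients and relative degree sets with two members.
-/

set_option autoImplicit false

namespace CF.Fgs2.Isa

open Cfsg Subgroup CF.BG CF.Clifford CF.Char
open scoped commutatorElement ComplexConjugate

attribute [local instance] Fintype.ofFinite

universe u v

variable {G : Type u} [Group G] [Finite G] {χ : G → ℂ} {a b c d e m n p : ℕ}
  {N M V H U Y B : Subgroup G}

omit [Finite G] in
theorem exists_lin_ext {X : Type v} [Group X] (E : NormalEmb X G) (H : Subgroup G)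
    (s : ∀ g, ∃ n, ∃ h ∈ H, g = E.ι n * h) (i : ∀ n, E.ι n ∈ H → n = 1) (l : X →* ℂˣ)
    (v : ∀ h ∈ H, ∀ n, l (E.c h n) = l n) : ∃ μ : G →* ℂˣ, ∀ n, μ (E.ι n) = l n := by
  choose f r hr e using s
  have u : ∀ n, ∀ h ∈ H, f (E.ι n * h) = n := fun n h hh => by
    have := e (E.ι n * h)
    refine (inv_mul_eq_one.1 (i _ ?_))
    rw [map_mul, map_inv, inv_mul_eq_iff_eq_mul.2 (eq_mul_inv_iff_mul_eq.2 this |>.trans
      (mul_assoc _ _ _))]
    exact H.mul_mem (hr _) (H.inv_mem hh)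
  refine ⟨MonoidHom.mk' (fun g => l (f g)) fun x y => ?_, fun n => by
    simpa using congrArg l (u n 1 H.one_mem)⟩
  have : x * y = E.ι (f x * E.c (r x) (f y)) * (r x * r y) := by
    rw [map_mul, E.ι_c]
    conv_lhs => rw [e x, e y]
    group
  rw [this, u _ _ (H.mul_mem (hr x) (hr y)), map_mul, v _ (hr x)]

theorem exists_over_mul {X : Type v} [Group X] [Finite X] (E : NormalEmb X G) {θ : X → ℂ}
    (hθ : IsIrrCharacter X θ) {T : Subgroup G} (l : E.inertia θ ≤ T) (hT : ∀ n, E.ι n ∈ T)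
    {η β : T → ℂ} (hη : IsCharacter T η) (y : ∀ n, η ⟨E.ι n, hT n⟩ = θ n)
    (hβ : IsIrrCharacter T β) (k : ∀ n, β ⟨E.ι n, hT n⟩ = β 1) : ∃ χ, IsIrrCharacter G χ ∧
      classInner (fun n => χ (E.ι n)) θ ≠ 0 ∧ χ 1 = T.index * (β 1 * θ 1) := by
  have T1 := l.trans T.range_subtype.ge
  have i := (E.restrict T hT).irr_mul_ext hθ hη y hβ k
  have o : classInner (fun n => (β * η) ((E.restrict T hT).ι n)) θ ≠ 0 := by
    rw [show (fun n => (β * η) ((E.restrict T hT).ι n)) = β 1 • θ from funext fun n => by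
        rw [Pi.mul_apply, E.restrict_ι, y, k]; rfl,
      CF.Char.inner_smul_left, inner_irr_self hθ, mul_one]
    exact irr_one_ne_zero hβ
  refine ⟨_, E.corr_irr (E.restrict T hT) T.subtype T.subtype_injective (fun _ => rfl) hθ T1 i o,
    (E.corr_inner (E.restrict T hT) T.subtype T.subtype_injective (fun _ => rfl) hθ T1
      i o).trans_ne o, ?_⟩
  have := y 1
  simp only [map_one] at this
  rw [CF.Clifford.ind_one _ T.subtype_injective, range_subtype, Pi.mul_apply, ← this]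
  rfl

/-- The inertia group of a linear character of a normal subgroup. -/
abbrev Il (V : Subgroup G) [V.Normal] (μ : V →* ℂˣ) : Subgroup G :=
  (NormalEmb.sub V).inertia fun v => (μ v : ℂ)

omit [Finite G] in
theorem mem_Il [V.Normal] {μ : V →* ℂˣ} {g : G} :
    g ∈ Il V μ ↔ ∀ v, μ ((NormalEmb.sub V).c g v) = μ v := by
  simp only [NormalEmb.mem_inertia', Units.val_inj]

omit [Finite G] in
theorem le_Il [V.Normal] {μ : V →* ℂˣ} : B ≤ Il V μ ↔ ⁅V, B⁆.subgroupOf V ≤ μ.ker := by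
  constructor
  · intro h
    have : ⁅V, B⁆ ≤ μ.ker.map V.subtype := commutator_le.2 fun v hv x hx =>
      ⟨⟨v, hv⟩ * (NormalEmb.sub V).c x ⟨v, hv⟩⁻¹, by
        simp [MonoidHom.mem_ker, mem_Il.1 (h hx)], by
        simp [NormalEmb.sub_c, commutatorElement_def, mul_assoc]⟩
    intro v hv
    obtain ⟨w, hw, e⟩ := this hv
    exact Subtype.ext e ▸ hw
  · intro h x hx
    refine mem_Il.2 fun v => ?_
    have : v⁻¹ * (NormalEmb.sub V).c x v ∈ μ.ker := h (mem_subgroupOf.2 (by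
      simpa [NormalEmb.sub_c, commutatorElement_def, mul_assoc] using
        commutator_mem_commutator (V.inv_mem v.2) hx))
    rw [MonoidHom.mem_ker, map_mul, map_inv, inv_mul_eq_one] at this
    exact this.symm

theorem exists_lin_of_lt (a : Abel V) {W : Subgroup G} (h : ¬ V ≤ W) :
    ∃ μ : V →* ℂˣ, W.subgroupOf V ≤ μ.ker ∧ μ ≠ 1 := by
  obtain ⟨v, hv, w⟩ := SetLike.not_le_iff_exists.1 h
  obtain ⟨μ, x, y⟩ := exists_linear_of_not_mem_of_comm (G := V)
    (fun x y => Subtype.ext (a.mul_comm x.2 y.2)) (W.subgroupOf V) (g := ⟨v, hv⟩) w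
  exact ⟨μ, x, fun e => y (e ▸ rfl)⟩

omit [Finite G] in
theorem eq_one_of_sup {W W' : Subgroup G} {μ : V →* ℂˣ} (h : W ⊔ W' = V)
    (a : W.subgroupOf V ≤ μ.ker) (b : W'.subgroupOf V ≤ μ.ker) : μ = 1 := by
  have := sup_le a b
  rw [← subgroupOf_sup (h ▸ le_sup_left) (h ▸ le_sup_right), h, subgroupOf_self] at this
  exact MonoidHom.ext fun v => this (mem_top v)

/-- An abelian group acting coprimely on an abelian group has a regular orbit on the dual. -/
theorem exists_reg [V.Normal] (a : Abel V) (b : Abel B) (c : (♯B).Coprime (♯V)) :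
    ∃ μ : V →* ℂˣ, B ⊓ Il V μ ≤ 𝐂 V := by
  obtain ⟨D, -, ⟨μ, rfl⟩, m⟩ := exists_minimal (P := fun D => ∃ μ : V →* ℂˣ, B ⊓ Il V μ = D)
    ⟨1, rfl⟩
  refine ⟨μ, by_contra fun w => ?_⟩
  generalize e : B ⊓ Il V μ = D at w m
  have nV : ∀ X : Subgroup G, X ≤ 𝐍 V := fun X => le_top.trans (normalIn_top.2 ‹_›).norm
  have s := comm_sup_inf_cent (nV D) (c.coprime_dvd_left (card_dvd (e ▸ inf_le_left))) (.inr a.sol)
  obtain ⟨κ, x, y⟩ := exists_lin_of_lt a (W := V ⊓ 𝐂 D) fun v => w (cent_symm (v.trans inf_le_right))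
  have z := le_Il.1 (e.ge.trans inf_le_right)
  have f := m _ ⟨μ * κ, rfl⟩ fun g hg => e ▸ ⟨hg.1, mem_Il.2 fun v => ?_⟩
  · refine y (eq_one_of_sup s (fun v hv => ?_) x)
    have := le_Il.1 (f.ge.trans inf_le_right) hv
    rwa [MonoidHom.mem_ker, MonoidHom.mul_apply, MonoidHom.mem_ker.1 (z hv), one_mul] at this
  have gD : g ∈ 𝐍 D := b.le_norm (e ▸ inf_le_left) hg.1
  have := eq_one_of_sup (μ := μ.comp ((NormalEmb.sub V).c g).toMonoidHom * μ⁻¹) s (fun v hv => by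
    have : (NormalEmb.sub V).c g v ∈ μ.ker := z (conj_mem_of_norm (norm_commutator (A := zpowers g)
      (nV _) (zpowers_le.2 gD) (mem_zpowers g)) hv)
    simp [MonoidHom.mem_ker.1 this, MonoidHom.mem_ker.1 (z hv), MonoidHom.mem_ker]) fun v hv => by
      have : (NormalEmb.sub V).c g v ∈ κ.ker := x (conj_mem_of_norm (norm_inf_cent (A := zpowers g)
        (nV _) (zpowers_le.2 gD) (mem_zpowers g)) hv)
      have t := mem_Il.1 hg.2 v
      rw [MonoidHom.mul_apply, MonoidHom.mul_apply, MonoidHom.mem_ker.1 this,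
        MonoidHom.mem_ker.1 (x hv)] at t
      simpa [MonoidHom.mem_ker, mul_inv_eq_one] using t
  simpa [mul_inv_eq_one] using DFunLike.congr_fun this v

/-- `G` is a primitive group with abelian socle `V` and complement `H`. -/
structure Prim (V H : Subgroup G) (p : ℕ) : Prop where
  prime : p.Prime
  nrm : V.Normal
  ne : V ≠ ⊥
  ab : Abelem p V
  min : ∀ M : Subgroup G, M.Normal → M ≠ ⊥ → V ≤ M
  sd : SDProd V H ⊤
  cent : 𝐂 V ≤ V

omit [Finite G] in
theorem Prim.minN (h : Prim V H p) : MinN V ⊤ :=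
  ⟨h.ne, (normalIn_top.2 h.nrm).norm, fun K l k1 n =>
    l.antisymm (h.min K (normalIn_top.1 ⟨le_top, n⟩) k1)⟩

theorem Prim.le_of_pi (h : Prim V H p) [M.Normal] (k : PiGrp {p} M) : M ≤ V :=
  (h.minN.cent_of_pi h.ab.pi k (le_top.trans h.minN.norm) (normalIn_top.2 ‹_›).norm).trans h.cent

theorem prim_of [Y.Normal] (s : Sol Y) (n : ¬ Nil Y)
    (h : ∀ M : Subgroup G, M.Normal → M ≠ ⊥ → ∃ k, Y.lowerCentralSeries k ≤ M) :
    ∃ V H p, Prim V H p ∧ V ≤ Y ∧ Nil (qt V Y) := by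
  have nY := (normalIn_top.2 ‹Y.Normal›).norm
  obtain ⟨V, l, m⟩ := exists_minN (K := Y) (fun w => n (w ▸ nil_bot)) nY
  have nV := normalIn_top.1 ⟨le_top, m.norm⟩
  obtain ⟨p, hp, ab⟩ := m.exists_abelem (s.mono l)
  obtain ⟨k, hk⟩ := h V nV m.ne_bot
  have u : ∀ M : Subgroup G, M.Normal → M ≠ ⊥ → V ≤ M := fun M x y => by
    obtain ⟨j, hj⟩ := h M x y
    refine (m.inf_eq_bot_or_le (normalIn_top.2 x).norm).resolve_left fun w => n (nil_iff_lcs.2
      ⟨max k j, eq_bot_mono w (le_inf ((Y.lowerCentralSeries_antitone (le_max_left _ _)).trans hk)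
        ((Y.lowerCentralSeries_antitone (le_max_right _ _)).trans hj))⟩)
  have q := (nil_qt_iff (le_top.trans m.norm)).2 ⟨k, hk⟩
  obtain ⟨r, hr, x, y⟩ : ∃ r, r.Prime ∧ r ∣ ♯Y ∧ r ≠ p := by
    by_contra! w
    exact n (PiGrp.nil (p := p) w)
  obtain ⟨R, t⟩ := exists_syl r Y
  have n1 : ⊤ ≤ 𝐍 (V ⊔ R) := norm_sup_of_qt (le_top.trans m.norm) m.norm
    ((qt_norm V nY).trans (q.hall_norm (t.qt (le_top.trans m.norm))))
  have f := (t.of_le le_sup_right (sup_le l t.le)).syl_frattini_sup ⟨le_top, n1⟩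
  rw [top_inf_eq, sup_assoc, sup_eq_right.2 (le_norm_self R)] at f
  have i : ∀ X, X ≤ 𝐂 V → 𝐍 R ≤ 𝐍 X → X ⊓ 𝐍 R = ⊥ := fun X a b => by
    by_contra w
    have := u _ (normalIn_top.1 ⟨le_top, f ▸ sup_le (norm_of_cent' (inf_le_left.trans a))
      (norm_inf b (le_norm_self _))⟩) w
    have := u R (normalIn_top.1 ⟨le_top, f ▸ sup_le (this.trans inf_le_right) le_rfl⟩)
      (t.syl_ne_bot hr x)
    exact m.ne_bot (ab.pi.eq_bot ((t.pi.of_single_ne y).le this))
  have sd : SDProd V (𝐍 R) ⊤ := ⟨le_top.trans m.norm, f, i V ab.abel (le_top.trans m.norm)⟩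
  refine ⟨V, _, p, ⟨hp, nV, m.ne_bot, ab, u, sd, ?_⟩, l, q⟩
  have := (sd.inf_of_left_le (L := 𝐂 V) ab.abel).sup
  rw [top_inf_eq, inf_comm, i _ le_rfl (norm_cent (le_top.trans m.norm)), sup_bot_eq] at this
  exact this.ge

theorem exists_prim [Y.Normal] (s : Sol Y) (n : ¬ Nil Y) : ∃ (Z : Subgroup G) (_ : Z.Normal)
    (V H : Subgroup (G ⧸ Z)) (p : ℕ), Prim V H p ∧ V ≤ Y.map (QuotientGroup.mk' Z) ∧
      Nil (qt V (Y.map (QuotientGroup.mk' Z))) ∧ ¬ Nil (Y.map (QuotientGroup.mk' Z)) := by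
  obtain ⟨Z, -, ⟨_, k⟩, m⟩ := exists_maximal (P := fun Z : Subgroup G => Z.Normal ∧
    ¬ ∃ k, Y.lowerCentralSeries k ≤ Z) (H := ⊥) ⟨inferInstance, by simpa [nil_iff_lcs] using n⟩
  have f := QuotientGroup.mk'_surjective Z
  have := Normal.map ‹Y.Normal› _ f
  have n' : ¬ Nil (Y.map (QuotientGroup.mk' Z)) := fun w => by
    obtain ⟨j, hj⟩ := nil_iff_lcs.1 w
    rw [← map_lowerCentralSeries, Subgroup.map_eq_bot_iff, QuotientGroup.ker_mk'] at hj
    exact k ⟨j, hj⟩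
  obtain ⟨V, H, p, x, y, z⟩ := prim_of (s.map _) n' fun M a b => by
    by_contra w
    refine b ?_
    rw [← map_comap_eq_self_of_surjective f M, Subgroup.map_eq_bot_iff, QuotientGroup.ker_mk']
    refine (m _ ⟨a.comap _, fun ⟨j, hj⟩ => w ⟨j, ?_⟩⟩
      ((QuotientGroup.ker_mk' Z).ge.trans (ker_le_comap _ _))).le
    rwa [← map_lowerCentralSeries, map_le_iff_le_comap]
  exact ⟨Z, ‹_›, V, H, p, x, y, z, n'⟩

/-- Linear characters of a complemented normal subgroup extend to their inertia groups. -/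
theorem sd_over [V.Normal] (sd : SDProd V H ⊤) (μ : V →* ℂˣ) {β : Il V μ → ℂ}
    (hβ : IsIrrCharacter _ β) (k : V.subgroupOf _ ≤ charKer β) (t : β 1 = m) :
    ∃ χ, IsIrrCharacter G χ ∧ classInner (fun n : V => χ n) (fun v => (μ v : ℂ)) ≠ 0 ∧
      χ 1 = ((Il V μ).index * m : ℕ) := by
  have hT := (NormalEmb.sub V).ι_mem_inertia (irr_isClassFunction (irr_linear μ))
  obtain ⟨ν, hν⟩ := exists_lin_ext ((NormalEmb.sub V).restrict _ hT) (H.subgroupOf _) (fun g => by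
    obtain ⟨v, hv, x, hx, e⟩ := sd.exists_mul (mem_top g.1)
    have : x ∈ Il V μ := by
      rw [eq_inv_mul_iff_mul_eq.2 e]
      exact mul_mem (inv_mem (hT ⟨v, hv⟩)) g.2
    exact ⟨⟨v, hv⟩, ⟨x, this⟩, hx, Subtype.ext e.symm⟩)
    (fun n hn => Subtype.ext (eq_one_of_mem_bot sd.inf ⟨n.2, hn⟩)) μ fun g _ => mem_Il.1 g.2
  obtain ⟨χ, x, y, z⟩ := exists_over_mul (NormalEmb.sub V) (irr_linear μ) le_rfl hT (char_linear ν)
    (fun n => congrArg Units.val (hν n)) hβ fun n => (mem_charKer_iff (irr_isCharacter hβ)).1 (k n.2)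
  exact ⟨χ, x, y, by simp [z, t]⟩

theorem Prim.lemX (h : Prim V H p) [N.Normal] (s : Sol N) (l : V ≤ N) (l' : ¬ N ≤ V)
    (k : 𝐫𝐜 N ⊆ {a, b}) (ab : a ≤ b) :
    a < b ∧ ¬ p ∣ b ∧ ∀ χ, IsIrrCharacter G χ → V ≤ charKer χ → χ 1 ≠ b := by
  have := h.nrm
  have nV := h.minN.norm
  have nN := (normalIn_top.2 ‹N.Normal›).norm
  have A : ∀ μ : V →* ℂˣ, ¬ N ≤ Il V μ → a < b ∧ ∀ β, IsIrrCharacter _ β →
      V.subgroupOf (Il V μ) ≤ charKer β → ∀ m : ℕ, β 1 = m →
        (Il V μ).index * m = b := fun μ i => by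
    obtain ⟨t1, ξ, c, x1, x2, x3, x4, -⟩ := t2 (irr_linear μ) i
    have c1 := k (rc_of x1 x2 x3)
    have B : ∀ β, IsIrrCharacter _ β → V.subgroupOf (Il V μ) ≤ charKer β → ∀ m : ℕ, β 1 = m →
        c < (Il V μ).index * m ∧ (Il V μ).index * m ∈ ({a, b} : Set ℕ) := fun β y1 y2 m y3 => by
      obtain ⟨χ, z1, z2, z3⟩ := sd_over h.sd μ y1 y2 y3
      exact ⟨x4.trans_le (Nat.le_mul_of_pos_right _ (cd_pos (cd_of_irr y1 y3))), k (rc_mono l
        (rc_of z1 (not_le_ker_of_over (irr_linear μ) t1 (irr_isCharacter z1) z2) z3))⟩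
    have := B _ irr_one (le_top.trans charKer_one.ge) 1 (by simp)
    simp only [Set.mem_insert_iff, Set.mem_singleton_iff] at c1 this B
    exact ⟨by omega, fun β y1 y2 m y3 => by have := B β y1 y2 m y3; omega⟩
  have A' : ∀ μ : V →* ℂˣ, ¬ N ≤ Il V μ → (Il V μ).index = b := fun μ i =>
    (mul_one _).symm.trans ((A μ i).2 _ irr_one (le_top.trans charKer_one.ge) 1 (by simp))
  have ne : ∀ μ : V →* ℂˣ, μ ≠ 1 → ¬ N ≤ Il V μ := fun μ x y => by
    obtain w | w := h.minN.eq_bot_or (comm_le_left (le_top.trans nV)) (norm_commutator nV nN)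
    · exact l' ((comm_eq_bot'.1 w).trans h.cent)
    · have := le_Il.1 y
      rw [w, subgroupOf_self] at this
      exact x (MonoidHom.ext fun v => this (mem_top v))
  obtain ⟨P, sP⟩ := exists_syl p (⊤ : Subgroup G)
  obtain ⟨μ, x, y⟩ := exists_lin_of_lt h.ab.abel
    (sP.pi.comm_lt h.ab.pi (le_top.trans nV) h.ne).not_ge
  refine ⟨(A μ (ne μ y)).1, fun w => ?_, fun χ y1 y2 y3 => ?_⟩
  · refine sP.not_dvd h.prime (w.trans ?_)
    rw [← A' μ (ne μ y), relIndex_top_right]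
    exact index_dvd_of_le (le_Il.2 x)
  have sd := h.sd.inf_of_left_le l
  rw [top_inf_eq] at sd
  obtain ⟨B, lB, mB⟩ := exists_minN (K := H ⊓ N) (A := H) (fun w => l' (by
    rw [← sd.sup, w, sup_bot_eq])) (norm_inf (le_norm_self H) (le_top.trans nN))
  obtain ⟨q, hq, aB⟩ := mB.exists_abelem (s.mono (lB.trans inf_le_right))
  have nA : (V ⊔ B).Normal := normalIn_top.1 ⟨le_top, h.sd.sup ▸ sup_le
    (le_sup_left.trans (le_norm_self _)) (norm_sup (le_top.trans nV) mB.norm)⟩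
  have BV : ¬ B ≤ V := fun w => mB.ne_bot (eq_bot_mono h.sd.inf (le_inf w (lB.trans inf_le_left)))
  have qp : q ≠ p := by
    rintro rfl
    exact BV (le_sup_right.trans (h.le_of_pi (h.ab.pi.sup aB.pi (.inr (le_top.trans nV)))))
  obtain ⟨ν, r⟩ := exists_reg h.ab.abel aB.abel (PiNat.coprime' (aB.pi.of_single_ne qp) h.ab.pi)
  have BT : ¬ B ≤ Il V ν := fun w => BV ((le_inf le_rfl w).trans (r.trans h.cent))
  have NT : ¬ N ≤ Il V ν := fun w => BT (lB.trans (inf_le_right.trans w))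
  have VT : V ≤ Il V ν := fun v hv =>
    (NormalEmb.sub V).ι_mem_inertia (irr_isClassFunction (irr_linear ν)) ⟨v, hv⟩
  have AT : (V ⊔ B) ⊓ Il V ν ≤ V := by
    rw [sup_inf_left VT (.inr (le_top.trans nV))]
    exact sup_le le_rfl (r.trans h.cent)
  obtain ⟨τ, t1, t2⟩ := CF.Char.exists_irr_under (Il V ν) y1
  obtain ⟨m, -, t3⟩ := exists_cd t1
  have t4 := (A ν NT).2 τ t1 (le_trans (by
    rw [charKer_restrict (irr_isCharacter y1)]; exact fun g hg => y2 hg)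
    (charKer_le_of_inner_ne_zero (char_restrict (irr_isCharacter y1) _) t1 t2)) m t3
  have e := CF.Clifford.eq_of_inner_ne_zero_of_one_eq (char_indFun _ (irr_isCharacter t1)) y1 (by
    rwa [inner_indFun_left _ _ (irr_isClassFunction y1), inner_irr_ne_zero_comm]) (by
      rw [CF.Char.indFun_one, t3, y3, ← t4, Nat.cast_mul])
  refine BT (le_sup_right.trans ((le_charKer_of_sum_ne_zero y1 (V ⊔ B) ?_).trans
    (e ▸ charKer_indFun_le _ (irr_isCharacter t1) (irr_one_ne_zero t1))))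
  have := Classical.decPred (· ∈ V)
  rw [Finset.sum_congr rfl (g := fun g => ((if g.1 ∈ V then b else 0 : ℕ) : ℂ)) fun g _ => ?_,
    ← Nat.cast_sum, Nat.cast_ne_zero, Ne, Finset.sum_eq_zero_iff]
  · intro w
    have := w 1 (Finset.mem_univ _)
    rw [if_pos (by exact V.one_mem)] at this
    exact irr_one_ne_zero y1 (by simp [y3, this])
  split_ifs with w
  · exact ((mem_charKer_iff (irr_isCharacter y1)).1 (y2 w)).trans y3
  · rw [← e, indFun_eq_zero_of_not_conj _ _ fun x hx => w ?_, Nat.cast_zero]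
    simpa [mul_assoc] using h.nrm.conj_mem _ (AT ⟨nA.conj_mem _ g.2 x, hx⟩) x⁻¹

end CF.Fgs2.Isa
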