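import Cfsg.Agent.Fgs2.Isa13
import Cfsg.Agent.Clifford.GlaubApp

/-!
A solvable normal subgroup with at most two relative degrees is metabelian (Isaacs–Knutson).
-/

set_option autoImplicit false

namespace CF.Fgs2.Isa

open Cfsg Subgroup CF.BG CF.Clifford CF.Char
open scoped commutatorElement ComplexConjugate

attribute [local instance] Fintype.ofFinite

universe u v

variable {G : Type u} [Group G] [Finite G] {χ : G → ℂ} {a b c d e m n p : ℕ}
  {N M V H U Y B F : Subgroup G}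

theorem Prim.der_le (h : Prim V H p) [N.Normal] (s : Sol N) (l : V ≤ N) (k : 𝐫𝐜 N ⊆ {a, b}) :
    ⁅N, N⁆ ≤ V := by
  by_cases l' : N ≤ V
  · exact (BG.der_le N).trans l'
  wlog ab : a ≤ b generalizing a b
  · exact this (Set.pair_comm a b ▸ k) (not_le.1 ab).le
  have := h.nrm
  have f := QuotientGroup.mk'_surjective V
  have := Normal.map ‹N.Normal› _ f
  refine der_le_of_abel_map (b1 (a := a) (s.map _) fun d hd => (k (rc_map f hd)).resolve_right ?_)
  rintro rfl
  obtain ⟨χ, x, -, y⟩ := mem_rc.1 hd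
  exact (h.lemX s l l' k ab).2.2 _ (irr_inflate V x) (le_charKer_inflate V χ) y

theorem nil_der [N.Normal] (s : Sol N) (k : 𝐫𝐜 N ⊆ {a, b}) : Nil ⁅N, N⁆ := by
  by_contra w
  obtain ⟨Z, _, V, H, p, h, l, -, n⟩ := exists_prim (s.mono (der_le N)) w
  have f := QuotientGroup.mk'_surjective Z
  have := Normal.map ‹N.Normal› _ f
  rw [map_commutator] at l n
  exact n (h.ab.abel.nil.mono (h.der_le (s.map _) (l.trans (der_le _)) ((rc_map f).trans k)))

theorem det_inv {X : Type v} [Group X] [Finite X] (E : NormalEmb X G) {ψ : X → ℂ}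
    (h : IsCharacter X ψ) {g : G} (hg : g ∈ E.inertia ψ) (n : X) :
    detHom h (E.c g n) = detHom h n := by
  have := congrFun (detChar_comp h (E.c g).toMonoidHom) n
  rw [show (fun x => ψ ((E.c g).toMonoidHom x)) = ψ from hg] at this
  exact Units.ext this.symm

theorem exists_lin_of_der_le {W : Subgroup G} [W.Normal] (h : ¬ N ≤ W) (k : ⁅N, N⁆ ≤ W) :
    ∃ μ : N →* ℂˣ, W.subgroupOf N ≤ μ.ker ∧ μ ≠ 1 := by
  obtain ⟨v, hv, w⟩ := SetLike.not_le_iff_exists.1 h
  obtain ⟨χ, x, y, z⟩ := exists_irr_le_charKer_not_mem (W.subgroupOf N) (g := ⟨v, hv⟩) w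
  obtain ⟨μ, rfl⟩ := exists_linear_of_one (irr_isCharacter x) ((irr_one_eq_one_iff x).2
    (le_trans (by
      rw [commutator_def, ← subgroupOf_self, ← subgroupOf_comm le_rfl le_rfl]
      exact subgroupOf_mono N k) y))
  rw [charKer_linear] at y z
  exact ⟨μ, y, fun e => z (e ▸ rfl)⟩

omit [Finite G] in
theorem pow_index_eq_one {W : Subgroup G} [W.Normal] {μ : G →* ℂˣ} (h : W ≤ μ.ker) :
    μ ^ W.index = 1 := MonoidHom.ext fun g => by
  rw [MonoidHom.pow_apply, ← map_pow]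
  exact h (W.pow_index_mem g)

/-- Over a linear character of `p'`-order lies a character whose degree has the `p`-part of the
orbit length. -/
theorem exists_over_lin [N.Normal] (hp : p.Prime) (μ : N →* ℂˣ) (o : μ ^ m = 1) (c : ¬ p ∣ m) :
    ∃ ξ e, IsIrrCharacter G ξ ∧ classInner (fun n : N => ξ n) (fun n => (μ n : ℂ)) ≠ 0 ∧
      ξ 1 = (e : ℕ) ∧ logn p e ≤ logn p (Il N μ).index := by
  obtain ⟨P, s⟩ := exists_syl p (Il N μ)
  have nN : ∀ X : Subgroup G, X ≤ 𝐍 N := fun X => le_top.trans (normalIn_top.2 ‹_›).norm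
  have l : N ⊔ P ≤ Il N μ := sup_le (fun v hv =>
    (NormalEmb.sub N).ι_mem_inertia (irr_isClassFunction (irr_linear μ)) ⟨v, hv⟩) s.le
  have hT : ∀ n, (NormalEmb.sub N).ι n ∈ N ⊔ P := fun n => mem_sup_left n.2
  have co : ((NormalEmb.sub N).restrict _ hT).index.Coprime (detOrder (fun n => (μ n : ℂ)) * 1) := by
    rw [NormalEmb.index_restrict_sub, relIndex_sup_norm' (.inl (nN P)), mul_one]
    refine ((s.pi.relIndex N).coprime ((piNat_compl_single hp).2 c)).coprime_dvd_right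
      ((detOrder_dvd_iff _ _).2 fun g => ?_)
    rw [detChar_linear, ← Units.val_pow_eq_pow_val, ← MonoidHom.pow_apply, o]
    rfl
  obtain ⟨η, x, y⟩ := ((NormalEmb.sub N).restrict _ hT).exists_ext_of_coprime (irr_linear μ)
    (fun g => (NormalEmb.mem_inertia' _).1 (l g.2)) (d := 1) (by simp) co
  have y1 : η 1 = (1 : ℕ) := by
    have := y 1
    rwa [map_one, map_one, Units.val_one, ← Nat.cast_one] at this
  simp only [NormalEmb.restrict_ι] at y
  obtain ⟨ξ, e, x1, x2, x3, x4⟩ := exists_over_logn hp (irr_isCharacter x) y1 one_ne_zero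
  rw [inner_indFun_left _ _ (irr_isClassFunction x1), inner_irr_ne_zero_comm] at x2
  have x5 : classInner (fun n : N => η (inclusion le_sup_left n)) (fun n => (μ n : ℂ)) ≠ 0 := by
    rw [show (fun n : N => η (inclusion le_sup_left n)) = fun n => (μ n : ℂ) from funext y,
      inner_irr_self (irr_linear μ)]
    exact one_ne_zero
  have x6 := inner_comp_ne_zero_of_constituent (inclusion le_sup_left)
    (char_restrict (irr_isCharacter x1) (N ⊔ P)) x (char_linear μ) x2 x5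
  refine ⟨ξ, e, x1, x6, x3, ?_⟩
  rwa [← relIndex_mul_index l, logn_mul (relIndex_ne_zero' _ _) index_ne_zero_of_finite,
    logn_eq_zero (s.idx_of_le le_sup_right), logn_eq_zero (piNat_one _), zero_add, add_zero] at x4

theorem dvd_of_rc_der [N.Normal] (hp : p.Prime) (k : PiGrp {p} N) (h : d ∈ 𝐫𝐜 ⁅N, N⁆) : p ∣ d :=
  let ⟨_, _, l⟩ := t1 hp k h
  ((logn_pos (rc_pos h).ne').1 (Nat.zero_lt_of_lt l)).2

theorem lemY [N.Normal] [F.Normal] (s : Sol N) (hp : p.Prime) (t : Syl p F N) (l : ⁅N, N⁆ ≤ F)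
    (n : ¬ Nil N) (k : 𝐫𝐜 N ⊆ {a, b}) : Abel F := by
  wlog ab : a ≤ b generalizing a b
  · exact this (Set.pair_comm a b ▸ k) (not_le.1 ab).le
  by_contra w
  obtain ⟨Z, _, V, H, q, h, l1, -, n1⟩ := exists_prim s n
  have f := QuotientGroup.mk'_surjective Z
  have := Normal.map ‹N.Normal› _ f
  have := Normal.map ‹F.Normal› _ f
  have := h.nrm
  have l2 := map_mono (f := QuotientGroup.mk' Z) l
  rw [map_commutator] at l2
  obtain rfl : q = p := (h.ab.pi.mem_of_ne_bot h.ne ((t.pi.map _).le (h.min _ ‹_› fun v =>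
    n1 (der_eq_bot.1 (eq_bot_mono v l2)).nil)))
  have FV := h.le_of_pi (t.pi.map (QuotientGroup.mk' Z))
  have l3 : ¬ N.map (QuotientGroup.mk' Z) ≤ V := fun v => n1 (h.ab.abel.nil.mono v)
  obtain ⟨ab', qb, X⟩ := h.lemX (s.map _) l1 l3 ((rc_map f).trans k) ab
  obtain ⟨μ', m1, m2⟩ := exists_lin_of_der_le l3 (l2.trans FV)
  let μ := μ'.comp ((QuotientGroup.mk' Z).subgroupMap N)
  have Fμ : F.subgroupOf N ≤ μ.ker := fun x hx => m1 (FV (mem_map_of_mem _ hx))
  have o := pow_index_eq_one Fμ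
  have c : ¬ q ∣ (F.subgroupOf N).index := t.not_dvd hp
  obtain ⟨ξ, e, x1, x2, x3, x4⟩ := exists_over_lin hp μ' (m := (F.subgroupOf N).index)
    (MonoidHom.ext fun g => by
      obtain ⟨g, rfl⟩ := (QuotientGroup.mk' Z).subgroupMap_surjective N g
      exact DFunLike.congr_fun o g) c
  obtain rfl : e = a := (k (rc_map f (rc_of x1 (not_le_ker_of_over (irr_linear μ') (fun v =>
    m2 (linear_injective v)) (irr_isCharacter x1) x2) x3))).resolve_right fun v =>
      X ξ x1 (le_ker_of_const l1 x1 (irr_linear μ') x2 (by rwa [charKer_linear])) (v ▸ x3)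
  have i1 : Il N μ ≤ (Il _ μ').comap (QuotientGroup.mk' Z) := fun g hg => mem_Il.2 fun y => by
    obtain ⟨y, rfl⟩ := (QuotientGroup.mk' Z).subgroupMap_surjective N y
    exact mem_Il.1 hg y
  have FN := (der_le F).trans t.le
  have r : ∀ d ∈ 𝐫𝐜 ⁅F, F⁆, d = e := fun d hd => (k (rc_mono FN hd)).resolve_right fun v =>
    qb (v ▸ dvd_of_rc_der hp t.pi hd)
  obtain ⟨g, hg, g1⟩ := exists_mem_ne_one fun v => w (der_eq_bot.1 v)
  obtain ⟨ν, y1, y2⟩ := exists_irr_not_mem_charKer (G := ↥⁅F, F⁆) (g := ⟨g, hg⟩)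
    fun v => g1 (congrArg Subtype.val v)
  have iv : N ≤ (NormalEmb.sub _).inertia ν := by
    by_contra v
    obtain ⟨t1, ξ, c, x1, x2, x3, x4, -⟩ := t2 y1 v
    obtain ⟨χ, z1, z2⟩ := CF.Char.exists_irr_over _ y1
    obtain ⟨d, hd, z3⟩ := exists_cd z1
    obtain ⟨m, hm, z4⟩ := exists_cd y1
    have := Nat.le_of_dvd (cd_pos hd) ((dvd_mul_right _ _).trans
      (inertia_dvd (NormalEmb.sub _) y1 z1 z2 z3 z4))
    rw [r d (rc_of z1 (not_le_ker_of_over y1 t1 (irr_isCharacter z1) z2) z3)] at this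
    obtain v | v := k (rc_of x1 x2 x3)
    · omega
    · rw [Set.mem_singleton_iff] at v
      omega
  have cF : PiNat {q} (Nat.card (F.subgroupOf N)) := by
    rw [card_subgroupOf' t.le]; exact t.pi
  obtain ⟨θ, z1, z2, z3⟩ := exists_inv_over ((NormalEmb.sub ⁅F, F⁆).restrict N fun x => FN x.2)
    (F.subgroupOf N) (fun x => der_le F x.2) (t.idx.coprime' (cF.dvd (relIndex_dvd_card _ _)))
    (.inl inferInstance) y1 fun g => (NormalEmb.mem_inertia' _).1 (iv g.2)
  obtain ⟨m, hm, z4⟩ := exists_cd z1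
  have dq := cF.dvd (detOrder_dvd_card (irr_isCharacter z1))
  have mq := cF.dvd (cd_dvd_card hm)
  obtain ⟨η, ⟨e1, e2, e3⟩, -⟩ := (NormalEmb.sub _).exists_canonical_ext z1 z3 z4
    (by rw [NormalEmb.index_sub]; exact t.idx.coprime' (dq.mul mq))
  have p1 := irr_linear_mul μ e1
  have p2 : (μ 1 : ℂ) * η 1 = m := by simpa [z4] using e2 1
  have p3 : ¬ (⁅F, F⁆).subgroupOf N ≤ charKer fun g => (μ g : ℂ) * η g := fun v => by
    rw [show (fun n : ↥⁅F, F⁆ => θ ⟨_, der_le F n.2⟩) = (m : ℂ) • fun _ => 1 from funext fun x => by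
      have := (mem_charKer_iff (irr_isCharacter p1)).1 (v (x := ⟨x, FN x.2⟩) x.2)
      rw [p2, MonoidHom.mem_ker.1 (Fμ (x := ⟨x, FN x.2⟩) (der_le F x.2)), Units.val_one,
        one_mul] at this
      simpa using (e2 _).symm.trans this] at z2
    exact y2 (by rw [← eq_of_inner_smul_ne_zero irr_one y1 z2, charKer_one]; trivial)
  have qm : q ∣ m := dvd_of_rc_der hp cF (rc_of p1 (by rwa [← subgroupOf_comm t.le t.le]) p2)
  obtain ⟨χ, u1, u2⟩ := CF.Char.exists_irr_over N p1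
  obtain ⟨d, hd, u3⟩ := exists_cd u1
  obtain rfl := r d (rc_of u1 (fun v => p3 (le_trans (by
    rw [charKer_restrict (irr_isCharacter u1)]; exact fun g hg => v hg)
    (charKer_le_of_inner_ne_zero (char_restrict (irr_isCharacter u1) N) p1 u2))) u3)
  have i2 : (NormalEmb.sub N).inertia (fun g => (μ g : ℂ) * η g) ≤ Il N μ := fun g hg =>
    mem_Il.2 fun y => by
      have D : ∀ y, detHom (irr_isCharacter p1) y ^ detOrder η = μ y ^ (m * detOrder η) := fun y =>
        Units.ext (by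
          rw [Units.val_pow_eq_pow_val, coe_detHom, detChar_linear_mul μ (irr_isCharacter e1)
            (by simpa using p2), mul_pow, detChar_pow_detOrder, mul_one, ← pow_mul,
            Units.val_pow_eq_pow_val])
      refine eq_of_pow_eq_of_coprime (t.idx.coprime' (mq.mul (e3 ▸ dq))) ?_ (by
        rw [← D, ← D, det_inv _ _ hg])
      rw [← map_inv, ← map_mul, ← MonoidHom.pow_apply]
      exact DFunLike.congr_fun o _
  have j := (Nat.mul_dvd_mul ((index_comap_of_surjective _ f).ge.antisymm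
    (index_comap_of_surjective _ f).le ▸ index_dvd_of_le (i2.trans i1)) qm).trans
      (inertia_dvd (NormalEmb.sub N) p1 u1 u2 u3 p2)
  have := logn_le_of_dvd (p := q) j (cd_pos hd).ne'
  rw [logn_mul index_ne_zero_of_finite hp.ne_zero, logn_self hp] at this
  omega

theorem b2_aux (k : ℕ) : ∀ (G : Type u) [Group G] [Finite G] (N : Subgroup G) [N.Normal] (a b : ℕ),
    Nat.card G = k → Sol N → 𝐫𝐜 N ⊆ {a, b} → Abel ⁅N, N⁆ := by
  induction k using Nat.strong_induction_on with | _ k ih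
  intro G _ _ N _ a b e s h
  by_contra w
  have n1 : ⁅⁅N, N⁆, ⁅N, N⁆⁆ ≠ ⊥ := fun v => w (der_eq_bot.1 v)
  have u : ∀ M : Subgroup G, M.Normal → M ≠ ⊥ → ⁅⁅N, N⁆, ⁅N, N⁆⁆ ≤ M := fun M _ m1 =>
    have := Normal.map ‹N.Normal› _ (QuotientGroup.mk'_surjective M)
    der_le_of_abel_map (by
      rw [map_commutator]
      exact ih _ (e ▸ CF.Solv.card_quotient_lt m1) _ _ a b rfl
        (s.map _) ((rc_map (QuotientGroup.mk'_surjective M)).trans h))
  have mn : MinN ⁅⁅N, N⁆, ⁅N, N⁆⁆ ⊤ := ⟨n1, (normalIn_top.2 inferInstance).norm, fun K l k1 n =>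
    l.antisymm (u K (normalIn_top.1 ⟨le_top, n⟩) k1)⟩
  obtain ⟨p, hp, ab⟩ := mn.exists_abelem (s.mono ((der_le _).trans (der_le N)))
  by_cases c : Nil N
  · have t := pi_of_min c n1 ab.pi u
    obtain ⟨d, hd⟩ := exists_rc n1
    obtain ⟨e, he, l⟩ := t1 hp (t.le (der_le N)) hd
    obtain ⟨f, hf, l'⟩ := t1 hp t he
    have x := h (rc_mono ((der_le _).trans (der_le N)) hd)
    have y := h (rc_mono (der_le N) he)
    have z := h hf
    simp only [Set.mem_insert_iff, Set.mem_singleton_iff] at x y z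
    rcases x with rfl | rfl <;> rcases y with rfl | rfl <;> rcases z with rfl | rfl <;> omega
  obtain ⟨F, t, l⟩ := exists_syl_le (der_le N) (pi_of_min (nil_der s h) n1 ab.pi u)
  have := normalIn_top.1 ⟨le_top, (normalIn_top.2 ‹N.Normal›).norm.trans
    (t.norm_le_norm (norm_of_der_le t.le l))⟩
  exact w ((lemY s hp t l c h).mono l)

theorem b2 [N.Normal] (s : Sol N) (h : 𝐫𝐜 N ⊆ {a, b}) : Abel ⁅N, N⁆ := b2_aux _ G N a b rfl s h

end CF.Fgs2.Isa
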