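import Cfsg.Agent.Fgs2.Isa14

/-!
Garrison's theorem: a solvable group with four character degrees has derived length at most four.
-/

set_option autoImplicit false

namespace CF.Fgs2.Isa

open Cfsg Subgroup CF.BG CF.Clifford CF.Char
open scoped commutatorElement ComplexConjugate

attribute [local instance] Fintype.ofFinite

universe u v

variable {G : Type u} [Group G] [Finite G] {χ : G → ℂ} {a b c d e f m n p : ℕ}
  {N M V H U Y B F : Subgroup G}

theorem four_swap {S : Set ℕ} (h : S ⊆ {1, a, b, c}) (hf : f ∈ S) (f1 : f ≠ 1) :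
    ∃ b c, S ⊆ {1, f, b, c} := by
  obtain rfl | rfl | rfl | rfl := h hf
  · exact absurd rfl f1
  · exact ⟨_, _, h⟩
  · exact ⟨a, c, fun x hx => by have := h hx; simp only [Set.mem_insert_iff] at *; tauto⟩
  · exact ⟨a, b, fun x hx => by
      have := h hx; simp only [Set.mem_insert_iff, Set.mem_singleton_iff] at *; tauto⟩

theorem four_swap' {S : Set ℕ} (h : S ⊆ {1, a, b, c}) (hf : f ∈ S) (f1 : f ≠ 1) (f2 : f ≠ a) :
    ∃ c, S ⊆ {1, a, f, c} := by
  obtain rfl | rfl | rfl | rfl := h hf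
  · exact absurd rfl f1
  · exact absurd rfl f2
  · exact ⟨_, h⟩
  · exact ⟨b, fun x hx => by
      have := h hx; simp only [Set.mem_insert_iff, Set.mem_singleton_iff] at *; tauto⟩

omit [Finite G] in
theorem ds_le_of_quot [N.Normal] (h : derivedSeries (G ⧸ N) n = ⊥) : derivedSeries G n ≤ N := by
  rwa [← map_derivedSeries_eq (QuotientGroup.mk'_surjective N), Subgroup.map_eq_bot_iff,
    QuotientGroup.ker_mk'] at h

omit [Finite G] in
theorem ds_add_le (h : derivedSeries G m ≤ (derivedSeries H d).map H.subtype) (n : ℕ) :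
    derivedSeries G (m + n) ≤ (derivedSeries H (d + n)).map H.subtype := by
  induction n with
  | zero => exact h
  | succ n ih =>
    rw [← add_assoc, ← add_assoc, derivedSeries_succ, derivedSeries_succ, map_commutator]
    exact der_mono ih

omit [Finite G] in
theorem ds_of_der (h : derivedSeries G m ≤ ⁅H, H⁆) (k : derivedSeries H (1 + n) = ⊥) :
    derivedSeries G (m + n) = ⊥ := by
  have := ds_add_le (H := H) (d := 1) (h.trans (by
    rw [derivedSeries_succ, derivedSeries_zero, map_commutator, map_top_subtype])) n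
  rwa [k, Subgroup.map_bot, le_bot_iff] at this

omit [Finite G] in
theorem ds_of_le (h : derivedSeries G m ≤ H) (k : derivedSeries H n = ⊥) :
    derivedSeries G (m + n) = ⊥ := by
  have := ds_add_le (H := H) (d := 0) (h.trans (by rw [derivedSeries_zero, map_top_subtype])) n
  rwa [zero_add, k, Subgroup.map_bot, le_bot_iff] at this

theorem ds_two (h : 𝐜𝐝 G ⊆ {1, m}) : derivedSeries G 2 = ⊥ := der_eq_bot.2 (abel_der_of_two h)

theorem ncard_four {S : Set ℕ} (h : S ⊆ {1, a, b, c}) : S.ncard ≤ 4 :=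
  (Set.ncard_le_ncard h).trans ((Set.ncard_insert_le _ _).trans (Nat.succ_le_succ
    ((Set.ncard_insert_le _ _).trans (Nat.succ_le_succ ((Set.ncard_insert_le _ _).trans (by simp))))))

theorem step1 (hp : p.Prime) (h : 𝐜𝐝 G ⊆ {1, a, b, c}) (k : ∀ d ∈ 𝐜𝐝 G, d ≠ 1 → p ∣ d)
    (ih : ∀ H : Subgroup G, H ≠ ⊤ → ∀ a b c, 𝐜𝐝 H ⊆ {1, a, b, c} → derivedSeries H 4 = ⊥) :
    derivedSeries G 4 = ⊥ := by
  obtain ⟨R, _, c1, j, i⟩ := npc_of_cd hp k
  by_cases z : Abel R
  · exact taketa z (IsPGroup.nil_quot hp i) (ncard_four h)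
  have r := fun d => eq_ordCompl_of_cd (d := d) hp c1 i
  by_cases y : commutator G ≤ ⁅R, R⁆
  · refine ds_of_der (m := 1) (n := 3) y (ih R ?_ (ordCompl[p] a) (ordCompl[p] b) (ordCompl[p] c)
      fun d hd => ?_)
    · rintro rfl
      refine z (abel_iff_cd.2 fun d hd => by_contra fun w => c1 ((k d ?_ w).trans (cd_dvd_card hd)))
      rwa [cd_congr topEquiv] at hd
    · obtain ⟨f, u, rfl⟩ := r d hd
      obtain rfl | rfl | rfl | rfl := h u <;> simp
  have sj := QuotientGroup.mk'_surjective ⁅R, R⁆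
  have w : ∀ d ∈ 𝐜𝐝 (G ⧸ ⁅R, R⁆), ∃ l, d = p ^ l := fun d hd => by
    have := Normal.map ‹R.Normal› _ sj
    have u := cd_dvd_index (A := R.map (QuotientGroup.mk' _)) (der_eq_bot.1 (by
      rw [← map_commutator, Subgroup.map_eq_bot_iff, QuotientGroup.ker_mk'])) hd
    obtain ⟨l, -, rfl⟩ := (Nat.dvd_prime_pow hp).1 (i ▸ u.trans (R.index_map_dvd sj))
    exact ⟨l, rfl⟩
  obtain ⟨f, x, f1⟩ : ∃ f ∈ 𝐜𝐝 (G ⧸ ⁅R, R⁆), f ≠ 1 := by
    simpa [der_le_iff_cd, Set.not_subset] using y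
  obtain ⟨b, c, h⟩ := four_swap h (cd_quot _ x) f1
  obtain ⟨l, rfl⟩ := w f x
  by_cases v : 𝐜𝐝 (G ⧸ ⁅R, R⁆) ⊆ {1, p ^ l}
  · refine ds_of_der (m := 2) (n := 2) (ds_le_of_quot (ds_two v)) (der3_of_three
      (m := ordCompl[p] b) (n := ordCompl[p] c) fun d hd => ?_)
    obtain ⟨f, u, rfl⟩ := r d hd
    obtain rfl | rfl | rfl | rfl := h u <;> simp [hp, hp.pos]
  obtain ⟨g, x', g1⟩ := Set.not_subset.1 v
  obtain ⟨c, h⟩ := four_swap' h (cd_quot _ x') (fun e => g1 (.inl e)) fun e => g1 (.inr e)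
  obtain ⟨l', rfl⟩ := w g x'
  have t : 𝐜𝐝 R ⊆ {1, ordCompl[p] c} := fun d hd => by
    obtain ⟨f, u, rfl⟩ := r d hd
    obtain rfl | rfl | rfl | rfl := h u <;> simp [hp, hp.pos]
  refine ds_of_der (m := 3) (n := 1) (ds_le_of_quot (der3_of_three (m := p ^ l) (n := p ^ l')
    fun d hd => ?_)) (ds_two t)
  obtain u | u | u | rfl := h (cd_quot _ hd)
  exacts [.inl u, .inr (.inl u), .inr (.inr u), by
    obtain ⟨l, rfl⟩ := w _ hd
    exact absurd (abel_iff_cd.2 (by simpa [hp, hp.pos] using t)) z]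

theorem Nil.exists_not_abel (h : Nil H) (k : ¬ Abel H) : ∃ p, p.Prime ∧ ¬ Abel (𝐎 {p} H) := by
  by_contra! w
  refine k (h.le_of_forall fun p hp _ => ?_)
  conv_rhs => rw [← (h.dprod {p}).sup]
  exact le_cent_sup (w p hp) (O_cent_O_compl _ _)

theorem exists_frobQ (s : Group.IsSolvable G) (n : ¬ Group.IsNilpotent G)
    (h : 𝐜𝐝 G ⊆ {1, a, b, c}) (k : ∀ p, p.Prime → ∃ d ∈ 𝐜𝐝 G, d ≠ 1 ∧ ¬ p ∣ d) :
    ∃ (N : Subgroup G) (q : ℕ), FrobQ N q := by
  obtain ⟨Z, _, V, H, p, t, -, u, v⟩ := exists_prim (Y := (⊤ : Subgroup G)) inferInstance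
    fun w => n ((Group.isNilpotent_top).1 w)
  have f := QuotientGroup.mk'_surjective Z
  rw [map_top_of_surjective _ f] at u v
  by_cases y : commutator (G ⧸ Z) ≤ V
  · exact MinNA.frobQ (K := Z) ⟨fun w => v (der_eq_bot.1 w).nil, fun M x z => y.trans (t.min M x z)⟩
      inferInstance fun p hp w => have := Fact.mk hp; v ((Group.isNilpotent_top).2 w.isNilpotent)
  exfalso
  have := t.nrm
  have g := QuotientGroup.mk'_surjective V
  obtain ⟨j, hj⟩ := (nil_qt_iff t.minN.norm).1 u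
  have u : Nil (⊤ : Subgroup ((G ⧸ Z) ⧸ V)) := nil_iff_lcs.2 ⟨j, by
    rwa [← map_top_of_surjective _ g, ← map_lowerCentralSeries, Subgroup.map_eq_bot_iff,
      QuotientGroup.ker_mk']⟩
  obtain ⟨q, hq, x⟩ := Nil.exists_not_abel u fun w => y (der_le_of_abel_map
    (by rwa [map_top_of_surjective _ g]))
  have n1 := normalIn_top.1 (O_normal {q} (⊤ : Subgroup ((G ⧸ Z) ⧸ V)))
  have n2 := normalIn_top.1 (O_normal {q}ᶜ (⊤ : Subgroup ((G ⧸ Z) ⧸ V)))
  have i1 := (u.hall_O {q}).idx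
  have i2 := (u.hall_O {q}ᶜ).idx.of_compl_compl
  rw [relIndex_top_right] at i1 i2
  obtain ⟨d, d1, d2⟩ : ∃ f ∈ 𝐜𝐝 (_ ⧸ 𝐎 {q}ᶜ (⊤ : Subgroup ((G ⧸ Z) ⧸ V))), f ≠ 1 := by
    simpa [der_le_iff_cd, Set.not_subset] using show ¬ commutator _ ≤ 𝐎 {q}ᶜ ⊤ from fun w =>
      x (der_eq_bot.1 (eq_bot_mono (O_inf_O_compl {q} ⊤) (le_inf (der_le _)
        ((commutator_mono le_top le_top).trans w))))
  obtain ⟨l, hl⟩ := i2.exists_pow index_ne_zero_of_finite
  have pq : IsPGroup q (_ ⧸ 𝐎 {q}ᶜ (⊤ : Subgroup ((G ⧸ Z) ⧸ V))) := .of_card hl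
  have sj := (QuotientGroup.mk'_surjective (𝐎 {q}ᶜ (⊤ : Subgroup ((G ⧸ Z) ⧸ V)))).comp (g.comp f)
  let E := QuotientGroup.quotientKerEquivOfSurjective (((QuotientGroup.mk' _).comp
    (QuotientGroup.mk' V)).comp (QuotientGroup.mk' Z)) sj
  obtain ⟨e, e1, e2, e3⟩ := k q hq
  have e4 : d * e ∈ 𝐜𝐝 G := by_contra fun w =>
    e3 (dvd_of_pquot hq (pq.of_equiv E.symm) (cd_congr E ▸ d1) e1 w)
  have d3 : d ∈ 𝐜𝐝 G := cd_quot _ (cd_congr E ▸ d1)
  obtain ⟨r, rfl⟩ := cd_pow_of_isPGroup hq pq d1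
  have r0 : r ≠ 0 := fun w => d2 (by rw [w, pow_zero])
  obtain ⟨b, c, h⟩ := four_swap h d3 d2
  obtain ⟨c, h⟩ := four_swap' h e1 e2 fun w => e3 (w ▸ dvd_pow_self q r0)
  obtain rfl : q ^ r * e = c := by
    obtain w | w | w | w := h e4
    exacts [absurd (Nat.eq_one_of_mul_eq_one_left w) e2, absurd (Nat.eq_of_mul_eq_mul_left
      (cd_pos d3) (w.trans (mul_one _).symm)) e2, absurd (Nat.eq_of_mul_eq_mul_right
        (cd_pos e1) (w.trans (one_mul _).symm)) d2, w]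
  generalize 𝐎 {q} (⊤ : Subgroup ((G ⧸ Z) ⧸ V)) = S, O_pi {q} (⊤ : Subgroup ((G ⧸ Z) ⧸ V)) = pS
    at x n1 i1
  have VY : V ≤ S.comap (QuotientGroup.mk' V) := (QuotientGroup.ker_mk' V).ge.trans (ker_le_comap _ _)
  have z : Abel ⁅S.comap (QuotientGroup.mk' V), S.comap (QuotientGroup.mk' V)⁆ :=
    abel_der_of_two' (m := q ^ r) fun m hm => by
      have m1 : PiNat {q} m := pS.dvd (by
        have := cd_dvd_index (t.ab.abel.subgroupOf _) hm
        rwa [← map_comap_eq_self_of_surjective g S, ← relIndex_ker, QuotientGroup.ker_mk'])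
      obtain ⟨i, m2, m3⟩ := exists_cd_mul hm
      rw [index_comap_of_surjective _ g] at m2
      have m4 := cd_pos m3
      have m5 : logn q (i * m) = logn q m := by
        rw [logn_mul (Nat.pos_of_mul_pos_right m4).ne' (cd_pos hm).ne', logn_eq_zero (i1.dvd m2),
          zero_add]
      have m6 := logn_eq_zero ((piNat_compl_single hq).2 e3)
      rw [m1.eq_pow_logn (cd_pos hm).ne', ← m5]
      obtain w | w | w | w := h (cd_quot Z m3) <;> rw [w]
      · simp [logn]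
      · simp [logn_pow hq]
      · simp [m6]
      · simp [logn_mul (cd_pos d3).ne' (cd_pos e1).ne', m6, logn_pow hq]
  refine x (der_eq_bot.1 ?_)
  rw [← map_comap_eq_self_of_surjective g S, ← map_commutator, Subgroup.map_eq_bot_iff,
    QuotientGroup.ker_mk']
  by_cases w : ⁅S.comap (QuotientGroup.mk' V), S.comap (QuotientGroup.mk' V)⁆ = ⊥
  · exact w.le.trans bot_le
  · exact (z.cent le_rfl (t.min _ inferInstance w)).trans t.cent

theorem der4_aux (k : ℕ) : ∀ (G : Type u) [Group G] [Finite G] (a b c : ℕ), Nat.card G = k →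
    Group.IsSolvable G → 𝐜𝐝 G ⊆ {1, a, b, c} → derivedSeries G 4 = ⊥ := by
  induction k using Nat.strong_induction_on with | _ k ih
  intro G _ _ a b c e s h
  by_cases k1 : ∃ p, p.Prime ∧ ∀ d ∈ 𝐜𝐝 G, d ≠ 1 → p ∣ d
  · obtain ⟨p, hp, k1⟩ := k1
    exact step1 hp h k1 fun H x a b c => ih _ (e ▸ CF.Solv.card_lt_of_ne_top x) H a b c rfl
      inferInstance
  push Not at k1
  by_cases n : Group.IsNilpotent G
  · exact taketa abel_bot inferInstance (ncard_four h)
  obtain ⟨N, q, r⟩ := exists_frobQ s n h k1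
  have := normal_of_der_le r.der
  obtain ⟨b, c, h⟩ := four_swap h r.mem r.ne
  by_cases y : N.index ∈ 𝐫𝐜 ⁅N, N⁆
  swap
  · have := b2 (N := ⁅N, N⁆) (a := b) (b := c) inferInstance fun d hd => by
      obtain u | rfl | u := h (rc_sub_cd hd)
      exacts [absurd u (rc_ne_one (commutator_mono le_top le_top) hd), absurd hd y, u]
    exact eq_bot_mono (der_eq_bot.2 this) (der_mono (der_mono (der_mono r.der)))
  obtain ⟨χ, x1, x2, x3⟩ := mem_rc.1 y
  obtain ⟨ψ, y1, y2⟩ := CF.Char.exists_irr_under N x1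
  obtain ⟨m, hm, y3⟩ := exists_cd y1
  have m1 : m ≠ 1 := fun w => x2 (le_ker_of_const (der_le N) x1 y1 y2 (by
    rw [subgroupOf_comm le_rfl le_rfl, subgroupOf_self]
    exact (irr_one_eq_one_iff y1).1 (by simpa [w] using y3)))
  have m2 := (dvd_mul_left _ _).trans (inertia_dvd (NormalEmb.sub N) y1 x1 y2 x3 y3)
  have ca : ∀ {d e : ℕ}, N.index * d = N.index * e → d = e := Nat.eq_of_mul_eq_mul_left (cd_pos r.mem)
  obtain ⟨c, h⟩ := four_swap' h ((r.cd m hm).resolve_right fun w => r.not_dvd (w.trans m2))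
    (fun w => m1 (Nat.eq_one_of_mul_eq_one_left w)) fun w => m1 (ca (w.trans (mul_one _).symm))
  have co : N.index.Coprime c := coprime_of_primes fun p hp u v => by
    obtain ⟨d, d1, d2, d3⟩ := k1 p hp
    obtain w | rfl | rfl | rfl := h d1
    exacts [d2 w, d3 u, d3 (u.mul_right _), d3 v]
  refine ds_of_le (m := 1) (n := 3) r.der (der3_of_three (m := m) (n := c) fun d hd => ?_)
  obtain ⟨j, j1, j2⟩ := exists_cd_mul hd
  by_cases u : j * d = c
  · obtain rfl := Nat.eq_one_of_dvd_coprimes co j1 (Dvd.intro _ u)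
    exact .inr (.inr ((one_mul d).symm.trans u))
  have := (r.cd d hd).resolve_right fun w => r.not_dvd (by
    have w := w.trans (dvd_mul_left d j)
    obtain v | v | v | v := h j2
    exacts [absurd (v ▸ w) r.prime.not_dvd_one, v ▸ w, ((Nat.Prime.dvd_mul r.prime).1
      (v ▸ w)).elim id (·.trans m2), absurd v u])
  obtain v | v | v | v := h this
  exacts [absurd (Nat.eq_one_of_mul_eq_one_right v) r.ne, .inl (ca (v.trans (mul_one _).symm)),
    .inr (.inl (ca v)), absurd (Nat.eq_one_of_dvd_coprimes co dvd_rfl (Dvd.intro _ v)) r.ne]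

end CF.Fgs2.Isa
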