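import Cfsg.Agent.Fgs2.Isa1
import Cfsg.Agent.Block.Ito

/-!
The derived length of a Sylow subgroup of a `p`-solvable group and the number of characters of
degree divisible by `p`.
-/

set_option autoImplicit false

namespace CF.Fgs2.Isa

open Cfsg Subgroup CF.BG CF.Clifford CF.Char
open scoped commutatorElement ComplexConjugate

universe u v

variable {G : Type u} [Group G] [Finite G] {χ : G → ℂ} {d m n p : ℕ}

theorem exists_const_not_dvd [Fintype G] (hχ : IsCharacter G χ) (e : χ 1 = d) (h : ¬ p ∣ d) :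
    ∃ ψ m, IsIrrCharacter G ψ ∧ classInner χ ψ ≠ 0 ∧ ψ 1 = (m : ℕ) ∧ ¬ p ∣ m := by
  obtain ⟨a, a1, a2, -⟩ := exists_nat_inner_self hχ
  by_contra! w
  have v := congrFun a2 1
  simp only [Finset.sum_apply, Pi.smul_apply, smul_eq_mul, ← CF.BlockB.irr_charDegree_eq, e] at v
  norm_cast at v
  refine h (v ▸ Finset.dvd_sum fun ψ _ => ?_)
  by_cases z : a ψ = 0
  · simp [z]
  · exact (w ψ _ ψ.2 (a1 ψ ▸ Nat.cast_ne_zero.2 z) (CF.BlockB.irr_charDegree_eq ψ).symm).mul_left _

theorem exists_linear_const [Fintype G] (hp : p.Prime) (k : IsPGroup p G) (hχ : IsCharacter G χ)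
    (e : χ 1 = d) (h : ¬ p ∣ d) : ∃ l : G →* ℂˣ, classInner χ (fun g => (l g : ℂ)) ≠ 0 := by
  obtain ⟨ψ, m, a, b, c, w⟩ := exists_const_not_dvd hχ e h
  obtain ⟨_ | j, rfl⟩ := cd_pow_of_isPGroup hp k (cd_of_irr a c)
  · obtain ⟨l, rfl⟩ := exists_linear_of_one (irr_isCharacter a) (by simpa using c)
    exact ⟨l, b⟩
  · exact absurd (dvd_pow_self p j.succ_ne_zero) w

theorem not_le_ker_of_over {N : Subgroup G} [Fintype N] {l : N → ℂ} (hl : IsIrrCharacter N l)
    (l1 : l ≠ fun _ => 1) (hχ : IsCharacter G χ) (h : classInner (fun x : N => χ x) l ≠ 0) :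
    ¬ N ≤ charKer χ := fun w => l1 (irr_eq_one_of_charKer_eq_top hl (eq_top_iff.2 (le_trans
      (by rw [charKer_restrict hχ]; exact fun x _ => w x.2)
      (charKer_le_of_inner_ne_zero (char_restrict hχ N) hl h))))

theorem der_le_of_not_dvd [Fact p.Prime] (s : IsPSolvable p G) {N : Subgroup G} [N.Normal]
    (n1 : N ≠ ⊥) (k : IsPGroup p N)
    (h : ∀ χ : IrrCharacter G, ¬ N ≤ charKer (χ : G → ℂ) → ¬ p ∣ charDegree (χ : G → ℂ))
    (P : Sylow p G) : ⁅(P : Subgroup G), (P : Subgroup G)⁆ ≤ N := by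
  have hp : p.Prime := Fact.out
  have := Fintype.ofFinite G
  have := Fintype.ofFinite N
  have := Fintype.ofFinite P
  have NP : N ≤ P := k.le_sylow_of_normal P
  obtain ⟨g, hg, g1⟩ := exists_mem_ne_one n1
  obtain ⟨χ, a, b⟩ := exists_irr_not_mem_charKer g1
  obtain ⟨μ, c⟩ := exists_linear_const hp P.2 (char_restrict (irr_isCharacter a) P)
    (CF.BlockB.irr_charDegree_eq ⟨χ, a⟩).symm (h ⟨χ, a⟩ fun w => b (w hg))
  have hl := irr_linear (μ.comp (inclusion NP))
  have o : classInner (fun x : N => χ x) (fun x => ((μ.comp (inclusion NP)) x : ℂ)) ≠ 0 :=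
    inner_comp_ne_zero_of_constituent (inclusion NP) (char_restrict (irr_isCharacter a) P)
      (irr_linear μ) (irr_isCharacter hl) c (by
        change classInner (fun x => ((μ.comp (inclusion NP)) x : ℂ)) _ ≠ 0
        rw [inner_irr_self hl]; exact one_ne_zero)
  have l1 : (fun x => ((μ.comp (inclusion NP)) x : ℂ)) ≠ fun _ => 1 := fun w =>
    b (le_charKer_of_inner_ne_zero a N (w ▸ o) hg)
  let E := NormalEmb.sub N
  have PT : (P : Subgroup G) ≤ E.inertia fun x => ((μ.comp (inclusion NP)) x : ℂ) := fun x hx =>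
    E.mem_inertia'.2 fun y => classFun_conj (irr_isClassFunction (irr_linear μ))
      (inclusion NP y) ⟨x, hx⟩
  have hT := E.ι_mem_inertia (irr_isClassFunction hl)
  have iv := E.invariant_restrict_inertia hT
  generalize eT : E.inertia (fun x => ((μ.comp (inclusion NP)) x : ℂ)) = T at PT hT iv
  have T1 := eT.le.trans T.range_subtype.ge
  have := Fintype.ofFinite T
  obtain ⟨η, x, y⟩ := (E.restrict T hT).exists_ext_of_forall_prime hl iv (d := 1) (by simp)
    fun q hq _ w => by
      obtain ⟨j, e⟩ := IsPGroup.iff_card.1 k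
      rw [one_mul] at w
      obtain rfl := (Nat.prime_dvd_prime_iff_eq hq hp).1 (hq.dvd_of_dvd_pow
        (e ▸ w.trans (detOrder_dvd_card (irr_isCharacter hl))))
      exact ⟨(P : Subgroup G).subgroupOf T, fun n => NP n.2,
        fun x => μ (subgroupOfEquivOfLe PT x), fun v => P.not_dvd_index
          (v.trans (relIndex_dvd_index_of_le PT)), char_comp (char_linear μ)
            (subgroupOfEquivOfLe PT).toMonoidHom, fun _ => rfl⟩
  have q := (CF.Block.ito_iff (CF.Solv.isPSolvable_quotient (CF.Solv.isPSolvable_subgroup s T)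
    (N.subgroupOf T)) ((P.subtype PT).mapSurjective (QuotientGroup.mk'_surjective _))).2
    fun β w => by
      have i := (E.restrict T hT).irr_mul_ext hl (irr_isCharacter x) y (irr_inflate _ β.2)
        fun n => by
          rw [(QuotientGroup.eq_one_iff _).2 (show _ ∈ N.subgroupOf T from n.2)]; rfl
      have o : classInner (fun n => ((fun g : T => β.1 g) * η) ((E.restrict T hT).ι n))
          (fun x => ((μ.comp (inclusion NP)) x : ℂ)) ≠ 0 := by
        rw [show (fun n => ((fun g : T => β.1 g) * η) ((E.restrict T hT).ι n)) =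
          β.1 1 • fun x => ((μ.comp (inclusion NP)) x : ℂ) from funext fun n => by
            rw [Pi.mul_apply, y, (QuotientGroup.eq_one_iff _).2
              (show _ ∈ N.subgroupOf T from n.2)]; rfl,
          CF.Char.inner_smul_left, inner_irr_self hl, mul_one]
        exact irr_one_ne_zero β.2
      have j := E.corr_irr (E.restrict T hT) T.subtype T.subtype_injective (fun _ => rfl) hl T1 i o
      refine h ⟨_, j⟩ (not_le_ker_of_over hl l1 (irr_isCharacter j) ?_) ?_
      · exact (E.corr_inner (E.restrict T hT) T.subtype T.subtype_injective (fun _ => rfl) hl T1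
          i o).trans_ne o
      · rw [CF.BlockB.charDegree_of_eq (n := T.index * charDegree β.1)]
        · exact w.mul_left _
        · have := y 1
          rw [map_one] at this
          simp [CF.Clifford.ind_one _ T.subtype_injective, this, CF.BlockB.irr_charDegree_eq]
  refine commutator_le.2 fun x hx y hy => ?_
  have := q.2 _ ⟨⟨x, PT hx⟩, hx, rfl⟩ _ ⟨⟨y, PT hy⟩, hy, rfl⟩
  rw [← map_mul, ← map_mul, ← mul_inv_eq_one, ← map_inv, ← map_mul, QuotientGroup.mk'_apply,
    QuotientGroup.eq_one_iff] at this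
  simpa [commutatorElement_def, mem_subgroupOf, mul_assoc] using this

theorem dl_le [Fact p.Prime] {Q : Type v} [Group Q] (hQ : IsPGroup p Q) (k : ℕ) :
    ∀ (G : Type u) [Group G] [Finite G] (n : ℕ), Nat.card G = k → IsPSolvable p G →
      Nat.card {χ : IrrCharacter G // p ∣ charDegree (χ : G → ℂ)} ≤ n → ∀ f : Q →* G,
        derivedSeries Q (n + 1) ≤ f.ker := by
  induction k using Nat.strong_induction_on with
  | _ k ih =>
  intro G _ _ n e s h f
  have hp : p.Prime := Fact.out
  obtain ⟨P, hP⟩ := (hQ.of_surjective _ f.rangeRestrict_surjective).exists_le_sylow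
  have st : ∀ (j : ℕ) (A : Subgroup G), Abel A → derivedSeries Q j ≤ A.comap f →
      derivedSeries Q (j + 1) ≤ f.ker := fun j A a l => by
    rw [derivedSeries_succ, ← Subgroup.map_eq_bot_iff, map_commutator]
    exact le_bot_iff.1 ((der_mono (map_le_iff_le_comap.2 l)).trans (der_eq_bot.2 a).le)
  obtain rfl | n0 := n.eq_zero_or_pos
  · refine st 0 P (abel_of_forall ((CF.Block.ito_iff s P).2 fun χ w => ?_).2) fun x _ => hP ⟨x, rfl⟩
    have : Nonempty {χ : IrrCharacter G // p ∣ charDegree (χ : G → ℂ)} := ⟨⟨χ, w⟩⟩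
    exact absurd h (not_le.2 Nat.card_pos)
  by_cases t : (⊤ : Subgroup G) = ⊥
  · exact fun x _ => mem_bot.1 (t ▸ mem_top _)
  obtain ⟨N, -, m⟩ := exists_minN t (A := ⊤) le_normalizer_of_normal
  have : N.Normal := normalIn_top.1 ⟨le_top, m.norm⟩
  have lt : Nat.card (G ⧸ N) < k := by
    rw [← e, ← index_eq_card, ← N.card_mul_index]
    exact lt_mul_of_one_lt_left (Nat.pos_of_ne_zero index_ne_zero_of_finite) (one_lt_card.2 m.ne_bot)
  let F : {χ : IrrCharacter (G ⧸ N) // p ∣ charDegree (χ : G ⧸ N → ℂ)} →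
      {χ : IrrCharacter G // p ∣ charDegree (χ : G → ℂ)} := fun χ =>
    ⟨⟨_, irr_inflate N χ.1.2⟩, χ.2⟩
  have Fi : Function.Injective F := fun a b w => Subtype.ext (Subtype.ext (funext fun x => by
    obtain ⟨x, rfl⟩ := QuotientGroup.mk_surjective x
    exact congrFun (congrArg (fun t => (t.1.1 : G → ℂ)) w) x))
  have i := fun n l => ih _ lt (G ⧸ N) n rfl (CF.Solv.isPSolvable_quotient s N) l
    ((QuotientGroup.mk' N).comp f)
  simp only [← MonoidHom.comap_ker, QuotientGroup.ker_mk'] at i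
  obtain w | w := ((CF.Solv.isPSolvable_iff_isPiSep.1 s).piNum_of_isMinNormal (M := N)
    ⟨this, m.ne_bot, fun K a b => m.eq_bot_or b (normalIn_top.2 a).norm⟩ :
      PiGrp {p} N ∨ PiGrp {p}ᶜ N)
  swap
  · intro x hx
    obtain ⟨j, hj⟩ := hQ x
    refine PiElt.eq_one (π := {p}) ((piNat_pow_self hp j).dvd (orderOf_dvd_of_pow_eq_one ?_))
      (PiGrp.elt w (i n ((Nat.card_le_card_of_injective F Fi).trans h) hx))
    rw [← map_pow, hj, map_one]
  have a := (m.abelem_of_pi w).abel
  by_cases c : ∀ χ : IrrCharacter G, ¬ N ≤ charKer (χ : G → ℂ) → ¬ p ∣ charDegree (χ : G → ℂ)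
  · refine (derivedSeries_antitone Q (by omega : 1 + 1 ≤ n + 1)).trans (st 1 N a ?_)
    rw [derivedSeries_succ, ← map_le_iff_le_comap, map_commutator]
    exact (der_mono ((map_le_range _ _).trans fun _ hx => hP hx)).trans (der_le_of_not_dvd s m.ne_bot (PiGrp.isPGroup w) c P)
  · push Not at c
    obtain ⟨χ, x, y⟩ := c
    obtain ⟨n, rfl⟩ := Nat.exists_eq_succ_of_ne_zero n0.ne'
    refine st _ N a (i n (Nat.le_of_lt_succ (lt_of_lt_of_le ?_ h)))
    have := Fintype.ofFinite {χ : IrrCharacter G // p ∣ charDegree (χ : G → ℂ)}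
    have := Fintype.ofFinite {χ : IrrCharacter (G ⧸ N) // p ∣ charDegree (χ : G ⧸ N → ℂ)}
    rw [Nat.card_eq_fintype_card, Nat.card_eq_fintype_card]
    refine Fintype.card_lt_of_injective_of_notMem F Fi (b := ⟨χ, y⟩) fun ⟨ψ, w⟩ => x ?_
    rw [← show _ = χ from congrArg Subtype.val w]
    exact le_charKer_inflate N _

end CF.Fgs2.Isa
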