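import Cfsg.Agent.Fgs2.Isa4
import Cfsg.Agent.Block.PRat

/-!
Schur's bound for the order of a `p`-group with a faithful rational character.
-/

set_option autoImplicit false

namespace CF.Fgs2.Isa

open Cfsg Subgroup CF.BG CF.Clifford CF.Char
open scoped commutatorElement ComplexConjugate

universe u v

variable {G : Type u} [Group G] [Finite G] {χ : G → ℂ} {d m n p : ℕ}

theorem neg_le_of_rat (hp : p.Prime) (hχ : IsCharacter G χ) (e : χ 1 = n) {x : G}
    (hx : p ∣ orderOf x) (r : ∀ m : ℕ, m.Coprime p → χ (x ^ m) = χ x) :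
    0 ≤ n + (p - 1 : ℝ) * (χ x).re := by
  classical
  have := Fintype.ofFinite G
  have := Fintype.ofFinite (zpowers x)
  obtain ⟨a, ha⟩ := inner_char_eq_nat (char_restrict hχ (zpowers x)) char_const_one
  have s := (card_mul_inner _ _).symm.trans (congrArg _ ha)
  simp only [map_one, mul_one] at s
  rw [← Finset.sum_subtype (Finset.univ.filter (· ∈ zpowers x)) (by simp) χ] at s
  have l : Finset.univ.filter (· ∈ zpowers (x ^ p)) ⊆ Finset.univ.filter (· ∈ zpowers x) :=
    fun y => by simpa using fun h => zpowers_le.2 (pow_mem (mem_zpowers x) p) h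
  have c : ∀ y : G, (Finset.univ.filter (· ∈ zpowers y)).card = orderOf y := fun y => by
    rw [← Nat.card_zpowers, Nat.card_eq_fintype_card, Fintype.card_subtype]
  rw [← Finset.sum_sdiff l, Finset.sum_congr rfl (g := fun _ => χ x) fun y hy => ?_,
    Finset.sum_const, Finset.card_sdiff_of_subset l, c, c, orderOf_pow_of_dvd hp.ne_zero hx] at s
  · obtain ⟨k, hk⟩ := hx
    have k0 : 0 < k := Nat.pos_of_ne_zero fun w => (orderOf_pos x).ne' (by rw [hk, w, mul_zero])
    have b := Finset.sum_le_card_nsmul (Finset.univ.filter (· ∈ zpowers (x ^ p)))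
      (fun y => (χ y).re) n fun y _ => by simpa [e] using char_re_le hχ y
    rw [c, orderOf_pow_of_dvd hp.ne_zero ⟨k, hk⟩, hk, Nat.mul_div_cancel_left _ hp.pos,
      ← Complex.re_sum, nsmul_eq_mul] at b
    rw [hk, Nat.mul_div_cancel_left _ hp.pos, nsmul_eq_mul, Nat.cast_sub
      (Nat.le_mul_of_pos_left _ hp.pos), ← Nat.cast_mul] at s
    have s := congrArg Complex.re s
    simp only [Complex.add_re, Complex.natCast_re, Complex.mul_re, Complex.sub_re, Complex.sub_im,
      Complex.natCast_im, sub_self, zero_mul, sub_zero] at s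
    have : (0 : ℝ) < k := by exact_mod_cast k0
    have h0 : (0 : ℝ) ≤ (♯(zpowers x) * a : ℕ) := Nat.cast_nonneg _
    push_cast at s h0
    nlinarith
  · simp only [Finset.mem_sdiff, Finset.mem_filter, Finset.mem_univ, true_and] at hy
    obtain ⟨m, rfl⟩ := (mem_powers_iff_mem_zpowers.2 hy.1 :)
    refine r m (Nat.Coprime.symm (hp.coprime_iff_not_dvd.2 ?_))
    rintro ⟨j, rfl⟩
    exact hy.2 (by simpa only [pow_mul] using pow_mem (mem_zpowers (x ^ p)) j)

theorem schur_dvd (hp : p.Prime) (k : IsPGroup p G) (hχ : IsCharacter G χ) (e : χ 1 = n)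
    (r : ∀ m : ℕ, m.Coprime p → ∀ x, χ (x ^ m) = χ x) :
    (charKer χ).index ∣ p ^ (n / (p - 1)) * (n / (p - 1)).factorial := by
  classical
  have := Fintype.ofFinite G
  have := Fact.mk hp
  let f : G → ℂ := ∏ j ∈ Finset.Icc 1 (n / (p - 1)), (χ - fun _ => ((n - j * p : ℤ) : ℂ))
  have hf : IsGeneralizedCharacter G f := mem_genSubring.1 (Subring.prod_mem _ fun j _ =>
    mem_genSubring.2 (gen_sub (gen_of_char hχ) (gen_const_int _)))
  have v : ∀ x, f x = if x ∈ charKer χ then
      ((p ^ (n / (p - 1)) * (n / (p - 1)).factorial : ℕ) : ℂ) else 0 := fun x => by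
    simp only [f, Finset.prod_apply, Pi.sub_apply]
    split_ifs with h
    · rw [(mem_charKer_iff hχ).1 h, e, ← Finset.prod_Ico_id_eq_factorial, Finset.Ico_add_one_right_eq_Icc]
      simp [Finset.prod_mul_distrib, mul_comm]
    · obtain ⟨j, o⟩ := IsPGroup.iff_orderOf.1 k x
      have d : p ∣ orderOf x := o ▸ dvd_pow_self p fun w => h (by
        rw [w, pow_zero, orderOf_eq_one_iff] at o; exact o ▸ one_mem _)
      obtain ⟨a, ha⟩ := gen_eq_int_of_pow (gen_of_char hχ) (g := x) fun m c =>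
        r m (c.coprime_dvd_right d) x
      obtain ⟨t, ht⟩ := (gen_modEq_one (gen_of_char hχ) hp (k := j) (o ▸ pow_orderOf_eq_one x) ha
        (b := n) (by rw [e]; rfl)).dvd
      have l := neg_le_of_rat hp hχ e d fun m c => r m c x
      have l' := char_re_le hχ x
      rw [ha, e] at l'
      rw [ha] at l
      have ne : a ≠ n := fun w => h ((mem_charKer_iff hχ).2 (by rw [ha, e, w]; rfl))
      simp only [Complex.intCast_re, Complex.natCast_re] at l l'
      have p1 := hp.one_lt
      obtain ⟨q, rfl⟩ : ∃ q, p = q + 1 := ⟨p - 1, by omega⟩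
      push_cast at l ht
      rw [add_sub_cancel_right] at l
      norm_cast at l l'
      have t0 : 0 < t := by
        by_contra w
        have : a < n := lt_of_le_of_ne l' ne
        nlinarith
      lift t to ℕ using t0.le
      refine Finset.prod_eq_zero (i := t) (Finset.mem_Icc.2 ⟨by exact_mod_cast t0, ?_⟩) ?_
      · rw [Nat.add_sub_cancel, Nat.le_div_iff_mul_le (by omega)]
        have : ((q : ℤ) + 1) * (t * q) ≤ (q + 1) * n := by nlinarith
        exact_mod_cast le_of_mul_le_mul_left this (by positivity)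
      · rw [ha, sub_eq_zero]
        congr 1
        push_cast
        linarith
  obtain ⟨z, hz⟩ := inner_gen_eq_int hf gen_const_one
  have s := (card_mul_inner _ _).symm.trans (congrArg _ hz)
  simp only [map_one, mul_one, v] at s
  rw [← Finset.sum_filter, Finset.sum_const, nsmul_eq_mul, ← Fintype.card_subtype,
    ← Nat.card_eq_fintype_card, ← (charKer χ).card_mul_index, Nat.cast_mul (♯_), mul_assoc] at s
  have s := mul_left_cancel₀ (Nat.cast_ne_zero.2 (card_ne_zero' _)) s
  exact Int.natCast_dvd_natCast.1 ⟨z, by exact_mod_cast s⟩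

theorem fact_le_of_dvd (hp : p.Prime) (h : m ∣ p ^ (n / (p - 1)) * (n / (p - 1)).factorial) :
    m.factorization p ≤ ∑ i ∈ Finset.range (n + 1), n / ((p - 1) * p ^ i) := by
  refine (logn_le_of_dvd h (mul_ne_zero (pow_ne_zero _ hp.ne_zero) (Nat.factorial_ne_zero _))).trans_eq ?_
  rw [logn_mul (pow_ne_zero _ hp.ne_zero) (Nat.factorial_ne_zero _), logn_pow hp, logn,
    Nat.factorization_factorial hp (b := n + 1) (Nat.lt_succ_of_le ((Nat.log_le_self _ _).trans
      (Nat.div_le_self _ _))), Finset.range_eq_Ico, Finset.sum_eq_sum_Ico_succ_bot n.succ_pos]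
  simp [Nat.div_div_eq_div_mul]

theorem exists_aut_fix (hp : p.Prime) {r : ℕ} (r0 : r ≠ 0) (hr : ¬ p ∣ r) (c : m.Coprime p) (k : ℕ) :
    ∃ σ : ℂ ≃+* ℂ, (∀ z : ℂ, z ^ r = 1 → σ z = z) ∧ ∀ z : ℂ, z ^ p ^ k = 1 → σ z = z ^ m := by
  have co := (hp.coprime_iff_not_dvd.2 hr).pow_left (k + 1)
  obtain ⟨t, a, b⟩ := Nat.chineseRemainder co m 1
  obtain ⟨σ, hσ⟩ := exists_aut_pow (n := p ^ (k + 1) * r) (m := t)
    (mul_ne_zero (pow_ne_zero _ hp.ne_zero) r0) (Nat.Coprime.mul_right
      (by rw [Nat.Coprime, a.gcd_eq]; exact c.pow_right _)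
      (by rw [Nat.Coprime, b.gcd_eq, Nat.gcd_one_left]))
  refine ⟨σ, fun z hz => ?_, fun z hz => ?_⟩
  · rw [hσ z (by rw [pow_mul', hz, one_pow]), pow_eq_pow_of_modEq b hz, pow_one]
  · have : z ^ p ^ (k + 1) = 1 := by rw [pow_succ, pow_mul, hz, one_pow]
    rw [hσ z (by rw [pow_mul, this, one_pow]), pow_eq_pow_of_modEq a this]

end CF.Fgs2.Isa
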