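import Cfsg.Agent.Fgs2.Isa7
import Cfsg.Agent.Char.Unitary

/-!
Faithful irreducible characters of degree less than `2p` and non-abelian Sylow `p`-subgroups.
-/

set_option autoImplicit false

namespace CF.Fgs2.Isa

open Cfsg Subgroup CF.BG CF.Clifford CF.Char Complex
open scoped ComplexConjugate

variable {G : Type*} [Group G] [Finite G] {χ : G → ℂ} {d n p : ℕ}

theorem le_of_cd (hp : p.Prime) (k : IsPGroup p G) (h : d ∈ 𝐜𝐝 G) :
    d = 1 ∨ d = p ∨ p * p ≤ d := by
  have := Fact.mk hp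
  obtain ⟨a, e⟩ := IsPGroup.iff_card.1 k
  obtain ⟨j, -, rfl⟩ := (Nat.dvd_prime_pow hp).1 (e ▸ cd_dvd_card h)
  rcases j with _ | _ | j
  · simp
  · simp
  · exact .inr (.inr (sq p ▸ Nat.pow_le_pow_right hp.pos (by omega)))

theorem exists_two_eigen (hp : p.Prime) (k : IsPGroup p G) (hχ : IsCharacter G χ) (e : χ 1 = n)
    (hf : charKer χ = ⊥) (l : n < 2 * p) (c : commutator G ≠ ⊥) :
    ∃ (z : G) (m : ℕ), n = p + m ∧ z ^ p = 1 ∧
      ∀ j : ℕ, χ (z ^ j) = p * exp (2 * Real.pi * I / p) ^ j + m := by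
  have := Fintype.ofFinite G
  have := Fact.mk hp
  have := k.isNilpotent
  have p2 := hp.two_le
  obtain ⟨ψ, hψ, i, nl⟩ : ∃ ψ, IsIrrCharacter G ψ ∧ classInner χ ψ ≠ 0 ∧
      ¬ commutator G ≤ charKer ψ := by
    by_contra! h
    exact c (eq_bot_iff.2 fun g hg => hf ▸ mem_charKer_of_constituents (char_isClassFunction hχ)
      fun ψ a b => h ψ a b hg)
  obtain ⟨d, hd, e'⟩ := exists_cd hψ
  have l' := one_le_of_inner_ne_zero hχ hψ i e e'
  obtain rfl : d = p := by
    rcases le_of_cd hp k hd with rfl | h | h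
    · exact (nl ((irr_one_eq_one_iff hψ).1 (by simpa using e'))).elim
    · exact h
    · nlinarith
  obtain ⟨m, rfl⟩ := Nat.exists_eq_add_of_le l'
  have x := char_sub_of_inner_ne_zero hχ hψ i
  have e2 : (χ - ψ) 1 = m := by simp [e, e']
  have kx : commutator G ≤ charKer (χ - ψ) := fun g hg =>
    mem_charKer_of_constituents (char_isClassFunction x) fun θ a b => by
      obtain ⟨t, ht, f⟩ := exists_cd a
      have := one_le_of_inner_ne_zero x a b e2 f
      refine (irr_one_eq_one_iff a).1 ?_ hg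
      rcases le_of_cd hp k ht with rfl | h | h
      · simpa using f
      · omega
      · nlinarith
  obtain ⟨y, o⟩ := exists_prime_orderOf_dvd_card' (G := ↥(commutator G ⊓ center G)) d
    ((k.to_subgroup _).card_eq_or_dvd.resolve_left fun h =>
      CF.Solv.normal_inf_center_ne_bot _ c (card_eq_one.1 h))
  obtain ⟨lam, hl⟩ := exists_linear_of_le_charCenter (irr_one_ne_zero hψ) (commutator G ⊓ center G)
    (inf_le_right.trans (center_le_charCenter hψ))
  have v : ∀ w : ↥(commutator G ⊓ center G), χ w = d * lam w + m := fun w => by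
    have a := (mem_charKer_iff x).1 (kx w.2.1)
    have b := hl w 1
    rw [mul_one, e'] at b
    rw [e2, Pi.sub_apply, b] at a
    linear_combination a
  have yp : y ^ d = 1 := o ▸ pow_orderOf_eq_one y
  have pr : IsPrimitiveRoot (lam y : ℂ) d := by
    refine IsPrimitiveRoot.iff_orderOf.2 (orderOf_eq_prime
      (by rw [← Units.val_pow_eq_pow_val, ← map_pow, yp]; simp) fun h => ?_)
    have : (y : G) ∈ charKer χ := (mem_charKer_iff hχ).2 (by rw [v, h, e]; simp)
    rw [hf, mem_bot, OneMemClass.coe_eq_one] at this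
    exact hp.one_lt.ne (by rw [← o, this, orderOf_one])
  have := NeZero.mk hp.ne_zero
  obtain ⟨t, -, ht⟩ := pr.eq_pow_of_pow_eq_one (isPrimitiveRoot_exp d hp.ne_zero).pow_eq_one
  refine ⟨(y ^ t : ↥(commutator G ⊓ center G)), m, rfl, ?_, fun j => ?_⟩
  · rw [← coe_pow, ← pow_mul, pow_mul', yp, one_pow, coe_one]
  · rw [← coe_pow, v, ← ht]; simp

theorem near_of_two {z : G} {m : ℕ} (h7 : 7 ≤ p)
    (h : ∀ j : ℕ, χ (z ^ j) = p * exp (2 * Real.pi * I / p) ^ j + m) : Near χ z := by
  have p0 : (7 : ℝ) ≤ p := by exact_mod_cast h7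
  have c : √3 / 2 < Real.cos (Real.pi / p) := by
    rw [← Real.cos_pi_div_six]
    exact Real.cos_lt_cos_of_nonneg_of_le_pi (by positivity) (by linarith [Real.pi_pos])
      (div_lt_div_of_pos_left Real.pi_pos (by norm_num) (by linarith))
  refine ⟨exp ((Real.pi / p : ℝ) * I), p + m,
    Fin.append (fun _ => exp (2 * Real.pi * I / p)) fun _ => 1, norm_exp_ofReal_mul_I _,
    fun j => by simp [h, Fin.sum_univ_add], fun i => ?_⟩
  refine Fin.addCases (fun i => ?_) (fun i => ?_) i
  · rw [Fin.append_left, ← exp_conj, ← exp_add, show conj (((Real.pi / p : ℝ) : ℂ) * I) +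
      2 * Real.pi * I / p = (Real.pi / p : ℝ) * I by simp; ring, exp_ofReal_mul_I_re]
    exact c
  · rwa [Fin.append_right, mul_one, conj_re, exp_ofReal_mul_I_re]

theorem abel_of_mult_one {A : Subgroup G} [A.Normal] [Fintype A] (hχ : IsIrrCharacter G χ)
    (hf : charKer χ = ⊥) (e : χ 1 = n) {l : A → ℂ} (hl : IsIrrCharacter A l) (l1 : l 1 = 1)
    (i : classInner (fun x : A => χ x) l = 1) :
    ∃ K : Subgroup G, K.Normal ∧ Abel K ∧ K.index ∣ n.factorial := by
  have := Fintype.ofFinite G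
  let E := NormalEmb.sub A
  have := Fintype.ofFinite (E.inertia l)
  have i0 : classInner (fun x => χ (E.ι x)) l ≠ 0 := i.trans_ne one_ne_zero
  obtain ⟨ψ, hψ, f, j⟩ := E.exists_ind_inertia hl hχ i0
  have c := E.clifford_one hχ hl i0
  rw [show classInner (fun x => χ (E.ι x)) l = 1 from i, l1, one_mul, mul_one] at c
  have t := f ▸ indFun_one _ ψ
  rw [c, eq_comm, mul_right_eq_self₀, or_iff_left (Nat.cast_ne_zero.2 index_ne_zero_of_finite)] at t
  obtain rfl : n = (E.inertia l).index := by exact_mod_cast e.symm.trans c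
  refine ⟨(E.inertia l).normalCore, inferInstance, der_eq_bot.1 (eq_bot_iff.2 ?_),
    index_normalCore_dvd _⟩
  rw [← hf, ← f]
  refine le_charKer_indFun _ (irr_isCharacter hψ) _ ((der_le _).trans (normalCore_le _))
    fun u hu => (mem_charKer_iff (irr_isCharacter hψ)).1 ((irr_one_eq_one_iff hψ).1 t ?_)
  have := der_mono (normalCore_le _) hu
  rw [← map_subtype_commutator] at this
  obtain ⟨v, hv, w⟩ := this
  exact (Subtype.ext w : v = u) ▸ hv

theorem exists_abel_of_two (hp : p.Prime) (h7 : 7 ≤ p) (hχ : IsIrrCharacter G χ)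
    (hf : charKer χ = ⊥) {z : G} {m : ℕ} (m0 : m ≠ 0) (mp : m < p) (zp : z ^ p = 1)
    (h : ∀ j : ℕ, χ (z ^ j) = p * exp (2 * Real.pi * I / p) ^ j + m) :
    ∃ K : Subgroup G, K.Normal ∧ Abel K ∧ K.index ∣ (p + m).factorial := by
  classical
  have := Fintype.ofFinite G
  have c := irr_isCharacter hχ
  have nr : ∀ x ∈ Group.conjugatesOfSet {z}, Near χ x := fun x hx => by
    obtain ⟨_, rfl, y, rfl⟩ : ∃ a, a = z ∧ ∃ y, y * a * y⁻¹ = x := by
      simpa [isConj_iff] using Group.mem_conjugatesOfSet_iff.1 hx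
    exact (near_of_two h7 h).conj (char_isClassFunction c) y
  let A := normalClosure {z}
  have := Fintype.ofFinite A
  have a : ∀ x y : A, x * y = y * x := (isMulCommutative_closure fun x hx y hy =>
    ((nr x hx).commute c hf (nr y hy)).eq).is_comm.comm
  let E := NormalEmb.sub A
  obtain ⟨l, hl, i⟩ := exists_irr_under A hχ
  obtain ⟨e, he⟩ := inner_char_eq_nat (char_restrict c A) (irr_isCharacter hl)
  have l1 := irr_one_eq_one_of_comm a hl
  have e1 : χ 1 = (p + m : ℕ) := by simpa using h 0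
  refine abel_of_mult_one hχ hf e1 hl l1 (he.trans ?_)
  have c1 := E.clifford_one hχ hl i
  have c2 := E.clifford hχ hl i
  rw [show classInner (fun x => χ (E.ι x)) l = e from he] at c1 c2
  rw [l1, mul_one, e1] at c1
  let w : A := ⟨z, subset_normalClosure rfl⟩
  have s : ∀ φ ∈ Finset.univ.image (E.cj l), ∑ j ∈ Finset.range p, φ (w ^ j) =
      if φ w = 1 then (p : ℂ) else 0 := fun φ hφ => by
    obtain ⟨g, -, rfl⟩ := Finset.mem_image.1 hφ
    obtain ⟨μ, hμ⟩ := exists_linear_of_one (irr_isCharacter (E.cj_irr hl g)) (by simpa using l1)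
    simp only [hμ, map_pow, Units.val_pow_eq_pow_val]
    split_ifs with o
    · simp [o]
    · rw [geom_sum_eq o, ← Units.val_pow_eq_pow_val, ← map_pow,
        show w ^ p = 1 from Subtype.ext zp]; simp
  have t : ∑ j ∈ Finset.range p, χ (z ^ j) =
      ∑ j ∈ Finset.range p, e * ∑ φ ∈ Finset.univ.image (E.cj l), φ (w ^ j) :=
    Finset.sum_congr rfl fun j _ => by simpa [E, w] using congrFun c2 (w ^ j)
  rw [← Finset.mul_sum, Finset.sum_comm, Finset.sum_congr rfl s, ← Finset.sum_filter] at t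
  simp only [h, Finset.sum_add_distrib, ← Finset.mul_sum,
    (isPrimitiveRoot_exp p hp.ne_zero).geom_sum_eq_zero hp.one_lt, Finset.sum_const,
    Finset.card_range, nsmul_eq_mul, mul_zero, zero_add] at t
  rw [mul_comm (p : ℂ), ← mul_assoc] at t
  have d1 : e ∣ m := ⟨_, by exact_mod_cast mul_right_cancel₀ (Nat.cast_ne_zero.2 hp.ne_zero) t⟩
  have d2 : e ∣ p + m := ⟨_, by exact_mod_cast c1⟩
  rcases hp.eq_one_or_self_of_dvd e ((Nat.dvd_add_left d1).1 d2) with r | r
  · simp [r]
  · exact absurd (Nat.le_of_dvd (Nat.pos_of_ne_zero m0) (r ▸ d1)) mp.not_ge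

end CF.Fgs2.Isa
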