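import Mathlib
import Cfsg.Prelude.Def_OddOrderLocal
import Cfsg.Agent.Coprime.PGroup
import Cfsg.Agent.Fgs1.PGroup

/-! Coordinates for metacyclic `p`-groups, `p` odd. -/

namespace CF.Fgs2

open Subgroup Finset
open scoped commutatorElement

/-- the geometric sum `1 + R + ... + R^(k-1)` -/
def gs {A : Type*} [CommRing A] (R : A) (k : ℕ) : A := ∑ i ∈ range k, R ^ i

theorem gs_zero {A : Type*} [CommRing A] (R : A) : gs R 0 = 0 := by simp [gs]

theorem gs_succ {A : Type*} [CommRing A] (R : A) (k : ℕ) : gs R (k + 1) = 1 + R * gs R k := by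
  rw [gs, geom_sum_succ, add_comm]; rfl

theorem gs_one {A : Type*} [CommRing A] (R : A) : gs R 1 = 1 := by simp [gs]

theorem gs_add {A : Type*} [CommRing A] (R : A) (k l : ℕ) :
    gs R (k + l) = gs R k + R ^ k * gs R l := by
  induction k with
  | zero => simp [gs_zero]
  | succ k ih => rw [show k + 1 + l = (k + l) + 1 by ring, gs_succ, ih, gs_succ]; ring

theorem gs_mul {A : Type*} [CommRing A] (R : A) (k l : ℕ) :
    gs R (k * l) = gs R k * gs (R ^ k) l := by
  induction l with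
  | zero => simp [gs_zero]
  | succ l ih =>
    rw [show k * (l + 1) = k + k * l by ring, gs_add, ih, gs_succ]; ring

theorem gs_mul_sub {A : Type*} [CommRing A] (R : A) (k : ℕ) : gs R k * (R - 1) = R ^ k - 1 :=
  geom_sum_mul R k

theorem gs_cast {A : Type*} [CommRing A] (R : ℤ) (k : ℕ) : ((gs R k : ℤ) : A) = gs (R : A) k := by
  simp [gs]

theorem sub_one_dvd_gs_sub (R : ℤ) (k : ℕ) : (R - 1) ∣ gs R k - k := by
  induction k with
  | zero => simp [gs_zero]
  | succ k ih =>
    rw [gs_succ]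
    have : 1 + R * gs R k - ((k + 1 : ℕ) : ℤ) = (R - 1) * gs R k + (gs R k - k) := by
      push_cast; ring
    rw [this]
    exact dvd_add (dvd_mul_right _ _) ih

theorem sq_dvd_gs_sub (R : ℤ) (k : ℕ) :
    (R - 1) ^ 2 ∣ gs R k - k - (k.choose 2 : ℕ) * (R - 1) := by
  induction k with
  | zero => simp [gs_zero]
  | succ k ih =>
    rw [gs_succ, Nat.choose_succ_succ, Nat.choose_one_right]
    obtain ⟨z, hz⟩ := sub_one_dvd_gs_sub R k
    have : 1 + R * gs R k - ((k + 1 : ℕ) : ℤ) - ((k + k.choose 2 : ℕ) : ℤ) * (R - 1) =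
        (R - 1) * (gs R k - k) + (gs R k - k - (k.choose 2 : ℕ) * (R - 1)) := by
      push_cast; ring
    rw [this]
    refine dvd_add ?_ ih
    rw [hz]
    exact ⟨z, by ring⟩

theorem dvd_gs_prime {p : ℕ} (hp : p.Prime) (h2 : p ≠ 2) {R : ℤ} (hR : (p : ℤ) ∣ R - 1) :
    (p : ℤ) * (R - 1) ∣ gs R p - p := by
  have h1 := sq_dvd_gs_sub R p
  have h3 : p ∣ p.choose 2 := hp.dvd_choose_self (by norm_num) (lt_of_le_of_ne hp.two_le (Ne.symm h2))
  have : gs R p - p = (gs R p - p - (p.choose 2 : ℕ) * (R - 1)) + (p.choose 2 : ℕ) * (R - 1) := by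
    ring
  rw [this]
  refine dvd_add (dvd_trans ?_ h1) (mul_dvd_mul_right (by exact_mod_cast h3) _)
  rw [sq]
  exact mul_dvd_mul_right hR _

theorem dvd_gs_prime_pow {p : ℕ} (hp : p.Prime) (h2 : p ≠ 2) {R : ℤ} (hR : (p : ℤ) ∣ R - 1)
    (e : ℕ) : (p : ℤ) ^ e * (R - 1) ∣ gs R (p ^ e) - p ^ e := by
  induction e with
  | zero => simp [gs_one]
  | succ e ih =>
    rw [pow_succ p e, gs_mul]
    have h1 : (R - 1) ∣ R ^ p ^ e - 1 := by simpa using sub_dvd_pow_sub_pow R 1 (p ^ e)
    obtain ⟨z, hz⟩ := ih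
    obtain ⟨w, hw⟩ := dvd_gs_prime hp h2 (hR.trans h1)
    obtain ⟨u, hu⟩ := h1
    rw [sub_eq_iff_eq_add] at hz hw
    rw [hz, hw, hu]
    exact ⟨z * (1 + (R - 1) * u * w) + u * w, by ring⟩

theorem pow_dvd_gs_iff {p : ℕ} (hp : p.Prime) (h2 : p ≠ 2) {R : ℤ} (hR : (p : ℤ) ∣ R - 1)
    (k s : ℕ) : (p : ℤ) ^ s ∣ gs R k ↔ p ^ s ∣ k := by
  rcases eq_or_ne k 0 with rfl | hk
  · simp [gs_zero]
  obtain ⟨e, k', hk', rfl⟩ := Nat.exists_eq_pow_mul_and_not_dvd hk p hp.ne_one
  have hpz : Prime (p : ℤ) := Nat.prime_iff_prime_int.1 hp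
  obtain ⟨z, hz⟩ := dvd_gs_prime_pow hp h2 hR e
  rw [sub_eq_iff_eq_add] at hz
  have h1 : (R - 1) ∣ R ^ p ^ e - 1 := by simpa using sub_dvd_pow_sub_pow R 1 (p ^ e)
  have h3 : ¬ (p : ℤ) ∣ gs (R ^ p ^ e) k' := by
    intro h
    have := dvd_sub h ((hR.trans h1).trans (sub_one_dvd_gs_sub _ k'))
    simp only [sub_sub_cancel] at this
    exact hk' (by exact_mod_cast this)
  have h4 : ¬ (p : ℤ) ∣ 1 + (R - 1) * z := by
    intro h
    have := dvd_sub h (hR.mul_right z)
    simp only [add_sub_cancel_right] at this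
    exact hpz.not_dvd_one this
  have h5 : ¬ (p : ℤ) ∣ (1 + (R - 1) * z) * gs (R ^ p ^ e) k' := fun h =>
    (hpz.dvd_or_dvd h).elim h4 h3
  rw [gs_mul, hz, show ((p : ℤ) ^ e * (R - 1) * z + p ^ e) * gs (R ^ p ^ e) k' =
    p ^ e * ((1 + (R - 1) * z) * gs (R ^ p ^ e) k') by ring]
  have hc1 : IsCoprime ((p : ℤ) ^ s) ((1 + (R - 1) * z) * gs (R ^ p ^ e) k') :=
    ((hpz.coprime_iff_not_dvd).2 h5).pow_left
  have hc2 : Nat.Coprime (p ^ s) k' := (hp.coprime_iff_not_dvd.2 hk').pow_left s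
  rw [hc2.dvd_mul_right]
  constructor
  · intro h
    exact_mod_cast hc1.dvd_of_dvd_mul_right h
  · intro h
    exact Dvd.dvd.mul_right (by exact_mod_cast h) _

theorem isUnit_cast_of_dvd {p : ℕ} (hp : p.Prime) {R : ℤ} (hR : (p : ℤ) ∣ R - 1) (n : ℕ) :
    IsUnit (R : ZMod (p ^ n)) := by
  have hpz : Prime (p : ℤ) := Nat.prime_iff_prime_int.1 hp
  have h1 : ¬ (p : ℤ) ∣ R := by
    intro h
    have := dvd_sub h hR
    simp only [sub_sub_cancel] at this
    exact hpz.not_dvd_one this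
  have hc : IsCoprime R ((p : ℤ) ^ n) := (((hpz.coprime_iff_not_dvd).2 h1).pow_left).symm
  obtain ⟨u, v, huv⟩ := hc
  have := congrArg (Int.cast : ℤ → ZMod (p ^ n)) huv
  push_cast at this
  have h0 : ((p : ZMod (p ^ n))) ^ n = 0 := by exact_mod_cast ZMod.natCast_self (p ^ n)
  rw [h0, mul_zero, add_zero] at this
  exact IsUnit.of_mul_eq_one_right _ this

theorem gs_surj {p : ℕ} (hp : p.Prime) (h2 : p ≠ 2) {R : ℤ} (hR : (p : ℤ) ∣ R - 1) (n : ℕ)
    (t : ZMod (p ^ n)) : ∃ k : ℕ, gs (R : ZMod (p ^ n)) k = t := by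
  haveI : NeZero (p ^ n) := ⟨pow_ne_zero _ hp.ne_zero⟩
  have key : ∀ k l : ℕ, k ≤ l → gs (R : ZMod (p ^ n)) k = gs (R : ZMod (p ^ n)) l →
      (k : ZMod (p ^ n)) = l := by
    intro k l hkl h
    obtain ⟨d, rfl⟩ := Nat.exists_eq_add_of_le hkl
    rw [gs_add, left_eq_add, ((isUnit_cast_of_dvd hp hR n).pow k).mul_right_eq_zero, ← gs_cast,
      ZMod.intCast_zmod_eq_zero_iff_dvd] at h
    push_cast at h
    rw [pow_dvd_gs_iff hp h2 hR] at h
    rw [Nat.cast_add, (ZMod.natCast_eq_zero_iff d _).2 h, add_zero]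
  have hinj : Function.Injective (fun t : ZMod (p ^ n) => gs (R : ZMod (p ^ n)) t.val) := by
    intro a b hab
    rcases le_total a.val b.val with h | h
    · simpa using key _ _ h hab
    · simpa using (key _ _ h hab.symm).symm
  obtain ⟨a, ha⟩ := (Finite.injective_iff_surjective.1 hinj) t
  exact ⟨_, ha⟩

/-! ### the determinant form on `(ZMod N)^2` -/

/-- determinant form -/
def om {A : Type*} [CommRing A] (u w : A × A) : A := w.1 * u.2 - u.1 * w.2

/-- orthogonal complement -/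
def perp {A : Type*} [CommRing A] (W : Submodule A (A × A)) : Submodule A (A × A) where
  carrier := {x | ∀ w ∈ W, om w x = 0}
  add_mem' := by
    intro a b ha hb w hw
    have h1 := ha w hw
    have h2 := hb w hw
    simp only [om, Prod.fst_add, Prod.snd_add] at *
    linear_combination h1 + h2
  zero_mem' := by intro w _; simp [om]
  smul_mem' := by
    intro c a ha w hw
    have h1 := ha w hw
    simp only [om, Prod.smul_fst, Prod.smul_snd, smul_eq_mul] at *
    linear_combination c * h1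

theorem mem_perp {A : Type*} [CommRing A] {W : Submodule A (A × A)} {x : A × A} :
    x ∈ perp W ↔ ∀ w ∈ W, om w x = 0 := Iff.rfl

theorem om_swap {A : Type*} [CommRing A] (u w : A × A) : om u w = - om w u := by
  simp [om]

theorem le_perp_perp {A : Type*} [CommRing A] (W : Submodule A (A × A)) : W ≤ perp (perp W) := by
  intro w hw x hx
  rw [om_swap, hx w hw, neg_zero]

theorem perp_anti {A : Type*} [CommRing A] {W U : Submodule A (A × A)} (h : W ≤ U) :
    perp U ≤ perp W := fun _ hx w hw => hx w (h hw)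

theorem card_addHom_zmod_le (B : Type*) [AddCommGroup B] [Finite B] (N : ℕ) [NeZero N] :
    Finite (B →+ ZMod N) ∧ Nat.card (B →+ ZMod N) ≤ Nat.card B := by
  have hfin : Finite (B →+ ZMod N) := Finite.of_injective _ DFunLike.coe_injective
  refine ⟨hfin, ?_⟩
  obtain ⟨ζ, hζ⟩ : ∃ ζ : ℂˣ, orderOf ζ = N := by
    have h := Complex.isPrimitiveRoot_exp N (NeZero.ne N)
    refine ⟨(h.isUnit (NeZero.ne N)).unit, ?_⟩
    rw [← orderOf_units]
    exact h.eq_orderOf.symm
  let e : Multiplicative (ZMod N) →* ℂˣ :=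
    { toFun := fun t => ζ ^ (t.toAdd.val)
      map_one' := by simp
      map_mul' := by
        intro a b
        rw [← pow_add, pow_eq_pow_iff_modEq, hζ, toAdd_mul, ZMod.val_add]
        exact Nat.mod_modEq _ _ }
  have he : Function.Injective e := by
    rw [injective_iff_map_eq_one]
    intro a ha
    have : N ∣ a.toAdd.val := hζ.symm.dvd.trans (orderOf_dvd_of_pow_eq_one ha)
    have h0 := Nat.eq_zero_of_dvd_of_lt this (ZMod.val_lt _)
    rw [ZMod.val_eq_zero] at h0
    exact h0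
  haveI : NeZero (Monoid.exponent (Multiplicative B) : ℂ) :=
    ⟨Nat.cast_ne_zero.2 Monoid.exponent_ne_zero_of_finite⟩
  have hc := CommGroup.card_monoidHom_of_hasEnoughRootsOfUnity (Multiplicative B) ℂ
  haveI : Finite (Multiplicative B →* ℂˣ) := Nat.finite_of_card_ne_zero (by
    rw [hc]; exact Nat.card_pos.ne')
  have : Nat.card (Multiplicative B) = Nat.card B := rfl
  rw [← this, ← hc]
  refine Nat.card_le_card_of_injective (fun f => e.comp (AddMonoidHom.toMultiplicative f)) ?_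
  intro f g hfg
  ext b
  have := DFunLike.congr_fun hfg (Multiplicative.ofAdd b)
  exact he this

theorem card_mul_card_perp {N : ℕ} [NeZero N] (W : Submodule (ZMod N) (ZMod N × ZMod N)) :
    Nat.card W * Nat.card (perp W) = N ^ 2 := by
  have hM : Nat.card (ZMod N × ZMod N) = N ^ 2 := by rw [Nat.card_prod, Nat.card_zmod, sq]
  have hq : Nat.card ((ZMod N × ZMod N) ⧸ perp W) * Nat.card (perp W) = N ^ 2 := by
    rw [← hM, mul_comm]
    exact (Submodule.card_eq_card_quotient_mul_card (perp W)).symm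
  rw [← hq]
  congr 1
  apply le_antisymm
  · obtain ⟨hf, hc⟩ := card_addHom_zmod_le ((ZMod N × ZMod N) ⧸ perp W) N
    refine le_trans ?_ hc
    let F : W → ((ZMod N × ZMod N) →ₗ[ZMod N] ZMod N) := fun w =>
      { toFun := fun x => om w x
        map_add' := by intro a b; simp [om]; ring
        map_smul' := by intro a b; simp [om]; ring }
    refine Nat.card_le_card_of_injective
      (fun w => ((perp W).liftQ (F w) (fun x hx => hx w w.2)).toAddMonoidHom) ?_
    intro w w' h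
    have h1 := DFunLike.congr_fun h ((perp W).mkQ (1, 0))
    have h2 := DFunLike.congr_fun h ((perp W).mkQ (0, 1))
    simp [F, om] at h1 h2
    exact Subtype.ext (Prod.ext h2 h1)
  · obtain ⟨hf, hc⟩ := card_addHom_zmod_le W N
    refine le_trans ?_ hc
    let F : (ZMod N × ZMod N) →ₗ[ZMod N] (W →ₗ[ZMod N] ZMod N) :=
      { toFun := fun x =>
          { toFun := fun w => om w x
            map_add' := by intro a b; simp [om]; ring
            map_smul' := by intro a b; simp [om]; ring }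
        map_add' := by intro a b; ext w; simp [om]; ring
        map_smul' := by intro a b; ext w; simp [om]; ring }
    have hk : perp W = LinearMap.ker F := by
      ext x
      simp only [mem_perp, LinearMap.mem_ker]
      constructor
      · intro h; ext w; exact h w w.2
      · intro h w hw; exact DFunLike.congr_fun h ⟨w, hw⟩
    refine Nat.card_le_card_of_injective
      (fun x => ((perp W).liftQ F hk.le x).toAddMonoidHom) ?_
    intro x y h
    have hinj : Function.Injective ((perp W).liftQ F hk.le) := by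
      rw [← LinearMap.ker_eq_bot]
      exact Submodule.ker_liftQ_eq_bot _ _ _ hk.ge
    exact hinj (LinearMap.toAddMonoidHom_injective h)

theorem perp_perp {N : ℕ} [NeZero N] (W : Submodule (ZMod N) (ZMod N × ZMod N)) :
    perp (perp W) = W := by
  have h1 := card_mul_card_perp W
  have h2 := card_mul_card_perp (perp W)
  have h3 : Nat.card (perp (perp W)) = Nat.card W := by
    rw [← h2, mul_comm] at h1
    exact (Nat.eq_of_mul_eq_mul_left Nat.card_pos h1).symm
  symm
  apply SetLike.coe_injective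
  refine Set.eq_of_subset_of_ncard_le (le_perp_perp W) ?_
  rw [← Nat.card_coe_set_eq, ← Nat.card_coe_set_eq]
  exact h3.le

theorem exists_eq_pow_mul {p : ℕ} (hp : p.Prime) {n s : ℕ} (hs : s ≤ n) {t : ZMod (p ^ n)}
    (h : (p : ZMod (p ^ n)) ^ (n - s) * t = 0) : ∃ u, t = (p : ZMod (p ^ n)) ^ s * u := by
  haveI : NeZero (p ^ n) := ⟨pow_ne_zero _ hp.ne_zero⟩
  have h1 : ((p ^ (n - s) * t.val : ℕ) : ZMod (p ^ n)) = 0 := by
    push_cast; simpa using h
  rw [ZMod.natCast_eq_zero_iff] at h1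
  have h2 : p ^ (n - s) * p ^ s ∣ p ^ (n - s) * t.val := by
    rwa [← pow_add, Nat.sub_add_cancel hs]
  obtain ⟨u, hu⟩ := Nat.dvd_of_mul_dvd_mul_left (pow_pos hp.pos _) h2
  refine ⟨u, ?_⟩
  rw [← ZMod.natCast_zmod_val t, hu]; push_cast; rfl

theorem pow_smul_eq_zero_iff {p : ℕ} (hp : p.Prime) {n s : ℕ} (hs : s ≤ n)
    (t : ZMod (p ^ n) × ZMod (p ^ n)) :
    (p : ZMod (p ^ n)) ^ (n - s) • t = 0 ↔ ∃ u, t = (p : ZMod (p ^ n)) ^ s • u := by
  constructor
  · intro h
    obtain ⟨u, hu⟩ := exists_eq_pow_mul hp hs (t := t.1) (congrArg Prod.fst h)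
    obtain ⟨v, hv⟩ := exists_eq_pow_mul hp hs (t := t.2) (congrArg Prod.snd h)
    exact ⟨(u, v), Prod.ext hu hv⟩
  · rintro ⟨u, rfl⟩
    rw [smul_smul, ← pow_add, Nat.sub_add_cancel hs]
    have h0 : ((p : ZMod (p ^ n))) ^ n = 0 := by exact_mod_cast ZMod.natCast_self (p ^ n)
    rw [h0, zero_smul]

theorem addOrderOf_le_iff {p : ℕ} (hp : p.Prime) {n : ℕ} {B : Type*} [AddCommGroup B]
    [Module (ZMod (p ^ n)) B] (t : B) (k : ℕ) :
    addOrderOf t ≤ p ^ k ↔ (p : ZMod (p ^ n)) ^ k • t = 0 := by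
  have h0 : addOrderOf t ∣ p ^ n := by
    rw [addOrderOf_dvd_iff_nsmul_eq_zero, ← Nat.cast_smul_eq_nsmul (ZMod (p ^ n)),
      ZMod.natCast_self, zero_smul]
  obtain ⟨i, -, hi⟩ := (Nat.dvd_prime_pow hp).1 h0
  rw [← Nat.cast_pow, Nat.cast_smul_eq_nsmul, ← addOrderOf_dvd_iff_nsmul_eq_zero, hi,
    Nat.pow_le_pow_iff_right hp.one_lt, Nat.pow_dvd_pow_iff_le_right hp.one_lt]

theorem exists_addOrderOf_eq {p : ℕ} (hp : p.Prime) {n : ℕ} {B : Type*} [AddCommGroup B]
    [Module (ZMod (p ^ n)) B] (t : B) : ∃ i ≤ n, addOrderOf t = p ^ i := by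
  have h0 : addOrderOf t ∣ p ^ n := by
    rw [addOrderOf_dvd_iff_nsmul_eq_zero, ← Nat.cast_smul_eq_nsmul (ZMod (p ^ n)),
      ZMod.natCast_self, zero_smul]
  exact (Nat.dvd_prime_pow hp).1 h0

theorem card_span_singleton {N : ℕ} [NeZero N] {B : Type*} [AddCommGroup B] [Module (ZMod N) B]
    (t : B) : Nat.card (Submodule.span (ZMod N) {t}) = addOrderOf t := by
  rw [← Nat.card_zmultiples]
  refine Nat.card_congr (Equiv.setCongr ?_)
  ext x
  simp only [SetLike.mem_coe, Submodule.mem_span_singleton, AddSubgroup.mem_zmultiples_iff]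
  constructor
  · rintro ⟨a, rfl⟩
    refine ⟨a.val, ?_⟩
    rw [natCast_zsmul, ← Nat.cast_smul_eq_nsmul (ZMod N), ZMod.natCast_zmod_val]
  · rintro ⟨a, rfl⟩
    exact ⟨a, Int.cast_smul_eq_zsmul _ _ _⟩

/-- small submodules are isotropic -/
theorem le_perp_of_card_le {p : ℕ} (hp : p.Prime) {n : ℕ}
    (W : Submodule (ZMod (p ^ n)) (ZMod (p ^ n) × ZMod (p ^ n))) (h : Nat.card W ≤ p ^ n) :
    W ≤ perp W := by
  haveI : NeZero (p ^ n) := ⟨pow_ne_zero _ hp.ne_zero⟩
  intro v hv u hu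
  by_contra hne
  obtain ⟨i, hi, ho⟩ := exists_addOrderOf_eq (n := n) hp u
  have h1 : (p : ZMod (p ^ n)) ^ (n - (n - i)) • u = 0 := by
    rw [← addOrderOf_le_iff hp, ho, Nat.sub_sub_self hi]
  obtain ⟨u0, hu0⟩ := (pow_smul_eq_zero_iff hp (Nat.sub_le n i) u).1 h1
  let g : W →ₗ[ZMod (p ^ n)] ZMod (p ^ n) :=
    { toFun := fun w => om u0 w
      map_add' := by intro a b; simp [om]; ring
      map_smul' := by intro a b; simp [om]; ring }
  have hc : Nat.card W = Nat.card (LinearMap.ker g) * Nat.card (LinearMap.range g) := by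
    rw [Submodule.card_eq_card_quotient_mul_card (LinearMap.ker g),
      Nat.card_congr g.quotKerEquivRange.toEquiv]
  have hk : p ^ i ≤ Nat.card (LinearMap.ker g) := by
    have : Submodule.span (ZMod (p ^ n)) {(⟨u, hu⟩ : W)} ≤ LinearMap.ker g := by
      rw [Submodule.span_singleton_le_iff_mem, LinearMap.mem_ker]
      change om u0 u = 0
      rw [hu0]; simp [om]; ring
    have h2 := Nat.card_le_card_of_injective _ (Submodule.inclusion_injective this)
    rw [card_span_singleton] at h2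
    rw [← ho]
    refine le_trans (le_of_eq ?_) h2
    exact addOrderOf_injective W.subtype.toAddMonoidHom W.injective_subtype ⟨u, hu⟩
  have hr : p ^ (n - i) < Nat.card (LinearMap.range g) := by
    have : Submodule.span (ZMod (p ^ n)) {om u0 v} ≤ LinearMap.range g := by
      rw [Submodule.span_singleton_le_iff_mem]
      exact ⟨⟨v, hv⟩, rfl⟩
    have h2 := Nat.card_le_card_of_injective _ (Submodule.inclusion_injective this)
    rw [card_span_singleton] at h2
    refine lt_of_lt_of_le ?_ h2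
    by_contra h3
    rw [not_lt, addOrderOf_le_iff (n := n) hp] at h3
    apply hne
    rw [← h3, hu0]; simp [om]; ring
  have : p ^ n < Nat.card W := by
    rw [hc]
    calc p ^ n = p ^ i * p ^ (n - i) := by rw [← pow_add, Nat.add_sub_cancel' hi]
      _ < p ^ i * Nat.card (LinearMap.range g) :=
        Nat.mul_lt_mul_of_pos_left hr (pow_pos hp.pos _)
      _ ≤ _ := Nat.mul_le_mul_right _ hk
  omega

theorem card_torsion {p : ℕ} (hp : p.Prime) {n i : ℕ} (hi : i ≤ n) :
    Nat.card {w : ZMod (p ^ n) × ZMod (p ^ n) // (p : ZMod (p ^ n)) ^ i • w = 0} = p ^ (2 * i) := by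
  haveI : NeZero (p ^ n) := ⟨pow_ne_zero _ hp.ne_zero⟩
  have h1 : Nat.card {w : ZMod (p ^ n) // (p : ZMod (p ^ n)) ^ i * w = 0} = p ^ i := by
    have : addOrderOf ((p : ZMod (p ^ n)) ^ (n - i)) = p ^ i := by
      rw [← Nat.cast_pow, ZMod.addOrderOf_coe _ (NeZero.ne _),
        Nat.gcd_eq_right (pow_dvd_pow _ (Nat.sub_le n i)), Nat.pow_div (Nat.sub_le n i) hp.pos,
        Nat.sub_sub_self hi]
    rw [← this, ← card_span_singleton (N := p ^ n)]
    refine Nat.card_congr (Equiv.subtypeEquivRight ?_)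
    intro x
    rw [Submodule.mem_span_singleton]
    constructor
    · intro h
      obtain ⟨u, hu⟩ := exists_eq_pow_mul hp (Nat.sub_le n i) (t := x)
        (by rwa [Nat.sub_sub_self hi])
      exact ⟨u, by rw [hu, smul_eq_mul, mul_comm]⟩
    · rintro ⟨u, rfl⟩
      have h0 : ((p : ZMod (p ^ n))) ^ n = 0 := by exact_mod_cast ZMod.natCast_self (p ^ n)
      rw [smul_eq_mul, mul_left_comm, ← pow_add, Nat.add_sub_cancel' hi, h0, mul_zero]
  rw [two_mul, pow_add, ← h1, ← Nat.card_prod]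
  refine Nat.card_congr ((Equiv.subtypeEquivRight ?_).trans (Equiv.subtypeProdEquivProd))
  intro x
  simp [Prod.ext_iff]

end CF.Fgs2
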