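import Mathlib
import Cfsg.Agent.Fgs2.Metacyc

/-! Coordinates for metacyclic `p`-groups, `p` odd (the group side). -/

namespace CF.Fgs2

open Subgroup
open scoped commutatorElement

/-- generators `a`, `b` of a metacyclic `p`-group -/
structure MGen (G : Type*) [Group G] (p : ℕ) where
  a : G
  b : G
  r : ℤ
  hr : (p : ℤ) ∣ r - 1
  conj : b * a = a ^ r * b
  gen : ∀ g : G, ∃ (i : ℤ) (j : ℕ), g = a ^ i * b ^ j

theorem nonempty_mgen {G : Type*} [Group G] [Finite G] {p : ℕ} [hp : Fact p.Prime]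
    (hG : IsPGroup p G) (hmc : Cfsg.IsMetacyclic G) : Nonempty (MGen G p) := by
  obtain ⟨N, hN, ⟨a, ha⟩, ⟨b, hb⟩⟩ := hmc
  obtain ⟨b, rfl⟩ := QuotientGroup.mk_surjective b
  have hgen : ∀ g : G, ∃ (i : ℤ) (j : ℕ), g = (a : G) ^ i * b ^ j := by
    intro g
    have h1 : (g : G ⧸ N) ∈ zpowers (b : G ⧸ N) := hb _
    rw [← mem_powers_iff_mem_zpowers] at h1
    obtain ⟨j, hj⟩ := h1
    have h2 : g * (b ^ j)⁻¹ ∈ N := by
      rw [← QuotientGroup.eq_one_iff, QuotientGroup.mk_mul, QuotientGroup.mk_inv,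
        QuotientGroup.mk_pow]
      simp only at hj
      rw [hj, mul_inv_cancel]
    obtain ⟨i, hi⟩ := ha ⟨_, h2⟩
    refine ⟨i, j, ?_⟩
    have := congrArg Subtype.val hi
    simp only [SubgroupClass.coe_zpow] at this
    rw [this]; group
  by_cases h1 : (a : G) = 1
  · exact ⟨⟨a, b, 1, by simp, by simp [h1], hgen⟩⟩
  obtain ⟨r, hr⟩ := ha ⟨_, hN.conj_mem _ a.2 b⟩
  have hr' : b * a = (a : G) ^ r * b := by
    have := congrArg Subtype.val hr
    simp only [SubgroupClass.coe_zpow] at this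
    rw [this]; group
  refine ⟨⟨a, b, r, ?_, hr', hgen⟩⟩
  have hz : ∀ i : ℤ, b * (a : G) ^ i = (a : G) ^ (i * r) * b := by
    intro i
    have : b * (a : G) ^ i * b⁻¹ = (b * a * b⁻¹) ^ i := by rw [conj_zpow]
    rw [hr', mul_inv_cancel_right, ← zpow_mul, mul_comm r i] at this
    rw [← this]; group
  have hj : ∀ j : ℕ, b ^ j * (a : G) = (a : G) ^ (r ^ j) * b ^ j := by
    intro j
    induction j with
    | zero => simp
    | succ j ih => rw [pow_succ', mul_assoc, ih, ← mul_assoc, hz, mul_assoc, ← pow_succ', ← pow_succ]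
  obtain ⟨f, hf⟩ := hG b
  have h2 := hj (p ^ f)
  rw [hf, one_mul, mul_one] at h2
  have h3 : (orderOf (a : G) : ℤ) ∣ r ^ p ^ f - 1 := by
    rw [orderOf_dvd_iff_zpow_eq_one, zpow_sub, ← h2]; simp
  obtain ⟨k, hk⟩ := (IsPGroup.iff_orderOf.1 hG) (a : G)
  have hk0 : k ≠ 0 := by
    rintro rfl
    exact h1 (orderOf_eq_one_iff.1 (by simpa using hk))
  have h4 : (p : ℤ) ∣ r ^ p ^ f - 1 := by
    refine dvd_trans ?_ h3
    rw [hk]; exact_mod_cast dvd_pow_self p hk0
  rw [← ZMod.intCast_zmod_eq_zero_iff_dvd] at h4 ⊢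
  push_cast at h4 ⊢
  rwa [ZMod.pow_card_pow] at h4

namespace MGen

variable {G : Type*} [Group G] {p : ℕ} (D : MGen G p)

theorem b_mul_zpow (i : ℤ) : D.b * D.a ^ i = D.a ^ (i * D.r) * D.b := by
  have : D.b * D.a ^ i * D.b⁻¹ = (D.b * D.a * D.b⁻¹) ^ i := by rw [conj_zpow]
  rw [D.conj, mul_inv_cancel_right, ← zpow_mul, mul_comm D.r i] at this
  rw [← this]; group

theorem pow_mul_zpow (j : ℕ) (i : ℤ) : D.b ^ j * D.a ^ i = D.a ^ (i * D.r ^ j) * D.b ^ j := by
  induction j with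
  | zero => simp
  | succ j ih =>
    rw [pow_succ', mul_assoc, ih, ← mul_assoc, b_mul_zpow, mul_assoc, ← pow_succ', mul_assoc,
      ← pow_succ]

theorem mul_eq (u : ℤ) (v : ℕ) (i : ℤ) (j : ℕ) :
    (D.a ^ u * D.b ^ v) * (D.a ^ i * D.b ^ j) = D.a ^ (u + i * D.r ^ v) * D.b ^ (v + j) := by
  rw [mul_assoc, ← mul_assoc (D.b ^ v), pow_mul_zpow, zpow_add, pow_add]; group

theorem pow_eq (u : ℤ) (v k : ℕ) :
    (D.a ^ u * D.b ^ v) ^ k = D.a ^ (u * gs (D.r ^ v) k) * D.b ^ (v * k) := by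
  induction k with
  | zero => simp [gs_zero]
  | succ k ih =>
    rw [pow_succ', ih, mul_eq, gs_succ]
    congr 2 <;> ring

/-- generator of the derived subgroup -/
def c : G := D.a ^ (D.r - 1)

theorem comm_eq (u : ℤ) (v : ℕ) (i : ℤ) (j : ℕ) :
    ⁅D.a ^ u * D.b ^ v, D.a ^ i * D.b ^ j⁆ = D.c ^ (i * gs D.r v - u * gs D.r j) := by
  rw [commutatorElement_def, mul_assoc, ← mul_inv_rev, mul_eq, mul_eq, add_comm j v, c,
    ← zpow_mul]
  have : (D.r - 1) * (i * gs D.r v - u * gs D.r j) = (u + i * D.r ^ v) - (i + u * D.r ^ j) := by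
    linear_combination i * gs_mul_sub D.r v - u * gs_mul_sub D.r j
  rw [this, zpow_sub]; group

theorem commutator_eq : _root_.commutator G = zpowers D.c := by
  apply le_antisymm
  · rw [commutator_def, commutator_le]
    intro x _ y _
    obtain ⟨u, v, rfl⟩ := D.gen x
    obtain ⟨i, j, rfl⟩ := D.gen y
    rw [comm_eq]; exact zpow_mem_zpowers _ _
  · rw [zpowers_le]
    have := D.comm_eq 0 1 1 0
    simp only [gs_one, gs_zero, mul_one, mul_zero, sub_zero, zpow_one] at this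
    rw [← this]
    exact commutator_mem_commutator (mem_top _) (mem_top _)

/-- chosen exponent of `a` -/
noncomputable def ea (g : G) : ℤ := (D.gen g).choose
/-- chosen exponent of `b` -/
noncomputable def eb (g : G) : ℕ := (D.gen g).choose_spec.choose

theorem eq_ea_eb (g : G) : g = D.a ^ D.ea g * D.b ^ D.eb g := (D.gen g).choose_spec.choose_spec

/-- the coordinate map -/
noncomputable def φ (n : ℕ) (g : G) : ZMod (p ^ n) × ZMod (p ^ n) :=
  (D.ea g, gs (D.r : ZMod (p ^ n)) (D.eb g))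

variable {n : ℕ} (hn : orderOf D.c = p ^ n)
include hn

theorem c_zpow_eq_iff (i j : ℤ) : D.c ^ i = D.c ^ j ↔ (i : ZMod (p ^ n)) = j := by
  rw [zpow_eq_zpow_iff_modEq, hn, ZMod.intCast_eq_intCast_iff]

theorem φ_eq (i : ℤ) (j : ℕ) :
    D.φ n (D.a ^ i * D.b ^ j) = ((i : ZMod (p ^ n)), gs (D.r : ZMod (p ^ n)) j) := by
  set g := D.a ^ i * D.b ^ j with hg
  have h1 := D.comm_eq 0 1 i j
  have h2 := D.comm_eq 0 1 (D.ea g) (D.eb g)
  have h3 := D.comm_eq i j 1 0
  have h4 := D.comm_eq (D.ea g) (D.eb g) 1 0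
  rw [← D.eq_ea_eb] at h2 h4
  rw [← hg, h2, D.c_zpow_eq_iff hn] at h1
  rw [← hg, h4, D.c_zpow_eq_iff hn] at h3
  simp only [gs_one, gs_zero, mul_one, mul_zero, sub_zero, zero_mul, one_mul, gs_cast] at h1 h3
  exact Prod.ext h1 h3

theorem φ_mul (x y : G) :
    D.φ n (x * y) = D.φ n x + ((D.r ^ D.eb x : ℤ) : ZMod (p ^ n)) • D.φ n y := by
  conv_lhs => rw [D.eq_ea_eb x, D.eq_ea_eb y, mul_eq, D.φ_eq hn]
  simp only [φ, gs_add]
  ext
  · simp; ring
  · simp

theorem φ_one : D.φ n 1 = 0 := by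
  have := D.φ_eq hn 0 0
  simp only [zpow_zero, pow_zero, mul_one, Int.cast_zero, gs_zero] at this
  exact this

theorem φ_pow (x : G) (k : ℕ) :
    D.φ n (x ^ k) = gs ((D.r ^ D.eb x : ℤ) : ZMod (p ^ n)) k • D.φ n x := by
  induction k with
  | zero => simp [gs_zero, D.φ_one hn]
  | succ k ih => rw [pow_succ', D.φ_mul hn, ih, gs_succ, add_smul, one_smul, smul_smul]

theorem commute_iff (x y : G) : Commute x y ↔ om (D.φ n x) (D.φ n y) = 0 := by
  rw [← commutatorElement_eq_one_iff_commute]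
  conv_lhs => rw [D.eq_ea_eb x, D.eq_ea_eb y, comm_eq, ← zpow_zero D.c, D.c_zpow_eq_iff hn]
  simp [om, φ, gs_cast]

omit hn in
theorem dvd_r_pow (j : ℕ) : (p : ℤ) ∣ D.r ^ j - 1 :=
  D.hr.trans (by simpa using sub_dvd_pow_sub_pow D.r 1 j)

theorem mem_center_iff (x : G) : x ∈ center G ↔ D.φ n x = 0 := by
  rw [Subgroup.mem_center_iff]
  constructor
  · intro h
    have h1 := (D.commute_iff hn _ _).1 (h (D.a ^ (1 : ℤ) * D.b ^ 0))
    have h2 := (D.commute_iff hn _ _).1 (h (D.a ^ (0 : ℤ) * D.b ^ 1))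
    rw [D.φ_eq hn] at h1 h2
    simp [om, gs_zero, gs_one] at h1 h2
    exact Prod.ext h2 h1
  · intro h g
    exact (D.commute_iff hn _ _).2 (by simp [h, om])

variable (hp : p.Prime) (h2 : p ≠ 2)
include hp

theorem φ_eq_iff (x y : G) : D.φ n x = D.φ n y ↔ x⁻¹ * y ∈ center G := by
  rw [D.mem_center_iff hn]
  have := D.φ_mul hn x (x⁻¹ * y)
  rw [mul_inv_cancel_left] at this
  rw [this, left_eq_add, (isUnit_cast_of_dvd hp (D.dvd_r_pow _) n).smul_eq_zero]

include h2

theorem exists_φ_pow (x : G) (t : ZMod (p ^ n)) : ∃ k : ℕ, D.φ n (x ^ k) = t • D.φ n x := by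
  obtain ⟨k, hk⟩ := gs_surj hp h2 (D.dvd_r_pow (D.eb x)) n t
  exact ⟨k, by rw [D.φ_pow hn, hk]⟩

theorem φ_surj : Function.Surjective (D.φ n) := by
  rintro ⟨u, w⟩
  obtain ⟨j, hj⟩ := gs_surj hp h2 D.hr n w
  obtain ⟨i, rfl⟩ := ZMod.intCast_surjective u
  exact ⟨_, by rw [D.φ_eq hn, hj]⟩

/-- image of a subgroup -/
def img (L : Subgroup G) : Submodule (ZMod (p ^ n)) (ZMod (p ^ n) × ZMod (p ^ n)) where
  carrier := D.φ n '' L
  add_mem' := by
    rintro _ _ ⟨x, hx, rfl⟩ ⟨y, hy, rfl⟩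
    obtain ⟨u, hu⟩ := (isUnit_cast_of_dvd hp (D.dvd_r_pow (D.eb x)) n).exists_right_inv
    obtain ⟨k, hk⟩ := D.exists_φ_pow hn hp h2 y u
    exact ⟨x * y ^ k, L.mul_mem hx (L.pow_mem hy k), by
      rw [D.φ_mul hn, hk, smul_smul, hu, one_smul]⟩
  zero_mem' := ⟨1, L.one_mem, D.φ_one hn⟩
  smul_mem' := by
    rintro t _ ⟨x, hx, rfl⟩
    obtain ⟨k, hk⟩ := D.exists_φ_pow hn hp h2 x t
    exact ⟨x ^ k, L.pow_mem hx k, hk⟩

omit h2 in
/-- preimage of a submodule -/
def pre (W : Submodule (ZMod (p ^ n)) (ZMod (p ^ n) × ZMod (p ^ n))) : Subgroup G where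
  carrier := D.φ n ⁻¹' W
  mul_mem' := by
    intro x y hx hy
    simp only [Set.mem_preimage, SetLike.mem_coe] at *
    rw [D.φ_mul hn]
    exact W.add_mem hx (W.smul_mem _ hy)
  one_mem' := by simp [D.φ_one hn]
  inv_mem' := by
    intro x hx
    simp only [Set.mem_preimage, SetLike.mem_coe] at *
    have h := D.φ_mul hn x x⁻¹
    rw [mul_inv_cancel, D.φ_one hn, eq_comm, add_eq_zero_iff_neg_eq] at h
    obtain ⟨u, hu⟩ := (isUnit_cast_of_dvd hp (D.dvd_r_pow (D.eb x)) n).exists_left_inv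
    have : D.φ n x⁻¹ = u • (- D.φ n x) := by rw [h, smul_smul, hu, one_smul]
    rw [this]
    exact W.smul_mem _ (W.neg_mem hx)

omit h2 in
theorem mem_pre {W : Submodule (ZMod (p ^ n)) (ZMod (p ^ n) × ZMod (p ^ n))} {x : G} :
    x ∈ D.pre hn hp W ↔ D.φ n x ∈ W := Iff.rfl

theorem mem_img {L : Subgroup G} {w : ZMod (p ^ n) × ZMod (p ^ n)} :
    w ∈ D.img hn hp h2 L ↔ ∃ x ∈ L, D.φ n x = w := Iff.rfl

theorem pre_img (L : Subgroup G) : D.pre hn hp (D.img hn hp h2 L) = L ⊔ center G := by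
  apply le_antisymm
  · intro x hx
    obtain ⟨y, hy, h⟩ := (D.mem_img hn hp h2).1 ((D.mem_pre hn hp).1 hx)
    rw [D.φ_eq_iff hn hp] at h
    have := (L ⊔ center G).mul_mem (mem_sup_left hy) (mem_sup_right h)
    simpa using this
  · refine sup_le (fun x hx => ⟨x, hx, rfl⟩) (fun x hx => ?_)
    rw [mem_pre, (D.mem_center_iff hn x).1 hx]
    exact Submodule.zero_mem _

theorem img_pre (W : Submodule (ZMod (p ^ n)) (ZMod (p ^ n) × ZMod (p ^ n))) :
    D.img hn hp h2 (D.pre hn hp W) = W := by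
  ext w
  rw [mem_img]
  constructor
  · rintro ⟨x, hx, rfl⟩; exact hx
  · intro hw
    obtain ⟨x, rfl⟩ := D.φ_surj hn hp h2 w
    exact ⟨x, hw, rfl⟩

theorem centralizer_eq (L : Subgroup G) :
    centralizer (L : Set G) = D.pre hn hp (perp (D.img hn hp h2 L)) := by
  ext x
  rw [mem_centralizer_iff, mem_pre, mem_perp]
  constructor
  · rintro h _ ⟨y, hy, rfl⟩
    exact (D.commute_iff hn _ _).1 (h y hy)
  · intro h y hy
    exact (D.commute_iff hn _ _).2 (h _ ⟨y, hy, rfl⟩)

theorem card_preimage [Finite G] (S : Set (ZMod (p ^ n) × ZMod (p ^ n))) :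
    Nat.card {g : G // D.φ n g ∈ S} = Nat.card (center G) * Nat.card S := by
  choose s hs using D.φ_surj hn hp h2
  rw [← Nat.card_prod]
  refine (Nat.card_congr (Equiv.ofBijective
    (fun x : center G × S => (⟨s x.2 * x.1, ?_⟩ : {g : G // D.φ n g ∈ S})) ⟨?_, ?_⟩)).symm
  · have : D.φ n (s x.2) = D.φ n (s x.2 * x.1) := by
      rw [D.φ_eq_iff hn hp]; simp
    rw [← this, hs]; exact x.2.2
  · rintro ⟨z, w⟩ ⟨z', w'⟩ h
    have h1 : s w * z = s w' * z' := congrArg Subtype.val h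
    have h3 : D.φ n (s w) = D.φ n (s w * z) := by rw [D.φ_eq_iff hn hp]; simp
    have h4 : D.φ n (s w') = D.φ n (s w' * z') := by rw [D.φ_eq_iff hn hp]; simp
    rw [h1, ← h4, hs, hs] at h3
    obtain rfl : w = w' := Subtype.ext h3
    obtain rfl : z = z' := Subtype.ext (mul_left_cancel h1)
    rfl
  · rintro ⟨g, hg⟩
    refine ⟨⟨⟨(s (D.φ n g))⁻¹ * g, ?_⟩, ⟨_, hg⟩⟩, ?_⟩
    · rw [← D.φ_eq_iff hn hp, hs]
    · simp

theorem card_pre [Finite G] (W : Submodule (ZMod (p ^ n)) (ZMod (p ^ n) × ZMod (p ^ n))) :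
    Nat.card (D.pre hn hp W) = Nat.card (center G) * Nat.card W :=
  D.card_preimage hn hp h2 W

theorem card_eq [Finite G] : Nat.card G = Nat.card (center G) * (p ^ n) ^ 2 := by
  have := D.card_preimage hn hp h2 Set.univ
  rw [Nat.card_univ, Nat.card_prod, Nat.card_zmod, ← sq] at this
  rw [← this]
  exact Nat.card_congr (Equiv.subtypeUnivEquiv (fun _ => Set.mem_univ _)).symm

theorem index_center [Finite G] : (center G).index = (p ^ n) ^ 2 := by
  have := (center G).card_mul_index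
  rw [D.card_eq hn hp h2] at this
  exact Nat.eq_of_mul_eq_mul_left Nat.card_pos this

omit hp h2 in
theorem card_commutator : Nat.card (_root_.commutator G) = p ^ n := by
  rw [D.commutator_eq, Nat.card_zpowers, hn]

theorem index_commutator [Finite G] :
    (_root_.commutator G).index = Nat.card (center G) * p ^ n := by
  have := (_root_.commutator G).card_mul_index
  rw [D.card_eq hn hp h2, D.card_commutator hn] at this
  refine Nat.eq_of_mul_eq_mul_left (pow_pos hp.pos n) ?_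
  rw [this]; ring

theorem card_mul_card_centralizer [Finite G] (L : Subgroup G) :
    Nat.card ↥(L ⊔ center G) * Nat.card (centralizer (L : Set G)) =
      (Nat.card (center G) * p ^ n) ^ 2 := by
  haveI : NeZero (p ^ n) := ⟨pow_ne_zero _ hp.ne_zero⟩
  rw [← D.pre_img hn hp h2, D.centralizer_eq hn hp h2, D.card_pre hn hp h2, D.card_pre hn hp h2,
    mul_pow, ← card_mul_card_perp (D.img hn hp h2 L)]
  ring

theorem centralizer_centralizer (L : Subgroup G) :
    centralizer (centralizer (L : Set G) : Set G) = L ⊔ center G := by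
  haveI : NeZero (p ^ n) := ⟨pow_ne_zero _ hp.ne_zero⟩
  rw [D.centralizer_eq hn hp h2 (centralizer (L : Set G)), D.centralizer_eq hn hp h2 L, img_pre,
    perp_perp, pre_img]

theorem index_centralizer [Finite G] (g : G) :
    (centralizer ({g} : Set G)).index = addOrderOf (D.φ n g) := by
  haveI : NeZero (p ^ n) := ⟨pow_ne_zero _ hp.ne_zero⟩
  have h1 : centralizer ({g} : Set G) = centralizer (zpowers g : Set G) := by
    rw [zpowers_eq_closure, centralizer_closure]
  have h3 : D.img hn hp h2 (zpowers g) = Submodule.span (ZMod (p ^ n)) {D.φ n g} := by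
    apply le_antisymm
    · rintro _ ⟨x, hx, rfl⟩
      rw [SetLike.mem_coe, ← mem_powers_iff_mem_zpowers] at hx
      obtain ⟨k, rfl⟩ := hx
      simp only
      rw [D.φ_pow hn]
      exact Submodule.smul_mem _ _ (Submodule.mem_span_singleton_self _)
    · rw [Submodule.span_singleton_le_iff_mem]
      exact ⟨g, mem_zpowers g, rfl⟩
  have h4 := (centralizer ({g} : Set G)).card_mul_index
  rw [D.card_eq hn hp h2, ← card_mul_card_perp (D.img hn hp h2 (zpowers g))] at h4
  conv at h4 => enter [1, 1]; rw [h1, D.centralizer_eq hn hp h2, D.card_pre hn hp h2]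
  rw [← card_span_singleton (N := p ^ n), ← h3]
  refine Nat.eq_of_mul_eq_mul_left (Nat.mul_pos (Nat.card_pos (α := center G))
    (Nat.card_pos (α := perp (D.img hn hp h2 (zpowers g))))) ?_
  rw [h4]; ring

theorem mem_agemo_iff {s : ℕ} (hs : s ≤ n) (g : G) :
    g ∈ closure {x : G | ∃ y : G, y ^ p ^ s = x} ↔ (p : ZMod (p ^ n)) ^ (n - s) • D.φ n g = 0 := by
  constructor
  · intro h
    have : closure {x : G | ∃ y : G, y ^ p ^ s = x} ≤
        D.pre hn hp (LinearMap.ker (LinearMap.lsmul _ _ ((p : ZMod (p ^ n)) ^ (n - s)))) := by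
      rw [closure_le]
      rintro _ ⟨y, rfl⟩
      rw [SetLike.mem_coe, mem_pre, LinearMap.mem_ker, LinearMap.lsmul_apply,
        pow_smul_eq_zero_iff hp hs, D.φ_pow hn, ← gs_cast]
      obtain ⟨u, hu⟩ := (pow_dvd_gs_iff hp h2 (D.dvd_r_pow (D.eb y)) (p ^ s) s).2 dvd_rfl
      refine ⟨(u : ZMod (p ^ n)) • D.φ n y, ?_⟩
      rw [hu, smul_smul]; push_cast; rfl
    exact this h
  · intro h
    obtain ⟨u, hu⟩ := (pow_smul_eq_zero_iff hp hs _).1 h
    have key : ∀ (i : ℤ) (t : ZMod (p ^ n)), (i : ZMod (p ^ n)) = (p : ZMod (p ^ n)) ^ s * t →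
        (p : ℤ) ^ s ∣ i := by
      intro i t ht
      obtain ⟨t, rfl⟩ := ZMod.intCast_surjective t
      have : ((i - p ^ s * t : ℤ) : ZMod (p ^ n)) = 0 := by push_cast; rw [ht, sub_self]
      rw [ZMod.intCast_zmod_eq_zero_iff_dvd] at this
      push_cast at this
      have := dvd_add ((pow_dvd_pow _ hs).trans this) (dvd_mul_right ((p : ℤ) ^ s) t)
      simpa using this
    obtain ⟨i, hi⟩ := key (D.ea g) u.1 (congrArg Prod.fst hu)
    obtain ⟨j, hj⟩ := (pow_dvd_gs_iff hp h2 D.hr (D.eb g) s).1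
      (key _ u.2 (by rw [gs_cast]; exact congrArg Prod.snd hu))
    rw [D.eq_ea_eb g, hi, hj]
    refine mul_mem (subset_closure ⟨D.a ^ i, ?_⟩) (subset_closure ⟨D.b ^ j, ?_⟩)
    · rw [← zpow_natCast, ← zpow_mul, mul_comm]; push_cast; rfl
    · rw [← pow_mul, mul_comm]

theorem agemo_eq_center : closure {x : G | ∃ y : G, y ^ p ^ n = x} = center G := by
  ext g
  rw [D.mem_agemo_iff hn hp h2 le_rfl, D.mem_center_iff hn]; simp

theorem center_le_of_not_comm [Finite G] (hG : IsPGroup p G) (L : Subgroup G)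
    (hL : ¬ IsMulCommutative L) :
    center G ≤ L ∧ Nat.card (center G) * p ^ n < Nat.card L ∧ centralizer (L : Set G) ≤ L := by
  haveI : NeZero (p ^ n) := ⟨pow_ne_zero _ hp.ne_zero⟩
  haveI := Fact.mk hp
  set W := D.img hn hp h2 L with hW
  have h1 : p ^ n < Nat.card W := by
    by_contra h
    have := le_perp_of_card_le hp W (not_lt.1 h)
    apply hL
    rw [← le_centralizer_iff_isMulCommutative, D.centralizer_eq hn hp h2]
    intro x hx
    exact this ⟨x, hx, rfl⟩
  have hK : Nat.card (center G) * p ^ n < Nat.card ↥(L ⊔ center G) := by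
    rw [← D.pre_img hn hp h2, D.card_pre hn hp h2]
    exact Nat.mul_lt_mul_of_pos_left h1 Nat.card_pos
  have hWp : Nat.card (perp W) < p ^ n := by
    have := card_mul_card_perp W
    by_contra h
    have h3 := Nat.mul_lt_mul_of_lt_of_le h1 (not_lt.1 h) Nat.card_pos
    rw [this, sq] at h3
    exact lt_irrefl _ h3
  have hn0 : n ≠ 0 := by
    rintro rfl
    have := Nat.card_pos (α := perp W)
    have h0 : p ^ 0 = 1 := pow_zero p
    omega
  -- `p^(n-1) M ≤ W`
  have h4 : ∀ w, (p : ZMod (p ^ n)) ^ (n - 1) • w ∈ W := by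
    intro w
    rw [← perp_perp W]
    intro x hx
    obtain ⟨i, hi, ho⟩ := exists_addOrderOf_eq (n := n) hp x
    have h5 : p ^ i ≤ Nat.card (perp W) := by
      have : Submodule.span (ZMod (p ^ n)) {x} ≤ perp W := by
        rwa [Submodule.span_singleton_le_iff_mem]
      have h6 := Nat.card_le_card_of_injective _ (Submodule.inclusion_injective this)
      rwa [card_span_singleton, ho] at h6
    have h6 : i < n := (Nat.pow_lt_pow_iff_right hp.one_lt).1 (lt_of_le_of_lt h5 hWp)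
    have h7 : (p : ZMod (p ^ n)) ^ (n - 1) • x = 0 := by
      rw [← addOrderOf_le_iff hp, ho]
      exact Nat.pow_le_pow_right hp.pos (by omega)
    have h8 := congrArg Prod.fst h7
    have h9 := congrArg Prod.snd h7
    simp only [om, Prod.smul_fst, Prod.smul_snd, smul_eq_mul, Prod.fst_zero, Prod.snd_zero] at *
    linear_combination w.1 * h9 - w.2 * h8
  have h5 : L = L ⊔ center G := by
    refine CF.Coprime.eq_of_sup_frattiniOf le_sup_left (sup_le_sup_left ?_ _)
    rw [← D.agemo_eq_center hn hp h2, closure_le]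
    rintro _ ⟨y, rfl⟩
    have h6 : y ^ p ^ (n - 1) ∈ L ⊔ center G := by
      rw [← D.pre_img hn hp h2, mem_pre]
      have := (D.mem_agemo_iff hn hp h2 (Nat.sub_le n 1) (y ^ p ^ (n - 1))).1
        (subset_closure ⟨y, rfl⟩)
      obtain ⟨u, hu⟩ := (pow_smul_eq_zero_iff hp (Nat.sub_le n 1) _).1 this
      rw [hu]; exact h4 u
    have := CF.Coprime.pow_mem_frattiniOf (hG.to_subgroup _) h6
    rw [← pow_mul, ← pow_succ, Nat.sub_add_cancel (Nat.pos_of_ne_zero hn0), D.agemo_eq_center hn hp h2] at *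
    exact this
  refine ⟨h5 ▸ le_sup_right, h5 ▸ hK, ?_⟩
  rw [D.centralizer_eq hn hp h2]
  conv_rhs => rw [h5, ← D.pre_img hn hp h2]
  intro x hx
  have := le_perp_of_card_le hp _ hWp.le hx
  rwa [perp_perp] at this

theorem card_le_of_comm [Finite G] (L : Subgroup G) (hL : IsMulCommutative L) :
    Nat.card ↥(L ⊔ center G) ≤ Nat.card (center G) * p ^ n := by
  have h1 := D.card_mul_card_centralizer hn hp h2 L
  have h3 : L ⊔ center G ≤ centralizer (L : Set G) :=
    sup_le (le_centralizer_iff_isMulCommutative.2 hL) (center_le_centralizer _)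
  have h4 := card_le_of_le h3
  by_contra h
  have := Nat.mul_lt_mul_of_lt_of_le (not_le.1 h) ((not_le.1 h).le.trans h4) Nat.card_pos
  rw [h1, sq] at this
  exact lt_irrefl _ this

theorem comm_iff [Finite G] (hG : IsPGroup p G) (L : Subgroup G) :
    IsMulCommutative L ↔ Nat.card L ≤ Nat.card (center G) * p ^ n := by
  constructor
  · intro h
    exact (card_le_of_le le_sup_left).trans (D.card_le_of_comm hn hp h2 L h)
  · intro h
    by_contra h'
    exact absurd (D.center_le_of_not_comm hn hp h2 hG L h').2.1 (not_lt.2 h)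

theorem maximal_comm_iff [Finite G] (hG : IsPGroup p G) (L : Subgroup G) :
    Maximal (fun K : Subgroup G => IsMulCommutative K) L ↔
      Nat.card L = Nat.card (center G) * p ^ n := by
  constructor
  · intro h
    have h1 : centralizer (L : Set G) ≤ L := by
      intro x hx
      have h3 : IsMulCommutative ↥(L ⊔ zpowers x) := by
        rw [← le_centralizer_iff_isMulCommutative]
        have hL := le_centralizer_iff_isMulCommutative.2 h.1
        have hx' : zpowers x ≤ centralizer (L : Set G) := zpowers_le.2 hx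
        refine sup_le (le_centralizer_iff.1 (sup_le hL hx'))
          (le_centralizer_iff.1 (sup_le (le_centralizer_iff.1 hx') ?_))
        exact le_centralizer_iff_isMulCommutative.2 inferInstance
      exact h.2 h3 le_sup_left (mem_sup_right (mem_zpowers x))
    have h3 : centralizer (L : Set G) = L :=
      le_antisymm h1 (le_centralizer_iff_isMulCommutative.2 h.1)
    have h4 := D.card_mul_card_centralizer hn hp h2 L
    rw [sup_eq_left.2 ((center_le_centralizer _).trans h1), h3, ← sq] at h4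
    exact Nat.pow_left_injective two_ne_zero h4
  · intro h
    refine ⟨(D.comm_iff hn hp h2 hG L).2 h.le, fun K hK hLK => ?_⟩
    exact (eq_of_le_of_card_ge hLK (h ▸ (D.comm_iff hn hp h2 hG K).1 hK)).ge

end MGen

theorem exists_mgen {G : Type*} [Group G] [Finite G] {p : ℕ} [hp : Fact p.Prime]
    (hG : IsPGroup p G) (hmc : Cfsg.IsMetacyclic G) :
    ∃ (D : MGen G p) (n : ℕ), orderOf D.c = p ^ n := by
  obtain ⟨D⟩ := nonempty_mgen hG hmc
  exact ⟨D, (IsPGroup.iff_orderOf.1 hG) D.c⟩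

theorem exists_mgen' {G : Type*} [Group G] [Finite G] {p : ℕ} [hp : Fact p.Prime]
    (hG : IsPGroup p G) (hmc : Cfsg.IsMetacyclic G) {n : ℕ}
    (hn : Nat.card (_root_.commutator G) = p ^ n) :
    ∃ (D : MGen G p), orderOf D.c = p ^ n := by
  obtain ⟨D⟩ := nonempty_mgen hG hmc
  exact ⟨D, by rw [← hn, D.commutator_eq, Nat.card_zpowers]⟩

end CF.Fgs2
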