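/-
Doubly transitive groups of degree `p ^ 2 + 1`, part 1: orbits, no lines of size `p + 1`,
two-point stabilizers have order prime to `p` when the point stabilizer is imprimitive.
-/
import Cfsg.Agent.BG.B10
set_option autoImplicit false
set_option linter.unusedSectionVars false

namespace CF.Fgs2.PSq
open Subgroup MulAction CF.BG
open scoped Pointwise

variable {G Ω : Type*} [Group G] [MulAction G Ω]

/-- the orbit of `c` under a subgroup -/
def orb (X : Subgroup G) (c : Ω) : Set Ω := {y | ∃ x ∈ X, x • c = y}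

theorem mem_orb {X : Subgroup G} {c y : Ω} : y ∈ orb X c ↔ ∃ x ∈ X, x • c = y := Iff.rfl

theorem orb_eq_orbit (X : Subgroup G) (c : Ω) : orb X c = orbit X c := by
  ext y
  exact ⟨fun ⟨x, hx, e⟩ => ⟨⟨x, hx⟩, e⟩, fun ⟨x, e⟩ => ⟨x, x.2, e⟩⟩

theorem ncard_orb (X : Subgroup G) (c : Ω) :
    (orb X c).ncard = (stabilizer G c).relIndex X := by
  rw [orb_eq_orbit, ← index_stabilizer]
  rfl

theorem self_mem_orb (X : Subgroup G) (c : Ω) : c ∈ orb X c := ⟨1, one_mem _, one_smul _ _⟩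

theorem smul_mem_orb {X : Subgroup G} {c y : Ω} {x : G} (hx : x ∈ X) (h : y ∈ orb X c) :
    x • y ∈ orb X c := by
  obtain ⟨z, hz, rfl⟩ := h
  exact ⟨x * z, mul_mem hx hz, mul_smul _ _ _⟩

theorem orb_symm {X : Subgroup G} {c y : Ω} (h : y ∈ orb X c) : c ∈ orb X y := by
  obtain ⟨z, hz, rfl⟩ := h
  exact ⟨z⁻¹, inv_mem hz, inv_smul_smul _ _⟩

theorem orb_trans {X : Subgroup G} {c y z : Ω} (h : y ∈ orb X c) (k : z ∈ orb X y) :
    z ∈ orb X c := by
  obtain ⟨x, hx, rfl⟩ := k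
  exact smul_mem_orb hx h

theorem orb_eq {X : Subgroup G} {c y : Ω} (h : y ∈ orb X c) : orb X y = orb X c :=
  Set.ext fun _ => ⟨orb_trans h, orb_trans (orb_symm h)⟩

theorem orb_mono {X Y : Subgroup G} (h : X ≤ Y) (c : Ω) : orb X c ⊆ orb Y c :=
  fun _ ⟨x, hx, e⟩ => ⟨x, h hx, e⟩

theorem norm_smul_orb {X : Subgroup G} {c y : Ω} {g : G} (hg : g ∈ 𝐍 X) (h : y ∈ orb X c) :
    g • y ∈ orb X (g • c) := by
  obtain ⟨x, hx, rfl⟩ := h
  exact ⟨g * x * g⁻¹, conj_mem_of_norm hg hx, by simp only [mul_smul, inv_smul_smul]⟩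

theorem cj_stab (g : G) (c : Ω) : cj g (stabilizer G c) = stabilizer G (g • c) := by
  ext x
  rw [mem_cj, mem_stabilizer_iff, mem_stabilizer_iff, mul_smul, mul_smul, inv_smul_eq_iff]

theorem ne_of_stab {a c : Ω} {h : G} (hh : h ∈ stabilizer G a) (hc : c ≠ a) : h • c ≠ a :=
  fun e => hc (smul_left_cancel h (e.trans (mem_stabilizer_iff.1 hh).symm))

theorem orb_subset {a c : Ω} {X : Subgroup G} (hX : X ≤ stabilizer G a) (hc : c ≠ a) :
    orb X c ⊆ {a}ᶜ := by
  rintro _ ⟨x, hx, rfl⟩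
  exact ne_of_stab (hX hx) hc

theorem norm_prime [Finite G] {H R : Subgroup G} (k : Nil R) (h : H ≤ R)
    (e : (H.relIndex R).Prime) : R ≤ 𝐍 H := by
  have h1 : H < R := lt_of_le_of_ne h fun e' => by
    rw [e', relIndex_self] at e; exact Nat.not_prime_one e
  have h2 := k.lt_inf_norm h1
  rcases Fgs1.eq_or_eq_of_relIndex_prime e h2.le inf_le_left with h3 | h3
  · exact absurd h3 h2.ne'
  · exact inf_eq_left.1 h3

/-- the standing hypotheses -/
structure Cfg (G Ω : Type*) [Group G] [MulAction G Ω] (p : ℕ) : Prop where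
  hp : p.Prime
  card : Nat.card Ω = p ^ 2 + 1
  two : ∀ x y x' y' : Ω, x ≠ y → x' ≠ y' → ∃ g : G, g • x = x' ∧ g • y = y'
  faith : ∀ g : G, (∀ x : Ω, g • x = x) → g = 1

namespace Cfg
variable [Finite G] [Finite Ω] {p : ℕ} (h : Cfg G Ω p) {a b c : Ω}
include h

theorem ncard_compl (a : Ω) : ({a}ᶜ : Set Ω).ncard = p ^ 2 := by
  have := Set.ncard_add_ncard_compl ({a} : Set Ω)
  rw [Set.ncard_singleton, h.card] at this
  omega

theorem trans (hb : b ≠ a) (hc : c ≠ a) : ∃ g ∈ stabilizer G a, g • b = c := by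
  obtain ⟨g, h1, h2⟩ := h.two a b a c hb.symm hc.symm
  exact ⟨g, h1, h2⟩

theorem orbH (hb : b ≠ a) : orb (stabilizer G a) b = {a}ᶜ :=
  (orb_subset le_rfl hb).antisymm fun _ hc => h.trans hb hc

theorem idxD (hb : b ≠ a) : (stabilizer G b).relIndex (stabilizer G a) = p ^ 2 := by
  rw [← ncard_orb, h.orbH hb, h.ncard_compl]

theorem exists_ne (a : Ω) : ∃ b, b ≠ a := by
  have : ({a}ᶜ : Set Ω).Nonempty := Set.nonempty_of_ncard_ne_zero (by
    rw [h.ncard_compl]; exact pow_ne_zero _ h.hp.ne_zero)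
  exact this

theorem exists_ne2 (a b : Ω) : ∃ c, c ≠ a ∧ c ≠ b := by
  by_contra hn
  push Not at hn
  have h1 : ({a}ᶜ : Set Ω) ⊆ {b} := fun c hc => hn c hc
  have h2 := Set.ncard_le_ncard h1
  rw [h.ncard_compl, Set.ncard_singleton] at h2
  have := h.hp.two_le
  nlinarith

theorem idxH (a : Ω) : (stabilizer G a).index = p ^ 2 + 1 := by
  rw [index_stabilizer, ← h.card, ← Set.ncard_univ]
  congr 1
  refine Set.eq_univ_of_forall fun c => ?_
  obtain ⟨b, hb⟩ := h.exists_ne a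
  obtain ⟨d, hd⟩ := h.exists_ne c
  obtain ⟨g, h1, -⟩ := h.two a b c d hb.symm hd.symm
  exact ⟨g, h1⟩

theorem cardH (hb : b ≠ a) :
    ♯(stabilizer G a) = ♯(stabilizer G a ⊓ stabilizer G b) * p ^ 2 := by
  rw [← h.idxD hb, inf_comm, card_inf_mul_relIndex]

theorem cardG (hb : b ≠ a) :
    Nat.card G = ♯(stabilizer G a ⊓ stabilizer G b) * p ^ 2 * (p ^ 2 + 1) := by
  rw [← h.cardH hb, ← h.idxH a, card_mul_index]

theorem eq_bot {X : Subgroup G} (hX : X ≤ stabilizer G a)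
    (k : ∀ c, c ≠ a → X ≤ stabilizer G c) : X = ⊥ :=
  eq_bot_of_forall fun x hx => h.faith x fun c => by
    by_cases e : c = a
    · exact e ▸ hX hx
    · exact k c e hx

/-- there is no "line" with `p + 1` points -/
theorem no_line {F : Set Ω} (hF : F.ncard = p + 1) (hb : b ≠ a) (aF : a ∈ F) (bF : b ∈ F)
    (hD : ∀ d ∈ stabilizer G a ⊓ stabilizer G b, ∀ x ∈ F, d • x ∈ F)
    (ht : ∀ y ∈ F, y ≠ a → ∃ g ∈ stabilizer G a, (∀ x ∈ F, g • x ∈ F) ∧ g • b = y)
    {n : G} (nF : ∀ x ∈ F, n • x ∈ F) (na : n • a ≠ a) : False := by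
  have mem : ∀ g : G, g ∈ stabilizer G F ↔ ∀ x ∈ F, g • x ∈ F := fun g => by
    rw [mem_stabilizer_set_iff_smul_set_subset (Set.toFinite F), Set.smul_set_subset_iff]
  set N := stabilizer G F
  have o1 : orb N a = F := by
    refine Set.Subset.antisymm ?_ fun y hy => ?_
    · rintro _ ⟨g, hg, rfl⟩
      exact (mem g).1 hg a aF
    · by_cases e : y = a
      · exact e ▸ self_mem_orb N _
      obtain ⟨g, -, g2, g3⟩ := ht y hy e
      obtain ⟨g', -, g2', g3'⟩ := ht _ (nF a aF) na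
      refine ⟨g * g'⁻¹ * n, mul_mem (mul_mem ((mem g).2 g2) (inv_mem ((mem g').2 g2')))
        ((mem n).2 nF), ?_⟩
      rw [mul_smul, mul_smul, ← g3', inv_smul_smul, g3]
  have o2 : orb (stabilizer G a ⊓ N) b = F \ {a} := by
    refine Set.Subset.antisymm ?_ fun y hy => ?_
    · rintro _ ⟨g, hg, rfl⟩
      exact ⟨(mem g).1 hg.2 b bF, ne_of_stab hg.1 hb⟩
    · obtain ⟨g, g1, g2, g3⟩ := ht y hy.1 hy.2
      exact ⟨g, ⟨g1, (mem g).2 g2⟩, g3⟩
  have c1 := card_inf_mul_relIndex (stabilizer G a) N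
  have c2 := card_inf_mul_relIndex (stabilizer G b) (stabilizer G a ⊓ N)
  rw [← ncard_orb, o1, hF] at c1
  rw [← ncard_orb, o2, Set.ncard_sdiff_singleton_of_mem aF, hF, Nat.add_sub_cancel] at c2
  have e : stabilizer G b ⊓ (stabilizer G a ⊓ N) = stabilizer G a ⊓ stabilizer G b := by
    refine le_antisymm (le_inf (inf_le_right.trans inf_le_left) inf_le_left) fun d hd => ?_
    exact ⟨hd.2, hd.1, (mem d).2 (hD d hd)⟩
  rw [e] at c2
  have d1 := card_subgroup_dvd_card N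
  rw [← c1, ← c2, h.cardG hb, mul_assoc, mul_assoc,
    Nat.mul_dvd_mul_iff_left (card_pos' _), pow_two, mul_assoc,
    Nat.mul_dvd_mul_iff_left h.hp.pos] at d1
  have d2 : p + 1 ∣ p * p + 1 :=
    (Nat.Coprime.dvd_mul_left (by simp)).1 d1
  have d3 : p + 1 ∣ 2 := by
    have : p * p + 1 + 2 * p = (p + 1) * (p + 1) := by ring
    have h3 : p + 1 ∣ 2 * p := (Nat.dvd_add_right d2).1 (this ▸ dvd_mul_right _ _)
    exact (Nat.Coprime.dvd_mul_right (by simp)).1 h3
  have := Nat.le_of_dvd two_pos d3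
  have := h.hp.two_le
  omega

theorem sylow_idx {P : Subgroup G} (hP : Syl p P (stabilizer G a)) (hb : b ≠ a) :
    (stabilizer G b).relIndex P = p ^ 2 := by
  apply le_antisymm
  · rw [← ncard_orb, ← h.ncard_compl a]
    exact Set.ncard_le_ncard (orb_subset hP.le hb)
  · have l : stabilizer G b ⊓ P ≤ stabilizer G a ⊓ stabilizer G b :=
      le_inf (inf_le_right.trans hP.le) inf_le_left
    have d : ♯(stabilizer G b ⊓ P) * p ^ 2 ∣ ♯P := by
      refine hP.dvd_card ?_ (PiNat.mul hP.pi.inf_right (piNat_pow_self h.hp 2))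
      rw [h.cardH hb]
      exact Nat.mul_dvd_mul_right (card_dvd l) _
    rw [← card_inf_mul_relIndex (stabilizer G b) P, Nat.mul_dvd_mul_iff_left (card_pos' _)] at d
    exact Nat.le_of_dvd (relIndex_pos _ _) d

theorem sylow_orb {P : Subgroup G} (hP : Syl p P (stabilizer G a)) (hb : b ≠ a) :
    orb P b = {a}ᶜ :=
  Set.eq_of_subset_of_ncard_le (orb_subset hP.le hb) (by
    rw [h.ncard_compl, ncard_orb, h.sylow_idx hP hb])

theorem sylow_trans {P : Subgroup G} (hP : Syl p P (stabilizer G a)) (hb : b ≠ a) (hc : c ≠ a) :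
    ∃ y ∈ P, y • b = c := by
  have : c ∈ orb P b := by rw [h.sylow_orb hP hb]; exact hc
  exact this

theorem sylow_D {P : Subgroup G} (hP : Syl p P (stabilizer G a)) (hb : b ≠ a) :
    Syl p (P ⊓ stabilizer G b) (stabilizer G a ⊓ stabilizer G b) := by
  refine ⟨inf_le_inf_right _ hP.le, hP.pi.inf_left, ?_⟩
  have c1 := card_mul_relIndex (inf_le_inf_right (stabilizer G b) hP.le)
  have c2 := card_mul_relIndex hP.le
  have c3 := card_inf_mul_relIndex (stabilizer G b) P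
  rw [h.sylow_idx hP hb, inf_comm] at c3
  rw [h.cardH hb, ← c1, ← c3, mul_right_comm] at c2
  have := Nat.eq_of_mul_eq_mul_left (card_pos' _)
    (Nat.eq_of_mul_eq_mul_right (pow_pos h.hp.pos 2) c2)
  exact this ▸ hP.idx

end Cfg

end CF.Fgs2.PSq
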