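/-
Normal subgroups of triply transitive groups, part 5: in the affine case three-point stabilizers
are trivial.
-/
import Cfsg.Agent.Fgs2.Sax4
import Cfsg.Agent.S0483
import Cfsg.Agent.FusB.Dq4
import Cfsg.Agent.Perm.BinL2a
import Cfsg.Agent.Char.ZStarCor
set_option autoImplicit false
set_option linter.unusedSectionVars false

namespace CF.Fgs2.Sax
open Subgroup MulAction CF.BG Equiv CF.Fgs2.PSq

variable {Ω : Type*} [Finite Ω] {G H K U V X Q : Subgroup (Perm Ω)} {α β γ a b c : Ω}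
  {g t u v : Perm Ω} {F : Set Ω}

theorem Root.cent (r : Root G H α U) (l : X ≤ G ⊓ St α) (hb : b ≠ α) (b1 : b ∈ Fix X) (hu : u ∈ U)
    (k : u b ∈ Fix X) : u ∈ 𝐂 X :=
  mem_cent.2 fun g hg =>
    mul_inv_eq_iff_eq_mul.1 (r.conj_eq hb (l hg).1 (l hg).2 (b1 g hg) hu hu (k g hg))

theorem Root.res (r : Root G H α U) (l : X ≤ G) (hα : α ∈ Fix X) :
    Root (res G (Fix X)) (res H (Fix X)) ⟨α, hα⟩ (res U (Fix X)) where
  le := res_mono r.le _
  fix := fun _ ⟨_, hu, e⟩ => Subtype.ext ((e _).trans (r.fix hu))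
  norm := (res_inf G ⟨α, hα⟩).le.trans (res_norm r.norm)
  abel := abel_of_forall fun σ ⟨u, hu, e⟩ τ ⟨v, hv, e'⟩ => Perm.ext fun x => Subtype.ext (by
    simpa [e, e'] using congrArg (· x.1) (r.abel.mul_comm hu hv))
  tr b c hb hc := by
    have hb : b.1 ≠ α := fun e => hb (Subtype.ext e)
    obtain ⟨u, hu, e⟩ := r.tr b c hb fun e => hc (Subtype.ext e)
    obtain ⟨σ, hσ, e'⟩ := exists_res hu (norm_Fix (cent_le_norm X
      (r.cent (le_inf l hα) hb b.2 hu (e ▸ c.2))))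
    exact ⟨σ, hσ, Subtype.ext ((e' b).trans e)⟩

theorem S3_eq (T : T3 G) (n : G ≤ 𝐍 H) (k : D3 α β γ) {a b c : Fix (H ⊓ St α ⊓ St β ⊓ St γ)}
    (k' : D3 a b c) : H ⊓ St α ⊓ St β ⊓ St γ = H ⊓ St a.1 ⊓ St b.1 ⊓ St c.1 :=
  eq_of_card_eq (fun g hg => ⟨⟨⟨hg.1.1.1, a.2 g hg⟩, b.2 g hg⟩, c.2 g hg⟩)
    (card_S3 T n k (d3_val.1 k'))

theorem t3_res_S3 (T : T3 G) (n : G ≤ 𝐍 H) (k : D3 α β γ) :
    T3 (res G (Fix (H ⊓ St α ⊓ St β ⊓ St γ))) := fun a b c x y z h1 h2 => by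
  obtain ⟨g, hg, e1, e2, e3⟩ := T a b c x y z (d3_val.1 h1) (d3_val.1 h2)
  obtain ⟨σ, hσ, e⟩ := exists_res hg (norm_Fix (X := H ⊓ St α ⊓ St β ⊓ St γ) (cj_eq_self.1 (by
    conv_lhs => rw [S3_eq T n k h1, cj_S3 (n hg), e1, e2, e3, ← S3_eq T n k h2])))
  exact ⟨σ, hσ, Subtype.ext ((e a).trans e1), Subtype.ext ((e b).trans e2),
    Subtype.ext ((e c).trans e3)⟩

theorem sharp_res_S3 (T : T3 G) (n : G ≤ 𝐍 H) (k : D3 α β γ) :
    Sharp (res H (Fix (H ⊓ St α ⊓ St β ⊓ St γ))) := by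
  rintro σ ⟨g, hg, e⟩ a b c h e1 e2 e3
  have : g ∈ H ⊓ St α ⊓ St β ⊓ St γ := S3_eq T n k h ▸ ⟨⟨⟨hg, (e a).symm.trans
    (congrArg Subtype.val e1)⟩, (e b).symm.trans (congrArg Subtype.val e2)⟩,
    (e c).symm.trans (congrArg Subtype.val e3)⟩
  exact Perm.ext fun x => Subtype.ext ((e x).trans (x.2 g this))

theorem inf_Fx_S3 (H : Subgroup (Perm Ω)) (α β γ : Ω) :
    H ⊓ Fx (Fix (H ⊓ St α ⊓ St β ⊓ St γ)) = H ⊓ St α ⊓ St β ⊓ St γ :=
  le_antisymm (fun _ hg => ⟨⟨⟨hg.1, mem_Fx.1 hg.2 α fun _ k => k.1.1.2⟩,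
    mem_Fx.1 hg.2 β fun _ k => k.1.2⟩, mem_Fx.1 hg.2 γ fun _ k => k.2⟩)
    (le_inf (fun _ k => k.1.1.1) le_Fx)

theorem card_pow_of {Γ : Type*} [Group Γ] [Finite Γ] {U : Subgroup Γ} {p : ℕ} (hp : p.Prime)
    (e : ∀ u ∈ U, u ^ p = 1) : ∃ f, ♯U = p ^ f :=
  (piGrp_of_forall_elt fun u hu => piElt_of_pow_eq_one hp (e u hu)).card_pow

theorem res_pow {p : ℕ} (e : ∀ u ∈ U, u ^ p = 1) : ∀ σ ∈ res U F, σ ^ p = 1 := fun σ hσ => by
  obtain ⟨g, hg⟩ := rh_surj ⟨σ, hσ⟩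
  have : (⟨σ, hσ⟩ : res U F) ^ p = 1 := by
    rw [← hg, ← map_pow, show g ^ p = 1 from Subtype.ext (e g g.2.1), map_one]
  exact congrArg Subtype.val this

theorem mod3_of {p f : ℕ} (h : 3 ∣ p ^ f + 1) : p % 3 = 2 ∧ Odd f := by
  have h : p ^ f % 3 = 2 := by omega
  rw [Nat.pow_mod] at h
  rcases (by omega : p % 3 = 0 ∨ p % 3 = 1 ∨ p % 3 = 2) with e | e | e <;> rw [e] at h
  · rcases f with _ | f <;> simp at h
  · simp at h
  · refine ⟨e, Nat.not_even_iff_odd.1 ?_⟩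
    rintro ⟨k, rfl⟩
    rw [← two_mul, pow_mul, Nat.pow_mod] at h
    simp at h

theorem mod4_of {p f : ℕ} (o : Odd p) (e : Even f) : p ^ f % 4 = 1 := by
  obtain ⟨k, rfl⟩ := e
  obtain ⟨j, rfl⟩ := o
  rw [← two_mul, pow_mul, Nat.pow_mod, show (2 * j + 1) ^ 2 = 4 * (j * j + j) + 1 by ring]
  simp [Nat.add_mod]

theorem not_pp {p f : ℕ} (o : Odd p) (h3 : p % 3 = 2) (l : 2 ≤ p ^ f) (r k : ℕ) (hr : r.Prime) :
    p ^ f + 1 ≠ r ^ k := fun e => by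
  have r2 : r = 2 := ((Nat.prime_dvd_prime_iff_eq Nat.prime_two hr).1
    (Nat.prime_two.dvd_of_dvd_pow (e ▸ (o.pow (n := f)).add_one.two_dvd))).symm
  subst r2
  rcases Nat.even_or_odd f with h | ⟨j, rfl⟩
  · have := mod4_of o h
    rcases k with _ | _ | k
    · omega
    · omega
    · rw [pow_succ 2, pow_succ 2] at e; omega
  · have : p ^ (2 * j + 1) % 3 = 2 := by
      rw [pow_succ, pow_mul, Nat.mul_mod, Nat.pow_mod, Nat.pow_mod p, h3]; simp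
    exact absurd (Nat.prime_three.dvd_of_dvd_pow (n := k) (m := 2) (by omega)) (by decide)

/-- point stabilizers of `H` have odd order -/
def O2 (H : Subgroup (Perm Ω)) : Prop := ∀ a : Ω, Odd (♯(H ⊓ St a))

theorem O2.res (h : O2 H) : O2 (res H F) := fun a =>
  (h a).of_dvd_nat (res_inf H a ▸ (dvd_mul_left _ _).trans (res_dvd _ F))

theorem O2.inv (h : O2 H) : Inv H α β U := fun t ht t2 t1 =>
  (t1 (eq_one_of_odd (h α) ht.1 t2)).elim

theorem dihedral_of {Γ Y : Type*} [Group Γ] [Finite Γ] [Group Y] [Finite Y] {N H : Subgroup Γ}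
    (l : N ≤ H) (i : ¬ 2 ∣ N.relIndex H) (φ : N →* Y) (s : Function.Surjective φ)
    (o : Odd (♯φ.ker)) : ∃ (S : Sylow 2 H) (T : Sylow 2 Y), Nonempty (S ≃* T) := by
  obtain ⟨P⟩ : Nonempty (Sylow 2 N) := inferInstance
  obtain ⟨S, e⟩ := ((syl_sylow P).trans_idx l
    ((piNat_compl_single Nat.prime_two).2 i)).exists_sylow
  refine ⟨S, P.mapSurjective s, ⟨(((S : Subgroup H).equivMapOfInjective _ H.subtype_injective).trans
    ((MulEquiv.subgroupCongr e).trans ((P : Subgroup N).equivMapOfInjective _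
    N.subtype_injective).symm)).trans (MulEquiv.ofBijective (φ.subgroupMap P) ⟨?_,
    φ.subgroupMap_surjective _⟩)⟩⟩
  refine (injective_iff_map_eq_one _).2 fun x hx => Subtype.ext (eq_one_of_mem_bot
    ((syl_sylow_top P).pi.inf_eq_bot ((piNat_compl_single Nat.prime_two).2 o.not_two_dvd_nat))
    ⟨x.2, congrArg Subtype.val hx⟩)

theorem arith {q q0 A m m0 e x i d s Q : ℕ} (h1 : q ^ 2 = A * m + 1) (h2 : q0 ^ 2 = A * m0 + 1)
    (A0 : A ≠ 0) (hq : q = 2 * Q * s + 1) (om : Odd m) (od : Odd d) {ε : ℕ} (he : q0 = ε * e + 1)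
    (h : (q + 1) * (q * (Q * d)) = x * ((q0 + 1) * (q0 * e)) * i) (hε : ε = 1 ∨ ε = 2) :
    ε = 2 ∧ Odd i := by
  have oq : Odd q := ⟨Q * s, by rw [hq]; ring⟩
  have k : A * (ε * (m * q * d)) = A * (2 * (x * q0 * i * s * m0)) := by
    have e1 : (q + 1) * (2 * Q * s) = A * m := by
      have : (q + 1) * (2 * Q * s) + 1 = q ^ 2 := by rw [hq]; ring
      omega
    have e2 : (q0 + 1) * (ε * e) = A * m0 := by
      have : (q0 + 1) * (ε * e) + 1 = q0 ^ 2 := by rw [he]; ring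
      omega
    calc A * (ε * (m * q * d)) = ε * (A * m) * q * d := by ring
      _ = 2 * s * ε * ((q + 1) * (q * (Q * d))) := by rw [← e1]; ring
      _ = 2 * s * x * q0 * i * ((q0 + 1) * (ε * e)) := by rw [h]; ring
      _ = _ := by rw [e2]; ring
  have k := Nat.eq_of_mul_eq_mul_left (Nat.pos_of_ne_zero A0) k
  have o : Odd (m * q * d) := (om.mul oq).mul od
  rcases hε with rfl | rfl
  · exact (o.not_two_dvd_nat ⟨_, (one_mul _).symm.trans k⟩).elim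
  · rw [show m * q * d = x * q0 * i * s * m0 by omega] at o
    exact ⟨rfl, o.of_dvd_nat ⟨x * q0 * s * m0, by ring⟩⟩

theorem S3_bot [hs : IsSimpleGroup H] (na : ¬ Abel H) (T : T3 G) (n : H ⊴ G) (h1 : T1 H)
    (r : Root G H α U) (s : Root G H β V) {p : ℕ} (hp : p.Prime) (e : ∀ u ∈ U, u ^ p = 1)
    (ev : Even (Nat.card Ω)) (h3 : 3 ∣ Nat.card Ω) (hyp : N3 H ∨ O2 H) (k : D3 α β γ) :
    H ⊓ St α ⊓ St β ⊓ St γ = ⊥ := by
  by_contra X0
  have h := k.1.symm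
  have i : Inv H α β U := hyp.elim (fun n3 => inv_of_n3 T n.le n3 ev h3 r s h) O2.inv
  have oX := i.odd r ev k
  have T' := t3_res_S3 T n.norm k
  have sh := sharp_res_S3 T n.norm k
  have cN := card_SS H (Fix (H ⊓ St α ⊓ St β ⊓ St γ))
  have cK := card_map (H := (rh H (Fix (H ⊓ St α ⊓ St β ⊓ St γ))).ker) (subtype_injective _)
  rw [map_ker_rh] at cK
  rw [inf_Fx_S3] at cN cK
  have lX : H ⊓ St α ⊓ St β ⊓ St γ ≤ H := fun _ k => k.1.1.1
  have hα : α ∈ Fix (H ⊓ St α ⊓ St β ⊓ St γ) := fun _ k => k.1.1.2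
  have hβ : β ∈ Fix (H ⊓ St α ⊓ St β ⊓ St γ) := fun _ k => k.1.2
  have hγ : γ ∈ Fix (H ⊓ St α ⊓ St β ⊓ St γ) := fun _ k => k.2
  generalize H ⊓ St α ⊓ St β ⊓ St γ = X at *
  have r' := r.res (lX.trans n.le) hα
  have h' : (⟨β, hβ⟩ : Fix X) ≠ ⟨α, hα⟩ := fun e => h (congrArg Subtype.val e)
  -- the elements `u`, `v`
  obtain ⟨u, hu, eu⟩ := r.tr β γ h k.2.1.symm
  obtain ⟨v, hv, ev'⟩ := s.tr α γ h.symm k.2.2.symm
  have cu := r.cent (le_inf (lX.trans n.le) hα) h hβ hu (eu ▸ hγ)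
  have cv := s.cent (le_inf (lX.trans n.le) hβ) h.symm hα hv (ev' ▸ hγ)
  -- numbers
  obtain ⟨f, cU⟩ := card_pow_of hp e
  obtain ⟨f0, cU'⟩ := card_pow_of hp (res_pow (F := Fix X) e)
  have c1 := r.card h
  have c2 := r'.card h'
  have op : Odd p := by
    have := r.odd h ev
    obtain ⟨-, o⟩ := mod3_of (p := p) (f := f) (by rwa [← cU, c1])
    rwa [cU, Nat.odd_pow_iff o.pos.ne'] at this
  obtain ⟨p3, of⟩ := mod3_of (p := p) (f := f) (by rwa [← cU, c1])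
  have n3 : 3 ≤ Nat.card (Fix X) := by
    have := Set.ncard_le_ncard (show {α, β, γ} ⊆ Fix X by rintro _ (rfl | rfl | rfl) <;> assumption)
    rwa [Set.ncard_eq_three.2 ⟨α, β, γ, k.1, k.2.1, k.2.2, rfl⟩] at this
  have t1 := (T'.t2 n3).t1_of_normal (res_norm n.norm)
    (ne_bot_mono (one_lt_card.1 (by omega)) r'.le)
  have t2 := r'.t2 t1
  obtain ⟨z1, z2⟩ := zass_main t2 sh (r'.mono (res_mono n.le _)) h'.symm
    (by rw [← c2, cU']; exact not_pp op p3 (by omega))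
  have cH' := t1.card ⟨α, hα⟩
  rw [t2.card h'.symm] at cH'
  have cH := h1.card α
  rw [(r.t2 h1).card h.symm] at cH
  obtain ⟨ε, hε⟩ := sh.dvd h'.symm
  have t3 := fun t : T3 (res H (Fix X)) => t.card (a := ⟨α, hα⟩) (b := ⟨β, hβ⟩) (c := ⟨γ, hγ⟩)
    (d3_val.2 k)
  have oe : O2 H → Odd (♯(res H (Fix X) ⊓ St ⟨α, hα⟩ ⊓ St ⟨β, hβ⟩)) := fun o =>
    (o.res _).of_dvd_nat (card_dvd inf_le_left)
  have e0p := card_pos' (res H (Fix X) ⊓ St ⟨α, hα⟩ ⊓ St ⟨β, hβ⟩)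
  generalize ♯(res H (Fix X) ⊓ St ⟨α, hα⟩ ⊓ St ⟨β, hβ⟩) = e0 at *
  have hε' : ε = 1 ∨ ε = 2 := by
    rw [hε, mul_comm] at z1
    have := Nat.le_of_mul_le_mul_right z1 e0p
    rcases ε with _ | _ | _ | _ <;> omega
  have four : ∀ {K : Type} [Field K] [Fintype K], ringChar K ≠ 2 →
      ∀ S : Sylow 2 (Matrix.ProjectiveSpecialLinearGroup (Fin 2) K),
      ∃ m, Nonempty (S ≃* DihedralGroup (2 ^ (m + 1))) := fun h S =>
    CF.FusB.sylow_PSL2 (Ring.two_ne_zero h) S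
  have of0 : Odd f0 := by
    rcases hyp with n3 | o
    · refine (mod3_of (p := p) ?_).2
      rw [← cU', c2]
      have e2 := special T ev r s h hu hv (eu.trans ev'.symm)
      exact n3.dvd (g := v⁻¹ * u) (mul_mem (inv_mem (s.le hv)) (r.le hu))
        (three_dvd_order (a := α) (b := u⁻¹ β) (c := β) ⟨(r.ne (inv_mem hu) h).symm, h.symm,
          fun k' => k.2.2 ((Perm.inv_eq_iff_eq.1 k').trans eu)⟩
        (by rw [Perm.mul_apply, mem_St.1 (r.fix hu), e2])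
        (by simpa using mem_St.1 (s.fix (inv_mem hv))) (by simp [eu, ← ev']))
        (norm_Fix (cent_le_norm X (mul_mem (inv_mem cv) cu)))
    · have oe := oe o
      have oq : Odd (p ^ f0) := op.pow
      rcases z2 with t | ⟨K, _, _, hK, ⟨ψ⟩⟩
      · exact (oe.not_two_dvd_nat (t3 t ▸ Dvd.dvd.mul_right (by obtain ⟨j, _⟩ := oq; omega) _)).elim
      obtain ⟨S⟩ : Nonempty (Sylow 2 (Matrix.ProjectiveSpecialLinearGroup (Fin 2) K)) := inferInstance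
      obtain ⟨m, ⟨ψ'⟩⟩ := four hK S
      have d := card_subgroup_dvd_card S.toSubgroup
      rw [Nat.card_congr ψ'.toEquiv, DihedralGroup.nat_card, ← Nat.card_congr ψ.toEquiv, cH', ← c2,
        Nat.add_sub_cancel, cU'] at d
      have d : 4 ∣ p ^ f0 + 1 := (Nat.Coprime.pow_left 2 (oq.mul oe).coprime_two_left).dvd_of_dvd_mul_right
        (Dvd.dvd.trans ⟨2 ^ m, by ring⟩ d)
      refine Nat.not_even_iff_odd.1 fun k => ?_
      have := mod4_of op k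
      omega
  obtain ⟨Q, hQ⟩ := exists_syl 2 (H ⊓ St α ⊓ St β)
  obtain ⟨s', hs'⟩ := i.two_card_dvd na n.le r h ev hp e cU of hQ.le hQ.pi
  obtain ⟨A, hA⟩ : ∃ A, p ^ 2 = A + 1 := ⟨p ^ 2 - 1, by have := pow_pos hp.pos 2; omega⟩
  obtain ⟨m, om, hm⟩ := odd_pow_sq op hA of
  obtain ⟨m0, om0, hm0⟩ := odd_pow_sq op hA of0
  have lN : SS H (Fix X) ≤ H := SS_le
  obtain ⟨rfl, oi⟩ := arith (i := (SS H (Fix X)).relIndex H) (x := ♯X) (e := e0) (s := s') (Q := ♯Q)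
    hm hm0 (by have := hp.two_le; nlinarith) (by have := pow_pos hp.pos f; omega) om
    (Nat.not_even_iff_odd.1 (mt Even.two_dvd (hQ.not_dvd Nat.prime_two)))
    (ε := ε) (by rw [mul_comm]; omega) (by
      rw [hQ.card_mul, ← cU, ← cU', c1, c2, show ♯U = Nat.card Ω - 1 by omega,
        show ♯(res U (Fix X)) = Nat.card (Fix X) - 1 by omega, ← cH, ← cH', ← cN,
        card_mul_relIndex lN]) hε'
  rcases z2 with t | ⟨K, _, _, hK, ⟨ψ⟩⟩
  · have := t3 t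
    rw [hε] at this
    have := card_pos' (res H (Fix X) ⊓ St ⟨α, hα⟩ ⊓ St ⟨β, hβ⟩ ⊓ St ⟨γ, hγ⟩)
    nlinarith
  obtain ⟨S, S', ⟨ψ1⟩⟩ := dihedral_of lN oi.not_two_dvd_nat (ψ.toMonoidHom.comp (rh H (Fix X)))
    (ψ.surjective.comp rh_surj) (by rwa [MonoidHom.ker_comp_of_injective _ _ ψ.injective, ← cK])
  obtain ⟨j, ⟨ψ2⟩⟩ := four hK S'
  have : Group.IsPerfect H := ⟨(commutator_normal ⊤ ⊤).eq_bot_or_eq_top.resolve_left fun e =>
    na (abel_of_forall fun x hx y hy => congrArg Subtype.val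
      ((der_eq_bot.1 e).mul_comm (mem_top (⟨x, hx⟩ : H)) (mem_top ⟨y, hy⟩)))⟩
  have oc : Cfsg.oddCore H = ⊥ := CF.Char.oddCore_eq_bot_of_simple (cH ▸ ev.mul_right _)
  have ψ3 : H ≃* H ⧸ Cfsg.oddCore H :=
    ((QuotientGroup.quotientMulEquivOfEq oc).trans QuotientGroup.quotientBot).symm
  obtain ⟨x, hx, x1⟩ := exists_mem_ne_one X0
  rcases Cfsg.Agent.S0483.result S (2 ^ (j + 1)) (by have := Nat.two_pow_pos j; omega)
    ⟨ψ1.trans ψ2⟩ with ⟨L, _, _, -, -, ⟨ψ4⟩⟩ | ⟨⟨ψ4⟩⟩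
  · let ψ5 := ψ3.trans ψ4
    have := CF.Perm.comm_trans_psl (k := ψ5 ⟨x, lX hx⟩) (y := ψ5 ⟨u, r.le hu⟩) (z := ψ5 ⟨v, s.le hv⟩)
      (fun e => x1 (congrArg Subtype.val (ψ5.map_eq_one_iff.1 e)))
      (by rw [ψ5.orderOf_eq, ← Subgroup.orderOf_coe]; exact oX.of_dvd_nat (orderOf_dvd_card' hx))
      (Commute.map (Subtype.ext (mem_cent.1 cu x hx)) ψ5)
      (Commute.map (Subtype.ext (mem_cent.1 cv x hx)) ψ5)
    have c : u * v = v * u := congrArg Subtype.val (ψ5.injective (a₁ := ⟨u, r.le hu⟩ * ⟨v, s.le hv⟩)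
      (a₂ := ⟨v, s.le hv⟩ * ⟨u, r.le hu⟩) (by rw [map_mul, map_mul]; exact this.eq))
    have c' : u γ = γ := by simpa [mem_St.1 (r.fix hu), ev'] using congrArg (· α) c
    rw [r.reg hu k.2.1.symm c'] at eu
    exact k.2.2 eu
  · have c : ♯H = 2520 := by
      rw [Nat.card_congr (ψ3.trans ψ4).toEquiv, nat_card_alternatingGroup, Nat.card_fin]; rfl
    have l : Nat.card (Fix X) < Nat.card Ω := by
      rw [← Set.ncard_univ Ω]
      refine Set.ncard_lt_ncard (Set.ssubset_univ_iff.2 fun e => x1 (Perm.ext fun y => ?_))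
      exact (e.ge trivial : y ∈ Fix X) x hx
    have l2 : f0 < f := (Nat.pow_lt_pow_iff_right hp.one_lt).1 (by omega)
    have d : p ^ 2 ∣ 2520 := (pow_dvd_pow p (by have := of0.pos; omega)).trans
      (cU ▸ c ▸ card_dvd r.le)
    have : p ≤ 50 := by have := Nat.le_of_dvd (by decide) d; nlinarith
    obtain ⟨j, rfl⟩ := op
    have : j ≤ 24 := by omega
    interval_cases j <;> omega

end CF.Fgs2.Sax
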