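import Cfsg.Agent.BN.TIChar
import Cfsg.Agent.Char.BSBig
import Cfsg.Agent.Char.More
import Cfsg.Agent.Char.Galois

/-! Exceptional characters of a self-centralizing abelian subgroup of index two in its
normalizer. -/

set_option autoImplicit false
set_option linter.unusedSectionVars false

namespace CF.Fgs2.Sc
open Subgroup Cfsg CF.Char CF.BN ComplexConjugate
open scoped Classical

variable {G : Type*} [Group G] [Fintype G] {A : Subgroup G} {k : ℕ} {lam mu : A →* ℂˣ}
  {φ : G → ℂ}

/-- the generalized character induced from `1 - lam` -/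
noncomputable def T (A : Subgroup G) (lam : A →* ℂˣ) : G → ℂ :=
  indFun A ((fun _ => 1) - fun y => (lam y : ℂ))

theorem T_gen : IsGeneralizedCharacter G (T A lam) :=
  gen_indFun A (gen_sub gen_const_one (gen_of_char (char_linear lam)))

theorem T_cls : IsClassFunction G (T A lam) := indFun_isClassFunction _ _

theorem T_off {x : G} (h : x ∉ conjSet A) : T A lam x = 0 := by
  by_cases h1 : x = 1
  · rw [h1, T, indFun_one]; simp
  · exact indFun_eq_zero_of_not_mem_conjSet A _ h1 h

theorem lin_ne (h : lam ≠ 1) : (fun y => (lam y : ℂ)) ≠ fun _ => 1 := fun e =>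
  h (MonoidHom.ext fun y => Units.ext (congrFun e y))

theorem inner_one_T (h : lam ≠ 1) : classInner (fun _ => (1 : ℂ)) (T A lam) = 1 := by
  rw [T, inner_indFun_right A _ (classFun_const 1), Char.inner_sub_right, inner_one_one,
    inner_irr_ne irr_one (irr_linear lam) (lin_ne h).symm, sub_zero]

theorem inner_T_const (h : lam ≠ 1) {c : ℂ} (hc : ∀ x ∈ conjSet A, φ x = c) :
    classInner φ (T A lam) = c := by
  have : classInner φ (T A lam) = classInner (c • fun _ => (1 : ℂ)) (T A lam) := by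
    rw [inner_def, inner_def]
    congr 1
    refine Finset.sum_congr rfl fun x _ => ?_
    by_cases hx : x ∈ conjSet A
    · simp [hc x hx]
    · simp [T_off hx]
  rw [this, Char.inner_smul_left, inner_one_T h, mul_one]

theorem const_of_inner (hA : Tor A k) (hφ : IsClassFunction G φ) {c : ℂ}
    (h : ∀ lam : A →* ℂˣ, lam ≠ 1 → classInner φ (T A lam) = c) {x : G} (hx : x ∈ conjSet A) :
    φ x = c := by
  have := hA.eq_zero_of_inner (χ := φ - c • fun _ => (1 : ℂ))
    (classFun_sub hφ (classFun_smul c (classFun_const 1))) (fun lam hl => by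
      have e := h lam hl
      have e1 := inner_one_T (A := A) hl
      rw [T, indFun_sub, Char.inner_sub_right] at e e1
      rw [Char.inner_sub_left, Char.inner_sub_left, Char.inner_smul_left, Char.inner_smul_left]
      linear_combination -e + c * e1) hx
  simpa [sub_eq_zero] using this

theorem inner_TT (hA : Tor A k) (hl : lam ≠ 1) (hm : mu ≠ 1) :
    ∃ m : ℕ, classInner (T A lam) (T A mu) = k + m ∧ (lam = mu → m = 1) := by
  let cj : normalizer (A : Set G) → (A →* ℂˣ) := fun g =>
    mu.comp (A.normalizerMonoidHom g).toMonoidHom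
  have ne : ∀ g, cj g ≠ 1 := fun g e => hm (MonoidHom.ext fun y => by
    obtain ⟨z, rfl⟩ := (A.normalizerMonoidHom g).surjective y
    exact DFunLike.congr_fun e z)
  have key : (Nat.card A : ℂ) * classInner (T A lam) (T A mu) =
      ∑ g : normalizer (A : Set G), (1 + classInner (fun y => (lam y : ℂ)) fun y => (cj g y : ℂ)) := by
    apply mul_left_cancel₀ (card_ne_zero_complex (G := A))
    rw [T, inner_indFun_left A _ T_cls, card_mul_inner, Finset.mul_sum, Finset.mul_sum]
    have e1 : ∀ g : normalizer (A : Set G), (Nat.card A : ℂ) *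
        (1 + classInner (fun y => (lam y : ℂ)) fun y => (cj g y : ℂ)) =
        ∑ y : A, (1 - (lam y : ℂ)) * conj (1 - (cj g y : ℂ)) := fun g => by
      have := card_mul_inner ((fun _ => (1 : ℂ)) - fun y : A => (lam y : ℂ))
        ((fun _ => (1 : ℂ)) - fun y : A => (cj g y : ℂ))
      rw [Char.inner_sub_left, Char.inner_sub_right, Char.inner_sub_right, inner_one_one,
        inner_irr_ne irr_one (irr_linear _) (lin_ne (ne g)).symm,
        inner_irr_ne (irr_linear _) irr_one (lin_ne hl)] at this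
      simpa using this
    rw [Finset.sum_congr rfl fun g _ => e1 g, Finset.sum_comm]
    refine Finset.sum_congr rfl fun y _ => ?_
    by_cases h1 : y = 1
    · simp [h1]
    have := congrArg conj (hA.card_mul_indFun ((fun _ => (1 : ℂ)) - fun y => (mu y : ℂ)) y.2
      fun h => h1 (Subtype.ext h))
    rw [map_mul, map_natCast, map_sum] at this
    rw [mul_left_comm, T, this, Finset.mul_sum]
    rfl
  have cN : ∑ g : normalizer (A : Set G), (1 : ℂ) = k * Nat.card A := by
    rw [Finset.sum_const, Finset.card_univ, ← Nat.card_eq_fintype_card, hA.card]; simp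
  rw [Finset.sum_add_distrib, cN] at key
  obtain ⟨z, hz⟩ := inner_gen_eq_int (T_gen (lam := lam)) (T_gen (lam := mu))
  have e2 : ∀ g, classInner (fun y => (lam y : ℂ)) (fun y => (cj g y : ℂ)) =
      ((if lam = cj g then 1 else 0 : ℕ) : ℂ) := fun g => by
    rw [inner_irr (irr_linear _) (irr_linear _)]
    by_cases h : lam = cj g
    · rw [if_pos h, if_pos (by rw [h])]; simp
    · rw [if_neg h, if_neg fun e => h (linear_injective e)]; simp
  have p : (0 : ℤ) < Nat.card A := by exact_mod_cast Nat.card_pos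
  have k2 := key
  rw [Finset.sum_congr rfl fun g _ => e2 g, ← Nat.cast_sum, hz] at k2
  have k3 : (Nat.card A : ℤ) * z = k * Nat.card A +
    ((∑ g : normalizer (A : Set G), if lam = cj g then 1 else 0 : ℕ) : ℤ) := by exact_mod_cast k2
  have zk : (k : ℤ) ≤ z := by
    by_contra! c
    nlinarith [Int.natCast_nonneg (∑ g : normalizer (A : Set G), if lam = cj g then 1 else 0 : ℕ)]
  refine ⟨(z - k).toNat, ?_, fun e => ?_⟩
  · rw [hz]
    have : ((z - k).toNat : ℤ) = z - k := Int.toNat_of_nonneg (by omega)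
    have : (((z - k).toNat : ℕ) : ℂ) = z - k := by exact_mod_cast congrArg (Int.cast : ℤ → ℂ) this
    rw [this]; ring
  · subst e
    have e3 : ∑ g : normalizer (A : Set G),
        classInner (fun y => (lam y : ℂ)) (fun y => (cj g y : ℂ)) = Nat.card A := by
      apply mul_left_cancel₀ (card_ne_zero_complex (G := A))
      rw [Finset.mul_sum]
      refine (Finset.sum_congr rfl fun g _ => (card_mul_inner _ _).trans
        (hA.sum_linear_mul_conj hl g)).trans ?_
      rw [← Finset.sum_filter, Finset.sum_const]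
      have : (Finset.univ.filter fun g : normalizer (A : Set G) => (g : G) ∈ A).card =
          Nat.card A := by
        rw [← Fintype.card_subtype, ← Nat.card_eq_fintype_card]
        exact Nat.card_congr (subgroupOfEquivOfLe le_normalizer).toEquiv
      rw [this]; simp
    rw [e3, hz] at key
    have k4 : (Nat.card A : ℤ) * z = Nat.card A * (k + 1) := by
      have : (Nat.card A : ℤ) * z = k * Nat.card A + Nat.card A := by exact_mod_cast key
      linarith
    have := mul_left_cancel₀ p.ne' k4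
    omega

theorem TT_self (hA : Tor A k) (hl : lam ≠ 1) : classInner (T A lam) (T A lam) = k + 1 := by
  obtain ⟨m, h, e⟩ := inner_TT hA hl hl
  rw [h, e rfl, Nat.cast_one]

theorem TT_ne (hA : Tor A k) (hl : lam ≠ 1) (hm : mu ≠ 1) (ne : T A lam ≠ T A mu) :
    classInner (T A lam) (T A mu) = k := by
  obtain ⟨m, h, -⟩ := inner_TT hA hl hm
  have h' : classInner (T A mu) (T A lam) = k + m := by rw [← Char.inner_conj_symm, h]; simp
  have e : classInner (T A lam - T A mu) (T A lam - T A mu) = ((2 - 2 * m : ℤ) : ℂ) := by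
    rw [Char.inner_sub_left, Char.inner_sub_right, Char.inner_sub_right, TT_self hA hl,
      TT_self hA hm, h, h']
    push_cast; ring
  have p := inner_self_re_nonneg (T A lam - T A mu)
  rw [e, Complex.intCast_re] at p
  have p : (0 : ℤ) ≤ 2 - 2 * m := by exact_mod_cast p
  rcases (by omega : m = 0 ∨ m = 1) with rfl | rfl
  · simpa using h
  · exact absurd (sub_eq_zero.1 (inner_self_eq_zero.1 (by simpa using e))) ne

theorem exists_T_ne (hA : Tor A k) (hl : lam ≠ 1) (hn : Nat.card A ≠ k + 1) :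
    ∃ mu : A →* ℂˣ, mu ≠ 1 ∧ T A lam ≠ T A mu := by
  by_contra! c
  have e : ∀ x ∈ conjSet A, T A lam x = k + 1 := fun x hx =>
    const_of_inner hA T_cls (fun mu hm => by rw [← c mu hm, TT_self hA hl]) hx
  have s := hA.sum_conjSet (T_cls (lam := lam))
  rw [sum_sharp_const A e] at s
  have s1 : ∑ x, (if x ∈ conjSet A then T A lam x else 0) = Nat.card G := by
    have := congrArg conj (inner_one_T (A := A) hl)
    rw [Char.inner_conj_symm, map_one] at this
    rw [← mul_one (Nat.card G : ℂ), ← this, card_mul_inner]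
    refine Finset.sum_congr rfl fun x _ => ?_
    split_ifs with hx
    · simp
    · simp [T_off hx]
  rw [s1, ← A.index_mul_card] at s
  have i0 : (A.index : ℂ) ≠ 0 := by exact_mod_cast index_ne_zero_of_finite
  have : (k : ℂ) * Nat.card A = (Nat.card A - 1) * (k + 1) := by
    apply mul_left_cancel₀ i0
    push_cast at s
    linear_combination s
  exact hn (by exact_mod_cast (by linear_combination -this : (Nat.card A : ℂ) = k + 1))

theorem three_sq_le {X φ₁ φ₂ φ₃ : G → ℂ} (hX : IsClassFunction G X) (h₁ : IsIrrCharacter G φ₁)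
    (h₂ : IsIrrCharacter G φ₂) (h₃ : IsIrrCharacter G φ₃) (n12 : φ₁ ≠ φ₂) (n13 : φ₁ ≠ φ₃)
    (n23 : φ₂ ≠ φ₃) : ‖classInner X φ₁‖ ^ 2 + ‖classInner X φ₂‖ ^ 2 + ‖classInner X φ₃‖ ^ 2 ≤
      (classInner X X).re := by
  rw [inner_self_eq_sum_irr hX, Complex.ofReal_re]
  have l := Finset.sum_le_sum_of_subset_of_nonneg (f := fun ξ : IrrCharacter G =>
    ‖classInner X ξ‖ ^ 2) (Finset.subset_univ {⟨φ₁, h₁⟩, ⟨φ₂, h₂⟩, ⟨φ₃, h₃⟩}) fun _ _ _ => sq_nonneg _
  rw [Finset.sum_insert (by simp [n12, n13]), Finset.sum_pair (by simp [n23])] at l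
  linarith

/-- three irreducible characters differing by constants on `A#` are constant there -/
theorem const_of_three (hA : Tor A k) (h0 : A ≠ ⊥) {φ₁ φ₂ φ₃ : G → ℂ} (h₁ : IsIrrCharacter G φ₁)
    (h₂ : IsIrrCharacter G φ₂) (h₃ : IsIrrCharacter G φ₃) (n12 : φ₁ ≠ φ₂) (n13 : φ₁ ≠ φ₃)
    (n23 : φ₂ ≠ φ₃) {c c' : ℂ} (e2 : ∀ x ∈ conjSet A, φ₂ x = φ₁ x + c)
    (e3 : ∀ x ∈ conjSet A, φ₃ x = φ₁ x + c') : ∃ v : ℂ, ∀ x ∈ conjSet A, φ₁ x = v := by
  obtain ⟨lam, hl⟩ := hA.exists_linear_ne_one h0
  refine ⟨classInner φ₁ (T A lam), fun x hx =>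
    const_of_inner hA (irr_isClassFunction h₁) (fun mu hm => ?_) hx⟩
  by_cases e : T A mu = T A lam
  · rw [e]
  have hX := gen_sub (T_gen (lam := mu)) (T_gen (lam := lam))
  have k : ∀ {φ : G → ℂ} {c : ℂ}, (∀ x ∈ conjSet A, φ x = φ₁ x + c) →
      classInner (T A mu - T A lam) φ = classInner (T A mu - T A lam) φ₁ := fun {φ c} h => by
    have a := inner_T_const (φ := φ - φ₁) (c := c) hm fun x hx => by simp [h x hx]
    have b := inner_T_const (φ := φ - φ₁) (c := c) hl fun x hx => by simp [h x hx]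
    rw [← Char.inner_conj_symm φ, ← Char.inner_conj_symm φ₁, Char.inner_sub_right, Char.inner_sub_right]
    rw [Char.inner_sub_left] at a b
    congr 1
    linear_combination a - b
  have l := three_sq_le (gen_isClassFunction hX) h₁ h₂ h₃ n12 n13 n23
  obtain ⟨z, hz⟩ := inner_gen_eq_int hX (gen_of_irr h₁)
  have n : classInner (T A mu - T A lam) (T A mu - T A lam) = 2 := by
    rw [Char.inner_sub_left, Char.inner_sub_right, Char.inner_sub_right, TT_self hA hl,
      TT_self hA hm, TT_ne hA hm hl e, TT_ne hA hl hm (Ne.symm e)]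
    ring
  rw [k e2, k e3, hz, n, Complex.norm_intCast, sq_abs] at l
  have l : z ^ 2 + z ^ 2 + z ^ 2 ≤ 2 := by
    have : (z : ℝ) ^ 2 + z ^ 2 + z ^ 2 ≤ 2 := by simpa using l
    exact_mod_cast this
  have : z = 0 := by nlinarith
  rw [this, ← Char.inner_conj_symm, Char.inner_sub_right] at hz
  exact (starRingEnd ℂ).injective (by simpa [sub_eq_zero] using hz)

/-- the shape of `T A lam` in the case of index two -/
def Pr (lam : A →* ℂˣ) (a b : IrrCharacter G) : Prop :=
  T A lam = (fun _ => 1) - (a : G → ℂ) + (b : G → ℂ) ∧ a ≠ b ∧ a ≠ oneIrr G ∧ b ≠ oneIrr G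

theorem exists_pr (hA : Tor A 2) (hl : lam ≠ 1) : ∃ a b, Pr lam a b := by
  have h1 := inner_one_T (A := A) hl
  have h1' : classInner (T A lam) (fun _ => (1 : ℂ)) = 1 := by rw [← Char.inner_conj_symm, h1, map_one]
  obtain ⟨a, b, ne, e⟩ := exists_of_inner_self_eq_two_of_one
    (gen_sub gen_const_one (T_gen (lam := lam))) (by
      rw [Char.inner_sub_left, Char.inner_sub_right, Char.inner_sub_right, TT_self hA hl, h1, h1',
        inner_one_one]
      norm_num) (by simp [T_off (A := A) (x := 1) fun h => h.1 rfl])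
  have o : classInner ((a : G → ℂ) - (b : G → ℂ)) (oneIrr G : G → ℂ) = 0 := by
    rw [← e, coe_oneIrr, Char.inner_sub_left, inner_one_one, h1', sub_self]
  rw [Char.inner_sub_left, inner_irr', inner_irr'] at o
  refine ⟨a, b, by rw [sub_add, ← e]; simp, ne, fun h => ?_, fun h => ?_⟩
  · rw [if_pos h, if_neg (h ▸ ne.symm)] at o; simp at o
  · rw [if_pos h, if_neg (h ▸ ne)] at o; simp at o

theorem Pr.inner {a b : IrrCharacter G} (h : Pr lam a b) (ξ : IrrCharacter G) :
    classInner (ξ : G → ℂ) (T A lam) =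
      (if ξ = oneIrr G then 1 else 0) - (if ξ = a then 1 else 0) + if ξ = b then 1 else 0 := by
  rw [h.1, Char.inner_add_right, Char.inner_sub_right, ← coe_oneIrr, inner_irr', inner_irr',
    inner_irr']

theorem Pr.share (hA : Tor A 2) (hl : lam ≠ 1) (hm : mu ≠ 1) {a b a' b' : IrrCharacter G}
    (h : Pr lam a b) (h' : Pr mu a' b') : a = a' ∨ b = b' := by
  by_contra! c
  have ne : T A lam ≠ T A mu := fun e => by
    have := h.inner a
    rw [e, h'.inner, if_neg h.2.2.1, if_neg c.1, if_pos rfl, if_neg h.2.1] at this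
    split_ifs at this <;> norm_num at this
  have := TT_ne hA hl hm ne
  rw [h.1, Char.inner_add_left, Char.inner_sub_left, inner_one_T hm, h'.inner, h'.inner,
    if_neg h.2.2.1, if_neg h.2.2.2, if_neg c.1, if_neg c.2] at this
  split_ifs at this <;> norm_num at this

/-- the exceptional characters -/
structure Exc (A : Subgroup G) (ε : ℤ) (x : G → ℤ) (χ ψ ψ' : G → ℂ) : Prop where
  pm : ε = 1 ∨ ε = -1
  i1 : IsIrrCharacter G χ
  i2 : IsIrrCharacter G ψ
  i3 : IsIrrCharacter G ψ'
  n12 : χ ≠ ψ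
  n13 : χ ≠ ψ'
  n23 : ψ ≠ ψ'
  n1 : χ ≠ fun _ => 1
  n2 : ψ ≠ fun _ => 1
  val : ∀ g, χ g = x g
  on : ∀ g ∈ conjSet A, x g = ε
  off : ∀ g ∉ conjSet A, ψ g = x g + ε
  off' : ∀ g ∉ conjSet A, ψ' g = x g + ε

theorem exc_of (hA : Tor A 2) (hl : lam ≠ 1) {ε : ℤ} (pm : ε = 1 ∨ ε = -1)
    {χ ψ ψ' : IrrCharacter G} (n12 : χ ≠ ψ) (n13 : χ ≠ ψ') (n23 : ψ ≠ ψ') (n1 : χ ≠ oneIrr G)
    (n2 : ψ ≠ oneIrr G) (hc : ∀ mu : A →* ℂˣ, mu ≠ 1 → classInner (χ : G → ℂ) (T A mu) = ε)
    (hu : ∀ ξ : IrrCharacter G, classInner (ξ : G → ℂ) (T A lam) = ε → ξ = χ ∨ ξ = oneIrr G)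
    (o : ∀ g ∉ conjSet A, (ψ : G → ℂ) g = (χ : G → ℂ) g + ε)
    (o' : ∀ g ∉ conjSet A, (ψ' : G → ℂ) g = (χ : G → ℂ) g + ε) :
    ∃ x, Exc A ε x χ ψ ψ' := by
  have on : ∀ g ∈ conjSet A, (χ : G → ℂ) g = ε := fun g hg =>
    const_of_inner hA (irr_isClassFunction χ.2) hc hg
  have : ∀ g, ∃ n : ℤ, (χ : G → ℂ) g = n := fun g =>
    int_of_fixed (char_isIntegral (irr_isCharacter χ.2) g) fun σ => by
      rcases hu ⟨_, irr_map χ.2 (σ : ℂ →+* ℂ)⟩ (inner_T_const hl fun y hy => by
        simp [on y hy]) with e | e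
      · exact congrFun (congrArg Subtype.val e) g
      · refine absurd (Subtype.ext (funext fun y => ?_)) n1
        have := congrFun (congrArg Subtype.val e) y
        exact σ.injective (by simpa using this)
  choose x hx using this
  exact ⟨x, pm, χ.2, ψ.2, ψ'.2, fun e => n12 (Subtype.ext e), fun e => n13 (Subtype.ext e),
    fun e => n23 (Subtype.ext e), fun e => n1 (Subtype.ext e), fun e => n2 (Subtype.ext e), hx,
    fun g hg => by exact_mod_cast (hx g).symm.trans (on g hg), fun g hg => hx g ▸ o g hg,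
    fun g hg => hx g ▸ o' g hg⟩

theorem exists_exc (hA : Tor A 2) (h0 : A ≠ ⊥) (h3 : Nat.card A ≠ 3) :
    ∃ ε x χ ψ ψ', Exc A ε x χ ψ ψ' := by
  obtain ⟨lam, hl⟩ := hA.exists_linear_ne_one h0
  obtain ⟨mu, hm, ne⟩ := exists_T_ne hA hl h3
  obtain ⟨a, b, h⟩ := exists_pr hA hl
  obtain ⟨a', b', h'⟩ := exists_pr hA hm
  have z : ∀ {lam : A →* ℂˣ} {a b : IrrCharacter G}, Pr lam a b → ∀ g ∉ conjSet A,
      (a : G → ℂ) g = (b : G → ℂ) g + 1 := fun {lam a b} h g hg => by
    have := congrFun h.1 g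
    rw [T_off hg] at this
    simp only [Pi.add_apply, Pi.sub_apply] at this
    linear_combination this
  rcases h.share hA hl hm h' with rfl | rfl
  · have nb : b ≠ b' := fun e => ne (by rw [h.1, h'.1, e])
    obtain ⟨x, hx⟩ := exc_of hA hl (ε := -1) (χ := a) (ψ := b) (ψ' := b') (.inr rfl) h.2.1 h'.2.1 nb h.2.2.1 h.2.2.2
      (fun nu hn => by
        obtain ⟨c, d, k⟩ := exists_pr hA hn
        have : a = c := by
          by_contra c
          exact nb (((h.share hA hl hn k).resolve_left c).trans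
            ((h'.share hA hm hn k).resolve_left c).symm)
        subst this
        rw [k.inner, if_neg k.2.2.1, if_pos rfl, if_neg k.2.1]; simp)
      (fun ξ hξ => by
        rw [h.inner] at hξ
        by_contra! c
        rw [if_neg c.2, if_neg c.1] at hξ
        split_ifs at hξ <;> norm_num at hξ)
      (fun g hg => by rw [z h g hg]; simp) (fun g hg => by rw [z h' g hg]; simp)
    exact ⟨_, x, _, _, _, hx⟩
  · have na : a ≠ a' := fun e => ne (by rw [h.1, h'.1, e])
    obtain ⟨x, hx⟩ := exc_of hA hl (ε := 1) (χ := b) (ψ := a) (ψ' := a') (.inl rfl) h.2.1.symm h'.2.1.symm na h.2.2.2 h.2.2.1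
      (fun nu hn => by
        obtain ⟨c, d, k⟩ := exists_pr hA hn
        have : b = d := by
          by_contra c
          exact na (((h.share hA hl hn k).resolve_right c).trans
            ((h'.share hA hm hn k).resolve_right c).symm)
        subst this
        rw [k.inner, if_neg k.2.2.2, if_pos rfl, if_neg k.2.1.symm]; simp)
      (fun ξ hξ => by
        rw [h.inner] at hξ
        by_contra! c
        rw [if_neg c.2, if_neg c.1] at hξ
        split_ifs at hξ <;> norm_num at hξ)
      (fun g hg => by rw [z h g hg]; simp) (fun g hg => by rw [z h' g hg]; simp)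
    exact ⟨_, x, _, _, _, hx⟩

end CF.Fgs2.Sc
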