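import Cfsg.Agent.Fgs2.Sc1
import Cfsg.Agent.Fgs1.Isol
import Cfsg.Agent.SolvStr.Cls2

/-! Strongly self-centralizing subgroups; products of two involutions. -/

set_option autoImplicit false
set_option linter.unusedSectionVars false

namespace CF.Fgs2.Sc
open Subgroup Cfsg CF.Char CF.BN CF.BG CF.Fgs1 ComplexConjugate Finset
open scoped _root_.Classical

variable {G : Type*} [Group G] [Fintype G] {A B : Subgroup G} {k l r : ℕ} {θ φ : G → ℂ}
  {g s t y z : G}

theorem dvd_of_const (hθ : IsGeneralizedCharacter G θ) {d v : ℤ} (h1 : θ 1 = d)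
    (h : ∀ a ∈ A, a ≠ 1 → θ a = v) : (♯A : ℤ) ∣ d - v := by
  obtain ⟨a, b, ha, hb, rfl⟩ := hθ
  obtain ⟨m, hm⟩ := inner_gen_eq_int (gen_sub (gen_of_char (char_restrict ha A))
    (gen_of_char (char_restrict hb A))) gen_const_one
  have e := card_mul_inner ((fun x : A => a x) - fun x : A => b x) fun _ => 1
  have e2 : ∑ g : A, ((fun x : A => a x) - fun x : A => b x) g * conj (1 : ℂ) =
      ∑ g : A, (v + if g = 1 then (d - v : ℂ) else 0) := sum_congr rfl fun g _ => by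
    split_ifs with c
    · rw [c, ← h1]; simp
    · rw [← h g g.2 fun e => c (Subtype.ext e)]; simp
  rw [hm, e2, sum_add_distrib, sum_ite_eq', sum_const, card_univ, ← Nat.card_eq_fintype_card,
    if_pos (mem_univ _), nsmul_eq_mul] at e
  exact ⟨m - v, by exact_mod_cast (by linear_combination -e : (d - v : ℂ) = ♯A * (m - v))⟩

theorem exists_prime_pow (h : y ≠ 1) : ∃ m, (orderOf (y ^ m)).Prime := by
  have o : orderOf y ≠ 1 := fun e => h (orderOf_eq_one_iff.1 e)
  exact ⟨_, by rw [orderOf_pow_orderOf_div (orderOf_pos y).ne' (Nat.minFac_dvd _)]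
               exact Nat.minFac_prime o⟩

/-- a strongly self-centralizing subgroup of even index `k` in its normalizer -/
structure SC (A : Subgroup G) (k : ℕ) : Prop where
  ca : CA A
  card : ♯(𝐍 A) = k * ♯A
  nb : A ≠ ⊥
  ev : 2 ∣ k

namespace SC
variable (h : SC A k)
include h

theorem tor : Tor A k :=
  ⟨fun _ ha _ hb => h.ca.abel.mul_comm ha hb, fun _ _ hx x1 hg => h.ca.ti hx x1 hg,
    fun _ hg ng _ hc => h.ca.surj hg ng hc, h.card⟩

theorem cent (hy : y ∈ conjSet A) : ∃ g, 𝐂₁ y = cj g A := by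
  obtain ⟨a, ha, a1, c⟩ := exists_isConj_of_mem_conjSet hy
  obtain ⟨g, rfl⟩ := isConj_iff.1 c
  exact ⟨g, by rw [← cj_cent1, h.ca a ha a1]⟩

theorem card_cent (hy : y ∈ conjSet A) : ♯(𝐂₁ y) = ♯A := by
  obtain ⟨g, e⟩ := h.cent hy
  rw [e, card_cj]

theorem mem_of_comm (hy : y ∈ conjSet A) (c : z * y = y * z) (z1 : z ≠ 1) : z ∈ conjSet A := by
  obtain ⟨g, e⟩ := h.cent hy
  exact ⟨z1, g, mem_cj.1 (e ▸ mem_cent1.2 c)⟩

theorem index : A.index = k * (𝐍 A).index := by
  have a := A.index_mul_card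
  have b := (𝐍 A).index_mul_card
  rw [h.card] at b
  exact Nat.eq_of_mul_eq_mul_right (Nat.card_pos (α := A)) (by rw [a, ← b]; ring)

theorem ncard : (k * ♯A * (conjSet A).ncard : ℤ) = Nat.card G * (♯A - 1) := by
  have b := (𝐍 A).index_mul_card
  rw [ncard_conjSet A h.tor.ti, ← b, h.card]
  push_cast [Nat.cast_sub (Nat.card_pos (α := A))]
  ring

theorem dvd_pred : (k : ℤ) ∣ ♯A - 1 := by
  have := SolvStr.dvd_ncard_conj (K := ⊤) (S := conjSet A) (n := A.index)
    (fun g _ s hs => (mem_conjSet_conj g).2 hs) fun s hs => by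
      have a := A.index_mul_card
      have b := (𝐂₁ s).index_mul_card
      rw [h.card_cent hs] at b
      rw [relIndex_top_right, Nat.eq_of_mul_eq_mul_right (Nat.card_pos (α := A)) (a.trans b.symm)]
  rw [ncard_conjSet A h.tor.ti, h.index, mul_comm k] at this
  have := Nat.dvd_of_mul_dvd_mul_left (Nat.pos_of_ne_zero index_ne_zero_of_finite) this
  have := Int.natCast_dvd_natCast.2 this
  rwa [Nat.cast_sub (Nat.card_pos (α := A))] at this

theorem odd : ¬ 2 ∣ ♯A := fun e => by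
  have a := (Int.natCast_dvd_natCast.2 h.ev).trans h.dvd_pred
  have b := Int.natCast_dvd_natCast.2 e
  omega

theorem dvd_index : (♯A : ℤ) ∣ A.index - k :=
  dvd_of_const (gen_of_char (char_indFun_one A)) (by rw [Char.indFun_one]; simp) fun a ha a1 => by
    rw [h.tor.indFun_one (mem_conjSet_of_mem ha a1)]; simp

theorem not_dvd_index (hr : r.Prime) (d : r ∣ ♯A) : ¬ r ∣ A.index := fun e => by
  have d := Int.natCast_dvd_natCast.2 d
  have a : (r : ℤ) ∣ k := (dvd_iff_dvd_of_dvd_sub (d.trans h.dvd_index)).1 (by exact_mod_cast e)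
  have b := (dvd_iff_dvd_of_dvd_sub (a.trans h.dvd_pred)).1 d
  exact hr.ne_one (by exact_mod_cast Int.eq_one_of_dvd_one (Int.natCast_nonneg r) b)

theorem mem_of_prime (hr : (orderOf y).Prime) (d : orderOf y ∣ ♯A) : y ∈ conjSet A := by
  by_contra c
  have := gen_modEq_one (gen_of_char (char_indFun_one A)) hr (k := 1) (g := y) (a := 0)
    (b := A.index) (by simp) (by
      rw [indFun_eq_zero_of_not_mem_conjSet A _ (fun e => by simp [e, Nat.not_prime_one] at hr) c]; simp)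
    (by rw [Char.indFun_one]; simp)
  exact h.not_dvd_index hr d (by exact_mod_cast (Int.modEq_zero_iff_dvd.1 this.symm))

theorem cop (y1 : y ≠ 1) (hy : y ∉ conjSet A) : (♯A).Coprime (♯(𝐂₁ y)) := by
  refine Nat.coprime_of_dvd fun r hr d e => ?_
  haveI := Fact.mk hr
  obtain ⟨z, hz⟩ := exists_prime_orderOf_dvd_card' r e
  rw [← orderOf_coe] at hz
  exact hy (h.mem_of_comm (h.mem_of_prime (hz ▸ hr) (hz ▸ d)) (mem_cent1.1 z.2).symm y1)

theorem invol (o : orderOf t = 2) : t ∉ conjSet A := fun c =>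
  h.odd (h.card_cent c ▸ o ▸ orderOf_dvd_natCard _ (mem_cent1.2 rfl))

theorem mul_invol (o : orderOf t = 2) (n : t ∈ 𝐍 A) (hy : y ∈ A) : orderOf (y * t) = 2 := by
  obtain ⟨a, -, e⟩ := h.ca.surj n (fun c => h.invol o (mem_conjSet_of_mem c fun e => by
    simp [e] at o)) hy
  rw [← e, orderOf_conj', o]

theorem inverts (o : orderOf t = 2) (n : t ∈ 𝐍 A) (hy : y ∈ A) : t * y = y⁻¹ * t := by
  have p := pow_orderOf_eq_one (y * t)
  have q := pow_orderOf_eq_one t
  rw [h.mul_invol o n hy, sq] at p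
  rw [o, sq] at q
  calc t * y = y⁻¹ * (y * t * (y * t)) * t * (t * t)⁻¹ := by group
    _ = _ := by rw [p, q]; group

theorem exists_invol : ∃ t ∈ 𝐍 A, orderOf t = 2 := by
  obtain ⟨t, ht⟩ := exists_prime_orderOf_dvd_card' (G := 𝐍 A) 2 (h.card ▸ h.ev.mul_right _)
  exact ⟨t, t.2, by rwa [orderOf_coe]⟩

theorem coprime (h' : SC B l) (n : ∀ g, cj g A ≠ B) : (♯A).Coprime (♯B) := by
  refine Nat.coprime_of_dvd fun r hr d e => ?_
  haveI := Fact.mk hr
  obtain ⟨z, hz⟩ := exists_prime_orderOf_dvd_card' r e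
  rw [← orderOf_coe] at hz
  obtain ⟨g, c⟩ := h.cent (h.mem_of_prime (hz ▸ hr) (hz ▸ d))
  exact n g (c.symm.trans (h'.ca z z.2 fun e => by rw [e, orderOf_one] at hz; exact hr.ne_one hz.symm))

theorem disj (h' : SC B l) (c : (♯A).Coprime (♯B)) (hy : y ∈ conjSet A) : y ∉ conjSet B := fun e => by
  rw [← h'.card_cent e, h.card_cent hy, Nat.coprime_self] at c
  exact h.nb (card_eq_one.1 c)

end SC

theorem SC.four (h : SC A 4) : ∃ u : G, orderOf (u ^ 2) = 2 := by
  obtain ⟨U, hU⟩ := Sylow.exists_subgroup_card_pow_prime (G := 𝐍 A) 2 (n := 2)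
    (h.card ▸ Dvd.dvd.mul_right (by norm_num) _)
  rw [← Subgroup.card_subtype] at hU
  have l := map_subtype_le U
  generalize U.map (𝐍 A).subtype = V at hU l
  by_contra! c
  have k : ∀ u ∈ V, u ≠ 1 → orderOf u = 2 := fun u hu u1 => by
    have p : u ^ 4 = 1 := orderOf_dvd_iff_pow_eq_one.1 ((orderOf_dvd_natCard V hu).trans (by rw [hU]; norm_num))
    refine orderOf_eq_prime (by_contra fun e => c u (orderOf_eq_prime ?_ e)) u1
    rw [← pow_mul]; exact p
  obtain ⟨a, ha, a1⟩ := (bot_or_exists_ne_one A).resolve_left h.nb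
  obtain ⟨x, y, z, xy, xz, yz⟩ := (Fintype.two_lt_card_iff (α := V)).1 (by
    rw [← Nat.card_eq_fintype_card, hU]; norm_num)
  have m : ∀ x y : V, x ≠ y → orderOf ((x : G)⁻¹ * y) = 2 ∧ (x : G)⁻¹ * y * a = a⁻¹ * ((x : G)⁻¹ * y) :=
    fun x y e => by
      have := k _ (mul_mem (inv_mem x.2) y.2) (by rwa [Ne, inv_mul_eq_one, SetLike.coe_eq_coe])
      exact ⟨this, h.inverts this (l (mul_mem (inv_mem x.2) y.2)) ha⟩
  have w := (m y z yz).1
  refine h.invol w (h.mem_of_comm (mem_conjSet_of_mem ha a1) ?_ fun e => by simp [e] at w)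
  calc (y : G)⁻¹ * z * a = ((x : G)⁻¹ * y)⁻¹ * ((x : G)⁻¹ * z * a) := by group
    _ = a * ((x : G)⁻¹ * y * a)⁻¹ * a⁻¹ * ((x : G)⁻¹ * z) := by rw [(m x z xz).2]; group
    _ = _ := by rw [(m x y xy).2]; group

/-- the involutions -/
noncomputable def Iv (G : Type*) [Group G] [Fintype G] : Finset G := {t | orderOf t = 2}

theorem mem_Iv : t ∈ Iv G ↔ orderOf t = 2 := by simp [Iv]

/-- the number of ways of writing `g` as a product of two involutions -/
noncomputable def cc (g : G) : ℕ := #{s ∈ Iv G | s * g ∈ Iv G}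

theorem Iv_sq (h : t ∈ Iv G) : t * t = 1 := by rw [← sq, ← mem_Iv.1 h, pow_orderOf_eq_one]

theorem Iv_conj (h : t ∈ Iv G) (g : G) : g * t * g⁻¹ ∈ Iv G := by
  rw [mem_Iv, orderOf_conj', mem_Iv.1 h]

theorem cc_conj (x g : G) : cc (x * g * x⁻¹) = cc g := by
  refine card_bij (fun s _ => x⁻¹ * s * x) (fun s hs => ?_) (fun a _ b _ e => by simpa using e)
    fun s hs => ⟨x * s * x⁻¹, ?_, by group⟩
  · rw [mem_filter] at hs ⊢
    exact ⟨by simpa using Iv_conj hs.1 x⁻¹, by simpa [mul_assoc] using Iv_conj hs.2 x⁻¹⟩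
  · rw [mem_filter] at hs ⊢
    exact ⟨Iv_conj hs.1 x, by simpa [mul_assoc] using Iv_conj hs.2 x⟩

theorem cc_le (g : G) : cc g ≤ ♯(𝐂₁ g) := by
  rcases ({s ∈ Iv G | s * g ∈ Iv G} : Finset G).eq_empty_or_nonempty with e | ⟨t, ht⟩
  · rw [cc, e]; simp
  have k : ∀ s ∈ ({s ∈ Iv G | s * g ∈ Iv G} : Finset G), g * s * g = s := fun s hs => by
    rw [mem_filter] at hs
    calc g * s * g = (s * s) * g * s * g := by rw [Iv_sq hs.1, one_mul]
      _ = s * (s * g * (s * g)) := by group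
      _ = _ := by rw [Iv_sq hs.2, mul_one]
  rw [Nat.card_eq_fintype_card, Fintype.card_subtype]
  refine card_le_card_of_injOn (· * t⁻¹) (fun s hs => ?_) fun a _ b _ e => by simpa using e
  simp only [coe_filter, mem_univ, true_and, Set.mem_setOf_eq, mem_cent1]
  calc s * t⁻¹ * g = g * s * g * (g * t * g)⁻¹ * g := by rw [k s hs, k t ht]
    _ = _ := by group

theorem SC.cc_eq (h : SC A k) (hy : y ∈ conjSet A) : cc y = ♯A := by
  refine le_antisymm (h.card_cent hy ▸ cc_le y) ?_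
  obtain ⟨a, ha, -, c⟩ := exists_isConj_of_mem_conjSet hy
  obtain ⟨g, rfl⟩ := isConj_iff.1 c
  obtain ⟨t, n, o⟩ := h.exists_invol
  rw [cc_conj, Nat.card_eq_fintype_card, Fintype.card_subtype]
  refine card_le_card_of_injOn (· * t) (fun s hs => ?_) fun a _ b _ e => by simpa using e
  have hs : s ∈ A := by simpa using hs
  simp only [coe_filter, Set.mem_setOf_eq, mem_Iv]
  rw [mul_assoc, h.inverts o n ha, ← mul_assoc]
  exact ⟨h.mul_invol o n hs, h.mul_invol o n (mul_mem hs (inv_mem ha))⟩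

theorem cc_one : cc (1 : G) = #(Iv G) := by simp [cc]

theorem sum_cc {M : Type*} [CommSemiring M] (f : G → M) :
    ∑ g, cc g * f g = ∑ s ∈ Iv G, ∑ t ∈ Iv G, f (s * t) := by
  have : ∀ s ∈ Iv G, ∑ t ∈ Iv G, f (s * t) = ∑ g, if s * g ∈ Iv G then f g else 0 := fun s hs => by
    rw [← sum_filter]
    refine sum_bij (fun t _ => s * t) (fun t ht => ?_) (fun a _ b _ e => by simpa using e)
      (fun g hg => ⟨s * g, by simpa using hg, ?_⟩) fun _ _ => rfl
    · simpa [← mul_assoc, Iv_sq hs] using ht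
    · simp [← mul_assoc, Iv_sq hs]
  rw [sum_congr rfl this, sum_comm]
  refine sum_congr rfl fun g _ => ?_
  rw [← sum_filter, sum_const, nsmul_eq_mul, cc]

theorem isConj_of_mul (hs : s ∈ Iv G) (ht : t ∈ Iv G) (o : ¬ 2 ∣ orderOf (s * t)) : IsConj s t := by
  obtain ⟨m, hm⟩ := Nat.odd_iff.2 (Nat.two_dvd_ne_zero.1 o)
  have i : ∀ j : ℕ, (s * t) ^ j * s * (s * t) ^ j = s := fun j => by
    induction j with
    | zero => simp
    | succ j ih =>
      calc _ = (s * t) * ((s * t) ^ j * s * (s * t) ^ j) * (s * t) := by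
            conv_lhs => rw [pow_succ', mul_assoc _ s, mul_assoc _ _ (s * _), ← pow_succ', pow_succ]
            group
        _ = s * t * (s * s) * t := by rw [ih]; group
        _ = s * (t * t) := by rw [Iv_sq hs]; group
        _ = s := by rw [Iv_sq ht, mul_one]
  refine isConj_iff.2 ⟨((s * t) ^ (m + 1))⁻¹, ?_⟩
  have p := pow_orderOf_eq_one (s * t)
  rw [hm] at p
  calc _ = ((s * t) ^ (m + 1))⁻¹ * ((s * t) ^ (m + 1) * s * (s * t) ^ (m + 1)) *
        (s * t) ^ (m + 1) := by rw [i]; group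
    _ = s * (s * t) ^ (2 * m + 1) * (s * t) := by generalize s * t = u; group
    _ = _ := by rw [p, mul_one, ← mul_assoc, Iv_sq hs, one_mul]

section one
variable (c : ∀ s ∈ Iv G, IsConj t s) (ht : t ∈ Iv G)
include c ht

theorem sum_conj_Iv {M : Type*} [AddCommMonoid M] (f : G → M) :
    ∑ x, f (x * t * x⁻¹) = ♯(𝐂₁ t) • ∑ s ∈ Iv G, f s := by
  rw [Char.sum_conj_eq]
  congr 2
  ext s
  rw [mem_filter]
  exact ⟨fun h => by obtain ⟨g, rfl⟩ := isConj_iff.1 h.2; exact Iv_conj ht g,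
    fun h => ⟨mem_univ _, c s h⟩⟩

theorem card_Iv : Nat.card G = ♯(𝐂₁ t) * #(Iv G) := by
  simpa using sum_conj_Iv c ht fun _ => (1 : ℕ)

theorem sum_cc_irr (hφ : IsIrrCharacter G φ) :
    φ 1 * ∑ g, cc g * φ g = #(Iv G) ^ 2 * φ t ^ 2 := by
  obtain ⟨n, p, hn⟩ := irr_one_eq_nat hφ
  have n0 : φ 1 ≠ 0 := by rw [hn]; exact_mod_cast p.ne'
  have : ∀ u ∈ Iv G, φ 1 * ∑ s ∈ Iv G, φ (s * u) = #(Iv G) * φ t ^ 2 := fun u hu => by
    have e := sum_conj_Iv c ht fun s => φ (s * u)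
    obtain ⟨g, rfl⟩ := isConj_iff.1 (c u hu)
    rw [sum_irr_conj_mul hφ, classFun_conj (irr_isClassFunction hφ), card_Iv c ht,
      nsmul_eq_mul, div_eq_iff n0] at e
    apply mul_left_cancel₀ (card_ne_zero_complex (G := 𝐂₁ t))
    push_cast at e
    linear_combination -e
  rw [sum_cc, sum_comm, mul_sum, sum_congr rfl this, sum_const, nsmul_eq_mul]
  ring

theorem sum_cc_cls {M : Type*} [CommSemiring M] {f : G → M} (hf : ∀ x g, f (x * g * x⁻¹) = f g) :
    ∑ g, cc g * f g = #(Iv G) * ∑ s ∈ Iv G, f (t * s) := by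
  rw [sum_cc, ← nsmul_eq_mul, ← sum_const]
  refine sum_congr rfl fun u hu => ?_
  obtain ⟨g, rfl⟩ := isConj_iff.1 (c u hu)
  refine (sum_bij (fun s _ => g * s * g⁻¹) (fun s hs => Iv_conj hs g)
    (fun a _ b _ e => by simpa using e)
    (fun s hs => ⟨g⁻¹ * s * g, by simpa using Iv_conj hs g⁻¹, by group⟩) fun s _ => ?_).symm
  rw [← hf g]; congr 1; group

end one

theorem sum_cc_one : (∑ g : G, cc g : ℤ) = #(Iv G) ^ 2 := by
  simpa [sq] using sum_cc (G := G) (M := ℤ) fun _ => 1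

theorem odd_Iv (h : 2 ∣ Nat.card G) : ¬ 2 ∣ #(Iv G) := by
  have := Equiv.Perm.card_fixedPoints_modEq (f := (fun g : G => g⁻¹)) (p := 2) (n := 1)
    (by funext g; exact inv_inv g)
  have e : Fintype.card (Function.fixedPoints fun g : G => g⁻¹) = #(Iv G) + 1 := by
    rw [Fintype.card_subtype, ← card_insert_of_notMem (a := 1) (by simp [mem_Iv])]
    congr 1
    ext g
    simp only [mem_filter, mem_univ, true_and, mem_insert, mem_Iv, Function.mem_fixedPoints,
      Function.IsFixedPt, inv_eq_iff_mul_eq_one, ← sq]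
    by_cases g1 : g = 1
    · simp [g1]
    · simp [g1, orderOf_eq_prime_iff]
  rw [← Nat.card_eq_fintype_card] at this
  have := e ▸ this
  unfold Nat.ModEq at this
  omega

end CF.Fgs2.Sc
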