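import Mathlib.Tactic.Linarith
import Mathlib.Tactic.LinearCombination
import Mathlib.Tactic.Positivity
import Mathlib.Tactic.IntervalCases
import Mathlib.RingTheory.Coprime.Lemmas
import Mathlib.Algebra.Order.Group.Unbundled.Int

/-! Arithmetic for the self-centralization systems of type `(2, 4, 4)`. -/

set_option autoImplicit false

namespace CF.Fgs2.Sc

variable {ε a b d j n n₁ n₂ n₃ s s₂ s₃ v x α M I : ℤ}

theorem quad_nonneg (pm : ε = 1 ∨ ε = -1) (x : ℤ) : 0 ≤ x * (x + ε) := by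
  rcases pm with rfl | rfl
  · rcases (by omega : x ≤ -1 ∨ 0 ≤ x) with h | h <;> nlinarith
  · rcases (by omega : x ≤ 0 ∨ 1 ≤ x) with h | h <;> nlinarith

theorem quad_nonneg' (pm : ε = 1 ∨ ε = -1) (x : ℤ) : 0 ≤ (x + ε) * (x + 2 * ε) := by
  convert quad_nonneg pm (x + ε) using 2; ring

theorem quad_two (pm : ε = 1 ∨ ε = -1) (h0 : x ≠ 0) (h1 : x ≠ -ε) : 2 ≤ x * (x + ε) := by
  rcases pm with rfl | rfl
  · rcases (by omega : x ≤ -2 ∨ 1 ≤ x) with h | h <;> nlinarith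
  · rcases (by omega : x ≤ -1 ∨ 2 ≤ x) with h | h <;> nlinarith

theorem big_class (h1 : 5 ≤ n₁) (h : 9 ≤ n) (m : 0 < M) (e : 4 * n * s = n₁ * M * (n - 1)) :
    2 * n₁ * M ≤ 9 * s := by
  by_contra! c
  have : 0 < n₁ * M := by positivity
  nlinarith

theorem num_special (pm : ε = 1 ∨ ε = -1) (d0 : 0 < d) (h2 : 9 ≤ n₂) (h3 : 9 ≤ n₃) (o : ¬ 2 ∣ n₃)
    (v2 : n₂ ∣ d) (v3 : n₃ ∣ d + ε) (e0 : 0 < d + ε) (l : n₂ * α ≤ d)
    (k : 7 * (d - α) ^ 2 < 5 * d * (d + ε)) : False := by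
  have l2 := Int.le_of_dvd d0 v2
  have l3 := Int.le_of_dvd e0 v3
  have : 9 * α ≤ d := by rcases le_or_gt α 0 with h | h <;> nlinarith
  have : d ≤ 9 := by
    by_contra! c
    rcases pm with rfl | rfl <;> nlinarith
  obtain rfl : d = 9 := by omega
  rcases pm with rfl | rfl
  · obtain rfl : n₃ = 9 := by omega
    omega
  · omega

theorem num_aj (pm : ε = 1 ∨ ε = -1) {P : ℤ} (hP : 100 ≤ P) (h1 : 5 ≤ n₁) (a0 : 0 < a) (j0 : 0 < j)
    (e : d + ε = a * P) (k : d * a * (1 + j * n₁) ≤ 3 * n₁ * P) : a = 1 ∧ j ≤ 3 := by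
  have l : a * P - 1 ≤ d := by omega
  have d0 : 0 < d := by nlinarith
  have a1 : a = 1 := by
    by_contra c
    have : 2 * P - 1 ≤ d := by nlinarith [show 2 ≤ a by omega]
    have : 2 * d ≤ d * a := by nlinarith [show 2 ≤ a by omega]
    have : 2 * d * n₁ ≤ d * a * (1 + j * n₁) := by
      have : n₁ ≤ 1 + j * n₁ := by nlinarith
      exact mul_le_mul (by omega) this (by omega) (by omega)
    nlinarith
  subst a1
  refine ⟨rfl, ?_⟩
  by_contra! c
  have : d * (4 * n₁) ≤ d * 1 * (1 + j * n₁) := by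
    rw [mul_one]; exact mul_le_mul_of_nonneg_left (by nlinarith) d0.le
  nlinarith

theorem num_w (pm : ε = 1 ∨ ε = -1) {P : ℤ} (hP : 100 ≤ P) (h1 : 5 ≤ n₁) (o1 : ¬ 2 ∣ n₁)
    (j0 : 0 < j) (j3 : j ≤ 3) (v0 : 0 < v) (hv : v ^ 2 = 1 + j * n₁) (e : d + ε = P)
    (dv : n₁ ∣ d - ε) (lt : α < d) (hI : I * (d - α) = n₁ * d * P * v) (oI : ¬ 2 ∣ I)
    (cop : IsCoprime (d - α) (n₁ * P)) (k : d * P + α * (α + ε) * I ≤ d * P * v ^ 2) : False := by
  have d0 : 0 < d - ε := by omega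
  have l1 := Int.le_of_dvd d0 dv
  by_cases a0 : α = 0
  · subst a0
    have : I = n₁ * P * v := mul_right_cancel₀ (show d ≠ 0 by omega) (by linear_combination hI)
    have ov : ¬ 2 ∣ v := fun h => oI (this ▸ h.mul_left _)
    obtain ⟨u, rfl⟩ : ∃ u, v = 2 * u + 1 := ⟨v / 2, by omega⟩
    have : j * n₁ = 4 * (u * (u + 1)) := by linear_combination -hv
    interval_cases j <;> omega
  have d1 : d - α ∣ α * v := by
    have : d - α ∣ d * v := cop.dvd_of_dvd_mul_left ⟨I, by linear_combination -hI⟩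
    exact (dvd_iff_dvd_of_dvd_sub ⟨v, by ring⟩).1 this
  have l2 : d - α ≤ |α| * v := by
    rw [← abs_of_pos v0, ← abs_mul]
    exact Int.le_of_dvd (abs_pos.2 (mul_ne_zero a0 v0.ne')) ((dvd_abs _ _).2 d1)
  have l3 : α * (α + ε) * v ≤ j * (d - α) := by
    have p : 0 < n₁ * d * P := by have : 0 < d := by omega
                                  positivity
    refine le_of_mul_le_mul_left ?_ p
    have := mul_le_mul_of_nonneg_right k (show 0 ≤ d - α by omega)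
    rw [hv] at this
    linear_combination this - α * (α + ε) * hI
  have l4 : α * (α + ε) ≤ 3 * |α| := by
    refine le_of_mul_le_mul_right ?_ v0
    nlinarith
  have l5 : |α| ≤ 4 := by
    by_contra! c
    rcases abs_cases α with h | h <;> rcases pm with rfl | rfl <;> nlinarith
  have l6 : d ≤ 4 + 4 * v := by nlinarith [le_abs_self α]
  have : v ^ 2 ≤ 16 + 12 * v := by rcases pm with rfl | rfl <;> nlinarith
  have : v ≤ 13 := by nlinarith
  omega

theorem num_neg (h3 : 9 ≤ n₃) (lt : n₃ < n₂) (a0 : 0 < a) (j0 : 0 ≤ j) (k : a ^ 2 < 3 * n₁)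
    (l1 : n₂ + n₃ + 4 ≤ 2 * n₁) (l2 : 2 * n₁ ≤ n₂ + n₃ + 4 + 4 * j)
    (e : a * n₁ * (n₂ + n₃) = 2 * a * n₂ * n₃ + 4 + 4 * j * n₁ * n₂ * n₃) : False := by
  rcases j0.eq_or_lt with rfl | j1
  · have : a * ((n₂ - n₃) ^ 2 + 4 * (n₂ + n₃)) = 8 := by
      have : 2 * n₁ = n₂ + n₃ + 4 := by omega
      linear_combination 2 * e - a * (n₂ + n₃) * this
    nlinarith [sq_nonneg (n₂ - n₃)]
  have p1 : 0 < n₁ := by omega
  have p2 : 0 < n₂ := by omega
  have p3 : 0 < n₃ := by omega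
  have b1 : 2 * j * n₃ < a := by
    refine lt_of_mul_lt_mul_right ?_ (show 0 ≤ 2 * n₁ * n₂ by positivity)
    have : 0 < a * n₂ * n₃ := by positivity
    have : a * n₁ * n₃ ≤ a * n₁ * n₂ := mul_le_mul_of_nonneg_left lt.le (by positivity)
    nlinarith
  have b2 : n₁ < 2 * n₂ := by
    have : 18 * j < a := by nlinarith
    nlinarith
  obtain ⟨c, rfl⟩ : ∃ c, a = 4 * j * n₃ + c := ⟨a - 4 * j * n₃, by ring⟩
  set a := 4 * j * n₃ + c with ha
  have e2 : n₁ * n₂ * c = a * n₃ * (2 * n₂ - n₁) + 4 := by linear_combination e - n₁ * n₂ * ha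
  have c0 : 0 < c := by
    have : 0 < a * n₃ * (2 * n₂ - n₁) := mul_pos (by positivity) (by omega)
    exact (mul_pos_iff_of_pos_left (mul_pos p1 p2)).1 (by omega)
  have b3 : 2 * n₁ * c < 3 * (a * n₃) := by
    refine lt_of_mul_lt_mul_right ?_ p2.le
    have : 9 ≤ a * n₃ := by nlinarith
    nlinarith
  have b4 : 2 * a * c < 9 * n₃ := by
    refine lt_of_mul_lt_mul_right ?_ a0.le
    nlinarith
  have b5 : 8 * (j * c) < 9 := by
    refine lt_of_mul_lt_mul_right ?_ p3.le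
    nlinarith
  obtain rfl : j = 1 := by nlinarith
  obtain rfl : c = 1 := by omega
  obtain ⟨f, rfl⟩ : ∃ f, n₂ = 2 * n₁ - f := ⟨2 * n₁ - n₂, by ring⟩
  obtain ⟨u, hu⟩ : ∃ u, u = 3 * (a * n₃) + f - 2 * n₁ := ⟨_, rfl⟩
  have e3 : n₁ * u = 2 * (a * n₃) * f - 4 := by rw [hu]; linear_combination -e2
  have e4 : a * n₃ * (4 * f - 3 * u) = (f - u) * u + 8 := by linear_combination -2 * e3 + u * hu
  have m : a * n₃ = 4 * n₃ ^ 2 + n₃ := by rw [ha]; ring
  have f1 : n₃ + 4 ≤ f := by omega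
  have f2 : f ≤ n₃ + 8 := by omega
  have u0 : 0 < u := (mul_pos_iff_of_pos_left p1).1 (by nlinarith)
  have u1 : 2 * u < 3 * f := by
    have : a * u < 6 * n₃ * f := by
      refine lt_of_mul_lt_mul_right ?_ a0.le
      nlinarith
    refine lt_of_mul_lt_mul_right ?_ (show 0 ≤ 2 * n₃ by positivity)
    nlinarith
  rw [m] at e4
  rcases lt_trichotomy (4 * f) (3 * u) with h | h | h
  · nlinarith
  · nlinarith
  · nlinarith [sq_nonneg (f - 2 * u)]

end CF.Fgs2.Sc
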