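import Cfsg.Agent.Fgs2.Sc2
import Cfsg.Agent.Fgs2.Sc3
import Cfsg.Agent.Invol.Four

/-! The order formula for a strongly self-centralizing subgroup of index two in its normalizer. -/

set_option autoImplicit false
set_option linter.unusedSectionVars false

namespace CF.Fgs2.Sc
open Subgroup Cfsg CF.Char CF.BN CF.BG CF.Fgs1 ComplexConjugate Finset
open scoped _root_.Classical

variable {G : Type*} [Group G] [Fintype G] {A B : Subgroup G} {k r : ℕ} {χ ψ ψ' : G → ℂ}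
  {g s t y z : G} {ε : ℤ} {x : G → ℤ}

theorem one_notMem : (1 : G) ∉ conjSet A := fun h => h.1 rfl

theorem SC.sign (h : SC A k) (hχ : IsCharacter G χ) (o : orderOf t = 2) (n : t ∈ 𝐍 A) {d α : ℤ}
    (h1 : χ 1 = d) (h0 : ∀ a ∈ A, a ≠ 1 → χ a = 0) (ha : ∀ s ∈ Iv G, χ s = α) : ♯A * α ≤ d := by
  have tt : t * t = 1 := Iv_sq (mem_Iv.2 o)
  have nt : t ∉ A := fun c => h.invol o (mem_conjSet_of_mem c fun e => by simp [e] at o)
  have i2 := Invol.relIndex_sup_zpowers n (tt ▸ one_mem A) nt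
  let lam : ↥(A ⊔ zpowers t) →* ℂˣ := MonoidHom.mk' (fun g => if g ∈ A.subgroupOf _ then 1 else -1)
    fun a b => by
      rw [if_congr (mul_mem_iff_of_index_two i2) rfl rfl]
      by_cases ha : a ∈ A.subgroupOf _ <;> by_cases hb : b ∈ A.subgroupOf _ <;> simp [ha, hb]
  obtain ⟨m, hm⟩ := inner_char_eq_nat (char_restrict hχ (A ⊔ zpowers t)) (char_linear lam)
  have e := card_mul_inner (fun g : ↥(A ⊔ zpowers t) => χ g) fun g => (lam g : ℂ)
  have e2 : ∑ g : ↥(A ⊔ zpowers t), χ g * conj (lam g : ℂ) =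
      ∑ g : ↥(A ⊔ zpowers t), (fun g => if g ∈ A then χ g else -χ g) (g : G) :=
    sum_congr rfl fun g _ => by
      by_cases c : (g : G) ∈ A <;> simp [lam, mem_subgroupOf, c]
  have e3 : ∀ g, (if g ∈ A ⊔ zpowers t then (if g ∈ A then χ g else -χ g) else 0) =
      (if g = 1 then (d : ℂ) else 0) - if g * t⁻¹ ∈ A then (α : ℂ) else 0 := fun g => by
    rw [if_congr (Invol.mem_sup_zpowers_iff n (tt ▸ one_mem A)) rfl rfl]
    by_cases c : g ∈ A
    · have : g * t⁻¹ ∉ A := fun e => nt (by simpa using mul_mem (inv_mem e) c)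
      by_cases g1 : g = 1
      · simp [g1, h1, nt]
      · simp [c, this, g1, h0 g c g1]
    have g1 : g ≠ 1 := fun e => c (e ▸ one_mem A)
    by_cases c' : g * t⁻¹ ∈ A
    · have := ha _ (mem_Iv.2 (h.mul_invol o n c'))
      simp at this
      simp [c, c', g1, this]
    · simp [c, c', g1]
  have e4 : #{g | g * t⁻¹ ∈ A} = ♯A := by
    rw [Nat.card_eq_fintype_card, Fintype.card_subtype]
    exact card_bij (fun g _ => g * t⁻¹) (by simp) (by simp) fun a ha => ⟨a * t, by simpa using ha, by simp⟩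
  rw [hm, e2, sum_sub_eq _ (fun g => if g ∈ A then χ g else -χ g), sum_congr rfl fun g _ => e3 g, sum_sub_distrib, sum_ite_eq',
    ← sum_filter, sum_const, e4, if_pos (mem_univ _), nsmul_eq_mul] at e
  have e : (♯(A ⊔ zpowers t) * m : ℤ) = d - ♯A * α := by exact_mod_cast e
  have : (0 : ℤ) ≤ ♯(A ⊔ zpowers t) * m := by positivity
  omega

namespace Exc
variable (E : Exc A ε x χ ψ ψ')
include E

theorem sq : ε ^ 2 = 1 := by rcases E.pm with rfl | rfl <;> rfl

theorem sq' : (ε : ℂ) ^ 2 = 1 := by exact_mod_cast E.sq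

theorem psi_one : ψ 1 = (x 1 + ε : ℤ) := by rw [E.off 1 one_notMem]; simp

theorem dvd1 : 0 < x 1 ∧ x 1 ∣ Nat.card G := by
  obtain ⟨n, p, e⟩ := irr_one_eq_nat E.i1
  have : x 1 = n := by exact_mod_cast (E.val 1).symm.trans e
  rw [this]
  exact ⟨by exact_mod_cast p, by exact_mod_cast irr_one_dvd_card E.i1 e⟩

theorem dvd2 : 0 < x 1 + ε ∧ x 1 + ε ∣ Nat.card G := by
  obtain ⟨n, p, e⟩ := irr_one_eq_nat E.i2
  have : x 1 + ε = n := by exact_mod_cast E.psi_one.symm.trans e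
  rw [this]
  exact ⟨by exact_mod_cast p, by exact_mod_cast irr_one_dvd_card E.i2 e⟩

theorem sum1 : ∑ g, x g = 0 := by
  have := sum_irr_eq_zero E.i1 E.n1
  simp only [E.val] at this
  exact_mod_cast this

theorem sum2 : ∑ g, x g ^ 2 = Nat.card G := by
  have := sum_norm_sq_irr E.i1
  simp only [E.val, Complex.norm_intCast, sq_abs] at this
  exact_mod_cast this

theorem cls (g y : G) : x (g * y * g⁻¹) = x y := by
  exact_mod_cast (E.val _).symm.trans ((classFun_conj (irr_isClassFunction E.i1) y g).trans (E.val _))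

theorem lt [IsSimpleGroup G] (h : g ≠ 1) : x g < x 1 := by
  have l := char_norm_le (irr_isCharacter E.i1) g
  rw [E.val, E.val, Complex.norm_intCast, Complex.norm_intCast] at l
  have l : |x g| ≤ |x 1| := by exact_mod_cast l
  rw [abs_of_pos E.dvd1.1] at l
  refine ((le_abs_self _).trans l).lt_of_ne fun e => h ?_
  rw [← mem_bot, ← charKer_eq_bot_of_simple E.i1 E.n1, mem_charKer_iff (irr_isCharacter E.i1),
    E.val, E.val, e]

theorem theta (h : g ∉ conjSet A) : 1 + ε * χ g - ε * ψ g = 0 := by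
  rw [E.off g h, E.val]; linear_combination -E.sq'

theorem isConj [IsSimpleGroup G] (h : SC A 2) (ht : t ∈ Iv G) (hs : s ∈ Iv G) : IsConj t s := by
  by_contra c
  have k : ∑ g, (1 + ε * χ (g * t * g⁻¹ * s) - ε * ψ (g * t * g⁻¹ * s)) = 0 :=
    sum_eq_zero fun g _ => E.theta fun e => c ((isConj_iff.2 ⟨g, rfl⟩).trans
      (isConj_of_mul (Iv_conj ht g) hs fun d => h.odd (h.card_cent e ▸ d.trans
        (orderOf_dvd_natCard _ (mem_cent1.2 rfl)))))
  have d0 : (x 1 : ℂ) ≠ 0 := by exact_mod_cast E.dvd1.1.ne'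
  have e0 : ((x 1 + ε : ℤ) : ℂ) ≠ 0 := by exact_mod_cast E.dvd2.1.ne'
  rw [sum_sub_distrib, sum_add_distrib, ← mul_sum, ← mul_sum, sum_irr_conj_mul E.i1,
    sum_irr_conj_mul E.i2, E.psi_one, E.off _ (h.invol (mem_Iv.1 ht)),
    E.off _ (h.invol (mem_Iv.1 hs)), E.val, E.val, E.val, sum_const, card_univ,
    ← Nat.card_eq_fintype_card, nsmul_eq_mul] at k
  have : (Nat.card G : ℂ) * ((x 1 - x t) * (x 1 - x s)) = 0 := by
    field_simp at k
    push_cast at k
    linear_combination k + (Nat.card G : ℂ) * (x 1 * (x t + x s + ε) - x t * x s) * E.sq'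
  have : (x 1 - x t) * (x 1 - x s) = 0 := by
    exact_mod_cast (mul_eq_zero.1 this).resolve_left card_ne_zero_complex
  have a := E.lt (g := t) fun e => by simp [e, mem_Iv] at ht
  have b := E.lt (g := s) fun e => by simp [e, mem_Iv] at hs
  nlinarith

theorem sum_cc [IsSimpleGroup G] (h : SC A 2) (ht : t ∈ Iv G) :
    x 1 * ∑ g, cc g * x g = #(Iv G) ^ 2 * x t ^ 2 := by
  have := sum_cc_irr (fun s hs => E.isConj h ht hs) ht E.i1
  simp only [E.val] at this
  exact_mod_cast this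

theorem order [IsSimpleGroup G] (h : SC A 2) (ht : t ∈ Iv G) :
    ♯A * Nat.card G * (x 1 * (x 1 + ε)) = #(Iv G) ^ 2 * (x 1 - x t) ^ 2 := by
  have a := sum_cc_irr (fun s hs => E.isConj h ht hs) ht E.i1
  have b := sum_cc_irr (fun s hs => E.isConj h ht hs) ht E.i2
  have c : (∑ g : G, cc g : ℂ) = #(Iv G) ^ 2 := by exact_mod_cast sum_cc_one (G := G)
  have k : ∑ g, cc g * (1 + ε * χ g - ε * ψ g) = ∑ g, ♯A * (1 + ε * χ g - ε * ψ g) :=
    sum_congr rfl fun g _ => by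
      by_cases e : g ∈ conjSet A
      · rw [h.cc_eq e]
      · rw [E.theta e, mul_zero, mul_zero]
  rw [← mul_sum, sum_sub_distrib, sum_add_distrib, ← mul_sum, ← mul_sum,
    sum_irr_eq_zero E.i1 E.n1, sum_irr_eq_zero E.i2 E.n2, sum_const, card_univ,
    ← Nat.card_eq_fintype_card, nsmul_eq_mul] at k
  simp only [mul_sub, mul_add, mul_one, sum_sub_distrib, sum_add_distrib, mul_left_comm _ (ε : ℂ),
    ← mul_sum] at k
  rw [E.val 1, E.val t] at a
  rw [E.off _ one_notMem, E.off _ (h.invol (mem_Iv.1 ht))] at b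
  have : (♯A : ℂ) * Nat.card G * (x 1 * (x 1 + ε)) = #(Iv G) ^ 2 * (x 1 - x t) ^ 2 := by
    linear_combination -(x 1 * (x 1 + ε)) * k + (x 1 * (x 1 + ε)) * c + ε * (x 1 + ε) * a
      - ε * x 1 * b + #(Iv G) ^ 2 * (x t ^ 2 - x 1 * (2 * x t + ε)) * E.sq'
  exact_mod_cast this

theorem dvd_n : (♯A : ℤ) ∣ x 1 - ε :=
  dvd_of_const (gen_of_irr E.i1) (E.val 1) fun a ha a1 => by
    rw [E.val, E.on a (mem_conjSet_of_mem ha a1)]

theorem exists_v [IsSimpleGroup G] (h : SC A 2) (ht : t ∈ Iv G) : ∃ v : ℤ, 0 < v ∧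
    (A.index : ℤ) = x 1 * (x 1 + ε) * v ^ 2 ∧ ♯(𝐂₁ t) = v * (x 1 - x t) ∧ (♯A : ℤ) ∣ v ^ 2 - 1 := by
  have o : IsCoprime (♯A : ℤ) 2 := by
    exact_mod_cast Nat.isCoprime_iff_coprime.2 (Nat.prime_two.coprime_iff_not_dvd.2 h.odd).symm
  obtain ⟨u, hu⟩ := E.dvd_n
  have N : (Nat.card G : ℤ) = ♯A * A.index := by exact_mod_cast A.card_mul_index.symm
  have c1 : IsCoprime (x 1) (♯A : ℤ) := ⟨ε, -ε * u, by linear_combination E.sq + ε * hu⟩
  have c2 : IsCoprime (x 1 + ε) (♯A : ℤ) := by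
    obtain ⟨a, b, e⟩ := o
    exact ⟨b * ε, a - b * ε * u, by linear_combination e + 2 * b * E.sq + b * ε * hu⟩
  have c3 : IsCoprime (x 1) (x 1 + ε) := ⟨-ε, ε, by linear_combination E.sq⟩
  obtain ⟨w, hw⟩ := c3.mul_dvd (c1.dvd_of_dvd_mul_left (N ▸ E.dvd1.2))
    (c2.dvd_of_dvd_mul_left (N ▸ E.dvd2.2))
  have hI : (Nat.card G : ℤ) = ♯(𝐂₁ t) * #(Iv G) := by
    exact_mod_cast card_Iv (fun s hs => E.isConj h ht hs) ht
  have f := E.order h ht
  have I0 : (0 : ℤ) < #(Iv G) := by exact_mod_cast card_pos.2 ⟨t, ht⟩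
  have e : (♯(𝐂₁ t) : ℤ) ^ 2 = w * (x 1 - x t) ^ 2 := by
    apply mul_left_cancel₀ (pow_pos I0 2).ne'
    linear_combination w * f - (♯(𝐂₁ t) * #(Iv G) + Nat.card G) * hI + Nat.card G * N
      + Nat.card G * ♯A * hw
  obtain ⟨v, hv⟩ := (Int.pow_dvd_pow_iff two_ne_zero).1 (Dvd.intro_left _ e.symm)
  have l := sub_pos.2 (E.lt (g := t) fun e => by simp [e, mem_Iv] at ht)
  have hw' : w = v ^ 2 := mul_right_cancel₀ (pow_pos l 2).ne' (by rw [← e, hv]; ring)
  refine ⟨v, (mul_pos_iff_of_pos_left l).1 (hv ▸ by exact_mod_cast Nat.card_pos), hw' ▸ hw,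
    by rw [hv, mul_comm], o.dvd_of_dvd_mul_left ?_⟩
  obtain ⟨z, hz⟩ := h.dvd_index
  refine ⟨z - w * u * (x 1 + 2 * ε), ?_⟩
  push_cast at hz
  linear_combination hz - hw - 2 * hw' - w * (x 1 + 2 * ε) * hu - 2 * w * E.sq

theorem modEq_pow (hr : r.Prime) (g : G) : x (g ^ r) ≡ x g [ZMOD r] := by
  obtain ⟨c, hc, e⟩ := char_pow_prime_pow (irr_isCharacter E.i1) hr 1 g
  have r0 : (r : ℂ) ≠ 0 := by exact_mod_cast hr.ne_zero
  rw [pow_one, E.val, E.val] at e
  have e : ((x g ^ r - x (g ^ r) : ℤ) : ℂ) / (r : ℤ) = c := by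
    push_cast; rw [div_eq_iff r0, e]; ring
  have d := int_dvd_of_isIntegral_div (by exact_mod_cast hr.ne_zero) (e ▸ hc)
  haveI := Fact.mk hr
  rw [← ZMod.intCast_eq_intCast_iff]
  rw [← ZMod.intCast_zmod_eq_zero_iff_dvd] at d
  push_cast at d
  rw [ZMod.pow_card] at d
  exact (sub_eq_zero.1 d).symm

variable (hv : ∀ g ≠ 1, x g = 0 ∨ x g = 1 ∨ x g = -1)
include hv

theorem zero_pow (m : ℕ) : ∀ g, g ^ m ≠ 1 → (x (g ^ m) = 0 ↔ x g = 0) := by
  induction m using Nat.recOnMul with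
  | zero => simp
  | one => simp
  | prime r hr =>
    intro g h
    have d := (E.modEq_pow hr g).dvd
    have u : ∀ a : ℤ, a = 1 ∨ a = -1 → ¬ (r : ℤ) ∣ a := fun a ha d => hr.ne_one (by
      rcases ha with rfl | rfl
      · exact_mod_cast Int.eq_one_of_dvd_one (Int.natCast_nonneg r) d
      · exact_mod_cast Int.eq_one_of_dvd_one (Int.natCast_nonneg r) ((dvd_neg).1 d))
    refine ⟨fun e => by_contra fun c => u _ ((hv g fun e => h (by simp [e])).resolve_left c) ?_,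
      fun e => by_contra fun c => u _ ((hv _ h).resolve_left c) ?_⟩
    · simpa [e] using d
    · simpa [e] using d
  | mul a b ha hb =>
    intro g h
    rw [pow_mul] at h ⊢
    exact (hb _ h).trans (ha g fun e => h (by simp [e]))

theorem zero_iff (hr : r.Prime) (d : r ∣ orderOf g) (g1 : g ≠ 1) : x g = 0 ↔ (r : ℤ) ∣ x 1 := by
  have o := orderOf_pow_orderOf_div (orderOf_pos g).ne' d
  have n : g ^ (orderOf g / r) ≠ 1 := fun e => hr.ne_one (by rw [← o, e, orderOf_one])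
  have m := (gen_modEq_one (gen_of_irr E.i1) hr (k := 1) (g := g ^ (orderOf g / r))
    (by rw [pow_one]; exact orderOf_dvd_iff_pow_eq_one.1 o.dvd) (E.val _) (E.val 1)).dvd
  rw [← E.zero_pow hv _ g n]
  refine ⟨fun e => by simpa [e] using m, fun e => by_contra fun c => hr.ne_one ?_⟩
  have := (dvd_iff_dvd_of_dvd_sub m).1 e
  rcases (hv _ n).resolve_left c with a | a <;> rw [a] at this
  · exact_mod_cast Int.eq_one_of_dvd_one (Int.natCast_nonneg r) this
  · exact_mod_cast Int.eq_one_of_dvd_one (Int.natCast_nonneg r) ((dvd_neg).1 this)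

theorem zero_comm (y1 : y ≠ 1) (z1 : z ≠ 1) (c : z * y = y * z) (h : x y = 0) : x z = 0 := by
  obtain ⟨a, ha⟩ := exists_prime_pow y1
  obtain ⟨b, hb⟩ := exists_prime_pow z1
  have := (E.zero_iff hv ha (orderOf_pow_dvd a) y1).1 h
  rw [E.zero_iff hv hb (orderOf_pow_dvd b) z1]
  by_cases e : orderOf (z ^ b) = orderOf (y ^ a)
  · rwa [e]
  have o := (Commute.pow_pow c b a).orderOf_mul_eq_mul_orderOf_of_coprime
    ((Nat.coprime_primes hb ha).2 e)
  have n : z ^ b * y ^ a ≠ 1 := fun e => ha.ne_one (by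
    rw [e, orderOf_one] at o; exact Nat.eq_one_of_mul_eq_one_left o.symm)
  rwa [← E.zero_iff hv hb (o ▸ dvd_mul_right _ _) n, E.zero_iff hv ha (o ▸ dvd_mul_left _ _) n]

end Exc

end CF.Fgs2.Sc
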